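import Groth.Statements.S8922
import Groth.Agent.RGBlowLib.Sheaf
import Groth.Agent.DCohMore.GoodMod
import Groth.Agent.DCohMore.FinPushRes
import Groth.Agent.S3857
import Groth.Agent.BlowCompLib.Flat
import Groth.Agent.PullbackMod.Hom
import Groth.Agent.S12131

set_option autoImplicit false
universe u
open CategoryTheory CategoryTheory.Limits AlgebraicGeometry TopologicalSpace
open SDiv

namespace Groth.Agent.S8922

open CategoryTheory CategoryTheory.Limits AlgebraicGeometry

set_option backward.isDefEq.respectTransparency false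
set_option backward.defeqAttrib.useBackward true
set_option linter.style.haveILetI false

open TopologicalSpace Opposite

theorem locPrincipal_comap {Z W : Scheme.{u}} (D : W.IdealSheafData) (hD : BlowUp.IsEffCartierIdeal D) (q : Z ⟶ W) :
    ∀ z : Z, ∃ U : Z.affineOpens, z ∈ U.1 ∧ ∃ e : Γ(Z, U.1), (D.comap q).ideal U = Ideal.span {e} := fun z => by
  obtain ⟨U, hxU, g, -, hI⟩ := hD (q z)
  obtain ⟨V, hV, hzV, hVU⟩ := exists_isAffineOpen_mem_and_subset (X := Z) (x := z) (U := q ⁻¹ᵁ U.1) hxU
  exact ⟨⟨V, hV⟩, hzV, _, BlowCompLib.ideal_comap_span D q hI ⟨V, hV⟩ hVU⟩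

theorem killed_push_iff {X' Y' : Scheme.{u}} (g' : X' ⟶ Y') (EY : Y'.IdealSheafData) (EX : X'.IdealSheafData)
    (hE : EX = EY.comap g') (M : X'.Modules) (V : Y'.affineOpens) (hW : IsAffineOpen (g' ⁻¹ᵁ V.1))
    (m : Γ((Scheme.Modules.pushforward g').obj M, V.1)) :
    BlowUp.KilledByPowerNear EY ((Scheme.Modules.pushforward g').obj M) V m ↔
      BlowUp.KilledByPowerNear EX M ⟨g' ⁻¹ᵁ V.1, hW⟩ m := by
  subst hE
  refine exists_congr fun n => ?_
  rw [show ((EY.comap g') ^ n).ideal ⟨g' ⁻¹ᵁ V.1, hW⟩ = ((EY ^ n).ideal V).map (g'.app V.1).hom by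
    rw [← S3857.comap_pow, IdealStalkLib.comap_ideal (EY ^ n) g' V.2 hW le_rfl]
    simp [Scheme.Hom.app_eq_appLE]]
  constructor
  · intro h a ha
    induction ha using Submodule.span_induction with
    | mem x hx =>
      obtain ⟨c, hc, rfl⟩ := hx
      exact h c hc
    | zero => exact zero_smul _ _
    | add x y _ _ hx hy => exact (add_smul x y (show Γ(M, g' ⁻¹ᵁ V.1) from m)).trans (by rw [hx, hy, add_zero])
    | smul c x _ hx => exact (mul_smul c x (show Γ(M, g' ⁻¹ᵁ V.1) from m)).trans (by rw [hx, smul_zero])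
  · exact fun h c hc => h _ (Ideal.mem_map_of_mem _ hc)

theorem killed_iso_iff {Y' : Scheme.{u}} (E : Y'.IdealSheafData) {P Q : Y'.Modules} (e : P ≅ Q) (V : Y'.affineOpens)
    (m : Γ(P, V.1)) :
    BlowUp.KilledByPowerNear E P V m ↔ BlowUp.KilledByPowerNear E Q V (e.hom.app V.1 m) := by
  refine exists_congr fun n => forall_congr' fun a => imp_congr_right fun _ => ?_
  have h : e.hom.app V.1 (a • m) = a • e.hom.app V.1 m := Scheme.Modules.Hom.app_smul e.hom a m
  constructor
  · intro h0
    exact h.symm.trans ((congrArg _ h0).trans (map_zero _))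
  · intro h0
    have h2 : e.inv.app V.1 (e.hom.app V.1 (a • m)) = a • m :=
      ConcreteCategory.congr_hom (congrArg (fun φ => Scheme.Modules.Hom.app φ V.1) e.hom_inv_id) (a • m)
    exact h2.symm.trans ((congrArg _ (h.trans h0)).trans (map_zero _))


/-- Let S be a scheme, 𝓘 a quasi-coherent ideal sheaf on S with closed subscheme Z, b : S' ⟶ S a blowing
up of S in Z, g : X ⟶ Y an affine morphism of schemes over S, F a quasi-coherent O_X-module, and π :
pr_X^*F ⟶ F' a strict transform of F along b (on X ×_S S'). Write g' : X ×_S S' ⟶ Y ×_S S' for the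
base change of g. Then g'_*F' is a strict transform of g_*F along b: there is an epimorphism
pr_Y^*(g_*F) ⟶ g'_*F' whose kernel consists, affine-locally, exactly of the sections annihilated by
a power of the inverse image of 𝓘. The published statement identifies g'_*F' with the strict
transform through the canonical base-change isomorphism; this row asserts only that some epimorphism
from pr_Y^*(g_*F) onto g'_*F' has the strict-transform property. -/
theorem result {X Y S S' : Scheme.{u}} (hX : X ⟶ S) (hY : Y ⟶ S) (g : X ⟶ Y) [IsAffineHom g]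
    (h : g ≫ hY = hX) (𝓘 : S.IdealSheafData) (b : S' ⟶ S) (hb : BlowUp.IsBlowUp b 𝓘) (F : X.Modules) (hF : Coh.IsQCoh F)
    (F' : (pullback hX b).Modules) (π : (Scheme.Modules.pullback (pullback.fst hX b)).obj F ⟶ F')
    (hπ : BlowUp.IsStrictTransform (pullback.fst hX b) (𝓘.comap hX) F F' π) :
    ∃ π' : (Scheme.Modules.pullback (pullback.fst hY b)).obj ((Scheme.Modules.pushforward g).obj F) ⟶
        (Scheme.Modules.pushforward (pullback.map hX b hY b g (𝟙 S') (𝟙 S)
          ((Category.comp_id hX).trans h.symm) ((Category.comp_id b).trans (Category.id_comp b).symm))).obj F',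
      BlowUp.IsStrictTransform (pullback.fst hY b) (𝓘.comap hY) ((Scheme.Modules.pushforward g).obj F)
        ((Scheme.Modules.pushforward (pullback.map hX b hY b g (𝟙 S') (𝟙 S)
          ((Category.comp_id hX).trans h.symm) ((Category.comp_id b).trans (Category.id_comp b).symm))).obj F') π' := by
  let g' := pullback.map hX b hY b g (𝟙 S') (𝟙 S)
    ((Category.comp_id hX).trans h.symm) ((Category.comp_id b).trans (Category.id_comp b).symm)
  have hw : pullback.fst hX b ≫ g = g' ≫ pullback.fst hY b := (pullback.lift_fst _ _ _).symm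
  have hc : IsPullback (pullback.fst hX b) g' g (pullback.fst hY b) := by
    have hs : g' ≫ pullback.snd hY b = pullback.snd hX b := (pullback.lift_snd _ _ _).trans (Category.comp_id _)
    refine IsPullback.of_bot ?_ hw (IsPullback.of_hasPullback hY b)
    rw [hs, h]
    exact IsPullback.of_hasPullback hX b
  haveI : IsAffineHom g' := MorphismProperty.of_isPullback (P := @IsAffineHom) hc inferInstance
  haveI := hF
  haveI : IsIso (CohBC.bc0 g (pullback.fst hY b) g' (pullback.fst hX b) hc.w F) := S12131.result g (pullback.fst hY b) (pullback.fst hX b) g' hc F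
  let bc := asIso (CohBC.bc0 g (pullback.fst hY b) g' (pullback.fst hX b) hc.w F)
  have hEY : (𝓘.comap hX).comap (pullback.fst hX b) = ((𝓘.comap hY).comap (pullback.fst hY b)).comap g' := by
    rw [show 𝓘.comap hX = (𝓘.comap hY).comap g from (congrArg 𝓘.comap h.symm).trans (Scheme.IdealSheafData.comap_comp _ _ _),
      ← Scheme.IdealSheafData.comap_comp, hw, Scheme.IdealSheafData.comap_comp]
  haveI := hπ.1
  haveI hP := PullbackMod.isQCoh_pullback (pullback.fst hX b) F
  have hprin : ∀ z, ∃ U : (pullback hX b).affineOpens, z ∈ U.1 ∧ ∃ e, (BlowUp.exceptional (pullback.fst hX b) (𝓘.comap hX)).ideal U = Ideal.span {e} := by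
    have he : (𝓘.comap hX).comap (pullback.fst hX b) = (𝓘.comap b).comap (pullback.snd hX b) := by
      rw [← Scheme.IdealSheafData.comap_comp, pullback.condition, Scheme.IdealSheafData.comap_comp]
    show ∀ z, ∃ U : (pullback hX b).affineOpens, z ∈ U.1 ∧ ∃ e, ((𝓘.comap hX).comap (pullback.fst hX b)).ideal U = Ideal.span {e}
    rw [he]
    exact locPrincipal_comap _ hb.1 _
  obtain ⟨hF', -⟩ := RGBlowLib.isQCoh_of_kill _ hprin hP π hπ.2
  haveI := DCohMore.epi_push_of_qcoh g' hP hF' π
  refine ⟨bc.hom ≫ (Scheme.Modules.pushforward g').map π, inferInstance, fun V m => ?_⟩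
  rw [killed_iso_iff _ bc V m, killed_push_iff g' _ _ hEY _ V (V.2.preimage g')]
  exact hπ.2 ⟨g' ⁻¹ᵁ V.1, V.2.preimage g'⟩ (bc.hom.app V.1 m)

end Groth.Agent.S8922
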