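import Groth.Statements.S8923
import Groth.Agent.RefOne.Support
import Groth.Agent.CurveLib.Deg


set_option autoImplicit false
universe u
open CategoryTheory CategoryTheory.Limits AlgebraicGeometry TopologicalSpace
open SDiv

namespace Groth.Agent.S8923

open CategoryTheory CategoryTheory.Limits AlgebraicGeometry

open Groth.Agent.RefOne Groth.Agent.PullbackMod

/-- Let X be an integral scheme that is locally Noetherian, L an invertible O_X-module and s a nonzero
rational (regular meromorphic) section of L, viewed as a nonzero element of the stalk of L at the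
generic point. Then the collection of prime divisors Z ⊆ X with ord_{Z,L}(s) ≠ 0, i.e. the closures
of the codimension-1 points x (dim O_{X,x} = 1) along which s has nonzero order, is locally finite
in X. -/
theorem result (X : Scheme.{u}) [IsIntegral X] [IsLocallyNoetherian X] (L : X.Modules)
    (hL : PicF.IsInvertible L) (s : Cyc.secFibre L (genericPoint ↥X)) (hs : s ≠ 0) :
    LocallyFinite (fun x : {x : ↥X // ringKrullDim ↑(X.presheaf.stalk x) = 1 ∧
        Cyc.secOrdAt L (genericPoint ↥X) x ((genericPoint_spec ↥X).specializes (Set.mem_univ x)) s ≠ 0} => closure ({x.1} : Set ↥X)) := by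
  obtain ⟨σ, rfl⟩ := Submodule.Quotient.mk_surjective _ s
  have hσ : σ ≠ 0 := fun h => hs (by rw [h]; rfl)
  obtain ⟨e, he⟩ := ParaFLib.exists_stalk_gen hL (genericPoint ↥X)
  have hg := genInvertible_of_gen (CurveLib.isCoh_of_isInvertible hL) he
  intro x
  obtain ⟨V, hxV, hfin⟩ := locallyFinite_secOrdAt hg hσ x
  refine ⟨V, V.2.mem_nhds hxV, (hfin.preimage Subtype.val_injective.injOn).subset fun ξ hξ => ?_⟩
  obtain ⟨z, hz, hzV⟩ := hξ
  have hdim : Order.coheight ξ.1 = 1 := by
    have h1 := ξ.2.1
    rw [ringKrullDim_stalk_eq_coheight] at h1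
    exact WithBot.coe_eq_coe.1 h1
  exact ⟨hdim, (specializes_iff_mem_closure.2 hz).mem_open V.2 hzV, ξ.2.2⟩

end Groth.Agent.S8923
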