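import Groth.Statements.S8927
import Mathlib

set_option autoImplicit false
universe u
open Disc

namespace Groth.Agent.S8927

/-- For a map A → B of Noetherian rings such that the localization B_q is flat over A for every
associated prime q of B, every nonzerodivisor of A maps to a nonzerodivisor of B. -/
theorem result (A B : Type u) [CommRing A] [CommRing B] [IsNoetherianRing A] [IsNoetherianRing B] [Algebra A B] (h3 : ∀ (q : Ideal B) [q.IsPrime], IsAssociatedPrime q B → Module.Flat A (Localization.AtPrime q)) : nonZeroDivisors A ≤ (nonZeroDivisors B).comap (algebraMap A B) := by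
  classical
  intro a ha
  rw [Submonoid.mem_comap, mem_nonZeroDivisors_iff_right]
  intro b hb
  by_contra hb0
  have hle : (⊥ : Submodule B B).colon {b} ≠ ⊤ := by
    intro h
    apply hb0
    have h1 : (1 : B) ∈ (⊥ : Submodule B B).colon {b} := by rw [h]; trivial
    rw [Submodule.mem_colon_singleton] at h1
    simpa using h1
  obtain ⟨q, hq, hqle⟩ := exists_le_isAssociatedPrime_of_isNoetherianRing B b hb0
  haveI := hq.isPrime
  have haq : algebraMap A B a ∈ q := hqle (by simp [Submodule.mem_colon_singleton, mul_comm, hb])
  haveI := h3 q hq
  obtain ⟨-, x, hx⟩ := isAssociatedPrime_iff.1 hq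
  have hreg : IsSMulRegular (Localization.AtPrime q) a :=
    Module.Flat.isSMulRegular_of_nonZeroDivisors ha
  have h0 : algebraMap A B a * x = 0 := by
    have := haq
    rw [hx, Submodule.mem_colon_singleton] at this
    simpa using this
  have hx0 : algebraMap B (Localization.AtPrime q) x = 0 := by
    apply hreg
    simp only [smul_zero]
    rw [← IsScalarTower.algebraMap_smul B, Algebra.smul_def, ← map_mul, h0, map_zero]
  obtain ⟨⟨s, hs⟩, hsx⟩ := (IsLocalization.map_eq_zero_iff q.primeCompl _ x).1 hx0
  apply hs
  rw [hx]
  show s ∈ (⊥ : Submodule B B).colon {x}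
  rw [Submodule.mem_colon_singleton]
  simpa using hsx

end Groth.Agent.S8927
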