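import Groth.Statements.S8928
import Mathlib

set_option autoImplicit false
universe u
open scoped TensorProduct
open Disc

namespace Groth.Agent.S8928

theorem flat_atPrime_of_disjoint (A B : Type*) [CommRing A] [CommRing B] [Algebra A B]
    (h2 : Module.Flat (FractionRing A) (TensorProduct A (FractionRing A) B))
    (q : Ideal B) [q.IsPrime] (hq : ∀ a ∈ nonZeroDivisors A, algebraMap A B a ∉ q) :
    Module.Flat A (Localization.AtPrime q) := by
  haveI : Module.Flat A (TensorProduct A (FractionRing A) B) :=
    Module.Flat.trans A (FractionRing A) _
  let S := Algebra.algebraMapSubmonoid B (nonZeroDivisors A)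
  let B' := Localization S
  haveI : IsLocalizedModule (nonZeroDivisors A) (IsScalarTower.toAlgHom A B B').toLinearMap :=
    (isLocalizedModule_iff_isLocalization).2 (inferInstanceAs (IsLocalization S (Localization S)))
  have hbc : IsBaseChange (FractionRing A)
      (TensorProduct.mk A (FractionRing A) B 1) := TensorProduct.isBaseChange A B (FractionRing A)
  haveI : IsLocalizedModule (nonZeroDivisors A) (TensorProduct.mk A (FractionRing A) B 1) :=
    (isLocalizedModule_iff_isBaseChange (nonZeroDivisors A) (FractionRing A) _).2 hbc
  haveI : Module.Flat A B' := Module.Flat.of_linearEquiv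
    (IsLocalizedModule.linearEquiv (nonZeroDivisors A) (TensorProduct.mk A (FractionRing A) B 1)
      (IsScalarTower.toAlgHom A B B').toLinearMap).symm
  have hle : S ≤ q.primeCompl := by
    rintro _ ⟨a, ha, rfl⟩
    exact hq a ha
  letI : Algebra B' (Localization.AtPrime q) :=
    (IsLocalization.map (M := S) (T := q.primeCompl) (Localization.AtPrime q) (RingHom.id B) hle).toAlgebra
  haveI : IsScalarTower B B' (Localization.AtPrime q) := IsScalarTower.of_algebraMap_eq fun x =>
    (IsLocalization.map_eq (g := RingHom.id B) (S := B') (Q := Localization.AtPrime q) hle x).symm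
  haveI : IsScalarTower A B' (Localization.AtPrime q) := IsScalarTower.of_algebraMap_eq fun x => by
    rw [IsScalarTower.algebraMap_apply A B (Localization.AtPrime q),
      IsScalarTower.algebraMap_apply B B' (Localization.AtPrime q),
      ← IsScalarTower.algebraMap_apply A B B']
  haveI : IsLocalization (q.primeCompl.map (algebraMap B B')) (Localization.AtPrime q) :=
    IsLocalization.isLocalization_of_submonoid_le B' (Localization.AtPrime q) S q.primeCompl hle
  haveI : Module.Flat B' (Localization.AtPrime q) :=
    IsLocalization.flat _ (q.primeCompl.map (algebraMap B B'))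
  exact Module.Flat.trans A B' _

/-- Let A → B be a map of Noetherian rings such that nonzerodivisors of A map to nonzerodivisors of B
and Q(A) ⊗_A B is flat over the total ring of fractions Q(A). Then B_q is flat over A for every
associated prime q of B and for every prime q of B lying over an associated prime of A. -/
theorem result (A B : Type u) [CommRing A] [CommRing B] [IsNoetherianRing A] [IsNoetherianRing B] [Algebra A B] (h1 : nonZeroDivisors A ≤ (nonZeroDivisors B).comap (algebraMap A B)) (h2 : Module.Flat (FractionRing A) (FractionRing A ⊗[A] B)) : (∀ (q : Ideal B) [q.IsPrime], IsAssociatedPrime q B → Module.Flat A (Localization.AtPrime q)) ∧ (∀ (q : Ideal B) [q.IsPrime], IsAssociatedPrime (q.comap (algebraMap A B)) A → Module.Flat A (Localization.AtPrime q)) := by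
  constructor
  · intro q _ hq
    refine flat_atPrime_of_disjoint A B h2 q fun a ha haq => ?_
    obtain ⟨-, x, hx⟩ := isAssociatedPrime_iff.1 hq
    rw [hx, Submodule.mem_colon_singleton] at haq
    have hb : algebraMap A B a ∈ nonZeroDivisors B := h1 ha
    have hx0 : x = 0 := (mem_nonZeroDivisors_iff_right.1 hb) x (by simpa [mul_comm] using haq)
    apply ‹q.IsPrime›.ne_top
    rw [hx, hx0]
    ext r
    simp [Submodule.mem_colon_singleton]
  · intro q _ hq
    refine flat_atPrime_of_disjoint A B h2 q fun a ha haq => ?_
    obtain ⟨hp, x, hx⟩ := isAssociatedPrime_iff.1 hq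
    have haq' : a ∈ q.comap (algebraMap A B) := haq
    rw [hx, Submodule.mem_colon_singleton] at haq'
    have hx0 : x = 0 := (mem_nonZeroDivisors_iff_right.1 ha) x (by simpa [mul_comm] using haq')
    apply hp.ne_top
    rw [hx, hx0]
    ext r
    simp [Submodule.mem_colon_singleton]

end Groth.Agent.S8928
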