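import Groth.Statements.S8929
import Mathlib

set_option autoImplicit false
universe u
open scoped TensorProduct
open Disc

namespace Groth.Agent.S8929

/-- Let A → B be a map of Noetherian rings with the going-up property. If B_q is flat over A for every
associated prime q of B and for every prime q of B lying over an associated prime of A, then Q(A)
⊗_A B is flat over the total ring of fractions Q(A). -/
theorem result (A B : Type u) [CommRing A] [CommRing B] [IsNoetherianRing A] [IsNoetherianRing B] [Algebra A B] [Algebra.HasGoingUp A B] (h3 : ∀ (q : Ideal B) [q.IsPrime], IsAssociatedPrime q B → Module.Flat A (Localization.AtPrime q)) (h4 : ∀ (q : Ideal B) [q.IsPrime], IsAssociatedPrime (q.comap (algebraMap A B)) A → Module.Flat A (Localization.AtPrime q)) : Module.Flat (FractionRing A) (FractionRing A ⊗[A] B) := by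
  classical
  let S := Algebra.algebraMapSubmonoid B (nonZeroDivisors A)
  let B' := Localization S
  haveI : IsLocalizedModule (nonZeroDivisors A) (IsScalarTower.toAlgHom A B B').toLinearMap :=
    (isLocalizedModule_iff_isLocalization).2 (inferInstanceAs (IsLocalization S (Localization S)))
  haveI : IsLocalizedModule (nonZeroDivisors A) (TensorProduct.mk A (FractionRing A) B 1) :=
    (isLocalizedModule_iff_isBaseChange (nonZeroDivisors A) (FractionRing A) _).2
      (TensorProduct.isBaseChange A B (FractionRing A))
  suffices hB' : Module.Flat A B' by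
    haveI : Module.Flat A (FractionRing A ⊗[A] B) := Module.Flat.of_linearEquiv
      (IsLocalizedModule.linearEquiv (nonZeroDivisors A) (TensorProduct.mk A (FractionRing A) B 1)
        (IsScalarTower.toAlgHom A B B').toLinearMap)
    exact (Module.flat_iff_of_isLocalization (FractionRing A) (nonZeroDivisors A) _).2 this
  refine Module.flat_of_isLocalized_maximal (R := A) (S := B') (M := B')
    (fun P _ => Localization.AtPrime P) (fun P _ => Algebra.linearMap B' _) fun P hP => ?_
  set q : Ideal B := P.comap (algebraMap B B') with hq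
  haveI : q.IsPrime := Ideal.IsPrime.comap _
  have hdisj : Disjoint (S : Set B) q :=
    ((IsLocalization.isPrime_iff_isPrime_disjoint S B' P).1 hP.isPrime).2
  set p : Ideal A := q.comap (algebraMap A B) with hp
  obtain ⟨p', hp'mem, hle⟩ : ∃ p' ∈ associatedPrimes A A, p ≤ p' := by
    have hsub : (p : Set A) ⊆ ⋃ i ∈ ((associatedPrimes.finite A A).toFinset : Set (Ideal A)), id i := by
      rw [Set.Finite.coe_toFinset]
      simp only [id]
      rw [biUnion_associatedPrimes_eq_compl_nonZeroDivisors]
      intro a ha hna
      exact Set.disjoint_left.1 hdisj ⟨a, hna, rfl⟩ ha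
    obtain ⟨i, hi, h⟩ := (Ideal.subset_union_prime ⊥ ⊥ (fun i hi _ _ =>
      ((Set.Finite.mem_toFinset _).1 hi : IsAssociatedPrime i A).1)).1 hsub
    exact ⟨i, (Set.Finite.mem_toFinset _).1 hi, h⟩
  haveI : p'.IsPrime := (hp'mem : IsAssociatedPrime p' A).1
  haveI : q.LiesOver p := ⟨rfl⟩
  obtain ⟨Q, hqQ, hQ, hQp⟩ := Ideal.exists_ideal_ge_liesOver_of_le (R := A) (S := B) (p := p) (q := p') q hle
  haveI := hQ
  have hQdisj : Disjoint (S : Set B) Q := by
    rw [Set.disjoint_left]
    rintro _ ⟨a, ha, rfl⟩ haQ
    have h1 : a ∈ p' := by rw [hQp.over]; exact haQ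
    have h2 : a ∈ ⋃ r ∈ associatedPrimes A A, (r : Set A) := Set.mem_iUnion₂_of_mem hp'mem h1
    rw [biUnion_associatedPrimes_eq_compl_nonZeroDivisors] at h2
    exact h2 ha
  have hQP : P ≤ Q.map (algebraMap B B') := by
    calc P = q.map (algebraMap B B') := (IsLocalization.map_comap S B' P).symm
      _ ≤ Q.map (algebraMap B B') := Ideal.map_mono hqQ
  have hQprime : (Q.map (algebraMap B B')).IsPrime :=
    IsLocalization.isPrime_of_isPrime_disjoint S B' Q hQ hQdisj
  have hPQ : P = Q.map (algebraMap B B') := hP.eq_of_le hQprime.ne_top hQP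
  have hqeq : q = Q := by
    rw [hq, hPQ]
    exact IsLocalization.comap_map_of_isPrime_disjoint S B' ‹Q.IsPrime› hQdisj
  have hass : IsAssociatedPrime (q.comap (algebraMap A B)) A := by
    rw [hqeq]
    have : p' = Q.comap (algebraMap A B) := hQp.over
    exact this ▸ hp'mem
  haveI := h4 q hass
  let e := IsLocalization.algEquiv q.primeCompl (Localization.AtPrime q) (Localization.AtPrime P)
  exact Module.Flat.of_linearEquiv (e.restrictScalars A).toLinearEquiv.symm

end Groth.Agent.S8929
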