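import Groth.Statements.S8930
import Mathlib

set_option autoImplicit false
universe u
open AlgebraicGeometry
open Disc

namespace Groth.Agent.S8930

open AlgebraicGeometry CategoryTheory
set_option backward.isDefEq.respectTransparency false

/-- Given two factorizations A → B' → B and A → B'' → B of a ring map with A → B' and A → B'' finite and
Spec(B) → Spec(B'), Spec(B) → Spec(B'') open immersions, there is an A-subalgebra C of B which is
finite over A, contains the images of B' and B'', and is such that Spec(B) → Spec(C) is an open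
immersion. (Such an A → B is quasi-finite; that hypothesis of the published statement is implied by
the factorizations and is not repeated.) -/
theorem result (A B B' B'' : Type u) [CommRing A] [CommRing B] [CommRing B'] [CommRing B''] [Algebra A B] [Algebra A B'] [Algebra A B''] [Algebra B' B] [Algebra B'' B] [IsScalarTower A B' B] [IsScalarTower A B'' B] [Module.Finite A B'] [Module.Finite A B''] (h' : IsOpenImmersion (Spec.map (CommRingCat.ofHom (algebraMap B' B)))) (h'' : IsOpenImmersion (Spec.map (CommRingCat.ofHom (algebraMap B'' B)))) : ∃ C : Subalgebra A B, Module.Finite A C ∧ Set.range (algebraMap B' B) ⊆ (C : Set B) ∧ Set.range (algebraMap B'' B) ⊆ (C : Set B) ∧ IsOpenImmersion (Spec.map (CommRingCat.ofHom C.val.toRingHom)) := by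
  let S' := (IsScalarTower.toAlgHom A B' B).range
  let S'' := (IsScalarTower.toAlgHom A B'' B).range
  haveI : Module.Finite A S' := Module.Finite.of_surjective ((IsScalarTower.toAlgHom A B' B).rangeRestrict.toLinearMap) (AlgHom.rangeRestrict_surjective _)
  haveI : Module.Finite A S'' := Module.Finite.of_surjective ((IsScalarTower.toAlgHom A B'' B).rangeRestrict.toLinearMap) (AlgHom.rangeRestrict_surjective _)
  let C := S' ⊔ S''
  have hle : S' ≤ C := le_sup_left
  have hr1 : Set.range (algebraMap B' B) ⊆ (C : Set B) := by
    rintro _ ⟨x, rfl⟩; exact hle ⟨x, rfl⟩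
  refine ⟨C, Subalgebra.finite_sup S' S'', hr1, fun _ hx => by obtain ⟨x, rfl⟩ := hx; exact (le_sup_right : S'' ≤ C) ⟨x, rfl⟩, ?_⟩
  let ρ : B' →+* C := ((algebraMap B' B).codRestrict C fun x => hr1 ⟨x, rfl⟩)
  have hfac : Spec.map (CommRingCat.ofHom C.val.toRingHom) ≫ Spec.map (CommRingCat.ofHom ρ) = Spec.map (CommRingCat.ofHom (algebraMap B' B)) := by
    rw [← Spec.map_comp]; rfl
  let j := Spec.map (CommRingCat.ofHom C.val.toRingHom)
  let m := Spec.map (CommRingCat.ofHom (algebraMap B' B))
  haveI : IsOpenImmersion m := h'
  refine IsOpenImmersion.of_forall_source_exists _ ?_ fun x => ?_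
  · intro a b hab
    apply m.isOpenEmbedding.injective
    show m a = m b
    rw [show m = j ≫ Spec.map (CommRingCat.ofHom ρ) from hfac.symm]
    exact congrArg (Spec.map (CommRingCat.ofHom ρ)) hab
  · obtain ⟨_, ⟨f, rfl⟩, hxf, hf⟩ := PrimeSpectrum.isTopologicalBasis_basic_opens.exists_subset_of_mem_open
      (show m x ∈ Set.range m from ⟨x, rfl⟩) m.isOpenEmbedding.isOpen_range
    let f₁ : B := algebraMap B' B f
    let i := Spec.map (CommRingCat.ofHom (algebraMap B (Localization.Away f₁)))
    haveI : IsOpenImmersion i := IsOpenImmersion.of_isLocalization f₁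
    have hxi : x ∈ i.opensRange := by
      show x ∈ Set.range (PrimeSpectrum.comap (algebraMap B (Localization.Away f₁)))
      rw [PrimeSpectrum.localization_away_comap_range (Localization.Away f₁) f₁]
      exact hxf
    refine ⟨_, i, inferInstance, hxi, ?_⟩
    let kf := Spec.map (CommRingCat.ofHom (algebraMap B' (Localization.Away f)))
    haveI : IsOpenImmersion kf := IsOpenImmersion.of_isLocalization f
    have hrange : Set.range kf = Set.range (i ≫ m) := by
      show Set.range (PrimeSpectrum.comap (algebraMap B' (Localization.Away f))) = _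
      rw [PrimeSpectrum.localization_away_comap_range (Localization.Away f) f, Scheme.Hom.comp_base, TopCat.coe_comp, Set.range_comp]
      show _ = m '' Set.range (PrimeSpectrum.comap (algebraMap B (Localization.Away f₁)))
      rw [PrimeSpectrum.localization_away_comap_range (Localization.Away f₁) f₁]
      ext p
      refine ⟨fun hp => ?_, fun ⟨q, hq, hqp⟩ => hqp ▸ hq⟩
      obtain ⟨q, rfl⟩ := hf hp
      exact ⟨q, hp, rfl⟩
    let e := IsOpenImmersion.isoOfRangeEq kf (i ≫ m) hrange
    obtain ⟨ψ, hψ⟩ := Spec.map_surjective e.hom
    have hψ' : CommRingCat.ofHom ((algebraMap B (Localization.Away f₁)).comp (algebraMap B' B)) ≫ ψ = CommRingCat.ofHom (algebraMap B' (Localization.Away f)) := by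
      apply Spec.map_injective
      rw [Spec.map_comp, hψ, CommRingCat.ofHom_comp, Spec.map_comp]
      exact IsOpenImmersion.isoOfRangeEq_hom_fac _ _ _
    haveI : IsIso (Spec.map ψ) := hψ ▸ inferInstance
    haveI : IsIso ψ := by
      haveI : IsIso (Scheme.Spec.map ψ.op) := this
      exact (isIso_op_iff ψ).1 (isIso_of_reflects_iso ψ.op Scheme.Spec)
    have hinj : Function.Injective ψ := (ConcreteCategory.bijective_of_isIso ψ).1
    letI : Algebra C (Localization.Away f₁) := ((algebraMap B (Localization.Away f₁)).comp C.val.toRingHom).toAlgebra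
    haveI : IsLocalization.Away (ρ f) (Localization.Away f₁) := by
      refine IsLocalization.Away.mk _ (IsLocalization.Away.algebraMap_isUnit (R := B) (S := Localization.Away f₁) f₁) (fun z => ?_) (fun a b hab => ?_)
      · obtain ⟨n, a, ha⟩ := IsLocalization.Away.surj f (ψ z)
        refine ⟨n, ρ a, hinj ?_⟩
        have h1 : ∀ y, ψ ((algebraMap B (Localization.Away f₁)) (algebraMap B' B y)) = algebraMap B' _ y :=
          fun y => congr($(congrArg CommRingCat.Hom.hom hψ') y)
        show ψ (z * (algebraMap B (Localization.Away f₁) f₁) ^ n) = ψ (algebraMap B _ (algebraMap B' B a))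
        rw [map_mul, map_pow, h1, h1]; exact ha
      · obtain ⟨n, hn⟩ := IsLocalization.Away.exists_of_eq (S := Localization.Away f₁) f₁ (show algebraMap B (Localization.Away f₁) (a : B) = algebraMap B _ (b : B) from hab)
        exact ⟨n, Subtype.ext hn⟩
    rw [← Spec.map_comp]
    exact IsOpenImmersion.of_isLocalization (R := C) (S := Localization.Away f₁) (ρ f)

end Groth.Agent.S8930
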