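import Groth.Statements.S8931
import Groth.Agent.FittLib.Basic
import Mathlib

set_option autoImplicit false
universe u
open Disc

namespace Groth.Agent.S8931

set_option backward.isDefEq.respectTransparency false

theorem derivation_mk_eq_sum {A : Type u} [CommRing A] {n : ℕ} (I : Ideal (MvPolynomial (Fin n) A)) {M : Type*}
    [AddCommGroup M] [Module A M] [Module (MvPolynomial (Fin n) A ⧸ I) M]
    (δ : Derivation A (MvPolynomial (Fin n) A ⧸ I) M) (p : MvPolynomial (Fin n) A) :
    δ (Ideal.Quotient.mk I p) =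
      ∑ j, Ideal.Quotient.mk I (MvPolynomial.pderiv j p) • δ (Ideal.Quotient.mk I (MvPolynomial.X j)) := by
  classical
  induction p using MvPolynomial.induction_on with
  | C a =>
    rw [show Ideal.Quotient.mk I (MvPolynomial.C a) = algebraMap A _ a from rfl, Derivation.map_algebraMap]
    refine (Finset.sum_eq_zero fun j _ => ?_).symm
    rw [MvPolynomial.pderiv_C, map_zero]
    exact zero_smul (MvPolynomial (Fin n) A ⧸ I) (δ (Ideal.Quotient.mk I (MvPolynomial.X j)))
  | add p q hp hq =>
    rw [map_add, map_add, hp, hq, ← Finset.sum_add_distrib]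
    refine Finset.sum_congr rfl fun j _ => ?_
    rw [map_add, map_add, add_smul]
  | mul_X p l hp =>
    rw [map_mul, Derivation.leibniz, hp, Finset.smul_sum]
    simp only [Derivation.leibniz, smul_eq_mul, map_add, map_mul, add_smul, Finset.sum_add_distrib, mul_smul]
    congr 1
    rw [Finset.sum_eq_single_of_mem l (Finset.mem_univ l) fun b _ hb => by
      rw [MvPolynomial.pderiv_X_of_ne (Ne.symm hb), map_zero]
      refine (congrArg _ (zero_smul (MvPolynomial (Fin n) A ⧸ I) (δ (Ideal.Quotient.mk I (MvPolynomial.X b))))).trans ?_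
      exact smul_zero _,
      MvPolynomial.pderiv_X_self, map_one, one_smul]

theorem span_gen_eq_rel (A : Type u) [CommRing A] (n : ℕ) (f : Fin n → MvPolynomial (Fin n) A) :
    Submodule.span (MvPolynomial (Fin n) A ⧸ Ideal.span (Set.range f))
      (Set.range fun i j => Ideal.Quotient.mk (Ideal.span (Set.range f)) (MvPolynomial.pderiv j (f i))) =
    FittLib.Rel (R := MvPolynomial (Fin n) A ⧸ Ideal.span (Set.range f))
      (fun j => KaehlerDifferential.D A (MvPolynomial (Fin n) A ⧸ Ideal.span (Set.range f))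
        (Ideal.Quotient.mk (Ideal.span (Set.range f)) (MvPolynomial.X j))) := by
  classical
  set I := Ideal.span (Set.range f) with hI
  set G := Submodule.span (MvPolynomial (Fin n) A ⧸ I) (Set.range fun i j => Ideal.Quotient.mk I (MvPolynomial.pderiv j (f i))) with hG
  let π : MvPolynomial (Fin n) A →ₗ[A] (MvPolynomial (Fin n) A ⧸ I) := (Ideal.Quotient.mkₐ A I).toLinearMap
  let d0 : MvPolynomial (Fin n) A →ₗ[A] ((Fin n → (MvPolynomial (Fin n) A ⧸ I)) ⧸ G) :=
    (G.mkQ.restrictScalars A) ∘ₗ LinearMap.pi fun j => π ∘ₗ (MvPolynomial.pderiv j).toLinearMap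
  have hd0 : ∀ p, d0 p = G.mkQ (fun j => Ideal.Quotient.mk I (MvPolynomial.pderiv j p)) := fun p => rfl
  have hmul : ∀ p q, d0 (p * q) = Ideal.Quotient.mk I p • d0 q + Ideal.Quotient.mk I q • d0 p := by
    intro p q
    rw [hd0, hd0, hd0, ← map_smul, ← map_smul, ← map_add]
    congr 1
    funext j
    simp only [Pi.add_apply, Pi.smul_apply, smul_eq_mul, Derivation.leibniz, map_add, map_mul]
  have hker : Submodule.restrictScalars A I ≤ LinearMap.ker d0 := by
    intro p hp
    rw [Submodule.restrictScalars_mem, hI] at hp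
    rw [LinearMap.mem_ker]
    induction hp using Submodule.span_induction with
    | mem x hx =>
      obtain ⟨i, rfl⟩ := hx
      rw [hd0, Submodule.mkQ_apply, Submodule.Quotient.mk_eq_zero]
      exact Submodule.subset_span ⟨i, rfl⟩
    | zero => rw [map_zero]
    | add x y _ _ hx hy => rw [map_add, hx, hy, add_zero]
    | smul a x hx h =>
      rw [smul_eq_mul, hmul, h, smul_zero, zero_add, Ideal.Quotient.eq_zero_iff_mem.2 hx]
      exact zero_smul (MvPolynomial (Fin n) A ⧸ I) (d0 a)
  let d : (MvPolynomial (Fin n) A ⧸ I) →ₗ[A] ((Fin n → (MvPolynomial (Fin n) A ⧸ I)) ⧸ G) :=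
    (Submodule.liftQ _ d0 hker) ∘ₗ (Submodule.Quotient.restrictScalarsEquiv A I).symm.toLinearMap
  have hd : ∀ p, d (Ideal.Quotient.mk I p) = d0 p := fun p => rfl
  let δ : Derivation A (MvPolynomial (Fin n) A ⧸ I) ((Fin n → (MvPolynomial (Fin n) A ⧸ I)) ⧸ G) := Derivation.mk' d fun a b => by
    obtain ⟨p, rfl⟩ := Ideal.Quotient.mk_surjective a
    obtain ⟨q, rfl⟩ := Ideal.Quotient.mk_surjective b
    rw [← map_mul, hd, hd, hd, hmul]
  refine le_antisymm (Submodule.span_le.2 ?_) ?_
  · rintro _ ⟨i, rfl⟩
    rw [SetLike.mem_coe, FittLib.mem_rel]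
    have key := fun p => derivation_mk_eq_sum I (KaehlerDifferential.D A (MvPolynomial (Fin n) A ⧸ I)) p
    rw [← key, Ideal.Quotient.eq_zero_iff_mem.2 (show f i ∈ I from Ideal.subset_span ⟨i, rfl⟩), map_zero]
  · intro v hv
    rw [FittLib.mem_rel] at hv
    have h := congrArg δ.liftKaehlerDifferential hv
    simp only [map_sum, map_smul, Derivation.liftKaehlerDifferential_comp_D, map_zero] at h
    rw [← Submodule.Quotient.mk_eq_zero, ← h, ← Submodule.mkQ_apply]
    have hX : ∀ j, δ (Ideal.Quotient.mk I (MvPolynomial.X j)) = G.mkQ (Pi.single j 1) := fun j => by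
      show d (Ideal.Quotient.mk I (MvPolynomial.X j)) = _
      rw [hd, hd0]
      congr 1
      funext l
      rcases eq_or_ne l j with rfl | hne
      · rw [MvPolynomial.pderiv_X_self, map_one, Pi.single_eq_same]
      · rw [MvPolynomial.pderiv_X_of_ne hne.symm, map_zero, Pi.single_eq_of_ne hne]
    simp only [hX, ← map_smul, ← map_sum]
    exact congrArg G.mkQ (pi_eq_sum_univ' v)

/-- For a ring A, n ≥ 1 and f_1, …, f_n in A[x_1, …, x_n], with B = A[x_1, …, x_n]/(f_1, …, f_n), the
zeroth Fitting ideal of Ω_{B/A} (the Kähler different of B over A) is generated by the image in B of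
the Jacobian determinant det(∂f_i/∂x_j). -/
theorem result (A : Type u) [CommRing A] (n : ℕ) (hn : 1 ≤ n) (f : Fin n → MvPolynomial (Fin n) A) : Fitt.ideal (MvPolynomial (Fin n) A ⧸ Ideal.span (Set.range f)) (KaehlerDifferential A (MvPolynomial (Fin n) A ⧸ Ideal.span (Set.range f))) 0 = Ideal.span {Ideal.Quotient.mk (Ideal.span (Set.range f)) (Matrix.det (Matrix.of fun i j : Fin n => MvPolynomial.pderiv j (f i)))} := by
  classical
  set I := Ideal.span (Set.range f) with hI
  set B := MvPolynomial (Fin n) A ⧸ I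
  let x : Fin n → KaehlerDifferential A B := fun j => KaehlerDifferential.D A B (Ideal.Quotient.mk I (MvPolynomial.X j))
  let J : Matrix (Fin n) (Fin n) B := fun i j => Ideal.Quotient.mk I (MvPolynomial.pderiv j (f i))
  have hJ : Ideal.Quotient.mk I (Matrix.det (Matrix.of fun i j : Fin n => MvPolynomial.pderiv j (f i))) = J.det := by
    rw [RingHom.map_det]
    rfl
  have hx : Submodule.span B (Set.range x) = ⊤ := by
    rw [eq_top_iff, ← KaehlerDifferential.span_range_derivation, Submodule.span_le]
    rintro _ ⟨b, rfl⟩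
    obtain ⟨p, rfl⟩ := Ideal.Quotient.mk_surjective b
    induction p using MvPolynomial.induction_on with
    | C a =>
      rw [show Ideal.Quotient.mk I (MvPolynomial.C a) = algebraMap A B a from rfl, Derivation.map_algebraMap]
      exact Submodule.zero_mem _
    | add p q hp hq =>
      rw [map_add, map_add]
      exact Submodule.add_mem _ hp hq
    | mul_X p j hp =>
      rw [map_mul, Derivation.leibniz]
      exact Submodule.add_mem _ (Submodule.smul_mem _ _ (Submodule.subset_span ⟨j, rfl⟩)) (Submodule.smul_mem _ _ hp)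
  rw [FittLib.ideal_eq_D x hx, FittLib.D_eq_span_gen x _ (span_gen_eq_rel A n f), hJ]
  refine le_antisymm (Ideal.span_le.2 ?_) (Ideal.span_le.2 (Set.singleton_subset_iff.2 (Ideal.subset_span
    ⟨J, Finset.univ, by simp, fun i _ => ⟨i, rfl⟩, fun i hi => absurd (Finset.mem_univ i) hi, rfl⟩)))
  rintro _ ⟨a, T, hT, ha, -, rfl⟩
  have hTu : T = Finset.univ := Finset.eq_univ_of_card _ (by simpa using hT)
  choose σ hσ using fun i => ha i (hTu ▸ Finset.mem_univ i)
  have hmat : a = J.submatrix σ id := by
    funext i j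
    exact (congrFun (hσ i) j).symm
  rw [SetLike.mem_coe, Ideal.mem_span_singleton, hmat]
  by_cases hinj : Function.Injective σ
  · have := Matrix.det_permute (Equiv.ofBijective σ (Finite.injective_iff_bijective.1 hinj)) J
    exact ⟨_, (this.trans (mul_comm _ _))⟩
  · rw [Function.not_injective_iff] at hinj
    obtain ⟨i, j, hij, hne⟩ := hinj
    rw [Matrix.det_zero_of_row_eq (M := J.submatrix σ id) hne (by funext l; simp [Matrix.submatrix_apply, hij])]
    exact dvd_zero _

end Groth.Agent.S8931
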