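import Groth.Statements.S8932
import Groth.Agent.DualCxLib.GorFibres
-- Template for statement S8932 (row 8931; see the milestone table for weights).
-- Copy to Groth/Agent/S8932.lean and replace the sorry. The statement below is byte-identical to the frozen
-- statement Dual.GrothFrozen.S8932 (Groth/Statements/S8932.lean; the theorem Dual.isDualizing_LBaseChange_fieldExtension);
-- the grader kernel-checks Groth.Agent.S8932.result against that frozen type. Keep the theorem IN THIS FILE
-- (a `result` declared elsewhere and merely imported here is not credited); helpers may live anywhere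
-- under Groth/Agent/.
-- helpers: DualCxLib

set_option autoImplicit false
universe u
open CategoryTheory
open scoped TensorProduct
attribute [local instance] HasDerivedCategory.standard
open Dual Groth.Agent.DualCxLib

namespace Groth.Agent.S8932

/-- For a field extension K/k, a finite type k-algebra A and a dualizing complex ω for A, the derived
base change of ω along A → K ⊗_k A is a dualizing complex for K ⊗_k A (the derived base change
functor being assumed to exist). -/
theorem result (k K : Type u) [Field k] [Field K] [Algebra k K] (A : Type u) [CommRing A] [Algebra k A] [Algebra.FiniteType k A] [DRing.HasLBaseChange (Algebra.TensorProduct.includeRight : A →ₐ[k] K ⊗[k] A).toRingHom] (ω : Dual.D A) (hω : Dual.IsDualizing A ω) : Dual.IsDualizing (K ⊗[k] A) ((DRing.LBaseChange (Algebra.TensorProduct.includeRight : A →ₐ[k] K ⊗[k] A).toRingHom).obj ω) := by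
  haveI : IsNoetherianRing A := Algebra.FiniteType.isNoetherianRing k A
  letI : Algebra A (K ⊗[k] A) := (Algebra.TensorProduct.includeRight : A →ₐ[k] K ⊗[k] A).toRingHom.toAlgebra
  haveI : IsNoetherianRing (K ⊗[k] A) := Algebra.FiniteType.isNoetherianRing K _
  let e : (K ⊗[k] A) ≃ₐ[A] (A ⊗[k] K) :=
    AlgEquiv.ofRingEquiv (f := (Algebra.TensorProduct.comm k K A).toRingEquiv) fun a => rfl
  haveI : Module.Flat A (K ⊗[k] A) := Module.Flat.of_linearEquiv e.toLinearEquiv
  haveI : DRing.HasLBaseChange (algebraMap A (K ⊗[k] A)) := ‹_›
  obtain ⟨N, hN⟩ := Groth.Agent.DualCxLib.exists_ringKrullDim_le_of_finiteType K (K ⊗[k] A)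
  refine Groth.Agent.DualCxLib.isDualizing_bcD_of_fibres A (K ⊗[k] A) hω (fun p _ => ?_) N
    (fun p _ => (Groth.Agent.DualCxLib.ringKrullDim_fiber_le A (K ⊗[k] A) p).trans hN)
  haveI := Groth.Agent.DualCxLib.gorenstein_fibre_baseChangeField k K A p
  exact Groth.Agent.GorLib.gorensteinRing_of_ringEquiv
    (Algebra.TensorProduct.congr (AlgEquiv.refl (A₁ := p.ResidueField) (R := A)) e.symm).toRingEquiv ‹_›

end Groth.Agent.S8932
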