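import Groth.Statements.S8934
import Groth.Agent.TorsCoreflLib.Frob

set_option autoImplicit false
universe u
open CategoryTheory CategoryTheory.Limits
attribute [local instance] HasDerivedCategory.standard
open LocCoh

set_option backward.isDefEq.respectTransparency false

namespace Groth.Agent.S8934

/-- Let p be a prime, A a Noetherian ring of characteristic p with Frobenius endomorphism F, and I an
ideal of A. Then the derived base change of RΓ_I(A) along F is isomorphic to RΓ_I(A) in D(A)
(existence of an isomorphism only; RΓ_I, the derived I-power torsion functor, and the derived base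
change along F are assumed to exist). (The published statement is for any ring and a finitely
generated ideal, with local cohomology RΓ_Z; this row takes A Noetherian, where RΓ_Z is the derived
functor of I-power torsion.) -/
theorem result (p : ℕ) [Fact p.Prime] (A : Type u) [CommRing A] [IsNoetherianRing A] [CharP A p] (I : Ideal A) [DRing.HasRgammaI I] [DRing.HasLBaseChange (frobenius A p)] : Nonempty ((DRing.LBaseChange (frobenius A p)).obj ((DRing.RgammaI I).obj (Dual.inD A A)) ≅ (DRing.RgammaI I).obj (Dual.inD A A)) := by
  letI : Algebra A A := (frobenius A p).toAlgebra
  haveI : DRing.HasLBaseChange (algebraMap A A) := ‹DRing.HasLBaseChange (frobenius A p)›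
  refine Groth.Agent.TorsCoreflLib.nonempty_lbc_RgammaI (B := A) I ?_
  refine le_antisymm (Ideal.radical_mono (Ideal.map_le_iff_le_comap.2 fun a ha => ?_))
    ((Ideal.radical_isRadical _).radical_le_iff.2 fun a ha => ?_)
  · show frobenius A p a ∈ I
    rw [frobenius_def]
    exact Ideal.pow_mem_of_mem I ha p (Fact.out : p.Prime).pos
  · exact ⟨p, by rw [← frobenius_def]; exact Ideal.mem_map_of_mem (algebraMap A A) ha⟩

end Groth.Agent.S8934
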