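import Groth.Statements.S8936
import Mathlib
import Groth.Agent.InjHullLib.Noetherian

set_option autoImplicit false
universe u v
open InjHull

namespace Groth.Agent.S8936

/-- For a directed system (E_i) of R-modules over a nonempty directed preorder and a compatible family
of essential injections M → E_i, the induced map from M to the direct limit of the E_i is an
essential injection. -/
theorem result (R : Type u) [CommRing R] (ι : Type v) [Preorder ι] [IsDirectedOrder ι] [DecidableEq ι] (i₀ : ι) (E : ι → Type v) [∀ i, AddCommGroup (E i)] [∀ i, Module R (E i)] (f : ∀ i j, i ≤ j → E i →ₗ[R] E j) [DirectedSystem E fun i j h => f i j h] (M : Type v) [AddCommGroup M] [Module R M] (g : ∀ i, M →ₗ[R] E i) (hg : ∀ i j (h : i ≤ j), f i j h ∘ₗ g i = g j) (he : ∀ i, InjHull.IsEssentialInj (g i)) : InjHull.IsEssentialInj (Module.DirectLimit.of R ι E f i₀ ∘ₗ g i₀) := by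
  classical
  have : Nonempty ι := ⟨i₀⟩
  have hof : ∀ i m, Module.DirectLimit.of R ι E f i (g i m) = Module.DirectLimit.of R ι E f i₀ (g i₀ m) := by
    intro i m
    obtain ⟨j, hij, hj⟩ := exists_ge_ge i i₀
    rw [← Module.DirectLimit.of_f (hij := hij), ← Module.DirectLimit.of_f (hij := hj),
      ← LinearMap.comp_apply (f i j hij), ← LinearMap.comp_apply (f i₀ j hj), hg, hg]
  have hinj : Function.Injective (Module.DirectLimit.of R ι E f i₀ ∘ₗ g i₀) := by
    rw [injective_iff_map_eq_zero]
    intro m hm
    obtain ⟨j, hj, hz⟩ := Module.DirectLimit.of.zero_exact hm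
    rw [← LinearMap.comp_apply, hg] at hz
    exact (injective_iff_map_eq_zero _).1 (he j).injective m hz
  refine Groth.Agent.InjHullLib.isEssentialInj_of_forall hinj fun x hx => ?_
  obtain ⟨i, y, rfl⟩ := Module.DirectLimit.exists_of x
  obtain ⟨r, m, hm, hne⟩ := Groth.Agent.InjHullLib.exists_smul_mem_range (he i)
    (fun h : y = 0 => hx (by rw [h, map_zero]))
  refine ⟨r, ⟨m, ?_⟩, ?_⟩
  · rw [LinearMap.comp_apply, ← hof i m, hm, map_smul]
  · rw [← map_smul, ← hm, hof i m]
    intro h
    have : m = 0 := hinj (h.trans (map_zero _).symm)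
    exact hne (by rw [← hm, this, map_zero])

end Groth.Agent.S8936
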