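import Groth.Statements.S8937
import Groth.Agent.S0356
import Groth.Agent.S1682
import Groth.Agent.BlowExistsLib.Proper
import Groth.Agent.BlowCompLib.Strict
import Groth.Agent.FibreVanishQC.Main
-- import your own Groth.Agent.* helpers here

set_option autoImplicit false
set_option linter.style.haveILetI false
set_option backward.isDefEq.respectTransparency false
universe u
open CategoryTheory AlgebraicGeometry
attribute [local instance] HasDerivedCategory.standard
open LocCoh

namespace Groth.Agent.S8937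

theorem mem_support_idealSheaf {A : Type u} [CommRing A] (I : Ideal A) (p : PrimeSpectrum A) :
    (p : Spec (CommRingCat.of A)) ∈ (Curv2.idealSheaf A I).support ↔ I ≤ p.asIdeal := by
  rw [← SetLike.mem_coe, Curv2.idealSheaf, Scheme.IdealSheafData.coe_support_ofIdealTop, Spec_zeroLocus,
    ← Ideal.coe_comap,
    Ideal.comap_map_of_bijective _ (ConcreteCategory.bijective_of_isIso (Scheme.ΓSpecIso (CommRingCat.of A)).inv)]
  rfl

/-- Let A be a Noetherian ring, I an ideal and b : X → Spec A a blowing up of Spec A in I. If the fibres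
of b have dimension at most d, then cd(A, I) ≤ d + 1, i.e. H^i_I(M) = 0 for all A-modules M and all
i > d + 1. -/
theorem result (A : Type u) [CommRing A] [IsNoetherianRing A] (I : Ideal A) (X : Scheme.{u}) (b : X ⟶ Spec (CommRingCat.of A)) (hb : BlowUp.IsBlowUp b (Curv2.idealSheaf A I)) (d : ℕ) (hd : Dual3.FibreDimLE b d) : LocCoh.CdLE A I (d + 1) := by
  intro M _ _ i hi
  obtain ⟨p, hp, rfl⟩ : ∃ p, d ≤ p ∧ i = p + 1 + 1 := ⟨i - 2, by omega, by omega⟩
  let 𝓘 := Curv2.idealSheaf A I
  let U := LocCoh.puncturedOpen A I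
  have hU : U = 𝓘.support.compl := TopologicalSpace.Opens.ext (Set.ext fun q =>
    (show (¬ q ∈ PrimeSpectrum.zeroLocus (I : Set A)) ↔ ¬ q ∈ (𝓘.support : Set _) from
      not_congr ((PrimeSpectrum.mem_zeroLocus _ _).trans (mem_support_idealSheaf I q).symm)))
  obtain ⟨e⟩ := Groth.Agent.S0356.result A I M (p + 1) (by omega)
  haveI : IsProper b := BlowExistsLib.isProper_of_FG hb fun V => by
    haveI : IsNoetherianRing Γ(Spec (CommRingCat.of A), V.1) := IsLocallyNoetherian.component_noetherian V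
    exact (IsNoetherian.noetherian (𝓘.ideal V) : (𝓘.ideal V).FG)
  haveI : IsIso (b ∣_ U) := hU ▸ Groth.Agent.S1682.result 𝓘 b hb
  have hpre : b ⁻¹ᵁ U = (𝓘.comap b).support.compl := by
    rw [hU]
    refine TopologicalSpace.Opens.ext ?_
    show b ⁻¹' (𝓘.support : Set _)ᶜ = ((𝓘.comap b).support : Set _)ᶜ
    rw [Scheme.IdealSheafData.support_comap]
    rfl
  haveI : IsAffineHom (b ⁻¹ᵁ U).ι := by
    rw [hpre]
    exact BlowCompLib.isAffineHom_compl _ fun x => by
      obtain ⟨V, hx, a, -, ha⟩ := hb.1 x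
      exact ⟨V, hx, a, ha⟩
  let ψ : (U : Scheme.{u}) ⟶ X := inv (b ∣_ U) ≫ (b ⁻¹ᵁ U).ι
  haveI : IsAffineHom ψ := inferInstance
  let N := (AlgebraicGeometry.tilde (R := CommRingCat.of A) (ModuleCat.of A M)).restrict U.ι
  haveI : Coh.IsQCoh N := (SheafOfModules.isQuasicoherent (U : Scheme.{u}).ringCatSheaf).prop_of_iso
    ((Scheme.Modules.restrictFunctorIsoPullback U.ι).app _).symm
    (PullbackMod.isQCoh_pullback U.ι (AlgebraicGeometry.tilde (R := CommRingCat.of A) (ModuleCat.of A M)))
  have hac : ProperFin.AffAcyclic ψ N := fun V hV n => CohBase.affine_vanishing N (hV.preimage ψ) n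
  haveI : Coh.IsQCoh ((Scheme.Modules.pushforward ψ).obj N) := QCohLib.isQCoh_pushforward N ψ
  obtain ⟨e', -⟩ := ProperFin.exists_pushEquiv ψ hac (p + 1)
  haveI := CohBase.subsingleton_HH ((Scheme.Modules.pushforward ψ).obj N) (p + 1)
    (FibreVanishQC.subsingleton_HU_affine b d hd _ p hp)
  haveI : Subsingleton (Coh.HH (U : Scheme.{u}) N (p + 1)) := e'.toEquiv.subsingleton
  exact e.symm.toEquiv.subsingleton

end Groth.Agent.S8937
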