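import Groth.Statements.S8938
import Groth.Agent.UnivExtLib.BlowColim
import Groth.Agent.S1739

set_option autoImplicit false
set_option backward.isDefEq.respectTransparency false
set_option linter.style.haveILetI false
universe u
open CategoryTheory
attribute [local instance] HasDerivedCategory.standard
open LocCoh

namespace Groth.Agent.S8938

/-- Let A be a Noetherian ring, I an ideal generated by t + 1 listed elements a_0, …, a_t, and B =
A[I/a_0] the affine blow-up algebra. Then for some integer c the ideal I^c annihilates Tor_i^A(B, M)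
for all A-modules M and all i ≥ t + 1. -/
theorem result (A : Type u) [CommRing A] [IsNoetherianRing A] (t : ℕ) (a : Fin (t + 1) → A) : ∃ c : ℕ, ∀ (M : Type u) [AddCommGroup M] [Module A M] (i : ℕ), t + 1 ≤ i → ∀ x ∈ Ideal.span (Set.range a) ^ c, ∀ y : DRing.Tor A i (BlowUp.affineAlgebra A (Ideal.span (Set.range a)) (a 0)) M, x • y = 0 := by
  classical
  obtain ⟨c, hc⟩ := Groth.Agent.S1739.result A (Ideal.span (Set.range a)) (t + 1) (Finset.univ.image a)
    (by simp) (Finset.card_image_le.trans (by simp))
  refine ⟨c, fun M _ _ i hi x hx y => ?_⟩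
  refine Groth.Agent.UnivExtLib.smul_tor_eq_zero _ (a 0) (Ideal.subset_span (s := Set.range a) (Set.mem_range_self 0)) M i x (fun n z => ?_) y
  obtain ⟨i', rfl⟩ : ∃ i', i = i' + 1 := ⟨i - 1, by omega⟩
  let I := Ideal.span (Set.range a)
  let e := Groth.Agent.TorLib.torSuccEquiv (I ^ n : Submodule A A).subtype (Submodule.mkQ (I ^ n)) M
    Subtype.val_injective (Submodule.mkQ_surjective _) (LinearMap.exact_subtype_mkQ _) i'
  obtain ⟨s⟩ := Groth.Agent.TorLib.tor_symm (A := A) (i' + 2) (A ⧸ I ^ n) M
  refine e.symm.injective ((map_smul e.symm x z).trans (Eq.trans ?_ (map_zero e.symm).symm))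
  refine s.injective ((map_smul s x _).trans (Eq.trans ?_ (map_zero s).symm))
  exact hc M (i' + 2) n (by omega) x hx _

end Groth.Agent.S8938
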