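import Groth.Statements.S8941
import Groth.Agent.DualCxLib.CoindDual
-- Template for statement S8941 (row 8940; see the milestone table for weights).
-- Copy to Groth/Agent/S8941.lean and replace the sorry. The statement below is byte-identical to the frozen
-- statement Dual.GrothFrozen.S8941 (Groth/Statements/S8941.lean; the theorem Dual.exists_triangle_rightAdjoint_quotient_nonZeroDivisor);
-- the grader kernel-checks Groth.Agent.S8941.result against that frozen type. Keep the theorem IN THIS FILE
-- (a `result` declared elsewhere and merely imported here is not credited); helpers may live anywhere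
-- under Groth/Agent/.
-- helpers: DualCxLib

set_option autoImplicit false
universe u
open CategoryTheory CategoryTheory.Pretriangulated
attribute [local instance] HasDerivedCategory.standard
open Dual Groth.Agent.DualCxLib

namespace Groth.Agent.S8941

/-- Let A be a Noetherian local ring with normalized dualizing complex ω, f a nonzerodivisor in the
maximal ideal and B = A/(f); with R right adjoint to restriction of scalars D(B) → D(A) (so that
R(ω) is RHom_A(B, ω), a normalized dualizing complex for B), there is a distinguished triangle in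
D(A) with vertices R(ω) viewed over A, ω, ω, whose middle morphism ω → ω is multiplication by f. -/
theorem result (A : Type u) [CommRing A] [IsLocalRing A] [IsNoetherianRing A] (ω : Dual.D A) (hω : Dual.IsDualizing A ω) (hn : Dual.IsNormalized A ω) (f : A) (hf : f ∈ IsLocalRing.maximalIdeal A) (hf' : f ∈ nonZeroDivisors A) (R : Dual.D A ⥤ Dual.D (A ⧸ Ideal.span {f})) (adj : DRing.restrictD (Ideal.Quotient.mk (Ideal.span {f})) ⊣ R) : ∃ (u : (DRing.restrictD (Ideal.Quotient.mk (Ideal.span {f}))).obj (R.obj ω) ⟶ ω) (w : ω ⟶ ((DRing.restrictD (Ideal.Quotient.mk (Ideal.span {f}))).obj (R.obj ω))⟦(1 : ℤ)⟧), Triangle.mk u (f • 𝟙 ω) w ∈ distinguishedTriangles := by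
  let J : Ideal A := Ideal.span {f}
  let B := A ⧸ J
  let S := Groth.Agent.DualCxLib.model hω
  obtain ⟨c⟩ := S.rep.nonempty_coindIso B R adj
  let ε := S.rep.εC B
  let m : S.E ⟶ S.E := f • 𝟙 S.E
  have hinj : ∀ i (g : (S.rep.coext B).X i), (ε.f i).hom g = 0 → g = 0 := fun i g hg => by
    refine (S.rep.coextEquiv B i).injective ?_
    rw [map_zero]
    refine LinearMap.ext fun q => ?_
    obtain ⟨a, rfl⟩ := Ideal.Quotient.mk_surjective q
    rw [show Ideal.Quotient.mk J a = a • (1 : B) by rw [Algebra.smul_def, mul_one]; rfl, map_smul,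
      show S.rep.coextEquiv B i g 1 = 0 from hg, smul_zero]
    rfl
  have hexact : ∀ i (x : S.E.X i), f • x = 0 → ∃ g : (S.rep.coext B).X i, (ε.f i).hom g = x := fun i x hx => by
    let φ : B →ₗ[A] S.E.X i := J.liftQ (LinearMap.toSpanSingleton A _ x) fun a ha => by
      obtain ⟨a, rfl⟩ := Ideal.mem_span_singleton'.1 ha
      rw [LinearMap.mem_ker, LinearMap.toSpanSingleton_apply, mul_smul, hx, smul_zero]
    refine ⟨(S.rep.coextEquiv B i).symm φ, ?_⟩
    show S.rep.coextEquiv B i ((S.rep.coextEquiv B i).symm φ) 1 = x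
    rw [AddEquiv.apply_symm_apply]
    exact one_smul A x
  have hzero : ∀ i (g : (S.rep.coext B).X i), f • (show S.E.X i from (ε.f i).hom g) = 0 := fun i g => by
    show f • S.rep.coextEquiv B i g 1 = 0
    rw [← map_smul, show f • (1 : B) = 0 by
      rw [Algebra.smul_def, mul_one]
      exact Ideal.Quotient.eq_zero_iff_mem.2 (Ideal.mem_span_singleton_self f), map_zero]
  let T : ShortComplex (DRing.Cx A) := ShortComplex.mk ε m (HomologicalComplex.hom_ext _ _ fun i =>
    ModuleCat.hom_ext (LinearMap.ext fun g => hzero i g))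
  have hT : T.ShortExact := by
    refine HomologicalComplex.shortExact_of_degreewise_shortExact _ fun i => ShortComplex.ShortExact.mk' ?_ ?_ ?_
    · rw [ShortComplex.moduleCat_exact_iff]
      intro x hx
      exact hexact i x hx
    · rw [ModuleCat.mono_iff_injective]
      exact (injective_iff_map_eq_zero _).2 (hinj i)
    · rw [ModuleCat.epi_iff_surjective]
      intro y
      haveI := S.inj i
      obtain ⟨h, hh⟩ := (S.inj i).out (f • LinearMap.id : A →ₗ[A] A) (fun a b hab =>
        (mem_nonZeroDivisors_iff_right.1 hf') (a - b) (by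
          have h' : f * a = f * b := hab
          rw [sub_mul, mul_comm a f, mul_comm b f, h', sub_self]) |> sub_eq_zero.1) (LinearMap.toSpanSingleton A _ y)
      refine ⟨h 1, ?_⟩
      show f • h 1 = y
      rw [← map_smul]
      exact (hh 1).trans (one_smul A y)
  let T' := DerivedCategory.triangleOfSES hT
  let F := DRing.restrictD (Ideal.Quotient.mk J)
  let a : T'.obj₁ ≅ F.obj (R.obj ω) :=
    ((DTen.resFactors (algebraMap A B)).app (S.rep.coext B)).symm ≪≫ F.mapIso c
  refine ⟨a.inv ≫ T'.mor₁ ≫ S.iso.hom, S.iso.inv ≫ T'.mor₃ ≫ a.hom⟦(1 : ℤ)⟧', ?_⟩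
  refine Pretriangulated.isomorphic_distinguished _ (DerivedCategory.triangleOfSES_distinguished hT) _
    (Pretriangulated.Triangle.isoMk _ _ a.symm S.iso.symm S.iso.symm ?_ ?_ ?_)
  · show (a.inv ≫ T'.mor₁ ≫ S.iso.hom) ≫ S.iso.inv = a.inv ≫ T'.mor₁
    rw [Category.assoc, Category.assoc]
    exact congrArg (a.inv ≫ ·) ((congrArg (T'.mor₁ ≫ ·) S.iso.hom_inv_id).trans (Category.comp_id _))
  · show (f • 𝟙 ω) ≫ S.iso.inv = S.iso.inv ≫ DerivedCategory.Q.map m
    rw [show m = f • 𝟙 S.E from rfl, Functor.map_smul, CategoryTheory.Functor.map_id, Linear.smul_comp,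
      Linear.comp_smul, Category.id_comp]
    exact congrArg (f • ·) (Category.comp_id _).symm
  · show (S.iso.inv ≫ T'.mor₃ ≫ a.hom⟦(1 : ℤ)⟧') ≫ a.inv⟦(1 : ℤ)⟧' = S.iso.inv ≫ T'.mor₃
    simp [← Functor.map_comp]

end Groth.Agent.S8941
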