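import Groth.Statements.S8942
import Groth.Agent.TwistShriek.Supp
import Groth.Agent.TwistShriek.PerfRpush
import Groth.Agent.DQCohBrown.RightAdjoint
-- import your own Groth.Agent.* helpers here

set_option autoImplicit false
set_option backward.isDefEq.respectTransparency false
set_option maxHeartbeats 800000
set_option synthInstance.maxHeartbeats 200000
universe u
open CategoryTheory CategoryTheory.Limits AlgebraicGeometry
attribute [local instance] HasDerivedCategory.standard
open Dual3

namespace Groth.Agent.S8942

/-- Suppose X and Y are Noetherian schemes and f : X → Y is a morphism that is both proper and perfect,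
and a a right adjoint of Rf_* on D_QCoh (Rf_* assumed to exist and to preserve quasi-coherent
cohomology). If Q in D_QCoh(O_Y) is supported on a closed subset T (all cohomology sheaves vanish on
the open complement V), then a(Q) is supported on f⁻¹(T). -/
theorem result (X Y : Scheme.{u}) [IsNoetherian X] [IsNoetherian Y] (f : X ⟶ Y) [IsProper f] (hperf : MoreMor.IsPerfectMor f) [DCoh.HasRpush f] (hf : DCoh.RpushPreservesQCoh f) (a : DCoh.DQCoh Y ⥤ DCoh.DQCoh X) (adj : DCoh.RpushQ f hf ⊣ a) (V : Y.Opens) (Q : DCoh.DQCoh Y) (hQV : ∀ i : ℤ, IsZero ((DCoh.HD Q.obj i).restrict V.ι)) (i : ℤ) : IsZero ((DCoh.HD (a.obj Q).obj i).restrict (f ⁻¹ᵁ V).ι) := by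
  haveI : CompactSpace X := QuasiCompact.compactSpace_of_compactSpace f
  haveI : QuasiSeparatedSpace X := quasiSeparatedSpace_of_quasiSeparated f
  have hK : Limits.IsZero ((DCoh.restrictD V.ι).obj Q.obj) :=
    Groth.Agent.DCohLib.isZero_of_isZero_HD fun j => (hQV j).of_iso (Groth.Agent.DCohLib.restrictHDIso V.ι Q.obj j)
  have h := Groth.Agent.TwistShriek.isZero_rightAdjoint_restrict f hf a adj
    (Groth.Agent.DQCohBrown.preservesCoproducts_rightAdjoint f hf a adj
      fun E' hE' => Groth.Agent.TwistShriek.isPerfect_rpush_perfectMor f hperf E' hE') V Q hK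
  exact ((DerivedCategory.homologyFunctor _ i).map_isZero h).of_iso
    (Groth.Agent.DCohLib.restrictHDIso (f ⁻¹ᵁ V).ι (a.obj Q).obj i).symm

end Groth.Agent.S8942
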