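import Groth.Statements.S8946
import Groth.Agent.HTLib.Rows

set_option autoImplicit false
set_option backward.isDefEq.respectTransparency false
universe u
open CategoryTheory
open LocCoh

namespace Groth.Agent.S8946

/-- Let A be a Noetherian ring of finite dimension, T ⊆ Spec A a specialization-stable subset, (M_n) an
inverse system of A-modules and i ≥ 0. Suppose m′(m) ≥ m is such that for every p ∈ T: the maps
H^{i-1}_{pA_p}(M_{k,p}) → H^{i-1}_{pA_p}(M_{m,p}) vanish for k ≥ m′(m) (no condition when i = 0),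
and the maps H^i_{pA_p}(M_{k,p}) → H^i_{pA_p}(M_{m,p}) have the same image for all k ≥ m′(m), this
image mapping injectively into H^i_{pA_p}(M_{0,p}). Then there is m₀ such that for every m ≥ m₀
there is m″ ≥ m such that for k ≥ m″ the image of H^i_T(M_k) → H^i_T(M_m) maps injectively into
H^i_T(M_{m₀}). -/
theorem result (A : Type u) [CommRing A] [IsNoetherianRing A] (hA : ringKrullDim A < ⊤) (T : Set (PrimeSpectrum A)) (hT : StableUnderSpecialization T) (M : ℕ → Type u) [∀ n, AddCommGroup (M n)] [∀ n, Module A (M n)] (φ : ∀ k m : ℕ, m ≤ k → (M k →ₗ[A] M m)) (hφ : ∀ (k l m : ℕ) (h₁ : m ≤ l) (h₂ : l ≤ k), φ k m (h₁.trans h₂) = φ l m h₁ ∘ₗ φ k l h₂) (i : ℕ) (m' : ℕ → ℕ) (hm' : ∀ m, m ≤ m' m) (h1 : 0 < i → ∀ (p : PrimeSpectrum A), p ∈ T → ∀ (m k : ℕ) (h : m ≤ k), m' m ≤ k → (localCohomology (IsLocalRing.maximalIdeal (Localization.AtPrime p.asIdeal)) (i - 1)).map (ModuleCat.ofHom (LocalizedModule.map p.asIdeal.primeCompl (φ k m h))) = 0) (h2 : ∀ (p : PrimeSpectrum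 A), p ∈ T → ∀ (m k : ℕ) (h : m ≤ k), m' m ≤ k → LinearMap.range ((localCohomology (IsLocalRing.maximalIdeal (Localization.AtPrime p.asIdeal)) i).map (ModuleCat.ofHom (LocalizedModule.map p.asIdeal.primeCompl (φ k m h)))).hom = LinearMap.range ((localCohomology (IsLocalRing.maximalIdeal (Localization.AtPrime p.asIdeal)) i).map (ModuleCat.ofHom (LocalizedModule.map p.asIdeal.primeCompl (φ (m' m) m (hm' m))))).hom) (h3 : ∀ (p : PrimeSpectrum A), p ∈ T → ∀ (m : ℕ) (x : ↑((localCohomology (IsLocalRing.maximalIdeal (Localization.AtPrime p.asIdeal)) i).obj (ModuleCat.of (Localization.AtPrime p.asIdeal) (LocalizedModule p.asIdeal.primeCompl (M m))))), x ∈ LinearMap.range ((localCohomology (IsLocalRing.maximalIdeal (Localization.AtPrime p.asIdeal)) i).map (ModuleCat.ofHom (LocalizedModule.map p.asIdeal.primeCompl (φ (m' m) m (hm' m))))).hom → ((localCohomology (IsLocalRing.maximalIdeal (Localization.AtPrime p.asIdeal)) i).map (ModuleCat.ofHom (LocalizedModule.map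 p.asIdeal.primeCompl (φ m 0 (Nat.zero_le m))))).hom x = 0 → x = 0) : ∃ m₀ : ℕ, ∀ m : ℕ, ∀ (hm : m₀ ≤ m), ∃ m'' : ℕ, m ≤ m'' ∧ ∀ (k : ℕ) (h : m ≤ k), m'' ≤ k → ∀ x : ↑((localCohomology.ofDiagram (Dual2.idealsInDiagram T) i).obj (ModuleCat.of A (M m))), x ∈ LinearMap.range ((localCohomology.ofDiagram (Dual2.idealsInDiagram T) i).map (ModuleCat.ofHom (φ k m h))).hom → ((localCohomology.ofDiagram (Dual2.idealsInDiagram T) i).map (ModuleCat.ofHom (φ m m₀ hm))).hom x = 0 → x = 0 := by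
  obtain ⟨e, f, hf, hf'⟩ := HTLib.exists_level_of_dim T hA
  obtain ⟨m₀, hm₀⟩ := HTLib.exists_injective_of_kerLe hT f hf φ hφ i m' hm' hf'
    (fun i' hi' q hq m k h hk => by
      obtain rfl : i - 1 = i' := by omega
      exact HTLib.locKills_of_localized q (φ k m h) (h1 (by omega) q hq m k h hk))
    (fun q hq m k h hk => HTLib.kerLe_of_localized q (φ k m h) (φ k 0 (Nat.zero_le k)) fun y hy => by
      have hmem := (h2 q hq m k h hk).le ⟨y, rfl⟩
      refine h3 q hq m _ hmem ?_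
      rw [← hy, hφ k m 0 (Nat.zero_le m) h]
      have hc : LocalizedModule.map q.asIdeal.primeCompl (φ m 0 (Nat.zero_le m) ∘ₗ φ k m h) =
          LocalizedModule.map q.asIdeal.primeCompl (φ m 0 (Nat.zero_le m)) ∘ₗ
            LocalizedModule.map q.asIdeal.primeCompl (φ k m h) := by
        refine LinearMap.ext fun z => ?_
        induction z using LocalizedModule.induction_on with
        | h a s => simp [LocalizedModule.map_mk]
      rw [hc, ModuleCat.ofHom_comp, Functor.map_comp]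
      rfl)
    (e + 1) 0 (zero_add _)
  rw [HTLib.lev_zero] at hm₀
  refine ⟨m₀, fun m hm => ?_⟩
  obtain ⟨N, hN, hk⟩ := hm₀ m hm
  refine ⟨N, hN, fun k h hNk x hx hx0 => ?_⟩
  obtain ⟨y, rfl⟩ := hx
  exact hk k h hNk y ((HTLib.tmap_tmap φ hφ i T hm h y).symm.trans hx0)

end Groth.Agent.S8946
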