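import Groth.Statements.S8947
import Groth.Agent.ShriekAlgLib.CMDualLoc
-- import your own Groth.Agent.* helpers here

set_option autoImplicit false
set_option linter.style.haveILetI false
universe u
open CategoryTheory AlgebraicGeometry
attribute [local instance] HasDerivedCategory.standard
open Dual2 Groth.Agent

namespace Groth.Agent.S8947

/-- Let R → A be a finite type map of Noetherian rings with relative dualizing complex ω_{A/R} =
φ^!(R[0]) (computed through a presentation ψ : R[x_1, …, x_n] → A as RHom_P(A, R ⊗^L_R P)[n], the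
derived base change being assumed to exist and RHom_P(A, −) being a right adjoint of restriction of
scalars). Let p be a prime of R such that R_p is Cohen–Macaulay, and r a natural number bounding the
transcendence degree of κ(q) over κ(R ∩ q) for every minimal prime q of A. Then, S denoting the
image of R ∖ p in A, the localization S⁻¹H^i(ω_{A/R}) is nonzero only if −r ≤ i, and
S⁻¹H^{−r}(ω_{A/R}) satisfies Serre's condition (S_2) as an S⁻¹A-module. -/
theorem result (R A : Type u) [CommRing R] [CommRing A] [IsNoetherianRing R] [IsNoetherianRing A] [Algebra R A] (n : ℕ) (ψ : MvPolynomial (Fin n) R →ₐ[R] A) (hψ : Function.Surjective ψ) [DRing.HasLBaseChange (algebraMap R (MvPolynomial (Fin n) R))] (Rψ : Dual.D (MvPolynomial (Fin n) R) ⥤ Dual.D A) (adj : DRing.restrictD ψ.toRingHom ⊣ Rψ) (p : Ideal R) [p.IsPrime] [LocCoh.IsCohenMacaulayLocalRing (Localization.AtPrime p)] (r : ℕ) (hr : ∀ q : PrimeSpectrum A, q.asIdeal ∈ minimalPrimes A → Dual3.resTrdeg (Spec.map (CommRingCat.ofHom (algebraMap R A)))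 q ≤ (r : Cardinal.{u})) : (∀ i : ℤ, Nontrivial (LocalizedModule (Algebra.algebraMapSubmonoid A p.primeCompl) (Dual.HD A (Dual2.shriekVia n Rψ (Dual.inD R R)) i)) → -(r : ℤ) ≤ i) ∧ LocCoh.HasSk 2 (Localization (Algebra.algebraMapSubmonoid A p.primeCompl)) (LocalizedModule (Algebra.algebraMapSubmonoid A p.primeCompl) (Dual.HD A (Dual2.shriekVia n Rψ (Dual.inD R R)) (-(r : ℤ)))) := by
  let P := MvPolynomial (Fin n) R
  letI : Algebra P A := ψ.toRingHom.toAlgebra
  haveI : Algebra.FiniteType R A := Algebra.FiniteType.of_surjective ψ hψ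
  let L := (DRing.LBaseChange (algebraMap R P)).obj (Dual.inD R R)
  obtain ⟨eU⟩ := ShriekAlgLib.nonempty_lbc_unit R P
  have hW : ShriekAlgLib.IsCoind (algebraMap P A) (Dual.inD P P) (Rψ.obj L) :=
    (ShriekAlgLib.isCoind_of_adj adj L).of_iso eU (Iso.refl _)
  let S := Algebra.algebraMapSubmonoid A p.primeCompl
  have hp : ∀ 𝔮 : PrimeSpectrum (Localization S),
      (𝔮.asIdeal.comap (algebraMap A (Localization S))).under R ≤ p := fun 𝔮 x hx => by
    by_contra hxp
    exact 𝔮.isPrime.ne_top (Ideal.eq_top_of_isUnit_mem _ hx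
      (IsLocalization.map_units (Localization S) (⟨algebraMap R A x, x, hxp, rfl⟩ : S)))
  have hc : ∀ q q' : PrimeSpectrum A, q.asIdeal.under R ≤ p → q' ≤ q → ((n - r : ℕ) : ℕ∞) ≤
      LocCoh.depth (Localization.AtPrime (q'.asIdeal.under P)) (Localization.AtPrime (q'.asIdeal.under P)) :=
    fun q q' hq hle => ShriekAlgLib.le_depth_presentation_of_cm R A n ψ hψ p r hr q'
      ((Ideal.comap_mono hle).trans hq)
  let H : ℤ → Type u := fun i => Dual.HD A (Dual2.shriekVia n Rψ (Dual.inD R R)) i
  have hH : ∀ (i : ℤ) (q : PrimeSpectrum A), Nonempty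
      (LocalizedModule q.asIdeal.primeCompl (Dual.HD A (Rψ.obj L) ((n : ℤ) + i)) ≃ₗ[Localization.AtPrime q.asIdeal]
        LocalizedModule q.asIdeal.primeCompl (Dual.HD A (Dual2.shriekVia n Rψ (Dual.inD R R)) i)) := fun i q =>
    ⟨IsLocalizedModule.mapEquiv q.asIdeal.primeCompl (LocalizedModule.mkLinearMap _ _)
      (LocalizedModule.mkLinearMap _ _) (Localization.AtPrime q.asIdeal)
      (ShriekAlgLib.hdShiftIso A (Rψ.obj L) n i).toLinearEquiv.symm⟩
  have hvan : ∀ (i : ℤ), (n : ℤ) + i < ((n - r : ℕ) : ℤ) → ∀ q : PrimeSpectrum A, q.asIdeal.under R ≤ p →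
      Subsingleton (LocalizedModule q.asIdeal.primeCompl (Dual.HD A (Dual2.shriekVia n Rψ (Dual.inD R R)) i)) :=
    fun i hi q hq => by
      obtain ⟨e⟩ := hH i q
      haveI := ShriekAlgLib.subsingleton_localized_coind (P := P) hψ hW q (n - r) (fun q' hq' => hc q q' hq hq')
        ((n : ℤ) + i) hi
      exact e.symm.toEquiv.subsingleton
  refine ⟨fun i hN => ?_, fun 𝔮 _ => ?_⟩
  · by_contra hi
    refine not_subsingleton_iff_nontrivial.2 hN ?_
    rw [← Module.support_eq_empty_iff (R := Localization S), Set.eq_empty_iff_forall_notMem]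
    intro 𝔮
    rw [Module.notMem_support_iff]
    let q : PrimeSpectrum A := PrimeSpectrum.comap (algebraMap A (Localization S)) 𝔮
    haveI := hvan i (by omega) q (hp 𝔮)
    exact (ShriekAlgLib.fibIso_localized_localized S _ 𝔮.asIdeal q.asIdeal rfl).subsingleton_iff.1 inferInstance
  · let q : PrimeSpectrum A := PrimeSpectrum.comap (algebraMap A (Localization S)) ⟨𝔮, inferInstance⟩
    have hF := ShriekAlgLib.fibIso_localized_localized S
      (Dual.HD A (Dual2.shriekVia n Rψ (Dual.inD R R)) (-(r : ℤ))) 𝔮 q.asIdeal rfl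
    rcases Nat.lt_or_ge n r with hnr | hnr
    · haveI := hvan (-(r : ℤ)) (by omega) q (hp ⟨𝔮, inferInstance⟩)
      haveI := hF.subsingleton_iff.1 inferInstance
      rw [Module.supportDim_eq_bot_of_subsingleton]
      exact (min_le_right _ _).trans bot_le
    haveI := ShriekAlgLib.isCohenMacaulayLocalRing_mvPolynomial_atPrime p n (q.asIdeal.under P) (fun x hx => by
      refine hp ⟨𝔮, inferInstance⟩ ?_
      show algebraMap R A x ∈ q.asIdeal
      rw [← ψ.commutes]
      exact hx)
    obtain ⟨hfin, h⟩ := ShriekAlgLib.min_supportDim_le_depth_localized_coind (P := P) hψ hW q (n - r)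
      (fun q' hq' => hc q q' (hp ⟨𝔮, inferInstance⟩) hq')
    obtain ⟨e⟩ := hH (-(r : ℤ)) q
    rw [show ((n - r : ℕ) : ℤ) = (n : ℤ) + -(r : ℤ) by omega] at h hfin
    rw [Module.supportDim_eq_of_equiv e, CAlgBasics.depth_congr e] at h
    haveI := hfin
    haveI := Module.Finite.equiv e
    haveI := hF.module_finite
    rw [hF.supportDim_eq, hF.depth_eq] at h
    exact h

end Groth.Agent.S8947
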