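import Groth.Statements.S8949
import Groth.Agent.GorLib.FieldExt

set_option autoImplicit false
universe u
open scoped TensorProduct
open Goren

namespace Groth.Agent.S8949

open CategoryTheory CategoryTheory.Limits AlgebraicGeometry

open TensorProduct in
theorem fibres_gorenstein (A B C : Type u) [CommRing A] [CommRing B] [CommRing C] [IsNoetherianRing B]
    [IsNoetherianRing C] [Algebra A B] [Algebra B C] [Algebra A C] [IsScalarTower A B C] [Module.Flat B C]
    (hBC : CAlg.IsRegularHom B C) (q : Ideal A) [q.IsPrime]
    (hq : LocCoh.IsGorensteinRing (q.Fiber B)) : LocCoh.IsGorensteinRing (q.Fiber C) := by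
  let B' := B ⊗[A] q.ResidueField
  haveI : LocCoh.IsGorensteinRing B' :=
    Groth.Agent.GorLib.gorensteinRing_of_ringEquiv (Algebra.TensorProduct.comm A q.ResidueField B).toRingEquiv hq
  let C' := B' ⊗[B] C
  let eC : C' ≃+* q.Fiber C :=
    ((Algebra.TensorProduct.comm B B' C).toRingEquiv.trans
      (Algebra.TensorProduct.cancelBaseChange A B B C q.ResidueField).toRingEquiv).trans
      (Algebra.TensorProduct.comm A C q.ResidueField).toRingEquiv
  haveI : IsNoetherianRing C' := by
    haveI : IsNoetherianRing (C ⊗[A] q.ResidueField) := Algebra.EssFiniteType.isNoetherianRing C _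
    exact isNoetherianRing_of_ringEquiv _
      ((Algebra.TensorProduct.comm A C q.ResidueField).toRingEquiv.trans eC.symm)
  refine Groth.Agent.GorLib.gorensteinRing_of_ringEquiv eC ?_
  refine Groth.Agent.GorLib.gorensteinRing_of_flat_fibres (R := B')
    (fun P _ => LocCoh.IsGorensteinRing.isGorensteinLocalRing_localization _) fun P' _ => ?_
  let P : Ideal B := P'.comap (algebraMap B B')
  letI : Algebra P.ResidueField P'.ResidueField :=
    (Ideal.ResidueField.map P P' (algebraMap B B') rfl).toAlgebra
  haveI : IsScalarTower B P.ResidueField P'.ResidueField := IsScalarTower.of_algebraMap_eq fun b => by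
    show algebraMap B P'.ResidueField b =
      Ideal.ResidueField.map P P' (algebraMap B B') rfl (algebraMap B P.ResidueField b)
    rw [Ideal.ResidueField.map_algebraMap]
    exact IsScalarTower.algebraMap_apply B B' P'.ResidueField b
  haveI : Module.Finite P.ResidueField P'.ResidueField :=
    Module.Finite.of_surjective (Algebra.linearMap P.ResidueField P'.ResidueField)
      ((q.surjectiveOnStalks_residueField.baseChange (S := B)).residueFieldMap_bijective P P' rfl).2
  haveI : IsRegularRing (P'.ResidueField ⊗[P.ResidueField] P.Fiber C) := (hBC.2 P).2 P'.ResidueField inferInstance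
  exact Groth.Agent.GorLib.gorensteinRing_of_ringEquiv
    ((Algebra.TensorProduct.cancelBaseChange B P.ResidueField P.ResidueField P'.ResidueField C).toRingEquiv.trans
      (Algebra.TensorProduct.cancelBaseChange B B' B' P'.ResidueField C).toRingEquiv.symm)
    (Groth.Agent.GorLib.gorensteinRing_of_regular _)

/-- Gorenstein fibres are preserved by composing with a regular map. For flat maps A → B → C of
Noetherian rings, if the fibres of A → B are Gorenstein rings and B → C is regular, then the fibres
of A → C are Gorenstein rings. -/
theorem result (A B C : Type u) [CommRing A] [CommRing B] [CommRing C] [IsNoetherianRing A] [IsNoetherianRing B] [IsNoetherianRing C] [Algebra A B] [Algebra B C] [Algebra A C] [IsScalarTower A B C] [Module.Flat A B] [Module.Flat B C] (hAB : ∀ (q : Ideal A) [q.IsPrime], LocCoh.IsGorensteinRing (q.Fiber B)) (hBC : CAlg.IsRegularHom B C) : ∀ (q : Ideal A) [q.IsPrime], LocCoh.IsGorensteinRing (q.Fiber C) := by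
  intro q _
  exact fibres_gorenstein A B C hBC q (hAB q)

end Groth.Agent.S8949
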