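import Groth.Statements.S8952
import Groth.Agent.TwistShriek.DualizingFieldExt
import Groth.Agent.TwistShriek.ShriekComp
-- import your own Groth.Agent.* helpers here

set_option autoImplicit false
set_option backward.isDefEq.respectTransparency false
set_option maxHeartbeats 800000
set_option synthInstance.maxHeartbeats 200000
universe u
open CategoryTheory CategoryTheory.Limits AlgebraicGeometry
open Groth.Agent
attribute [local instance] HasDerivedCategory.standard
open Dual3

namespace Groth.Agent.S8952

/-- Let X be proper over a field k with structure morphism f factoring as f′ : X → Spec(k′) followed by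
Spec(k′) → Spec(k) for a field extension k′ of k. With a and a′ right adjoints of Rf_* and Rf′_* on
D_QCoh (assumed to exist and to preserve quasi-coherent cohomology) and O, O′ the structure sheaves
of Spec(k), Spec(k′) placed in degree 0, the objects a(O) and a′(O′) of D(O_X) are isomorphic: the
dualizing complex of X computed over k agrees with the one computed over k′. -/
theorem result (k k' : Type u) [Field k] [Field k'] [Algebra k k'] (X : Scheme.{u}) (f : X ⟶ Spec (CommRingCat.of k)) [IsProper f] (f' : X ⟶ Spec (CommRingCat.of k')) (hff' : f' ≫ Spec.map (CommRingCat.ofHom (algebraMap k k')) = f) [DCoh.HasRpush f] (hf : DCoh.RpushPreservesQCoh f) (a : DCoh.DQCoh (Spec (CommRingCat.of k)) ⥤ DCoh.DQCoh X) (adj : DCoh.RpushQ f hf ⊣ a) [DCoh.HasRpush f'] (hf' : DCoh.RpushPreservesQCoh f') (a' : DCoh.DQCoh (Spec (CommRingCat.of k')) ⥤ DCoh.DQCoh X) (adj' : DCoh.RpushQ f' hf' ⊣ a') (O : DCoh.DQCoh (Spec (CommRingCat.of k))) (hO : Nonempty (O.obj ≅ DCoh.inD (Spec (CommRingCat.of k)) (Coh.structureModule (Spec (CommRingCat.of k))))) (O' : DCoh.DQCoh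 (Spec (CommRingCat.of k'))) (hO' : Nonempty (O'.obj ≅ DCoh.inD (Spec (CommRingCat.of k')) (Coh.structureModule (Spec (CommRingCat.of k'))))) : Nonempty ((a.obj O).obj ≅ (a'.obj O').obj) := by
    rcases isEmpty_or_nonempty X with hX | hX
    · have hz : ∀ K : DCoh.D X, IsZero K := fun K =>
        DCohLib.isZero_of_isZero_HD fun i => DCohLib.isZero_of_stalks fun x => isEmptyElim x
      exact ⟨(hz _).iso (hz _)⟩
    haveI : CompactSpace X := QuasiCompact.compactSpace_of_compactSpace f
    haveI : IsLocallyNoetherian X :=
      haveI : IsNoetherianRing (CommRingCat.of k) := inferInstanceAs (IsNoetherianRing k)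
      LocallyOfFiniteType.isLocallyNoetherian f
    obtain ⟨x, -, hx⟩ := TwistShriek.exists_closed_specialization hX.some
    let g := Spec.map (CommRingCat.ofHom (algebraMap k k'))
    haveI : IsJacobsonRing k := inferInstance
    have hfin : (algebraMap k k').Finite := by
      haveI : IsClosedImmersion (X.fromSpecResidueField x) := isClosed_singleton_iff_isClosedImmersion.mp hx
      obtain ⟨φ, hφ⟩ := Spec.map_surjective (X.fromSpecResidueField x ≫ f')
      haveI h1 : IsFinite (X.fromSpecResidueField x ≫ f) :=
        isFinite_iff_locallyOfFiniteType_of_jacobsonSpace.mpr inferInstance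
      rw [← hff', ← Category.assoc, ← hφ, ← Spec.map_comp, IsFinite.SpecMap_iff] at h1
      letI := φ.hom.toAlgebra
      letI : Algebra k (X.residueField x) := (φ.hom.comp (algebraMap k k')).toAlgebra
      haveI : IsScalarTower k k' (X.residueField x) := IsScalarTower.of_algebraMap_eq fun _ => rfl
      haveI : Module.Finite k (X.residueField x) := h1
      haveI : Module.Finite k k' := Module.Finite.of_injective
        (IsScalarTower.toAlgHom k k' (X.residueField x)).toLinearMap φ.hom.injective
      exact RingHom.finite_algebraMap.2 inferInstance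
    haveI : IsFinite g := (IsFinite.SpecMap_iff _).2 hfin
    haveI : IsNoetherianRing (CommRingCat.of k) := inferInstanceAs (IsNoetherianRing k)
    haveI : IsProper f' := by
      haveI : IsProper (f' ≫ g) := hff' ▸ inferInstance
      exact IsProper.of_comp f' g
    haveI := DCohMore.BC.hasRpush g
    haveI := TwistShriek.isLeftAdjoint_rpushQ' g
    let adjg := Adjunction.ofIsLeftAdjoint (DCoh.RpushQ g (TwistShriek.rpushQC g))
    let b := (DCoh.RpushQ g (TwistShriek.rpushQC g)).rightAdjoint
    have key : ∀ (h : X ⟶ Spec (CommRingCat.of k)) (_ : DCoh.HasRpush h), f' ≫ g = h →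
        Nonempty (DCoh.Rpush f' ⋙ DCoh.Rpush g ≅ DCoh.Rpush h) := by
      rintro h _ rfl
      exact DCohLib.nonempty_rpushCompIso f' g
    obtain ⟨cc⟩ := key f inferInstance hff'
    let ccQ : DCoh.RpushQ f' hf' ⋙ DCoh.RpushQ g (TwistShriek.rpushQC g) ≅ DCoh.RpushQ f hf :=
      NatIso.ofComponents (fun K => ObjectProperty.isoMk _ (cc.app K.obj))
        fun φ => ObjectProperty.hom_ext _ (cc.hom.naturality φ.hom)
    let eA : a ≅ b ⋙ a' := adj.rightAdjointUniq ((adj'.comp adjg).ofNatIsoLeft ccQ)
    obtain ⟨eb⟩ := TwistShriek.nonempty_rightAdjoint_field g (TwistShriek.rpushQC g) b adjg O hO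
    exact ⟨(ObjectProperty.ι _).mapIso (eA.app O ≪≫
      a'.mapIso (ObjectProperty.isoMk _ (eb ≪≫ hO'.some.symm)))⟩

end Groth.Agent.S8952
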