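import Groth.Statements.S8953
import Groth.Agent.OmegaShriekLib.Bottom
import Groth.Agent.ShriekAlgLib.OpenImm
import Groth.Agent.ShriekAlgLib.Finite
import Groth.Agent.ShriekAlgLib.RightAdj
import Groth.Agent.DRingLib.FlatBC
import Groth.Agent.DRingLib.RestrictPC
import Groth.Agent.DRingLib.BaseChange
import Groth.Agent.S1799
-- import your own Groth.Agent.* helpers here

set_option autoImplicit false
universe u
open CategoryTheory AlgebraicGeometry
open scoped TensorProduct
attribute [local instance] HasDerivedCategory.standard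
open Disc

namespace Groth.Agent.S8953

open CategoryTheory.Limits
set_option backward.isDefEq.respectTransparency false
set_option linter.style.haveILetI false
set_option maxHeartbeats 1000000

/-- The coinduced complex of the ring in degree zero has no negative cohomology. -/
theorem isGE_coind {A B' : Type u} [CommRing A] [CommRing B'] [Algebra A B'] {R' : Dual.D A ⥤ Dual.D B'}
    (adjR : DRing.restrictD (algebraMap A B') ⊣ R') :
    DerivedCategory.IsGE (R'.obj (Dual.inD A A)) 0 := by
  let t := (DerivedCategory.TStructure.t : Triangulated.TStructure (Dual.D B'))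
  let L := R'.obj (Dual.inD A A)
  refine (t.isGE_iff_isZero_truncLE_obj (-1) 0 (by omega) L).2 ?_
  let T := (t.truncLE (-1)).obj L
  haveI hT : DerivedCategory.IsLE T (-1) := inferInstanceAs (t.IsLE ((t.truncLE (-1)).obj L) (-1))
  haveI : DerivedCategory.IsLE ((DRing.restrictD (algebraMap A B')).obj T) (-1) :=
    (DerivedCategory.isLE_iff _ _).2 fun i hi =>
      IsZero.of_iso (Functor.map_isZero _ (DerivedCategory.isZero_of_isLE T (-1) i hi))
        (DRingLib.hdRestrictIso (algebraMap A B') T i)
  haveI : DerivedCategory.IsGE (Dual.inD A A) 0 :=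
    inferInstanceAs (((DerivedCategory.singleFunctor (ModuleCat.{u} A) 0).obj (ModuleCat.of A A)).IsGE 0)
  have h0 : (t.truncLEι (-1)).app L = 0 := by
    refine (adjR.homEquiv T (Dual.inD A A)).symm.injective ?_
    exact (DerivedCategory.TStructure.t.zero_of_isLE_of_isGE _ (-1) 0 (by omega) inferInstance inferInstance).trans
      (DerivedCategory.TStructure.t.zero_of_isLE_of_isGE _ (-1) 0 (by omega) inferInstance inferInstance).symm
  rw [IsZero.iff_id_eq_zero]
  exact t.to_truncLE_obj_ext (by rw [Category.id_comp, zero_comp]; exact h0)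

/-- The lowest cohomology of the coinduced ring is the module of linear forms. -/
theorem nonempty_hd_coind {A B' : Type u} [CommRing A] [CommRing B'] [Algebra A B'] {R' : Dual.D A ⥤ Dual.D B'}
    (adjR : DRing.restrictD (algebraMap A B') ⊣ R') :
    Nonempty (Dual.HD B' (R'.obj (Dual.inD A A)) 0 ≃ₗ[B'] Disc.Omega A B') := by
  haveI := isGE_coind adjR
  obtain ⟨N, i, hi, hiso⟩ := OmegaShriekLib.exists_bottom (R'.obj (Dual.inD A A))
  let F := ModuleCat.restrictScalars.{u} (algebraMap A B')
  let SA := DerivedCategory.singleFunctor (ModuleCat.{u} A) 0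
  let SB := DerivedCategory.singleFunctor (ModuleCat.{u} B') 0
  let σ : SB ⋙ DRing.restrictD (algebraMap A B') ≅ F ⋙ SA := F.mapDerivedCategorySingleFunctor 0
  let ε := adjR.counit.app (Dual.inD A A)
  obtain ⟨τ, hτ⟩ := SA.map_surjective
    (X := F.obj N) (Y := ModuleCat.of A A) (σ.inv.app N ≫ (DRing.restrictD (algebraMap A B')).map i ≫ ε)
  have hU : ∀ M : ModuleCat.{u} B', Function.Bijective fun g : M ⟶ N => F.map g ≫ τ := fun M => by
    have h1 : Function.Bijective fun g : M ⟶ N =>
        σ.inv.app M ≫ (DRing.restrictD (algebraMap A B')).map (SB.map g ≫ i) ≫ ε := by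
      have hε := (ShriekAlgLib.isCoind_of_adj adjR (Dual.inD A A))
      convert (((σ.symm.app M).homFromEquiv).symm.bijective.comp
        ((adjR.homEquiv (SB.obj M) (Dual.inD A A)).symm.bijective.comp (hi M))) using 1
      funext g
      exact congrArg (σ.inv.app M ≫ ·) (adjR.homEquiv_counit _ _ _).symm
    refine (Function.Bijective.of_comp_iff' (f := SA.map (X := F.obj M) (Y := ModuleCat.of A A))
      ⟨SA.map_injective, SA.map_surjective⟩ _).1 ?_
    convert h1 using 1
    funext g
    show SA.map (F.map g ≫ τ) = _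
    rw [Functor.map_comp, hτ, Functor.map_comp, ← Category.assoc, ← Category.assoc,
      show SA.map (F.map g) ≫ σ.inv.app N = σ.inv.app M ≫ (DRing.restrictD (algebraMap A B')).map (SB.map g)
        from σ.inv.naturality g]
    simp only [Category.assoc]
  let Ω := ModuleCat.of B' (Disc.Omega A B')
  let ev : F.obj Ω ⟶ ModuleCat.of A A := ModuleCat.ofHom (X := F.obj Ω)
    { toFun := fun φ => (show Disc.Omega A B' from φ).toLinearMap 1
      map_add' := fun _ _ => rfl
      map_smul' := fun a φ => by
        show (show Disc.Omega A B' from φ).toLinearMap (algebraMap A B' a * 1) = _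
        rw [← Algebra.smul_def, map_smul]
        rfl }
  have hV : ∀ M : ModuleCat.{u} B', Function.Bijective fun g : M ⟶ Ω => F.map g ≫ ev := fun M => by
    refine ⟨fun g g' h => ModuleCat.hom_ext (LinearMap.ext fun m => Omega.ext (LinearMap.ext fun b => ?_)), fun h => ?_⟩
    · have hb : (g (b • m)).toLinearMap 1 = (g' (b • m)).toLinearMap 1 :=
        congrArg (fun f => f (b • m)) h
      rw [map_smul, map_smul] at hb
      exact (congrArg (g m).toLinearMap (mul_one b)).symm.trans (hb.trans (congrArg (g' m).toLinearMap (mul_one b)))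
    · let h' : M → A := fun m => h m
      have hsmul : ∀ (a : A) (m : M), h' (algebraMap A B' a • m) = a * h' m := fun a m => h.hom.map_smul a m
      have hadd : ∀ m m' : M, h' (m + m') = h' m + h' m' := fun m m' => h.hom.map_add m m'
      refine ⟨ModuleCat.ofHom
        { toFun := fun m => ⟨{ toFun := fun b => h' (b • m)
                               map_add' := fun b b' => by rw [add_smul, hadd]
                               map_smul' := fun a b => by rw [Algebra.smul_def, mul_smul, hsmul]; rfl }⟩
          map_add' := fun m m' => Omega.ext (LinearMap.ext fun b => by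
            show h' (b • (m + m')) = h' (b • m) + h' (b • m')
            rw [smul_add, hadd])
          map_smul' := fun c m => Omega.ext (LinearMap.ext fun b => by
            show h' (b • c • m) = h' ((c * b) • m)
            rw [smul_smul, mul_comm]) }, ?_⟩
      refine ModuleCat.hom_ext (LinearMap.ext fun m => ?_)
      show h' ((1 : B') • m) = h' m
      rw [one_smul]
  obtain ⟨a, ha⟩ := (hV N).2 τ
  obtain ⟨b, hb⟩ := (hU Ω).2 ev
  dsimp only at ha hb
  let e : N ≅ Ω :=
    ⟨a, b, (hU N).1 (show F.map (a ≫ b) ≫ τ = F.map (𝟙 N) ≫ τ by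
        rw [Functor.map_comp, Category.assoc, hb, ha, CategoryTheory.Functor.map_id, Category.id_comp]),
      (hV Ω).1 (show F.map (b ≫ a) ≫ ev = F.map (𝟙 Ω) ≫ ev by
        rw [Functor.map_comp, Category.assoc, ha, hb, CategoryTheory.Functor.map_id, Category.id_comp])⟩
  haveI := hiso
  exact ⟨((asIso ((DerivedCategory.homologyFunctor (ModuleCat.{u} B') 0).map i)).symm ≪≫
    (DerivedCategory.singleFunctorCompHomologyFunctorIso (ModuleCat.{u} B') 0).app N ≪≫ e).toLinearEquiv⟩

/-- Flat base change commutes with cohomology. -/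
theorem nonempty_hd_lbc {A B : Type u} [CommRing A] [CommRing B] [Algebra A B] [Module.Flat A B]
    [DRing.HasLBaseChange (algebraMap A B)] (K : Dual.D A) (i : ℤ) :
    Nonempty (Dual.HD B ((DRing.LBaseChange (algebraMap A B)).obj K) i ≃ₗ[B] B ⊗[A] Dual.HD A K i) := by
  haveI : PreservesFiniteLimits (ModuleCat.extendScalars.{u, u, u} (algebraMap A B)) :=
    ModuleCat.preservesFiniteLimits_extendScalars_of_flat (RingHom.flat_algebraMap_iff.mpr inferInstance)
  let C := DerivedCategory.Q.objPreimage K
  let eK : DRing.toD C ≅ K := DerivedCategory.Q.objObjPreimageIso K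
  let e : (DerivedCategory.homologyFunctor (ModuleCat.{u} B) i).obj ((DRing.LBaseChange (algebraMap A B)).obj K) ≅
      (ModuleCat.extendScalars.{u, u, u} (algebraMap A B)).obj ((DerivedCategory.homologyFunctor (ModuleCat.{u} A) i).obj K) :=
    (DerivedCategory.homologyFunctor _ i).mapIso ((DRing.LBaseChange (algebraMap A B)).mapIso eK.symm ≪≫
      DRingLib.lbcIsoOfFlat (algebraMap A B) (DRingLib.flat_baseMod A B) C) ≪≫
    (DerivedCategory.homologyFunctorFactors _ i).app _ ≪≫
    ShortComplex.mapHomologyIso (C.sc i) (ModuleCat.extendScalars.{u, u, u} (algebraMap A B)) ≪≫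
    (ModuleCat.extendScalars.{u, u, u} (algebraMap A B)).mapIso
      (((DerivedCategory.homologyFunctorFactors _ i).app C).symm ≪≫
        (DerivedCategory.homologyFunctor _ i).mapIso eK)
  exact ⟨e.toLinearEquiv.trans (DRingLib.extendScalarsTensorEquiv A B _)⟩

/-- Let A → B be a quasi-finite map of Noetherian rings, written as a composite A → B′ → B in which the
first map A → B′ is finite and the induced morphism Spec(B) → Spec(B′) is an open immersion, so that
ω_{B/A} = Hom_A(B′, A) ⊗_{B′} B; and let ω^•_{B/A} = φ^!(A[0]) be the algebraic relative dualizing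
complex computed through a presentation ψ : A[x_1, …, x_n] → B (derived base change assumed to
exist, RHom_P(B, −) given as a right adjoint of restriction of scalars). Then there is a
(non-unique) B-linear isomorphism H^0(ω^•_{B/A}) ≅ ω_{B/A}. -/
theorem result (A B B' : Type u) [CommRing A] [CommRing B] [CommRing B'] [IsNoetherianRing A] [IsNoetherianRing B] [Algebra A B] [Algebra A B'] [Algebra B' B] [IsScalarTower A B' B] [Module.Finite A B'] (hopen : IsOpenImmersion (Spec.map (CommRingCat.ofHom (algebraMap B' B)))) (n : ℕ) (ψ : MvPolynomial (Fin n) A →ₐ[A] B) (hψ : Function.Surjective ψ) [DRing.HasLBaseChange (algebraMap A (MvPolynomial (Fin n) A))] (Rψ : Dual.D (MvPolynomial (Fin n) A) ⥤ Dual.D B) (adj : DRing.restrictD ψ.toRingHom ⊣ Rψ) : Nonempty (Dual.HD B (Dual2.shriekVia n Rψ (Dual.inD A A)) 0 ≃ₗ[B] (B ⊗[B'] Disc.Omega A B')) := by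
  haveI : IsNoetherianRing B' := IsNoetherianRing.of_finite A B'
  haveI := hopen
  have hft : (algebraMap B' B).FiniteType :=
    (HasRingHomProperty.Spec_iff (P := @LocallyOfFiniteType) (φ := CommRingCat.ofHom (algebraMap B' B))).1
      inferInstance
  haveI : Algebra.FiniteType B' B := RingHom.finiteType_algebraMap.1 hft
  haveI : Module.Flat B' B := RingHom.flat_algebraMap_iff.1
    ((HasRingHomProperty.Spec_iff (P := @Flat) (φ := CommRingCat.ofHom (algebraMap B' B))).1 inferInstance)
  obtain ⟨m, φ, hφ⟩ := Algebra.FiniteType.iff_quotient_mvPolynomial''.1 (inferInstance : Algebra.FiniteType A B')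
  obtain ⟨l, χ, hχ⟩ := Algebra.FiniteType.iff_quotient_mvPolynomial''.1 (inferInstance : Algebra.FiniteType B' B)
  haveI : DRing.HasLBaseChange (algebraMap A (MvPolynomial (Fin m) A)) := DRingLib.hasLBaseChange _
  haveI : DRing.HasLBaseChange (algebraMap B' (MvPolynomial (Fin l) B')) := DRingLib.hasLBaseChange _
  haveI : DRing.HasLBaseChange (algebraMap B' B) := DRingLib.hasLBaseChange _
  obtain ⟨Rφ, ⟨adjφ⟩⟩ := ShriekAlgLib.exists_rightAdjoint φ.toRingHom
  obtain ⟨Rχ, ⟨adjχ⟩⟩ := ShriekAlgLib.exists_rightAdjoint χ.toRingHom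
  obtain ⟨R', ⟨adjR⟩⟩ := ShriekAlgLib.exists_rightAdjoint (algebraMap A B')
  haveI : DerivedCategory.IsGE (Dual.inD A A) 0 :=
    inferInstanceAs (((DerivedCategory.singleFunctor (ModuleCat.{u} A) 0).obj (ModuleCat.of A A)).IsGE 0)
  obtain ⟨e₁⟩ := S1799.result A B' B m φ hφ Rφ adjφ l χ hχ Rχ adjχ n ψ hψ Rψ adj (Dual.inD A A) 0
    fun i hi => ModuleCat.subsingleton_of_isZero (DerivedCategory.isZero_of_isGE _ 0 i hi)
  obtain ⟨e₂⟩ := ShriekAlgLib.shriekVia_openImmersion B' B l χ hχ Rχ adjχ (Dual2.shriekVia m Rφ (Dual.inD A A))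
  obtain ⟨e₃⟩ := ShriekAlgLib.shriekVia_of_finite A B' m φ Rφ adjφ R' adjR (Dual.inD A A)
  obtain ⟨f₁⟩ := nonempty_hd_lbc (B := B) (R'.obj (Dual.inD A A)) 0
  obtain ⟨f₂⟩ := nonempty_hd_coind adjR
  exact ⟨(((DerivedCategory.homologyFunctor (ModuleCat.{u} B) 0).mapIso
    (e₁ ≪≫ e₂ ≪≫ (DRing.LBaseChange (algebraMap B' B)).mapIso e₃)).toLinearEquiv.trans f₁).trans
      (TensorProduct.AlgebraTensorModule.congr (LinearEquiv.refl B B) f₂)⟩

end Groth.Agent.S8953
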