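import Groth.Statements.S8955
import Groth.Agent.RigidLib.DerExt

set_option autoImplicit false
universe u
open CategoryTheory AlgebraicGeometry
open LocCoh

namespace Groth.Agent.S8955

set_option backward.isDefEq.respectTransparency false
set_option linter.style.haveILetI false
open Opposite

/-- A derivation of `A` extends to every formally étale algebra. -/
theorem exists_ext_derivation {A B : Type u} [CommRing A] [CommRing B] [Algebra A B] [Algebra.FormallyEtale A B]
    (θ : Derivation ℤ A A) :
    ∃ D : B →+ B, (∀ x y, D (x * y) = x * D y + y * D x) ∧ ∀ a, D (algebraMap A B a) = algebraMap A B (θ a) := by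
  let f : Ω[A⁄ℤ] →ₗ[A] B := (Algebra.linearMap A B) ∘ₗ θ.liftKaehlerDifferential
  let L : Ω[B⁄ℤ] →ₗ[B] B := (f.liftBaseChange B) ∘ₗ
    (KaehlerDifferential.tensorKaehlerEquivOfFormallyEtale ℤ A B).symm.toLinearMap
  refine ⟨AddMonoidHom.mk' (fun b => L (KaehlerDifferential.D ℤ B b)) (fun x y => by rw [map_add, map_add]),
    fun x y => ?_, fun a => ?_⟩
  · show L (KaehlerDifferential.D ℤ B (x * y)) = _
    rw [Derivation.leibniz, map_add, map_smul, map_smul]
    rfl
  · show (f.liftBaseChange B) ((KaehlerDifferential.tensorKaehlerEquivOfFormallyEtale ℤ A B).symm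
      (KaehlerDifferential.D ℤ B (algebraMap A B a))) = _
    rw [KaehlerDifferential.tensorKaehlerEquivOfFormallyEtale_symm_D_algebraMap, LinearMap.liftBaseChange_tmul,
      one_smul]
    show algebraMap A B (θ.liftKaehlerDifferential (KaehlerDifferential.D ℤ A a)) = _
    rw [Derivation.liftKaehlerDifferential_comp_D]

/-- Derivations out of a formally unramified algebra are determined on the base. -/
theorem derivation_eq_zero {A B C : Type u} [CommRing A] [CommRing B] [CommRing C] [Algebra A B]
    [Algebra.FormallyUnramified A B] (r : B →+* C) (D : B →+ C)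
    (hmul : ∀ x y, D (x * y) = r x * D y + r y * D x) (hA : ∀ a, D (algebraMap A B a) = 0) (b : B) : D b = 0 := by
  letI := r.toAlgebra
  letI : Algebra A C := (r.comp (algebraMap A B)).toAlgebra
  haveI : IsScalarTower A B C := IsScalarTower.of_algebraMap_eq fun _ => rfl
  let D' : Derivation A B C :=
    { toFun := D
      map_add' := map_add D
      map_smul' := fun a x => by
        show D (a • x) = a • D x
        rw [Algebra.smul_def, hmul, hA, mul_zero, add_zero]
        rfl
      map_one_eq_zero' := by
        show D 1 = 0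
        rw [← map_one (algebraMap A B), hA]
      leibniz' := fun x y => hmul x y }
  have h : D'.liftKaehlerDifferential = 0 :=
    LinearMap.ext fun z => by rw [Subsingleton.elim z 0, map_zero, map_zero]
  show D' b = 0
  rw [← D'.liftKaehlerDifferential_comp_D b, h]
  rfl

/-- For a ring A, a scheme V quasi-compact, separated and étale over Spec A, and a derivation θ of A,
each cohomology module H^i(V, O_V) carries an additive operator D with D(a • ξ) = θ(a) • ξ + a •
D(ξ) (existence only). (The published statement allows V quasi-separated; this row takes V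
separated.) -/
theorem result (A : Type u) [CommRing A] (V : Scheme.{u}) [V.Over (Spec (CommRingCat.of A))] [QuasiCompact (V ↘ Spec (CommRingCat.of A))] [IsSeparated (V ↘ Spec (CommRingCat.of A))] [Etale (V ↘ Spec (CommRingCat.of A))] (θ : Derivation ℤ A A) (i : ℕ) : ∃ D : Coh.HH V (Coh.structureModule V) i →+ Coh.HH V (Coh.structureModule V) i, ∀ (a : A) (ξ : Coh.HH V (Coh.structureModule V) i), D (a • ξ) = θ a • ξ + a • D ξ := by
  let f := V ↘ Spec (CommRingCat.of A)
  let W : V.affineOpens → V.Opens := fun U => U.1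
  have hW : TopologicalSpace.Opens.IsBasis (Set.range W) := by
    have := V.isBasis_affineOpens
    rwa [show Set.range W = V.affineOpens from Subtype.range_coe]
  let ρ : ∀ U : V.Opens, A →+* Γ(V, U) := fun U => (Coh.resTop V (op U)).comp (Coh.toGlobal f)
  have het : ∀ U : V.affineOpens, @Algebra.FormallyEtale A Γ(V, U.1) _ _ (ρ U.1).toAlgebra := fun U => by
    have h1 := HasRingHomProperty.appLE @Etale f inferInstance
      ⟨⊤, isAffineOpen_top (Spec (CommRingCat.of A))⟩ U le_top
    have h2 : (ρ U.1).Etale := RingHom.Etale.stableUnderComposition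
      (Scheme.ΓSpecIso (CommRingCat.of A)).inv.hom _ (RingHom.Etale.of_bijective
      (ConcreteCategory.bijective_of_isIso (Scheme.ΓSpecIso (CommRingCat.of A)).inv)) h1
    exact h2.toAlgebra.formallyEtale
  have hex : ∀ U : V.affineOpens, ∃ D : Γ(V, U.1) →+ Γ(V, U.1),
      (∀ x y, D (x * y) = x * D y + y * D x) ∧ ∀ a, D (ρ U.1 a) = ρ U.1 (θ a) := fun U => by
    letI := (ρ U.1).toAlgebra
    haveI := het U
    exact exists_ext_derivation θ
  choose δ hmul hθ using hex
  have hρ : ∀ (U U' : V.Opens) (h : U' ≤ U) (a : A),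
      V.presheaf.map (homOfLE h).op (ρ U a) = ρ U' a := fun U U' h a =>
    Coh.resTop_comp (op U) (op U') (homOfLE h).op (Coh.toGlobal f a)
  have hnat : ∀ i j (h : W j ≤ W i) (b : Γ(V, W i)),
      δ j (V.presheaf.map (homOfLE h).op b) = V.presheaf.map (homOfLE h).op (δ i b) := by
    intro i j h b
    letI := (ρ i.1).toAlgebra
    haveI := het i
    haveI : Algebra.FormallyUnramified A Γ(V, i.1) := inferInstance
    let r : Γ(V, W i) →+* Γ(V, W j) := (V.presheaf.map (homOfLE h).op).hom
    refine sub_eq_zero.1 (derivation_eq_zero (A := A) r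
      ((δ j).comp r.toAddMonoidHom - r.toAddMonoidHom.comp (δ i)) (fun x y => ?_) (fun a => ?_) b)
    · show δ j (r (x * y)) - r (δ i (x * y)) = r x * (δ j (r y) - r (δ i y)) + r y * (δ j (r x) - r (δ i x))
      rw [map_mul r, hmul, hmul, map_add r, map_mul r, map_mul r]
      ring
    · show δ j (r (ρ i.1 a)) - r (δ i (ρ i.1 a)) = 0
      rw [hθ, show r (ρ i.1 a) = ρ j.1 a from hρ _ _ h a, show r (ρ i.1 (θ a)) = ρ j.1 (θ a) from hρ _ _ h _,
        hθ, sub_self]
  let Δ : Coh.toAb (Coh.structureModule V) ⟶ Coh.toAb (Coh.structureModule V) :=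
    ⟨RigidLib.extend W hW δ hnat⟩
  let g := Coh.toGlobal f
  have key : ∀ a : A, Coh.smulAb (Coh.structureModule V) (g a) ≫ Δ =
      Δ ≫ Coh.smulAb (Coh.structureModule V) (g a) + Coh.smulAb (Coh.structureModule V) (g (θ a)) := by
    intro a
    ext U t
    let t' : Γ(V, U.unop) := t
    show RigidLib.extendApp W hW δ hnat U.unop (ρ U.unop a * t') =
      (ρ U.unop a * RigidLib.extendApp W hW δ hnat U.unop t' + ρ U.unop (θ a) * t' : Γ(V, U.unop))
    refine RigidLib.eq_of_basis W U.unop (fun k hk => ?_) hW
    simp only [map_add, map_mul, ← RigidLib.extendApp_res, RigidLib.extendApp_basis, hρ]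
    refine (hmul k (ρ k.1 a) _).trans ?_
    rw [hθ]
    dsimp only [W]
    ring
  refine ⟨AddMonoidHom.mk' (fun ξ => Sheaf.H.map Δ i ξ) (fun x y => map_add _ x y), fun a ξ => ?_⟩
  show Sheaf.H.map Δ i (Sheaf.H.map (Coh.smulAb _ (g a)) i ξ) =
    Sheaf.H.map (Coh.smulAb _ (g (θ a))) i ξ + Sheaf.H.map (Coh.smulAb _ (g a)) i (Sheaf.H.map Δ i ξ)
  rw [← Sheaf.H.map_comp_apply, key, Sheaf.H.map_add_apply, Sheaf.H.map_comp_apply, add_comm]

end Groth.Agent.S8955
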