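import Groth.Statements.S8957
import Groth.Agent.TateLib.TraceForm
import Groth.Agent.TateLib.GlobalCI
import Groth.Agent.FittLib.BaseChange
import Groth.Agent.DiscLib.Diff
import Groth.Agent.QFDualLib.Different

set_option autoImplicit false
universe u
open Disc

namespace Groth.Agent.S8957

open TensorProduct MvPolynomial

attribute [local instance] Algebra.TensorProduct.rightAlgebra

theorem fitting_eq {A : Type u} [CommRing A] {B : Type u} [CommRing B] [Algebra A B] {σ : Type u} [Fintype σ]
    [DecidableEq σ] (π : MvPolynomial σ A →ₐ[A] B) (r : σ → MvPolynomial σ A) (hπ : Function.Surjective π)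
    (hker : RingHom.ker π = Ideal.span (Set.range r)) :
    Fitt.ideal B (KaehlerDifferential A B) 0 = Ideal.span {TateLib.jac π r} := by
  classical
  letI := π.toRingHom.toAlgebra
  haveI : IsScalarTower A (MvPolynomial σ A) B := IsScalarTower.of_algebraMap_eq fun a => (π.commutes a).symm
  let J : Matrix σ σ B := Matrix.of fun i j => π (pderiv j (r i))
  let E := Fintype.equivFin σ
  let x : Fin (Fintype.card σ) → KaehlerDifferential A B := fun i => KaehlerDifferential.D A B (π (X (E.symm i)))
  have hD : ∀ p, KaehlerDifferential.D A B (π p) = ∑ s, π (pderiv s p) • KaehlerDifferential.D A B (π (X s)) := by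
    intro p
    induction p using MvPolynomial.induction_on with
    | C a => simp [← algebraMap_eq]
    | add p q hp hq => simp only [map_add, hp, hq, add_smul, Finset.sum_add_distrib]
    | mul_X p i hp =>
      rw [map_mul, Derivation.leibniz, hp, Finset.smul_sum]
      simp only [Derivation.leibniz, map_add, smul_eq_mul, map_mul, add_smul, Finset.sum_add_distrib, mul_smul]
      congr 1
      rw [Finset.sum_eq_single i]
      · rw [pderiv_X_self, map_one, one_smul]
      · intro s _ hs; rw [pderiv_X_of_ne (Ne.symm hs), map_zero, zero_smul, smul_zero]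
      · simp
  have hx : Submodule.span B (Set.range x) = ⊤ := by
    rw [eq_top_iff, ← KaehlerDifferential.span_range_derivation, Submodule.span_le]
    rintro _ ⟨b, rfl⟩
    obtain ⟨p, rfl⟩ := hπ b
    rw [hD, SetLike.mem_coe]
    refine Submodule.sum_mem _ fun s _ => Submodule.smul_mem _ _ (Submodule.subset_span ⟨E s, ?_⟩)
    simp [x]
  let Row : Submodule B (σ → B) := Submodule.span B (Set.range fun i => J i)
  let dP : Derivation A (MvPolynomial σ A) ((σ → B) ⧸ Row) :=
    MvPolynomial.mkDerivation A fun s => Row.mkQ (Pi.single s 1)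
  have hdP : ∀ p, dP p = Row.mkQ (fun s => π (pderiv s p)) := by
    intro p
    induction p using MvPolynomial.induction_on with
    | C a =>
      rw [show (fun s => π (pderiv s (C a : MvPolynomial σ A))) = 0 from funext fun s => by simp, map_zero,
        ← algebraMap_eq, Derivation.map_algebraMap]
    | add p q hp hq =>
      rw [map_add, hp, hq, ← map_add]
      congr 1
      funext s
      simp
    | mul_X p i hp =>
      rw [Derivation.leibniz, hp, mkDerivation_X, ← LinearMap.map_smul_of_tower, ← LinearMap.map_smul_of_tower, ← map_add]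
      congr 1
      funext s
      simp only [Pi.add_apply, Pi.smul_apply, Derivation.leibniz, smul_eq_mul, map_add, map_mul]
      rw [Algebra.smul_def p, Algebra.smul_def (X i : MvPolynomial σ A)]
      show π p * _ + π (X i) * _ = _
      by_cases h : s = i
      · subst h; rw [Pi.single_eq_same, pderiv_X_self, map_one]
      · rw [Pi.single_eq_of_ne h, pderiv_X_of_ne (Ne.symm h), map_zero]
  have hkill : ∀ p ∈ RingHom.ker π, dP p = 0 := by
    intro p hp
    rw [hker] at hp
    obtain ⟨c, rfl⟩ := Ideal.mem_span_range_iff_exists_fun.1 hp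
    rw [map_sum]
    refine Finset.sum_eq_zero fun l _ => ?_
    rw [Derivation.leibniz, hdP (r l), show Row.mkQ (fun s => π (pderiv s (r l))) = 0 from
      (Submodule.Quotient.mk_eq_zero _).2 (Submodule.subset_span ⟨l, rfl⟩), smul_zero, zero_add,
      ← IsScalarTower.algebraMap_smul B (r l) (dP (c l)),
      show algebraMap (MvPolynomial σ A) B (r l) = 0 from RingHom.mem_ker.1 (hker.symm ▸ Ideal.subset_span ⟨l, rfl⟩),
      zero_smul]
  choose g hg using hπ
  have hwd : ∀ p, dP (g (π p)) = dP p := fun p => by
    rw [← sub_eq_zero, ← map_sub]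
    exact hkill _ (by rw [RingHom.mem_ker, map_sub, hg, sub_self])
  let dB : Derivation A B ((σ → B) ⧸ Row) :=
    Derivation.mk'
      { toFun := fun b => dP (g b)
        map_add' := fun a b => by
          obtain ⟨p, rfl⟩ : ∃ p, π p = a := ⟨g a, hg a⟩
          obtain ⟨q, rfl⟩ : ∃ q, π q = b := ⟨g b, hg b⟩
          rw [← map_add π, hwd, hwd, hwd, map_add]
        map_smul' := fun a b => by
          obtain ⟨q, rfl⟩ : ∃ q, π q = b := ⟨g b, hg b⟩
          rw [← map_smul π, hwd, hwd, RingHom.id_apply]
          exact dP.map_smul a q }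
      fun a b => by
        obtain ⟨p, rfl⟩ : ∃ p, π p = a := ⟨g a, hg a⟩
        obtain ⟨q, rfl⟩ : ∃ q, π q = b := ⟨g b, hg b⟩
        show dP (g (π p * π q)) = π p • dP (g (π q)) + π q • dP (g (π p))
        rw [← map_mul, hwd, hwd, hwd, Derivation.leibniz, ← IsScalarTower.algebraMap_smul B p (dP q),
          ← IsScalarTower.algebraMap_smul B q (dP p)]
        rfl
  let Λ := dB.liftKaehlerDifferential
  have hΛ : ∀ s, Λ (KaehlerDifferential.D A B (π (X s))) = Row.mkQ (Pi.single s 1) := fun s => by
    rw [Derivation.liftKaehlerDifferential_comp_D]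
    show dP (g (π (X s))) = _
    rw [hwd, mkDerivation_X]
  have hrel : ∀ v, v ∈ FittLib.Rel (R := B) x → (fun s => v (E s)) ∈ Row := by
    intro v hv
    have h := congrArg Λ (FittLib.mem_rel.1 hv)
    rw [map_sum, map_zero] at h
    rw [← Submodule.Quotient.mk_eq_zero, show (fun s => v (E s)) = ∑ j, v j • Pi.single (E.symm j) (1 : B) from ?_]
    · rw [← h, ← Submodule.mkQ_apply, map_sum]
      exact Finset.sum_congr rfl fun j _ => by rw [map_smul, map_smul, hΛ]
    · funext s
      rw [Finset.sum_apply, Finset.sum_eq_single (E s)]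
      · simp
      · intro j _ hj
        rw [Pi.smul_apply, Pi.single_eq_of_ne (fun h => hj (by rw [h, Equiv.apply_symm_apply])), smul_zero]
      · simp
  rw [FittLib.ideal_eq_D x hx]
  refine le_antisymm (Ideal.span_le.2 ?_) ?_
  · rintro _ ⟨a, T, hT, ha, rfl⟩
    have hT' : T = Finset.univ := Finset.eq_univ_of_card _ (le_antisymm (Finset.card_le_univ T) (by simpa using hT))
    choose w hw using fun i => (Submodule.mem_span_range_iff_exists_fun B).1 (hrel _ (ha i (hT' ▸ Finset.mem_univ i)))
    have hmat : a.submatrix E E = (Matrix.of w).submatrix E id * J := by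
      ext s t
      have := congrFun (hw (E s)) t
      rw [Matrix.mul_apply]
      simpa [Finset.sum_apply] using this.symm
    rw [SetLike.mem_coe, Ideal.mem_span_singleton, ← Matrix.det_submatrix_equiv_self E a, hmat, Matrix.det_mul]
    exact dvd_mul_left _ _
  · rw [Ideal.span_singleton_le_iff_mem]
    rw [show TateLib.jac π r = (J.submatrix E.symm E.symm).det from (Matrix.det_submatrix_equiv_self E.symm J).symm]
    refine FittLib.det_mem_D Finset.univ (by simp) fun i _ => FittLib.mem_rel.2 ?_
    have h := hD (r (E.symm i))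
    rw [show π (r (E.symm i)) = 0 from RingHom.mem_ker.1 (hker.symm ▸ Ideal.subset_span ⟨_, rfl⟩), map_zero] at h
    rw [← E.symm.sum_comp] at h
    exact h.symm

theorem different_eq {A : Type u} [CommRing A] {B : Type u} [CommRing B] [Algebra A B] [Module.Finite A B]
    [Module.Free A B] {σ : Type u} [Fintype σ] [DecidableEq σ] (π : MvPolynomial σ A →ₐ[A] B)
    (r : σ → MvPolynomial σ A) (hπ : Function.Surjective π)
    (hker : RingHom.ker π = Ideal.span (Set.range r)) :
    QFDual.different B (Disc.Omega.trace A B) = Ideal.span {TateLib.jac π r} := by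
  obtain ⟨e, he⟩ := TateLib.exists_omega_equiv π r hker hπ
  ext b
  rw [QFDual.mem_different_iff, Ideal.mem_span_singleton']
  constructor
  · intro h
    obtain ⟨c, hc⟩ := h (e 1)
    refine ⟨c, e.injective ?_⟩
    rw [← smul_eq_mul, map_smul, he, hc, ← map_smul, smul_eq_mul, mul_one]
  · rintro ⟨c, rfl⟩ l
    obtain ⟨z, rfl⟩ := e.surjective l
    exact ⟨c * z, by rw [← he, ← map_smul, ← map_smul, smul_eq_mul, smul_eq_mul]; congr 1; ring⟩

theorem le_of_forall_localization {A B : Type u} [CommRing A] [CommRing B] [Algebra A B] {D F : Ideal B}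
    (h : ∀ (p : Ideal A) [p.IsMaximal], D.map (algebraMap B (Localization.AtPrime p ⊗[A] B)) ≤
      F.map (algebraMap B (Localization.AtPrime p ⊗[A] B))) : D ≤ F := by
  intro x hx
  let N : Ideal A :=
    { carrier := {a | a • x ∈ F}
      zero_mem' := by simp
      add_mem' := fun {a b} ha hb => by show (a + b) • x ∈ F; rw [add_smul]; exact add_mem ha hb
      smul_mem' := fun c a (ha : a • x ∈ F) => by
        show (c * a) • x ∈ F
        rw [mul_smul, Algebra.smul_def c]
        exact Ideal.mul_mem_left _ _ ha }
  suffices N = ⊤ by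
    have h1 : (1 : A) • x ∈ F := (this ▸ Submodule.mem_top : (1 : A) ∈ N)
    rwa [one_smul] at h1
  by_contra hN
  obtain ⟨p, hp, hNp⟩ := Ideal.exists_le_maximal N hN
  haveI : IsLocalization (Algebra.algebraMapSubmonoid B p.primeCompl) (Localization.AtPrime p ⊗[A] B) :=
    (Algebra.isLocalization_iff_isPushout p.primeCompl (Localization.AtPrime p)).mpr inferInstance
  obtain ⟨⟨⟨f, hf⟩, ⟨_, s, hs, rfl⟩⟩, he⟩ :=
    (IsLocalization.mem_map_algebraMap_iff (Algebra.algebraMapSubmonoid B p.primeCompl) _).1
      (h p (Ideal.mem_map_of_mem _ hx))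
  rw [← map_mul] at he
  obtain ⟨⟨_, t, ht, rfl⟩, hc⟩ := IsLocalization.exists_of_eq (M := Algebra.algebraMapSubmonoid B p.primeCompl) he
  refine (mul_mem ht hs : t * s ∈ p.primeCompl) (hNp ?_)
  show (t * s) • x ∈ F
  rw [Algebra.smul_def, map_mul, mul_assoc, mul_comm _ x]
  simp only at hc
  rw [hc]
  exact Ideal.mul_mem_left _ _ hf

theorem different_eq_fitting (A B : Type u) [CommRing A] [CommRing B] [Algebra A B] [Module.Finite A B]
    [Module.Free A B] (h : Synt.IsSyntomic A B) :
    QFDual.different B (Disc.Omega.trace A B) = Fitt.ideal B (KaehlerDifferential A B) 0 := by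
  classical
  haveI : Algebra.FiniteType A B := inferInstance
  suffices H : ∀ (p : Ideal A) [p.IsMaximal],
      (QFDual.different B (Disc.Omega.trace A B)).map (algebraMap B (Localization.AtPrime p ⊗[A] B)) =
        (Fitt.ideal B (KaehlerDifferential A B) 0).map (algebraMap B (Localization.AtPrime p ⊗[A] B)) from
    le_antisymm (le_of_forall_localization fun p _ => (H p).le) (le_of_forall_localization fun p _ => (H p).ge)
  intro p _
  let A' := Localization.AtPrime p
  let B' := A' ⊗[A] B
  let φ : B' →ₐ[A'] p.Fiber B :=
    Algebra.TensorProduct.map (IsScalarTower.toAlgHom A' A' p.ResidueField) (AlgHom.id A B)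
  have hk : Function.Surjective (algebraMap A' p.ResidueField) := IsLocalRing.residue_surjective
  have hφ : Function.Surjective φ := by
    intro z
    induction z using TensorProduct.induction_on with
    | zero => exact ⟨0, map_zero _⟩
    | tmul c b => obtain ⟨a, rfl⟩ := hk c; exact ⟨a ⊗ₜ b, rfl⟩
    | add x y hx hy => obtain ⟨a, rfl⟩ := hx; obtain ⟨b, rfl⟩ := hy; exact ⟨a + b, map_add _ _ _⟩
  have hφk : RingHom.ker φ ≤ (RingHom.ker (algebraMap A' p.ResidueField)).map (algebraMap A' B') := by
    let g : A' →ₐ[A'] p.ResidueField := IsScalarTower.toAlgHom A' A' p.ResidueField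
    have := Algebra.TensorProduct.rTensor_ker (R := A) (C := B) g hk
    exact this.le
  obtain ⟨σ, _, π, r, hπ, hker⟩ := TateLib.exists_presentation_of_fibre (A := A') hk φ hφ hφk (h.2.2 ⟨p, inferInstance⟩)
  have hB : Algebra.IsPushout A A' B B' := inferInstance
  obtain ⟨_, _, f, hf, hftr⟩ := QFDualLib.exists_isBaseChange_omega hB
  haveI : Module.Finite B (Disc.Omega A B) := QFDualLib.omega_finite
  haveI : Module.Flat B B' := by
    haveI : IsLocalization (Algebra.algebraMapSubmonoid B p.primeCompl) B' :=
      (Algebra.isLocalization_iff_isPushout p.primeCompl A').mpr (Algebra.IsPushout.symm hB)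
    exact IsLocalization.flat B' (Algebra.algebraMapSubmonoid B p.primeCompl)
  rw [← FittLib.ideal_baseChange B',
    FittLib.ideal_eq_of_equiv (KaehlerDifferential.tensorKaehlerEquiv A A' B B'),
    fitting_eq π r hπ hker, ← different_eq π r hπ hker]
  refine le_antisymm ?_ ?_
  · have := QFDualLib.map_different_le hf (Disc.Omega.trace A B)
    rwa [hftr] at this
  · have := QFDualLib.different_le_map_of_flat hf (Disc.Omega.trace A B)
    rwa [hftr] at this

/-- Affine case of a finite free syntomic morphism. Let A be a Noetherian ring and B a finite free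
A-algebra with A → B syntomic. Then the different of B over A (the elements b with b · Hom_A(B, A) ⊆
B · Trace_{B/A}) coincides, as a subset of B, with the Kähler different Fit_0(Ω_{B/A}). (The
published statement is for a flat quasi-finite local complete intersection morphism of Noetherian
schemes and the different as an ideal sheaf; this row is its affine finite free case, where the
relative dualizing module is Hom_A(B, A) and the trace element is the trace.) -/
theorem result (A B : Type u) [CommRing A] [CommRing B] [Algebra A B] [IsNoetherianRing A] [Module.Finite A B] [Module.Free A B] (h : Synt.IsSyntomic A B) : Disc.differentSet A B = (Fitt.ideal B (KaehlerDifferential A B) 0 : Set B) := by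
  ext b
  rw [DiscLib.mem_differentSet_iff, SetLike.mem_coe, ← different_eq_fitting A B h, QFDual.mem_different_iff]
  exact forall_congr' fun l => ⟨fun ⟨c, hc⟩ => ⟨c, hc.symm⟩, fun ⟨c, hc⟩ => ⟨c, hc.symm⟩⟩

end Groth.Agent.S8957
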