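import Groth.Statements.S8964
import Groth.Agent.QFOmegaSynLib.Local
-- import your own Groth.Agent.* helpers here

set_option autoImplicit false
universe u
open TensorProduct
open QFDual

namespace Groth.Agent.S8964

/-- A quasi-finite syntomic map has an invertible relative dualizing module. Let A be a Noetherian ring
and A → B a syntomic ring map (flat, of finite presentation, with fibres local complete
intersections), and suppose it factors through an intermediate ring B', with A → B' a finite map and
the induced morphism Spec B → Spec B' an open immersion, so that A → B is quasi-finite and ω_{B/A} =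
B ⊗_{B'} Hom_A(B', A). Then ω_{B/A} is an invertible B-module. (The published statement is for a
locally quasi-finite syntomic morphism of locally Noetherian schemes and the sheaf ω_{Y/X}; this row
is its form over a pair of affine opens.) -/
theorem result (A B' B : Type u) [CommRing A] [CommRing B'] [CommRing B] [IsNoetherianRing A] [Algebra A B'] [Algebra B' B] [Algebra A B] [IsScalarTower A B' B] (hf : QFDual.IsQFFactor A B' B) (hs : Synt.IsSyntomic A B) : Module.Invertible B (QFDual.omega A B' B) := by
  classical
  haveI := hf.finite
  refine Groth.Agent.S2217.invertible_of_cover fun m hm => ?_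
  haveI := hm.isPrime
  obtain ⟨t, s, hsm, h1, h2⟩ := QFOmegaSynLib.exists_generator hf.isOpenImmersion hs m
  choose c hc using h1
  have uniq : ∀ a a' : B', a • t = a' • t → s * a = s * a' := fun a a' ha => sub_eq_zero.1 (by
    rw [← mul_sub]; exact h2 _ (by rw [sub_smul, ha, sub_self]))
  let φ : Disc.Omega A B' →ₗ[B'] B' :=
    { toFun := fun l => s * c l
      map_add' := fun l l' => by
        rw [← mul_add]; exact uniq _ _ (by rw [← hc, add_smul, ← hc, ← hc, smul_add])
      map_smul' := fun r l => by
        rw [RingHom.id_apply, smul_eq_mul, mul_left_comm]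
        exact uniq _ _ (by rw [← hc, mul_smul, ← hc, smul_comm]) }
  have hφt : φ t = s ^ 2 := by
    show s * c t = _
    rw [sq]
    exact uniq _ _ (hc t).symm
  refine ⟨(1 : B) ⊗ₜ[B'] t, algebraMap B' B (s ^ 2), ?_, fun z => ?_, fun b hb => ?_⟩
  · rw [map_pow]
    exact fun h => hsm (hm.isPrime.mem_of_pow_mem 2 h)
  · induction z using TensorProduct.induction_on with
    | zero => exact ⟨0, by simp⟩
    | add x y hx hy =>
      obtain ⟨a, ha⟩ := hx
      obtain ⟨b, hb⟩ := hy
      exact ⟨a + b, by rw [smul_add, add_smul, ha, hb]⟩
    | tmul a l =>
      refine ⟨a * algebraMap B' B (s * c l), ?_⟩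
      rw [algebraMap_smul, ← TensorProduct.tmul_smul, show s ^ 2 • l = (s * c l) • t by
        rw [sq, mul_smul, hc l, ← mul_smul], ← TensorProduct.smul_tmul, Algebra.smul_def,
        mul_comm (algebraMap B' B (s * c l)) a, TensorProduct.smul_tmul', smul_eq_mul]
      congr 1
      exact (mul_one _).symm
  · have h := congrArg (φ.baseChange B) hb
    rw [map_smul, LinearMap.baseChange_tmul, hφt, map_zero] at h
    have h' := congrArg (TensorProduct.rid B' B) h
    rw [map_zero, TensorProduct.smul_tmul', TensorProduct.rid_tmul, Algebra.smul_def, smul_eq_mul, mul_one] at h'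
    exact h'

end Groth.Agent.S8964
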