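import Groth.Statements.S8967
import Groth.Agent.QFDualLib.Different
-- import your own Groth.Agent.* helpers here

set_option autoImplicit false
set_option backward.isDefEq.respectTransparency false
universe u
open QFDual

namespace Groth.Agent.S8967

/-- Flat base change, affine finite free case. Let A and A' be Noetherian rings, B an A-algebra which is
finite free as an A-module, A → A' a ring map and B' a ring making A → A', B → B' cocartesian (B' =
B ⊗_A A', again finite free over A'). Write 𝔇 ⊆ B and 𝔇' ⊆ B' for the differents: the ideals of
elements b with b · Hom_A(B, A) ⊆ B · Trace_{B/A}, respectively b' · Hom_{A'}(B', A') ⊆ B' ·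
Trace_{B'/A'}. If A → A' is flat, then 𝔇B' = 𝔇'. (The published statement is for the different of a
flat quasi-finite morphism of Noetherian schemes under base change, phrased with the closed
subschemes the differents cut out; this row is the affine finite free case, where the relative
dualizing module is Hom_A(B, A) and the trace element is the trace.) -/
theorem result (A B A' B' : Type u) [CommRing A] [CommRing B] [CommRing A'] [CommRing B'] [IsNoetherianRing A] [IsNoetherianRing A'] [Algebra A B] [Module.Finite A B] [Module.Free A B] [Algebra A A'] [Algebra B B'] [Algebra A' B'] [Algebra A B'] [IsScalarTower A A' B'] [IsScalarTower A B B'] (hB : Algebra.IsPushout A A' B B') [Module.Finite A' B'] [Module.Free A' B'] [Module.Flat A A'] : Ideal.map (algebraMap B B') (QFDual.different B (Disc.Omega.trace A B)) = QFDual.different B' (Disc.Omega.trace A' B') := by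
  haveI := Groth.Agent.QFDualLib.omega_finite (A := A) (B := B)
  haveI : Algebra.IsPushout A A' B B' := hB
  haveI : Module.Flat B B' := by
    haveI := hB.symm
    exact Module.Flat.of_linearEquiv (Algebra.IsPushout.equiv A B A' B').symm.toLinearEquiv
  obtain ⟨_, _, f, hf, hτ⟩ := Groth.Agent.QFDualLib.exists_isBaseChange_omega hB
  rw [← hτ]
  exact le_antisymm (Groth.Agent.QFDualLib.map_different_le hf _)
    (Groth.Agent.QFDualLib.different_le_map_of_flat hf _)

end Groth.Agent.S8967
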