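import Groth.Statements.S8970
import Groth.Agent.DualCxLib.CoindDual
import Groth.Agent.DualCxLib.Gorenstein
-- Template for statement S8970 (row 8969; see the milestone table for weights).
-- Copy to Groth/Agent/S8970.lean and replace the sorry. The statement below is byte-identical to the frozen
-- statement Dual.GrothFrozen.S8970 (Groth/Statements/S8970.lean; the theorem Dual.delta_rightAdjoint_eq_delta_of_surjective);
-- the grader kernel-checks Groth.Agent.S8970.result against that frozen type. Keep the theorem IN THIS FILE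
-- (a `result` declared elsewhere and merely imported here is not credited); helpers may live anywhere
-- under Groth/Agent/.
-- helpers: DualCxLib

set_option autoImplicit false
universe u
open CategoryTheory
attribute [local instance] HasDerivedCategory.standard
open Dual Groth.Agent.DualCxLib

namespace Groth.Agent.S8970

/-- For a Noetherian ring A with a dualizing complex ω, δ(p) denotes the integer such that the
localization at p of Hom(A/p, ω[i]) is nonzero exactly for i = −δ(p); this δ is the dimension
function of ω. Suppose A is a Noetherian ring equipped with a dualizing complex ω, fix a surjective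
ring homomorphism A → B, and take R : D(A) → D(B) to be the right adjoint of restriction of scalars;
then ω_B = R(ω) = RHom_A(B, ω) is a dualizing complex for B. Then δ_{ω_B} is the restriction of δ_ω
to Spec B: for every prime q of B, with p its preimage in A, and every integer i, the localization
at q of the B-module of maps B/q → ω_B[i] in D(B) is nonzero if and only if the localization at p of
the A-module of maps A/p → ω[i] in D(A) is nonzero. -/
theorem result (A B : Type u) [CommRing A] [CommRing B] [IsNoetherianRing A] [IsNoetherianRing B] [Algebra A B] (hs : Function.Surjective (algebraMap A B)) (R : Dual.D A ⥤ Dual.D B) (adj : DRing.restrictD (algebraMap A B) ⊣ R) (ω : Dual.D A) (hω : Dual.IsDualizing A ω) (q : PrimeSpectrum B) (i : ℤ) : Nontrivial (LocalizedModule q.asIdeal.primeCompl (Dual.inD B (B ⧸ q.asIdeal) ⟶ (R.obj ω)⟦i⟧)) ↔ Nontrivial (LocalizedModule (q.asIdeal.comap (algebraMap A B)).primeCompl (Dual.inD A (A ⧸ q.asIdeal.comap (algebraMap A B)) ⟶ ω⟦i⟧)) := by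
  let S := Groth.Agent.DualCxLib.model hω
  obtain ⟨c⟩ := S.rep.nonempty_coindIso B R adj
  let p := q.asIdeal.comap (algebraMap A B)
  let f : A →ₗ[A] B ⧸ q.asIdeal := LinearMap.toSpanSingleton A _ (1 : B ⧸ q.asIdeal)
  have hf : Function.Surjective f := fun y => by
    obtain ⟨b, rfl⟩ := Ideal.Quotient.mk_surjective y
    obtain ⟨a, rfl⟩ := hs b
    refine ⟨a, ?_⟩
    show a • (1 : B ⧸ q.asIdeal) = _
    rw [Algebra.smul_def, mul_one]
    rfl
  have hker : LinearMap.ker f = p := by
    ext a
    rw [LinearMap.mem_ker, LinearMap.toSpanSingleton_apply, Algebra.smul_def, mul_one]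
    exact Ideal.Quotient.eq_zero_iff_mem
  let eP : (A ⧸ p) ≃ₗ[A] (B ⧸ q.asIdeal) :=
    (Submodule.quotEquivOfEq _ _ hker.symm).trans (f.quotKerEquivOfSurjective hf)
  obtain ⟨e, he⟩ := S.rep.exists_HK_coext B (B ⧸ q.asIdeal) i
  let g := Groth.Agent.DualCxLib.preEquiv ω i eP
  let c' : Groth.Agent.DualCxLib.HK (DRing.toD (S.rep.coext B)) i (B ⧸ q.asIdeal) ≃ₗ[B]
      (Dual.inD B (B ⧸ q.asIdeal) ⟶ (R.obj ω)⟦i⟧) :=
    Linear.homCongr B (Iso.refl _) ((CategoryTheory.shiftFunctor (Dual.D B) i).mapIso c)
  have key : Groth.Agent.DualCxLib.ZeroAt q.asIdeal (Dual.inD B (B ⧸ q.asIdeal) ⟶ (R.obj ω)⟦i⟧) ↔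
      Groth.Agent.DualCxLib.ZeroAt p (Dual.inD A (A ⧸ p) ⟶ ω⟦i⟧) := by
    rw [← Groth.Agent.DualCxLib.zeroAt_congr c', ← Groth.Agent.DualCxLib.zeroAt_congr g]
    refine ⟨fun h z => ?_, fun h y => ?_⟩
    · obtain ⟨s, hs', hz⟩ := h (e.symm z)
      obtain ⟨a, rfl⟩ := hs s
      refine ⟨a, hs', ?_⟩
      rw [← e.apply_symm_apply z, ← he, hz, map_zero]
    · obtain ⟨a, ha, hy⟩ := h (e y)
      refine ⟨algebraMap A B a, ha, e.injective ?_⟩
      rw [he, hy, map_zero]
  rw [← Groth.Agent.DualCxLib.not_zeroAt_iff_nontrivial, ← Groth.Agent.DualCxLib.not_zeroAt_iff_nontrivial, key]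

end Groth.Agent.S8970
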