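import Groth.Statements.S8974
import Mathlib.Algebra.MvPolynomial.Degrees
import Mathlib.Algebra.MvPolynomial.Eval

set_option autoImplicit false
universe u
open Synt

namespace Groth.Agent.S8974

open MvPolynomial

theorem exponent_injective {n d : ℕ} : Function.Injective (UnivIdx.exponent (n := n) (d := d)) := by
  intro E F h
  apply Subtype.ext
  funext i
  apply Fin.ext
  have := DFunLike.congr_fun h i
  simpa [UnivIdx.exponent] using this


/-- Let R be a ring, n, d ≥ 1 and g_1, …, g_n ∈ R[y_1, …, y_n] of total degree at most d. Then there is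
a ring map φ : A = ℤ[a_{i,E}] → R (E running over exponent vectors with |E| ≤ d) such that applying
φ to the coefficients of the universal polynomial f_i = Σ_E a_{i,E} x^E gives g_i for each i. (The
published statement is for a locally quasi-finite syntomic morphism of schemes and asserts, locally,
a cartesian square with the universal family; this row is its affine core: the coefficient map.) -/
theorem result (R : Type u) [CommRing R] (n d : ℕ) (hn : 1 ≤ n) (hd : 1 ≤ d) (g : Fin n → MvPolynomial (Fin n) R) (hg : ∀ i, (g i).totalDegree ≤ d) : ∃ φ : Synt.UnivBase n d →+* R, ∀ i, MvPolynomial.map φ (Synt.univPoly n d i) = g i := by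
  classical
  refine ⟨(MvPolynomial.aeval (R := ℤ) (fun p : Fin n × UnivIdx n d => MvPolynomial.coeff p.2.exponent (g p.1))).toRingHom, fun i => ?_⟩
  ext m
  rw [univPoly, map_sum, MvPolynomial.coeff_sum]
  simp only [MvPolynomial.map_monomial, AlgHom.toRingHom_eq_coe, RingHom.coe_coe, MvPolynomial.aeval_X,
    MvPolynomial.coeff_monomial]
  by_cases hm : ∃ E : UnivIdx n d, E.exponent = m
  · obtain ⟨E, rfl⟩ := hm
    rw [Finset.sum_eq_single E]
    · simp
    · intro F _ hF
      rw [if_neg]
      exact fun h => hF (exponent_injective h)
    · simp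
  · push_neg at hm
    rw [Finset.sum_eq_zero (fun E _ => if_neg (hm E))]
    symm
    by_contra hne
    have hmem : m ∈ (g i).support := MvPolynomial.mem_support_iff.mpr hne
    have hle : (m.sum fun _ e => e) ≤ d := (MvPolynomial.le_totalDegree hmem).trans (hg i)
    rw [Finsupp.sum_fintype _ _ (fun _ => rfl)] at hle
    have hb : ∀ j, m j < d + 1 := fun j =>
      Nat.lt_succ_of_le ((Finset.single_le_sum (fun a _ => Nat.zero_le (m a)) (Finset.mem_univ j)).trans hle)
    refine hm ⟨fun j => ⟨m j, hb j⟩, hle⟩ ?_
    ext j
    simp [UnivIdx.exponent]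

end Groth.Agent.S8974
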