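import Groth.Statements.S8975
import Groth.Agent.QFDualLib.Dual
-- import your own Groth.Agent.* helpers here

set_option autoImplicit false
set_option backward.isDefEq.respectTransparency false
universe u
open TensorProduct
open QFDual

namespace Groth.Agent.S8975

/-- The relative dualizing module of a product. Suppose A, B, C are Noetherian rings and the ring maps A
→ B, A → C are quasi-finite, presented by factorizations A → B' → B and A → C' → C with A → B', A →
C' finite and Spec B → Spec B', Spec C → Spec C' open immersions, and let B × C carry the product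
algebra structure over B' × C' (so that A → B' × C' → B × C is a factorization of the same kind).
Then ω_{(B × C)/A} = (B × C) ⊗_{B' × C'} Hom_A(B' × C', A) is identified with ω_{B/A} × ω_{C/A}:
there is an A-linear isomorphism sending (b, c) ⊗ φ to (b ⊗ φ∘ι_{B'}, c ⊗ φ∘ι_{C'}), where ι_{B'},
ι_{C'} are the inclusions of the factors; this formula determines the isomorphism and makes it (B ×
C)-linear. -/
theorem result (A B' B C' C : Type u) [CommRing A] [CommRing B'] [CommRing B] [CommRing C'] [CommRing C] [IsNoetherianRing A] [IsNoetherianRing B] [IsNoetherianRing C] [Algebra A B'] [Algebra B' B] [Algebra A B] [IsScalarTower A B' B] [Algebra A C'] [Algebra C' C] [Algebra A C] [IsScalarTower A C' C] (hB : QFDual.IsQFFactor A B' B) (hC : QFDual.IsQFFactor A C' C) [Algebra (B' × C') (B × C)] [IsScalarTower A (B' × C') (B × C)] (halg : algebraMap (B' × C') (B × C) = (algebraMap B' B).prodMap (algebraMap C' C)) : ∃ e : QFDual.omega A (B' × C') (B × C) ≃ₗ[A] QFDual.omega A B' B × QFDual.omega A C' C, ∀ (b : B) (c : C) (φ : Disc.Omega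 A (B' × C')), e ((b, c) ⊗ₜ[B' × C'] φ) = (b ⊗ₜ[B'] Disc.Omega.mk (φ.toLinearMap ∘ₗ LinearMap.inl A B' C'), c ⊗ₜ[C'] Disc.Omega.mk (φ.toLinearMap ∘ₗ LinearMap.inr A B' C')) := by
  classical
  have hal : ∀ z : B' × C', algebraMap (B' × C') (B × C) z =
      (algebraMap B' B z.1, algebraMap C' C z.2) := fun z => by rw [halg]; rfl
  have hsm : ∀ (z : B' × C') (w : B × C), z • w = (z.1 • w.1, z.2 • w.2) := fun z w => by
    rw [Algebra.smul_def, hal, Algebra.smul_def, Algebra.smul_def]; rfl
  let P : Disc.Omega A (B' × C') → Disc.Omega A B' := fun φ =>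
    Disc.Omega.mk (φ.toLinearMap ∘ₗ LinearMap.inl A B' C')
  let Q : Disc.Omega A (B' × C') → Disc.Omega A C' := fun φ =>
    Disc.Omega.mk (φ.toLinearMap ∘ₗ LinearMap.inr A B' C')
  have hP : ∀ (z : B' × C') φ, P (z • φ) = z.1 • P φ := fun z φ => by
    refine Disc.Omega.ext (LinearMap.ext fun x => ?_)
    show φ.toLinearMap (z * (x, 0)) = φ.toLinearMap (z.1 * x, 0)
    rw [Prod.mul_def, mul_zero]
  have hQ : ∀ (z : B' × C') φ, Q (z • φ) = z.2 • Q φ := fun z φ => by
    refine Disc.Omega.ext (LinearMap.ext fun x => ?_)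
    show φ.toLinearMap (z * (0, x)) = φ.toLinearMap (0, z.2 * x)
    rw [Prod.mul_def, mul_zero]
  have hPadd : ∀ φ ψ, P (φ + ψ) = P φ + P ψ := fun φ ψ => rfl
  have hQadd : ∀ φ ψ, Q (φ + ψ) = Q φ + Q ψ := fun φ ψ => rfl
  let F : QFDual.omega A (B' × C') (B × C) →+ QFDual.omega A B' B × QFDual.omega A C' C :=
    TensorProduct.liftAddHom
      (AddMonoidHom.mk' (fun w : B × C => AddMonoidHom.mk'
          (fun φ => (w.1 ⊗ₜ[B'] P φ, w.2 ⊗ₜ[C'] Q φ))
          (fun φ ψ => by simp only [hPadd, hQadd, tmul_add, Prod.mk_add_mk]))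
        (fun w w' => by
          refine AddMonoidHom.ext fun φ => ?_
          simp only [AddMonoidHom.add_apply, AddMonoidHom.mk'_apply, Prod.fst_add, Prod.snd_add,
            add_tmul, Prod.mk_add_mk]))
      (fun z w φ => by
        simp only [AddMonoidHom.mk'_apply, hP, hQ, hsm, smul_tmul])
  let G₁ : QFDual.omega A B' B →+ QFDual.omega A (B' × C') (B × C) :=
    TensorProduct.liftAddHom
      (AddMonoidHom.mk' (fun b => AddMonoidHom.mk'
          (fun ψ => ((b, 0) : B × C) ⊗ₜ[B' × C']
            Disc.Omega.mk (ψ.toLinearMap ∘ₗ LinearMap.fst A B' C'))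
          (fun φ ψ => by rw [← tmul_add]; rfl))
        (fun b b' => by
          refine AddMonoidHom.ext fun φ => ?_
          simp only [AddMonoidHom.add_apply, AddMonoidHom.mk'_apply]
          rw [← add_tmul, Prod.mk_add_mk, add_zero]))
      (fun r b ψ => by
        simp only [AddMonoidHom.mk'_apply]
        have h1 : ((r • b, 0) : B × C) = ((r, 0) : B' × C') • ((b, 0) : B × C) := by
          rw [hsm, smul_zero]
        rw [h1, smul_tmul]
        congr 1)
  let G₂ : QFDual.omega A C' C →+ QFDual.omega A (B' × C') (B × C) :=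
    TensorProduct.liftAddHom
      (AddMonoidHom.mk' (fun b => AddMonoidHom.mk'
          (fun ψ => ((0, b) : B × C) ⊗ₜ[B' × C']
            Disc.Omega.mk (ψ.toLinearMap ∘ₗ LinearMap.snd A B' C'))
          (fun φ ψ => by rw [← tmul_add]; rfl))
        (fun b b' => by
          refine AddMonoidHom.ext fun φ => ?_
          simp only [AddMonoidHom.add_apply, AddMonoidHom.mk'_apply]
          rw [← add_tmul, Prod.mk_add_mk, add_zero]))
      (fun r b ψ => by
        simp only [AddMonoidHom.mk'_apply]
        have h1 : ((0, r • b) : B × C) = ((0, r) : B' × C') • ((0, b) : B × C) := by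
          rw [hsm, smul_zero]
        rw [h1, smul_tmul]
        congr 1)
  have hGF : ∀ t, G₁ (F t).1 + G₂ (F t).2 = t := by
    intro t
    induction t using TensorProduct.induction_on with
    | zero => simp
    | add x y hx hy =>
      rw [map_add, Prod.fst_add, Prod.snd_add, map_add, map_add, add_add_add_comm, hx, hy]
    | tmul w φ =>
      obtain ⟨b, c⟩ := w
      show ((b, 0) : B × C) ⊗ₜ[B' × C'] _ + ((0, c) : B × C) ⊗ₜ[B' × C'] _ = _
      have hb : ((b, 0) : B × C) = ((1, 0) : B' × C') • ((b, c) : B × C) := by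
        rw [hsm, one_smul, zero_smul]
      have hc : ((0, c) : B × C) = ((0, 1) : B' × C') • ((b, c) : B × C) := by
        rw [hsm, one_smul, zero_smul]
      rw [hb, hc, smul_tmul, smul_tmul, ← tmul_add]
      congr 1
      refine Disc.Omega.ext (LinearMap.ext fun x => ?_)
      show φ.toLinearMap ((((1, 0) : B' × C') * x).1, 0) + φ.toLinearMap (0, (((0, 1) : B' × C') * x).2) = _
      rw [← map_add]
      simp
  have hF₁ : ∀ s, F (G₁ s) = (s, 0) := by
    intro s
    induction s using TensorProduct.induction_on with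
    | zero => simp [Prod.ext_iff]
    | add x y hx hy => rw [map_add, map_add, hx, hy, Prod.mk_add_mk, add_zero]
    | tmul b ψ =>
      show (b ⊗ₜ[B'] _, (0 : C) ⊗ₜ[C'] _) = _
      rw [zero_tmul]
      rfl
  have hF₂ : ∀ s, F (G₂ s) = (0, s) := by
    intro s
    induction s using TensorProduct.induction_on with
    | zero => simp [Prod.ext_iff]
    | add x y hx hy => rw [map_add, map_add, hx, hy, Prod.mk_add_mk, add_zero]
    | tmul b ψ =>
      show ((0 : B) ⊗ₜ[B'] _, b ⊗ₜ[C'] _) = _
      rw [zero_tmul]
      rfl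
  have hFlin : ∀ (a : A) t, F (a • t) = a • F t := by
    intro a t
    induction t using TensorProduct.induction_on with
    | zero => simp
    | add x y hx hy => rw [smul_add, map_add, map_add, hx, hy, smul_add]
    | tmul w φ =>
      rw [smul_tmul']
      show ((a • w.1) ⊗ₜ[B'] P φ, (a • w.2) ⊗ₜ[C'] Q φ) = a • (w.1 ⊗ₜ[B'] P φ, w.2 ⊗ₜ[C'] Q φ)
      rw [Prod.smul_mk, TensorProduct.smul_tmul', TensorProduct.smul_tmul']
  refine ⟨{ toFun := F
            invFun := fun s => G₁ s.1 + G₂ s.2
            map_add' := map_add F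
            map_smul' := hFlin
            left_inv := hGF
            right_inv := fun s => by
              rw [map_add, hF₁, hF₂, Prod.mk_add_mk, add_zero, zero_add] }, ?_⟩
  intro b c φ
  rfl

end Groth.Agent.S8975
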