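import Groth.Statements.S8977
import Groth.Agent.HTopPh.Basic
-- import your own Groth.Agent.* helpers here

set_option autoImplicit false
universe u
open HTop

open Groth.Agent CategoryTheory.Limits
set_option backward.isDefEq.respectTransparency false
namespace Groth.Agent.S8977

open CategoryTheory CategoryTheory.Limits AlgebraicGeometry in
/-- For a Noetherian scheme X and a finite family of finite type morphisms X_i → X, the induced morphism
from the coproduct of the X_i to X is universally submersive if and only if the family is an h
covering. -/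
theorem result {X : Scheme.{u}} [IsNoetherian X] (E : PreZeroHypercover.{u} X) [Finite E.I₀] [∀ i, LocallyOfFiniteType (E.f i)] [∀ i, QuasiCompact (E.f i)] : SGA1.UnivSubmersive (Sigma.desc E.f) ↔ HTop.IsHCover E := by
  haveI : QuasiCompact (Limits.Sigma.desc E.f) := by
    haveI : ∀ i, CompactSpace (E.X i) := fun i => QuasiCompact.compactSpace_of_compactSpace (E.f i)
    haveI : CompactSpace ↥(∐ E.X) := ⟨by
      have e : (Set.univ : Set ↥(∐ E.X)) = ⋃ i, Set.range (Sigma.ι E.X i) :=
        (Set.eq_univ_of_forall fun z => by
          obtain ⟨i, y, hy⟩ := (sigmaOpenCover E.X).exists_eq z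
          exact Set.mem_iUnion.2 ⟨i, y, hy⟩).symm
      rw [e]
      exact isCompact_iUnion fun i => isCompact_range (Sigma.ι E.X i).continuous⟩
    exact quasiCompact_of_compactSpace _
  rw [SubtrVal.univSubmersive_iff_univSSubtrusive]
  refine ⟨fun h => ⟨fun i => QFinEtDesc.lfp_of_noetherian (E.f i), ?_⟩, fun h => ?_⟩
  · exact HTopV.isVCover_of_hasValLift E (fun i => inferInstance) (HTopPh.hasValLift_of_sigmaDesc E h)
  · exact HTopPh.univSSubtrusive_sigmaDesc E h.2.hasValLift'

end Groth.Agent.S8977
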