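import Groth.Statements.S8978
import Groth.Agent.HTopPh.Basic
-- import your own Groth.Agent.* helpers here

set_option autoImplicit false
universe w u
open HTop

open Groth.Agent CategoryTheory.Limits
set_option backward.isDefEq.respectTransparency false
namespace Groth.Agent.S8978

open CategoryTheory CategoryTheory.Limits AlgebraicGeometry in
/-- Given an h covering of an affine scheme X, one can find a proper surjective Y → X that is of finite
presentation, together with finitely many affine opens covering Y, such that each of these opens,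
composed into X, factors through some member of the given family. -/
theorem result {X : Scheme.{u}} [IsAffine X] (E : PreZeroHypercover.{w} X) (hE : HTop.IsHCover E) : ∃ (Y : Scheme.{u}) (g : Y ⟶ X) (n : ℕ) (V : Fin n → Y.Opens), IsProper g ∧ Surjective g ∧ LocallyOfFinitePresentation g ∧ (∀ j, IsAffineOpen (V j)) ∧ ⨆ j, V j = ⊤ ∧ ∀ j, ∃ (i : E.I₀) (h : ((V j : Y.Opens) : Scheme.{u}) ⟶ E.X i), h ≫ E.f i = (V j).ι ≫ g := by
  obtain ⟨G, hG, hlfp, hr⟩ := HTopPh.exists_standard_lfp_refining hE.1 hE.2 ⟨⊤, isAffineOpen_top X⟩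
  haveI := hG.finite_index
  haveI : IsAffine ((⊤ : X.Opens).toScheme) := isAffineOpen_top X
  haveI := hG.isAffine_obj
  haveI := hlfp
  obtain ⟨Y, g, n, V, hg, hgs, hgl, hV, hcov, hl⟩ := HTopPh.exists_proper_affineCover_refining G.X G.f hG.lift
  refine ⟨Y, g ≫ (⊤ : X.Opens).ι, n, V, ?_, ?_, ?_, hV, hcov, fun j => ?_⟩
  · haveI : IsIso ((⊤ : X.Opens).ι) := inferInstanceAs (IsIso X.topIso.hom)
    infer_instance
  · haveI : IsIso ((⊤ : X.Opens).ι) := inferInstanceAs (IsIso X.topIso.hom)
    infer_instance
  · infer_instance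
  · obtain ⟨i, h, hh⟩ := hl j
    obtain ⟨i', k, hk⟩ := hr i
    exact ⟨i', h ≫ k, by rw [Category.assoc, hk, reassoc_of% hh]⟩

end Groth.Agent.S8978
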