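import Groth.Statements.S8982
import Groth.Agent.AlmostBlowLib.Basic
-- import your own Groth.Agent.* helpers here

set_option autoImplicit false
set_option backward.isDefEq.respectTransparency false
universe u
open HTop

namespace Groth.Agent.S8982

open CategoryTheory CategoryTheory.Limits AlgebraicGeometry in
/-- The base change of an almost blow up square along an arbitrary morphism Y → X is an almost blow up
square over Y. The base-changed corners are introduced through fibre-product squares; the morphism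
from the new exceptional corner to the new centre is the one compatible with them. -/
theorem result {E Z X' X Y E₁ Z₁ X₁ : Scheme.{u}} {e : E ⟶ X'} {π : E ⟶ Z} {b : X' ⟶ X} {i : Z ⟶ X} (h : HTop.IsAlmostBlowUpSquare e π b i) (g : Y ⟶ X) {b₁ : X₁ ⟶ Y} {gX : X₁ ⟶ X'} (hX : IsPullback gX b₁ b g) {i₁ : Z₁ ⟶ Y} {gZ : Z₁ ⟶ Z} (hZ : IsPullback gZ i₁ i g) {e₁ : E₁ ⟶ X₁} {gE : E₁ ⟶ E} (hE : IsPullback gE e₁ e gX) {π₁ : E₁ ⟶ Z₁} (hπ : π₁ ≫ i₁ = e₁ ≫ b₁) : HTop.IsAlmostBlowUpSquare e₁ π₁ b₁ i₁ := by
  haveI := h.isClosedImmersion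
  haveI := h.finitePresentation_base
  haveI := h.isProper
  haveI := h.finitePresentation
  haveI hci : IsClosedImmersion i₁ := MorphismProperty.of_isPullback hZ h.isClosedImmersion
  have hker : i₁.ker = i.ker.comap g := Groth.Agent.AlmostBlowLib.ker_of_isPullback hZ
  have hπ' : gE ≫ π = π₁ ≫ gZ := by
    rw [← cancel_mono i, Category.assoc, ← h.isPullback.w, Category.assoc, hZ.w, ← Category.assoc π₁,
      hπ, Category.assoc, ← hX.w, reassoc_of% hE.w]
  have hbig : IsPullback e₁ (π₁ ≫ gZ) (b₁ ≫ g) i := by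
    rw [← hπ', ← hX.w]
    exact hE.flip.paste_vert h.isPullback
  refine ⟨hci, MorphismProperty.of_isPullback hZ h.finitePresentation_base,
    IsPullback.of_bot hbig hπ.symm hZ.flip, ?_, MorphismProperty.of_isPullback hX h.isProper,
    MorphismProperty.of_isPullback hX h.finitePresentation, ?_⟩
  · rw [hker, ← Scheme.IdealSheafData.comap_comp, ← hX.w, Scheme.IdealSheafData.comap_comp]
    exact Groth.Agent.AlmostBlowLib.isLocPrincipal_comap h.locPrincipal gX
  · rw [hker]
    exact Groth.Agent.AlmostBlowLib.isBlowUp_baseChange hX h.locPrincipal h.isBlowUp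

end Groth.Agent.S8982
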