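import Groth.Statements.S8983
import Groth.Agent.AlmostBlowLib.Basic
-- import your own Groth.Agent.* helpers here

set_option autoImplicit false
set_option backward.isDefEq.respectTransparency false
universe u
open HTop

namespace Groth.Agent.S8983

open CategoryTheory CategoryTheory.Limits AlgebraicGeometry in
/-- Given an almost blow up square with top right corner X' and a closed immersion W → X' of finite
presentation, the ideal of W lies inside the ideal of sections of the structure sheaf of X'
supported on the exceptional locus E (this single condition expresses both that X' minus E is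
scheme-theoretically contained in W and that the blow up of X in Z is, the two being the same
containment of ideal sheaves here) if and only if replacing X' by W and E by the scheme-theoretic
intersection of E and W gives again an almost blow up square. -/
theorem result {E Z X' X W EW : Scheme.{u}} {e : E ⟶ X'} {π : E ⟶ Z} {b : X' ⟶ X} {i : Z ⟶ X} (h : HTop.IsAlmostBlowUpSquare e π b i) (w : W ⟶ X') [IsClosedImmersion w] [LocallyOfFinitePresentation w] {eW : EW ⟶ W} {gE : EW ⟶ E} (hEW : IsPullback gE eW e w) : w.ker ≤ HTop.supportedOn (i.ker.comap b) ↔ HTop.IsAlmostBlowUpSquare eW (gE ≫ π) (w ≫ b) i := by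
  haveI := h.isClosedImmersion
  haveI := h.isProper
  haveI := h.finitePresentation
  rw [Groth.Agent.AlmostBlowLib.ker_le_supportedOn_iff w h.locPrincipal h.isBlowUp]
  refine ⟨fun hb => ⟨h.isClosedImmersion, h.finitePresentation_base, hEW.flip.paste_vert h.isPullback,
    ?_, inferInstance, inferInstance, hb⟩, fun hb => hb.isBlowUp⟩
  rw [Scheme.IdealSheafData.comap_comp]
  exact Groth.Agent.AlmostBlowLib.isLocPrincipal_comap h.locPrincipal w

end Groth.Agent.S8983
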