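import Groth.Statements.S8996
import Groth.Agent.DCohLib.ClosedPush
import Groth.Agent.DCohLib.ProjPerf
import Groth.Agent.ParaFLib.Free
import Groth.Agent.ParaFLib.Depth
import Groth.Agent.AssLib.Depth2
import Groth.Agent.RpushLib.Finite
import Groth.Agent.PullbackMod.LimStalk
import Groth.Agent.PullbackMod.LocFree
import Groth.Agent.REqLib.P1Line
import Groth.Agent.S11133
import Groth.Agent.S1177
import Groth.Agent.S2062
import Groth.Agent.ExactConstrLib.LocFree

set_option autoImplicit false
universe u
open FlatMor

namespace Groth.Agent.S8996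

set_option backward.isDefEq.respectTransparency false
set_option linter.style.haveILetI false

open CategoryTheory CategoryTheory.Limits AlgebraicGeometry TopologicalSpace Opposite
open Groth.Agent.PullbackMod Groth.Agent.DCohLib
open scoped TensorProduct

variable {X S X' T : Scheme.{u}}

theorem isQCoh_O (X : Scheme.{u}) : Coh.IsQCoh (Coh.structureModule X) := by
  have e : SheafOfModules.free (R := X.ringCatSheaf) PUnit.{u + 1} ≅ Coh.structureModule X :=
    coproductUniqueIso _
  have h : (SheafOfModules.free (R := X.ringCatSheaf) PUnit.{u + 1}).IsQuasicoherent := inferInstance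
  exact (SheafOfModules.isQuasicoherent X.ringCatSheaf).prop_of_iso e h

theorem le_one_of_not_two_le {d : WithBot ℕ∞} (hd : ¬ 2 ≤ d) : d ≤ 1 := by
  induction d using WithBot.recBotCoe with
  | bot => exact bot_le
  | coe d =>
    induction d using ENat.recTopCoe with
    | top => exact absurd (WithBot.coe_le_coe.mpr (le_top : (2 : ℕ∞) ≤ ⊤)) hd
    | coe d =>
      rcases d with _ | _ | d
      · exact zero_le_one
      · exact le_rfl
      · exact absurd (WithBot.coe_le_coe.mpr (by exact_mod_cast Nat.le_add_left 2 d)) hd

/-- The counit is epi on finite free modules. -/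
theorem epi_counit_free (f : X ⟶ S) (n : ℕ) :
    Epi ((Scheme.Modules.pullbackPushforwardAdjunction f).counit.app (FlatMod.freeMod X n)) := by
  let adj := Scheme.Modules.pullbackPushforwardAdjunction f
  refine ⟨fun a b hab => Sigma.hom_ext _ _ fun i => ?_⟩
  let u := adj.homEquiv _ _ (pullStructureIso f).hom
  have hu : (Scheme.Modules.pullback f).map u ≫ adj.counit.app _ = (pullStructureIso f).hom :=
    (Adjunction.homEquiv_counit adj _ _ u).symm.trans ((adj.homEquiv _ _).symm_apply_apply _)
  haveI : Epi (adj.counit.app (Coh.structureModule X)) := by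
    haveI : Epi ((Scheme.Modules.pullback f).map u ≫ adj.counit.app (Coh.structureModule X)) := by
      rw [hu]; infer_instance
    exact epi_of_epi ((Scheme.Modules.pullback f).map u) _
  rw [← cancel_epi (adj.counit.app (Coh.structureModule X))]
  have hn := adj.counit.naturality (Sigma.ι (fun _ : Fin n => Coh.structureModule X) i)
  simp only [Functor.id_map, Functor.comp_map] at hn
  rw [← Category.assoc, ← Category.assoc, ← hn, Category.assoc, Category.assoc]
  exact congrArg _ hab

theorem epi_counit_of_iso (f : X ⟶ S) {n : ℕ} {E : X.Modules} (e : E ≅ FlatMod.freeMod X n) :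
    Epi ((Scheme.Modules.pullbackPushforwardAdjunction f).counit.app E) := by
  let adj := Scheme.Modules.pullbackPushforwardAdjunction f
  have hn := adj.counit.naturality e.hom
  simp only [Functor.id_map, Functor.comp_map] at hn
  haveI := epi_counit_free f n
  haveI : Epi (adj.counit.app E ≫ e.hom) := by rw [← hn]; infer_instance
  have : adj.counit.app E = (adj.counit.app E ≫ e.hom) ≫ e.inv := by simp
  rw [this]; infer_instance

/-- The direct image of a finite free module. -/
noncomputable def pushFreeIso (f : X ⟶ S) (u : Coh.structureModule S ≅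
    (Scheme.Modules.pushforward f).obj (Coh.structureModule X)) (n : ℕ) :
    (Scheme.Modules.pushforward f).obj (FlatMod.freeMod X n) ≅ FlatMod.freeMod S n :=
  haveI : PreservesLimitsOfSize.{0, 0} (Scheme.Modules.pushforward f) :=
    (Scheme.Modules.pullbackPushforwardAdjunction f).rightAdjoint_preservesLimits
  haveI : (Scheme.Modules.pushforward f).Additive := Functor.additive_of_preserves_binary_products _
  haveI : PreservesFiniteCoproducts (Scheme.Modules.pushforward f) := inferInstance
  haveI : PreservesColimitsOfShape (Discrete (Fin n)) (Scheme.Modules.pushforward f) := inferInstance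
  PreservesCoproduct.iso (Scheme.Modules.pushforward f) _ ≪≫ Sigma.mapIso fun _ => u.symm

section bc

variable (f : X ⟶ S) (g : T ⟶ S) (g' : X' ⟶ X) (f' : X' ⟶ T) (h : IsPullback g' f' f g)

/-- The base change map. -/
noncomputable def bc (E : X.Modules) :
    (Scheme.Modules.pullback g).obj ((Scheme.Modules.pushforward f).obj E) ⟶
      (Scheme.Modules.pushforward f').obj ((Scheme.Modules.pullback g').obj E) :=
  (Scheme.Modules.pullback g).map ((Scheme.Modules.pushforward f).map
      ((Scheme.Modules.pullbackPushforwardAdjunction g').unit.app E)) ≫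
    (Scheme.Modules.pullback g).map ((Scheme.Modules.pushforwardComp g' f ≪≫
        Scheme.Modules.pushforwardCongr h.w ≪≫ (Scheme.Modules.pushforwardComp f' g).symm).hom.app
      ((Scheme.Modules.pullback g').obj E)) ≫
    (Scheme.Modules.pullbackPushforwardAdjunction g).counit.app
      ((Scheme.Modules.pushforward f').obj ((Scheme.Modules.pullback g').obj E))

theorem unit_bc (E : X.Modules) :
    (Scheme.Modules.pullbackPushforwardAdjunction g).unit.app ((Scheme.Modules.pushforward f).obj E) ≫
      (Scheme.Modules.pushforward g).map (bc f g g' f' h E) =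
    (Scheme.Modules.pushforward f).map ((Scheme.Modules.pullbackPushforwardAdjunction g').unit.app E) ≫
      (Scheme.Modules.pushforwardComp g' f ≪≫
        Scheme.Modules.pushforwardCongr h.w ≪≫ (Scheme.Modules.pushforwardComp f' g).symm).hom.app
        ((Scheme.Modules.pullback g').obj E) := by
  let adj := Scheme.Modules.pullbackPushforwardAdjunction g
  let a := (Scheme.Modules.pushforward f).map ((Scheme.Modules.pullbackPushforwardAdjunction g').unit.app E) ≫
      (Scheme.Modules.pushforwardComp g' f ≪≫
        Scheme.Modules.pushforwardCongr h.w ≪≫ (Scheme.Modules.pushforwardComp f' g).symm).hom.app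
        ((Scheme.Modules.pullback g').obj E)
  have hb : bc f g g' f' h E = (adj.homEquiv _ _).symm a := by
    rw [Adjunction.homEquiv_counit, Functor.map_comp, Category.assoc]
    rfl
  rw [hb]
  exact ((Adjunction.homEquiv_unit adj _ _ _).symm.trans ((adj.homEquiv _ _).apply_symm_apply a))

theorem pushStalk_bc (E : X.Modules) (x' : X') {W : S.Opens} (hx : g (f' x') ∈ W)
    (η : Γ((Scheme.Modules.pushforward f).obj E, W)) (hx₂ : g' x' ∈ f ⁻¹ᵁ W) :
    pushStalk f' ((Scheme.Modules.pullback g').obj E) x'
        (stalkLin (bc f g g' f' h E) (f' x') (pullStalk g _ (f' x')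
          (((Scheme.Modules.pushforward f).obj E).presheaf.germ W (g (f' x')) hx η))) =
      pullStalk g' E x' (E.presheaf.germ (f ⁻¹ᵁ W) (g' x') hx₂ η) := by
  rw [pullStalk_germ, pullStalk_germ]
  erw [stalkLin_germ]
  erw [pushStalk_germ]
  let E' := (Scheme.Modules.pullback g').obj E
  let s : Γ(E', g' ⁻¹ᵁ f ⁻¹ᵁ W) :=
    ((Scheme.Modules.pullbackPushforwardAdjunction g').unit.app E).app (f ⁻¹ᵁ W) η
  have he : f' ⁻¹ᵁ g ⁻¹ᵁ W = g' ⁻¹ᵁ f ⁻¹ᵁ W := by
    rw [← Scheme.Hom.comp_preimage, ← Scheme.Hom.comp_preimage, h.w]
  have hu : (bc f g g' f' h E).app (g ⁻¹ᵁ W)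
        (((Scheme.Modules.pullbackPushforwardAdjunction g).unit.app _).app W η) =
      E'.presheaf.map (eqToHom he).op s := by
    exact (congr(($(unit_bc f g g' f' h E)).app W η)).trans (by simp [s, E'] <;> rfl)
  refine (congrArg _ hu).trans ?_
  exact E'.presheaf.germ_res_apply (eqToHom he) x' hx s

variable [Flat g] [QuasiCompact f] [QuasiSeparated f] [IsLocallyNoetherian X']

include h in
/-- The counit is bijective at points coming from a flat base change where the module becomes free. -/
theorem bijective_counit (E : X.Modules) [Coh.IsQCoh E]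
    (hc : Coh.IsCoh ((Scheme.Modules.pullback g').obj ((Scheme.Modules.pullback f).obj ((Scheme.Modules.pushforward f).obj E))))
    [Coh.IsQCoh ((Scheme.Modules.pushforward f).obj E)]
    [Coh.IsQCoh ((Scheme.Modules.pushforward f').obj ((Scheme.Modules.pullback g').obj E))]
    (u : Coh.structureModule S ≅ (Scheme.Modules.pushforward f).obj (Coh.structureModule X))
    {n : ℕ} (e : (Scheme.Modules.pullback g').obj E ≅ FlatMod.freeMod X' n) (x' : X') :
    Function.Bijective (stalkLin ((Scheme.Modules.pullbackPushforwardAdjunction f).counit.app E) (g' x')) := by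
  let φ := (Scheme.Modules.pullbackPushforwardAdjunction f).counit.app E
  let ψ := (Scheme.Modules.pullback g').map φ
  let E' := (Scheme.Modules.pullback g').obj E
  let G := (Scheme.Modules.pushforward f).obj E
  haveI hbc : IsIso (bc f g g' f' h E) := S11133.result f g g' f' h E
  haveI := isQCoh_pullback g G
  have hfg : f (g' x') = g (f' x') := by
    rw [← Scheme.Hom.comp_apply, ← Scheme.Hom.comp_apply, h.w]
  have hs : Function.Surjective (stalkLin ψ x') := by
    rw [← LinearMap.range_eq_top, eq_top_iff]
    rintro w -
    haveI := epi_counit_of_iso f' e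
    obtain ⟨v, hv⟩ := (epi_iff_stalk ((Scheme.Modules.pullbackPushforwardAdjunction f').counit.app E')).1 (by assumption) x' w
    subst hv
    letI : Algebra (T.presheaf.stalk (f' x')) (X'.presheaf.stalk x') := (f'.stalkMap x').hom.toAlgebra
    letI := Module.compHom (((Scheme.Modules.pullback f').obj ((Scheme.Modules.pushforward f').obj E')).presheaf.stalk x')
      (f'.stalkMap x').hom
    haveI : IsScalarTower (T.presheaf.stalk (f' x')) (X'.presheaf.stalk x')
        (((Scheme.Modules.pullback f').obj ((Scheme.Modules.pushforward f').obj E')).presheaf.stalk x') :=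
      .of_algebraMap_smul fun _ _ => rfl
    induction v using (isBaseChange_pullStalkL f' ((Scheme.Modules.pushforward f').obj E') x').inductionOn with
    | zero => rw [map_zero]; exact zero_mem _
    | smul r n hn => rw [map_smul]; exact Submodule.smul_mem _ r hn
    | add a b ha hb => rw [map_add]; exact add_mem ha hb
    | tmul z =>
      change stalkLin _ x' (pullStalk f' ((Scheme.Modules.pushforward f').obj E') x' z) ∈ _
      erw [counit_stalk_pullStalk f' E' x' z]
      obtain ⟨t, rfl⟩ := ((isIso_iff_stalk _).1 hbc (f' x')).2 z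
      letI : Algebra (S.presheaf.stalk (g (f' x'))) (T.presheaf.stalk (f' x')) := (g.stalkMap (f' x')).hom.toAlgebra
      letI := Module.compHom (((Scheme.Modules.pullback g).obj G).presheaf.stalk (f' x'))
        (g.stalkMap (f' x')).hom
      haveI : IsScalarTower (S.presheaf.stalk (g (f' x'))) (T.presheaf.stalk (f' x'))
          (((Scheme.Modules.pullback g).obj G).presheaf.stalk (f' x')) :=
        .of_algebraMap_smul fun _ _ => rfl
      induction t using (isBaseChange_pullStalkL g G (f' x')).inductionOn with
      | zero => rw [map_zero, map_zero]; exact zero_mem _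
      | smul r n hn => rw [map_smul, pushStalk_smul]; exact Submodule.smul_mem _ _ hn
      | add a b ha hb => rw [map_add, map_add]; exact add_mem ha hb
      | tmul z0 =>
        obtain ⟨W, hW, η, rfl⟩ := TopCat.Presheaf.exists_germ_eq G.presheaf z0
        have hW' : f (g' x') ∈ W := hfg ▸ hW
        refine ⟨pullStalk g' _ x' (pullStalk f G (g' x') (G.presheaf.germ W (f (g' x')) hW' η)), ?_⟩
        change stalkLin ψ x' _ = pushStalk f' E' x' (stalkLin (bc f g g' f' h E) (f' x')
          (pullStalk g G (f' x') (G.presheaf.germ W (g (f' x')) hW η)))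
        rw [pushStalk_bc f g g' f' h E x' hW η hW', pullStalk_natural, counit_stalk_pullStalk, pushStalk_germ]
        rfl
  haveI := isQCoh_pullback f G
  let u' : Coh.structureModule T ≅ (Scheme.Modules.pushforward f').obj (Coh.structureModule X') :=
    haveI : Coh.IsQCoh (Coh.structureModule X) := isQCoh_O X
    haveI : IsIso (bc f g g' f' h (Coh.structureModule X)) := S11133.result f g g' f' h _
    (pullStructureIso g).symm ≪≫ (Scheme.Modules.pullback g).mapIso u ≪≫
      asIso (bc f g g' f' h (Coh.structureModule X)) ≪≫
      (Scheme.Modules.pushforward f').mapIso (pullStructureIso g')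
  let j : (Scheme.Modules.pullback g').obj ((Scheme.Modules.pullback f).obj G) ≅ E' :=
    (Scheme.Modules.pullbackComp g' f).app G ≪≫ (Scheme.Modules.pullbackCongr h.w).app G ≪≫
      ((Scheme.Modules.pullbackComp f' g).app G).symm ≪≫
      (Scheme.Modules.pullback f').mapIso (asIso (bc f g g' f' h E) ≪≫
        (Scheme.Modules.pushforward f').mapIso e ≪≫ pushFreeIso f' u' n) ≪≫
      pullFreeIso f' n ≪≫ e.symm
  haveI := finite_stalk_of_isFT hc.2 x'
  have hj := (isIso_iff_stalk j.inv).1 inferInstance x'
  have hinj : Function.Injective (stalkLin ψ x') :=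
    Function.Injective.of_comp (f := stalkLin j.inv x')
      (OrzechProperty.injective_of_surjective_endomorphism (stalkLin j.inv x' ∘ₗ stalkLin ψ x') (hj.2.comp hs))
  haveI : Flat g' := MorphismProperty.of_isPullback (P := @Flat) h.flip inferInstance
  letI := (mapAt g' x' rfl).hom.toAlgebra
  haveI : Module.Flat (X.presheaf.stalk (g' x')) (X'.presheaf.stalk x') := by
    have := Flat.stalkMap g' x'
    rw [← mapAt_self g' x'] at this
    exact this
  haveI : IsLocalHom (algebraMap (X.presheaf.stalk (g' x')) (X'.presheaf.stalk x')) := by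
    show IsLocalHom (mapAt g' x' rfl).hom
    rw [mapAt_self]; infer_instance
  haveI : Module.FaithfullyFlat (X.presheaf.stalk (g' x')) (X'.presheaf.stalk x') :=
    Module.FaithfullyFlat.of_flat_of_isLocalHom
  have hb := (bijective_iff_mapAt φ g' x' rfl).1 ⟨hinj, hs⟩
  exact ⟨(Module.FaithfullyFlat.lTensor_injective_iff_injective _ _ _).1 hb.1,
    (Module.FaithfullyFlat.lTensor_surjective_iff_surjective _ _ _).1 hb.2⟩

end bc

/-- Depth at least two survives flat local base change. -/
theorem two_le_depth_tensor {R A M : Type u} [CommRing R] [CommRing A] [IsLocalRing R] [IsLocalRing A]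
    [IsNoetherianRing R] [IsNoetherianRing A] [Algebra R A] [IsLocalHom (algebraMap R A)] [Module.Flat R A]
    [AddCommGroup M] [Module R M] [Module.Finite R M] (h : (2 : ℕ∞) ≤ LocCoh.depth R M) :
    (2 : ℕ∞) ≤ LocCoh.depth A (A ⊗[R] M) := by
  rw [S2062.result (R := R) (S := A) (M := M) (N := A)]
  exact h.trans le_self_add

theorem isIso_unitMap (f : X ⟶ S) (hO : ∀ U : S.Opens, Function.Bijective (f.app U).hom) :
    IsIso (X := Coh.structureModule S) (Y := (Scheme.Modules.pushforward f).obj (Coh.structureModule X))
      (SheafOfModules.unitToPushforwardObjUnit f.toRingCatSheafHom) :=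
  Scheme.Modules.Hom.isIso_iff_isIso_app.mpr fun U => (ConcreteCategory.isIso_iff_bijective _).mpr (hO U)

theorem surjective_of_hO (f : X ⟶ S) [IsProper f] (hO : ∀ U : S.Opens, Function.Bijective (f.app U).hom) :
    Function.Surjective f := by
  intro s
  by_contra hs
  let U : S.Opens := ⟨(Set.range f)ᶜ, f.isClosedMap.isClosed_range.isOpen_compl⟩
  have hsU : s ∈ U := hs
  have hbot : f ⁻¹ᵁ U = ⊥ := by
    ext x
    simp only [Opens.coe_bot, Set.mem_empty_iff_false, iff_false]
    exact fun hx => hx ⟨x, rfl⟩
  haveI : Subsingleton Γ(X, f ⁻¹ᵁ U) := by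
    rw [hbot]; infer_instance
  have h10 : (1 : Γ(S, U)) = 0 := (hO U).1 (Subsingleton.elim _ _)
  haveI : Nontrivial (S.presheaf.stalk s) := inferInstance
  exact one_ne_zero (α := S.presheaf.stalk s)
    (((map_one (S.presheaf.germ U s hsU).hom).symm.trans (congrArg _ h10)).trans (map_zero _))


open CategoryTheory CategoryTheory.Limits AlgebraicGeometry in
/-- Over a normal Noetherian base S, a finite locally free module on a flat proper S-scheme X with f_*
O_X = O_S, which becomes free after base change to the local scheme Spec O_{S,s} at every point s of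
S whose local ring has dimension at most one, is isomorphic to the pullback of a finite locally free
module on S. (The published statement asks freeness only at the points whose local ring has
dimension exactly one; over S = Spec k, with X the projective line over k and E its twisting sheaf
O(1), that condition is empty and the conclusion fails. This row also asks freeness at the points of
dimension zero, which the proof uses and which the conclusion forces.) -/
theorem result {X S : Scheme.{u}} (f : X ⟶ S) [Flat f] [IsProper f] (hO : ∀ U : S.Opens, Function.Bijective (f.app U).hom) [IsNoetherian S] (hS : Pi1.IsNormalScheme S) (E : X.Modules) (hE : FlatMod.IsFinLocFree E) (h1 : ∀ s : S, ringKrullDim (S.presheaf.stalk s) ≤ 1 → ∃ r : ℕ, Nonempty ((Scheme.Modules.pullback (pullback.fst f (S.fromSpecStalk s))).obj E ≅ FlatMod.freeMod (pullback f (S.fromSpecStalk s)) r)) : ∃ G : S.Modules, FlatMod.IsFinLocFree G ∧ Nonempty (E ≅ (Scheme.Modules.pullback f).obj G) := by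
  haveI : IsLocallyNoetherian X := LocallyOfFiniteType.isLocallyNoetherian f
  obtain ⟨hEq, hEp⟩ := PullbackMod.isQCoh_and_isFP_of_isFinLocFree E hE
  haveI := hEq
  have hEc : Coh.IsCoh E := ⟨hEq, ExactConstrLib.isFT_of_isFP hEp⟩
  let G := (Scheme.Modules.pushforward f).obj E
  have hG : Coh.IsCoh G := RpushLib.isCoh_push f hEc
  haveI := hG.1
  let P := (Scheme.Modules.pullback f).obj G
  have hP : Coh.IsCoh P := PullbackMod.isCoh_pullback f G hG
  haveI := hP.1
  let φ : P ⟶ E := (Scheme.Modules.pullbackPushforwardAdjunction f).counit.app E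
  haveI := isIso_unitMap f hO
  let u := asIso (X := Coh.structureModule S) (Y := (Scheme.Modules.pushforward f).obj (Coh.structureModule X))
    (SheafOfModules.unitToPushforwardObjUnit f.toRingCatSheafHom)
  have hlow : ∀ x : X, ringKrullDim (S.presheaf.stalk (f x)) ≤ 1 →
      Function.Bijective (PullbackMod.stalkLin φ x) := by
    intro x hx
    let s := f x
    obtain ⟨n, ⟨e⟩⟩ := h1 s hx
    haveI : Flat (S.fromSpecStalk s) := REqLib.flat_fromSpecStalk s
    obtain ⟨x', hx', -⟩ := Scheme.Pullback.exists_preimage_pullback (f := f) (g := S.fromSpecStalk s) x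
      (IsLocalRing.closedPoint _) (by rw [Scheme.fromSpecStalk_closedPoint])
    haveI : IsLocallyNoetherian (pullback f (S.fromSpecStalk s)) :=
      LocallyOfFiniteType.isLocallyNoetherian (pullback.snd f (S.fromSpecStalk s))
    haveI := PullbackMod.isQCoh_pullback (pullback.fst f (S.fromSpecStalk s)) E
    haveI := QCohLib.isQCoh_pushforward ((Scheme.Modules.pullback (pullback.fst f (S.fromSpecStalk s))).obj E)
      (pullback.snd f (S.fromSpecStalk s))
    have := bijective_counit f (S.fromSpecStalk s) (pullback.fst f _) (pullback.snd f _)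
      (IsPullback.of_hasPullback f _) E (PullbackMod.isCoh_pullback _ P hP) u e x'
    rwa [hx'] at this
  have hopen := PullbackMod.isOpen_stalk_bijective φ hP.2 hEp
  let V : S.Opens := ⟨(f '' {x | Function.Bijective (PullbackMod.stalkLin φ x)}ᶜ)ᶜ,
    (f.isClosedMap _ hopen.isClosed_compl).isOpen_compl⟩
  have hgood : ∀ x : X, f x ∈ V → Function.Bijective (PullbackMod.stalkLin φ x) := fun x hx => by
    by_contra hc
    exact hx ⟨x, hc, rfl⟩
  have hbase : ∀ s : S, s ∉ V → (2 : ℕ∞) ≤ LocCoh.depth (S.presheaf.stalk s) (S.presheaf.stalk s) := by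
    intro s hs
    refine ParaFLib.two_le_depth_stalk_of_normal s (hS s) ?_
    by_contra hd
    obtain ⟨x, hx, rfl⟩ := not_not.1 hs
    exact hx (hlow x (le_one_of_not_two_le hd))
  have hX2 : ∀ x : X, x ∉ f ⁻¹ᵁ V → (2 : ℕ∞) ≤ LocCoh.depth (X.presheaf.stalk x) (X.presheaf.stalk x) := by
    intro x hx
    letI : Algebra (S.presheaf.stalk (f x)) (X.presheaf.stalk x) := (f.stalkMap x).hom.toAlgebra
    haveI : IsLocalHom (algebraMap (S.presheaf.stalk (f x)) (X.presheaf.stalk x)) :=
      inferInstanceAs (IsLocalHom (f.stalkMap x).hom)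
    haveI : Module.Flat (S.presheaf.stalk (f x)) (X.presheaf.stalk x) := Flat.stalkMap f x
    refine (two_le_depth_tensor (A := X.presheaf.stalk x) (hbase _ hx)).trans_eq ?_
    exact Depth.depth_congr (TensorProduct.AlgebraTensorModule.rid (S.presheaf.stalk (f x)) (X.presheaf.stalk x) (X.presheaf.stalk x))
  have hclosed : ParaFLib.IsClosed' (f ⁻¹ᵁ V).ι E := ParaFLib.isClosed'_of_isFinLocFree _
    (ParaFLib.isClosed'_of_depth _ hX2 ParaFLib.isInvertible_structureModule) hE
  have hbij : ∀ O : X.Opens, Function.Bijective (E.presheaf.map (homOfLE (inf_le_left : O ⊓ f ⁻¹ᵁ V ≤ O)).op) := by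
    intro O
    have := (ParaFLib.isClosed'_iff _ E).1 hclosed O
    rw [Scheme.Hom.image_preimage_eq_opensRange_inf, Scheme.Opens.opensRange_ι, inf_comm] at this
    exact this inf_le_left
  haveI : IsIso φ := by
    refine AssLib.isIso_of_depth φ hP fun x => ?_
    by_cases hx : f x ∈ V
    · exact Or.inl (hgood x hx)
    refine Or.inr ⟨?_, AssLib.not_isAssPoint_of_injective (U := f ⁻¹ᵁ V) (fun O => (hbij O).1) hx⟩
    have hd := AssLib.two_le_depth_of_bijective (U := V) hG
      (fun W => hbij (f ⁻¹ᵁ W)) hx
    letI : Algebra (S.presheaf.stalk (f x)) (X.presheaf.stalk x) := (f.stalkMap x).hom.toAlgebra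
    haveI : IsLocalHom (algebraMap (S.presheaf.stalk (f x)) (X.presheaf.stalk x)) :=
      inferInstanceAs (IsLocalHom (f.stalkMap x).hom)
    haveI : Module.Flat (S.presheaf.stalk (f x)) (X.presheaf.stalk x) := Flat.stalkMap f x
    haveI : Module.Finite (S.presheaf.stalk (f x)) (G.presheaf.stalk (f x)) :=
      PullbackMod.finite_stalk_of_isFT hG.2 _
    letI := Module.compHom (P.presheaf.stalk x) (f.stalkMap x).hom
    haveI : IsScalarTower (S.presheaf.stalk (f x)) (X.presheaf.stalk x) (P.presheaf.stalk x) :=
      .of_algebraMap_smul fun _ _ => rfl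
    exact (two_le_depth_tensor (A := X.presheaf.stalk x) hd).trans_eq
      (Depth.depth_congr (PullbackMod.isBaseChange_pullStalkL f G x).equiv)
  haveI : Surjective f := ⟨surjective_of_hO f hO⟩
  refine ⟨G, S1177.result f G ?_, ⟨(asIso φ).symm⟩⟩
  exact DCohLib.isFinLocFree_iso (asIso φ).symm hE

end Groth.Agent.S8996
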