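import Groth.Statements.S8998
import Groth.Agent.S1246
import Groth.Agent.S1247
import Groth.Agent.PureCritLib.HensFin

set_option autoImplicit false
set_option linter.style.haveILetI false
set_option backward.isDefEq.respectTransparency false
set_option backward.isDefEq.respectTransparency.types false
set_option maxHeartbeats 1500000
universe u
open FlatMor

namespace Groth.Agent.S8998

open TensorProduct

attribute [local instance] Algebra.TensorProduct.rightAlgebra

/-- An impurity over an essentially finite type quasi-finite local algebra gives one over an etale neighbourhood. -/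
theorem etaleNhd_of_local {A B : Type u} [CommRing A] [CommRing B] [Algebra A B] [Algebra.FiniteType A B]
    (N : Type u) [AddCommGroup N] [Module B N] [Module.Finite B N] (p : Ideal A) [p.IsPrime]
    (h : FlatCA.HasImpurity A B N p (fun A' _ _ t => ∃ _ : IsLocalRing A',
      t = IsLocalRing.maximalIdeal A' ∧ Algebra.EssFiniteType A A' ∧ Algebra.QuasiFinite A A')) :
    FlatCA.HasImpurity A B N p (fun A' _ _ t => ∃ _ : t.IsPrime, FlatCA.IsEtaleNhd A A' p t) := by
  obtain ⟨A', B', N', _, _, _, _, _, _, _, _, _, _, _, _, _, _, f, t', t, _, _, P, _, himp, _, rfl, hess, hqf⟩ := h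
  haveI := hess
  haveI := hqf
  obtain ⟨F, hF⟩ := PureCritLib.impurity_descend himp
  obtain ⟨A₀, hFA₀, hft, hqf₀⟩ := PureCritLib.exists_subalgebra_quasiFiniteAt A A' F
  obtain ⟨s₀, hs₀, H⟩ := hF A₀ A₀.val fun x hx => ⟨⟨x, hFA₀ hx⟩, rfl⟩
  refine S1246.result N p (H ((IsLocalRing.maximalIdeal A').comap A₀.val.toRingHom) le_rfl ⟨?_⟩ (fun h => hs₀ h) _
    ⟨inferInstance, hft, hqf₀⟩)
  rw [Ideal.under_def, Ideal.comap_comap,
    show A₀.val.toRingHom.comp (algebraMap A A₀) = algebraMap A A' from A₀.val.comp_algebraMap]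
  exact himp.2.2.2.1.over

/-- An impurity over a finite type quasi-finite algebra over an essentially finite type quasi-finite
base change gives one over an etale neighbourhood. -/
theorem etaleNhd_of_essBase {A B R BR : Type u} [CommRing A] [CommRing B] [Algebra A B] [Algebra.FiniteType A B]
    [CommRing R] [CommRing BR] [Algebra A R] [Algebra.EssFiniteType A R] [Algebra.QuasiFinite A R]
    [Algebra B BR] [Algebra R BR] [Algebra A BR] [IsScalarTower A B BR] [IsScalarTower A R BR] [Algebra.IsPushout A B R BR]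
    (N : Type u) [AddCommGroup N] [Module B N] [Module.Finite B N] (NR : Type u) [AddCommGroup NR] [Module BR NR]
    [Module B NR] [IsScalarTower B BR NR] (f : N →ₗ[B] NR) (hf : IsBaseChange BR f)
    (p : Ideal A) [p.IsPrime] (m : Ideal R) [m.IsPrime] [m.LiesOver p]
    (h : FlatCA.HasImpurity R BR NR m (fun A' _ _ t => ∃ _ : t.IsPrime, Algebra.FiniteType R A' ∧ Algebra.QuasiFiniteAt R t)) :
    FlatCA.HasImpurity A B N p (fun A' _ _ t => ∃ _ : t.IsPrime, FlatCA.IsEtaleNhd A A' p t) := by
  obtain ⟨A₄, B₄, N₄, _, _, _, _, _, _, _, _, _, _, _, _, _, _, g₄, v', v, _, _, P₄, _, himp₄, _, hft, hqf⟩ := h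
  obtain ⟨hpo, hbc, hvv, hvm, hPv, hass, hno⟩ := himp₄
  haveI := hpo
  haveI := hft
  haveI := hqf
  haveI := hvm
  -- the impurity seen over the base
  letI : Algebra A A₄ := ((algebraMap R A₄).comp (algebraMap A R)).toAlgebra
  haveI : IsScalarTower A R A₄ := .of_algebraMap_eq' rfl
  letI : Algebra B B₄ := ((algebraMap BR B₄).comp (algebraMap B BR)).toAlgebra
  haveI : IsScalarTower B BR B₄ := .of_algebraMap_eq' rfl
  letI : Algebra A B₄ := ((algebraMap A₄ B₄).comp (algebraMap A A₄)).toAlgebra
  haveI : IsScalarTower A A₄ B₄ := .of_algebraMap_eq' rfl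
  haveI : IsScalarTower A BR B₄ := IsScalarTower.of_algebraMap_eq (R := A) (S := BR) (A := B₄) fun a => by
    rw [IsScalarTower.algebraMap_apply A A₄ B₄, IsScalarTower.algebraMap_apply A R A₄,
      ← IsScalarTower.algebraMap_apply R A₄ B₄, IsScalarTower.algebraMap_apply R BR B₄,
      ← IsScalarTower.algebraMap_apply A R BR]
  haveI : IsScalarTower A B B₄ := IsScalarTower.of_algebraMap_eq (R := A) (S := B) (A := B₄) fun a => by
    rw [IsScalarTower.algebraMap_apply A BR B₄, IsScalarTower.algebraMap_apply A B BR, ← IsScalarTower.algebraMap_apply B BR B₄]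
  haveI : Algebra.IsPushout A R B BR := Algebra.IsPushout.symm inferInstance
  haveI : Algebra.IsPushout R A₄ BR B₄ := Algebra.IsPushout.symm inferInstance
  haveI : Algebra.IsPushout A A₄ B B₄ := (Algebra.IsPushout.comp_iff A R B BR (T := A₄) (T' := B₄)).2 inferInstance
  letI : Module B N₄ := Module.compHom _ (algebraMap B BR)
  haveI : IsScalarTower B BR N₄ := .of_algebraMap_smul fun _ _ => rfl
  haveI : IsScalarTower B B₄ N₄ := .of_algebraMap_smul fun b (n : N₄) => by
    show algebraMap B B₄ b • n = algebraMap B BR b • n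
    rw [← algebraMap_smul B₄ (algebraMap B BR b) n, ← IsScalarTower.algebraMap_apply B BR B₄]
  have himpA : FlatCA.IsImpurity A B N p A₄ B₄ N₄ ((g₄.restrictScalars B).comp f) v' v P₄ :=
    ⟨Algebra.IsPushout.symm inferInstance, IsBaseChange.comp hf hbc, hvv,
      Ideal.LiesOver.trans v m p, hPv, hass, hno⟩
  -- localise at the point
  let L := Localization.AtPrime v
  haveI : Algebra.EssFiniteType R A₄ := inferInstance
  haveI : Algebra.EssFiniteType A A₄ := Algebra.EssFiniteType.comp A R A₄
  haveI : Algebra.EssFiniteType A₄ L := .of_isLocalization L v.primeCompl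
  haveI : Algebra.EssFiniteType A L := Algebra.EssFiniteType.comp A A₄ L
  haveI : Algebra.QuasiFinite R L := hqf
  haveI : IsScalarTower A R L := IsScalarTower.of_algebraMap_eq (R := A) (S := R) (A := L) fun a => by
    rw [IsScalarTower.algebraMap_apply A A₄ L, IsScalarTower.algebraMap_apply A R A₄, ← IsScalarTower.algebraMap_apply R A₄ L]
  haveI : Algebra.QuasiFinite A L := Algebra.QuasiFinite.trans A R L
  have hd' : Disjoint (v.primeCompl : Set A₄) v' := Set.disjoint_left.2 fun x hx hx' => hx (hvv hx')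
  let w' : Ideal L := v'.map (algebraMap A₄ L)
  haveI : w'.IsPrime := IsLocalization.isPrime_of_isPrime_disjoint v.primeCompl L v' inferInstance hd'
  haveI : w'.LiesOver v' := IsLocalization.liesOver_map_of_isPrime_disjoint v.primeCompl L hd'
  haveI : p.LiesOver p := ⟨rfl⟩
  haveI : (IsLocalRing.maximalIdeal L).LiesOver p := by
    haveI : v.LiesOver p := himpA.2.2.2.1
    exact Ideal.LiesOver.trans (IsLocalRing.maximalIdeal L) v p
  obtain ⟨A₅, B₅, N₅, _, _, _, _, _, _, _, _, _, _, _, _, _, _, g₅, w₁, w, _, _, P₅, _, himp₅, ε, hε⟩ :=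
    PureCritLib.impurity_pullback_core (A' := A) (B' := B) (N' := N) (p' := p) (A₂ := L) N
      (IsBaseChange.ofEquiv (LinearEquiv.refl B N)) himpA (IsLocalRing.maximalIdeal L) w'
      (IsLocalRing.le_maximalIdeal (Ideal.IsPrime.ne_top inferInstance))
  haveI : IsLocalRing A₅ := ε.toRingEquiv.isLocalRing
  obtain rfl : w = IsLocalRing.maximalIdeal A₅ := Ideal.ext fun x => by
    have h3 : ε.symm x ∈ w.comap ε.toRingHom ↔ ε.symm x ∈ IsLocalRing.maximalIdeal L := by rw [hε]
    rw [Ideal.mem_comap, show ε.toRingHom (ε.symm x) = x from ε.apply_symm_apply x, IsLocalRing.mem_maximalIdeal,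
      mem_nonunits_iff, isUnit_map_iff] at h3
    rw [h3, IsLocalRing.mem_maximalIdeal, mem_nonunits_iff]
  exact etaleNhd_of_local N p ⟨A₅, B₅, N₅, inferInstance, inferInstance, inferInstance, inferInstance, inferInstance, inferInstance,
      inferInstance, inferInstance, inferInstance, inferInstance, inferInstance, inferInstance, inferInstance, inferInstance,
      g₅, w₁, _, inferInstance, inferInstance, P₅, inferInstance, himp₅, inferInstance, rfl,
      Algebra.EssFiniteType.of_surjective ε.toAlgHom ε.surjective, Algebra.QuasiFinite.of_surjective_algHom ε.toAlgHom ε.surjective⟩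

/-- An impurity above a point with Noetherian local ring gives one over an etale neighbourhood. -/
theorem etaleNhd_of_noetherian {A B : Type u} [CommRing A] [CommRing B] [Algebra A B] [Algebra.FiniteType A B]
    (N : Type u) [AddCommGroup N] [Module B N] [Module.Finite B N] (p : Ideal A) [p.IsPrime]
    (R BR : Type u) [CommRing R] [Algebra A R] [IsLocalization.AtPrime R p] [IsLocalRing R] [IsNoetherianRing R]
    [CommRing BR] [Algebra B BR] [Algebra R BR] [Algebra A BR] [IsScalarTower A B BR] [IsScalarTower A R BR]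
    [Algebra.IsPushout A B R BR] [Algebra.FiniteType R BR]
    (NR : Type u) [AddCommGroup NR] [Module BR NR] [Module B NR] [IsScalarTower B BR NR] [Module.Finite BR NR]
    (f : N →ₗ[B] NR) (hf : IsBaseChange BR f)
    {A₁ B₁ N₁ : Type u} [CommRing A₁] [CommRing B₁] [Algebra A A₁] [Algebra B B₁] [Algebra A₁ B₁] [Algebra A B₁]
    [IsScalarTower A B B₁] [IsScalarTower A A₁ B₁] [AddCommGroup N₁] [Module B₁ N₁] [Module B N₁] [IsScalarTower B B₁ N₁]
    [Module A₁ N₁] [IsScalarTower A₁ B₁ N₁] {g : N →ₗ[B] N₁} {t' t : Ideal A₁} [t'.IsPrime] [t.IsPrime]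
    {P : Ideal B₁} [P.IsPrime] (himp : FlatCA.IsImpurity A B N p A₁ B₁ N₁ g t' t P) :
    FlatCA.HasImpurity A B N p (fun A' _ _ t => ∃ _ : t.IsPrime, FlatCA.IsEtaleNhd A A' p t) := by
  haveI := himp.2.2.2.1
  -- base change to the local ring
  let A₂ := R ⊗[A] A₁
  haveI : IsLocalization (Algebra.algebraMapSubmonoid A₁ p.primeCompl) A₂ := inferInstance
  have hdisj : ∀ (u : Ideal A₁), u ≤ t → Disjoint (Algebra.algebraMapSubmonoid A₁ p.primeCompl : Set A₁) u := fun u hu => by
    rw [Set.disjoint_left]
    rintro x ⟨a, ha, rfl⟩ hx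
    exact ha ((t.over_def p).ge (hu hx))
  let M := Algebra.algebraMapSubmonoid A₁ p.primeCompl
  let t₂ : Ideal A₂ := t.map (algebraMap A₁ A₂)
  let t₂' : Ideal A₂ := t'.map (algebraMap A₁ A₂)
  haveI : t₂.IsPrime := IsLocalization.isPrime_of_isPrime_disjoint M A₂ t inferInstance (hdisj t le_rfl)
  haveI : t₂'.IsPrime := IsLocalization.isPrime_of_isPrime_disjoint M A₂ t' inferInstance (hdisj t' himp.2.2.1)
  haveI : t₂.LiesOver t := IsLocalization.liesOver_map_of_isPrime_disjoint M A₂ (hdisj t le_rfl)
  haveI : t₂'.LiesOver t' := IsLocalization.liesOver_map_of_isPrime_disjoint M A₂ (hdisj t' himp.2.2.1)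
  haveI : t₂.LiesOver p := Ideal.LiesOver.trans t₂ t p
  haveI : Algebra.EssFiniteType A R := .of_isLocalization R p.primeCompl
  haveI : Algebra.QuasiFinite A R := .of_isLocalization p.primeCompl
  let m := IsLocalRing.maximalIdeal R
  haveI : m.LiesOver p := ⟨(IsLocalization.AtPrime.comap_maximalIdeal R p).symm⟩
  haveI : t₂.LiesOver m := ⟨by
    have h1 : m.comap (algebraMap A R) = (t₂.under R).comap (algebraMap A R) := by
      rw [Ideal.under_def, Ideal.comap_comap, ← IsScalarTower.algebraMap_eq]
      exact (m.over_def p).symm.trans (t₂.over_def p)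
    exact (IsLocalization.map_comap p.primeCompl R m).symm.trans
      ((congrArg (Ideal.map (algebraMap A R)) h1).trans (IsLocalization.map_comap p.primeCompl R (t₂.under R)))⟩
  obtain ⟨A₃, B₃, N₃, _, _, _, _, _, _, _, _, _, _, _, _, _, _, g₃, u', u, _, _, P₃, _, himp₃, -⟩ :=
    PureCritLib.impurity_pullback_core (A' := R) (B' := BR) (p' := m) (A₂ := A₂) N (hf)
      himp t₂ t₂' (Ideal.map_mono himp.2.2.1)
  exact etaleNhd_of_essBase N NR f hf p m
      (S1247.result NR m ⟨A₃, B₃, N₃, inferInstance, inferInstance, inferInstance, inferInstance, inferInstance, inferInstance,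
      inferInstance, inferInstance, inferInstance, inferInstance, inferInstance, inferInstance, inferInstance, inferInstance,
      g₃, u', u, inferInstance, inferInstance, P₃, inferInstance, himp₃, trivial⟩)

/-- For an affine finite type morphism Spec B → Spec A: if the local ring of A at the prime p is
Noetherian, then a finite B-module is pure along the fibre over p if and only if it is universally
pure along it. -/
theorem result {A B : Type u} [CommRing A] [CommRing B] [Algebra A B] [Algebra.FiniteType A B] (N : Type u) [AddCommGroup N] [Module B N] [Module.Finite B N] (p : Ideal A) [p.IsPrime] [IsNoetherianRing (Localization.AtPrime p)] : FlatCA.IsPureAlong A B N p ↔ FlatCA.IsUnivPureAlong A B N p := by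
  refine ⟨fun hpure => ?_, fun huniv A' B' N' _ _ _ _ _ _ _ _ _ _ _ _ _ _ f t' t _ _ P _ _ => huniv A' B' N' f t' t P⟩
  intro A₁ B₁ N₁ _ _ _ _ _ _ _ _ _ _ _ _ _ _ g t' t _ _ P _ himp
  let R := Localization.AtPrime p
  let BR := R ⊗[A] B
  let NR := BR ⊗[B] N
  haveI : Algebra.IsPushout A B R BR := Algebra.IsPushout.symm inferInstance
  have hf : IsBaseChange BR (TensorProduct.mk B BR N 1) := TensorProduct.isBaseChange B N BR
  refine (?_ : FlatCA.HasImpurity A B N p (fun A' _ _ t => ∃ _ : t.IsPrime, FlatCA.IsEtaleNhd A A' p t) → False) ?_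
  · rintro ⟨A₆, B₆, N₆, _, _, _, _, _, _, _, _, _, _, _, _, _, _, g₆, z', z, _, _, P₆, _, himp₆, _, het⟩
    exact hpure A₆ B₆ N₆ g₆ z' z P₆ het himp₆
  refine etaleNhd_of_noetherian (A := A) (B := B) N p R BR NR (TensorProduct.mk B BR N 1) ?_ himp
  exact hf

end Groth.Agent.S8998
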