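import Groth.Statements.S8999
import Groth.Agent.PureLib.Basic

set_option autoImplicit false
set_option linter.style.haveILetI false
set_option backward.isDefEq.respectTransparency false
set_option backward.isDefEq.respectTransparency.types false
set_option maxHeartbeats 1000000
universe u
open FlatMor

namespace Groth.Agent.S8999

open TensorProduct Groth.Agent.PureLib

attribute [local instance] Algebra.TensorProduct.rightAlgebra

/-- Vanishing in the fibre only depends on the module over the base. -/
theorem vanishes_restrict {R S M : Type u} [CommRing R] [CommRing S] [Algebra R S] (p : Ideal R) [p.IsPrime]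
    [AddCommGroup M] [Module S M] [Module R M] [IsScalarTower R S M] (m : M) :
    Vanishes (S := S) p M m ↔ ∃ r ∉ p, r • m ∈ p • (⊤ : Submodule R M) := by
  have h := Ideal.smul_restrictScalars (S := S) p (⊤ : Submodule S M)
  rw [Submodule.restrictScalars_top] at h
  refine exists_congr fun r => and_congr_right fun _ => ?_
  rw [algebraMap_smul, ← h, Submodule.restrictScalars_mem]

/-- Associated points of fibres along a closed immersion. -/
theorem ass_iff {R S S₂ M M₂ : Type u} [CommRing R] [CommRing S] [CommRing S₂] [Algebra R S] [Algebra R S₂] [Algebra S S₂]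
    [IsScalarTower R S S₂] [Algebra.FiniteType R S] (hs : Function.Surjective (algebraMap S S₂))
    [AddCommGroup M] [Module S M] [Module R M] [IsScalarTower R S M]
    [AddCommGroup M₂] [Module S₂ M₂] [Module S M₂] [Module R M₂] [IsScalarTower R S₂ M₂] [IsScalarTower S S₂ M₂]
    [IsScalarTower R S M₂] (e : M ≃ₗ[S] M₂) (p : Ideal R) [p.IsPrime] :
    (∀ (Q : Ideal S) [Q.IsPrime] [Q.LiesOver p], FlatCA.fiberIdeal p Q ∈ associatedPrimes (p.Fiber S) (FlatCA.fiberMod p S M) →
      RingHom.ker (algebraMap S S₂) ≤ Q) ∧
    ∀ (Q : Ideal S) [Q.IsPrime] [Q.LiesOver p] (Q₂ : Ideal S₂) [Q₂.IsPrime] [Q₂.LiesOver p], Q₂.comap (algebraMap S S₂) = Q →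
      (FlatCA.fiberIdeal p Q ∈ associatedPrimes (p.Fiber S) (FlatCA.fiberMod p S M) ↔
        FlatCA.fiberIdeal p Q₂ ∈ associatedPrimes (p.Fiber S₂) (FlatCA.fiberMod p S₂ M₂)) := by
  haveI : Algebra.FiniteType R S₂ := Algebra.FiniteType.of_surjective (IsScalarTower.toAlgHom R S S₂) hs
  have hv : ∀ m : M, Vanishes (S := S) p M m ↔ Vanishes (S := S₂) p M₂ (e m) := fun m => by
    rw [vanishes_restrict, vanishes_restrict]
    refine exists_congr fun r => and_congr_right fun _ => ?_
    have : (p • (⊤ : Submodule R M)).map (e.restrictScalars R).toLinearMap = p • (⊤ : Submodule R M₂) := by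
      rw [Submodule.map_smul'', Submodule.map_top, LinearEquiv.range]
    rw [← this, show r • e m = (e.restrictScalars R).toLinearMap (r • m) from (map_smul (e.restrictScalars R) r m).symm]
    rw [Submodule.mem_map_equiv]
    simp
  constructor
  · intro Q _ _ hass c hc
    obtain ⟨n, hn⟩ := exists_elem_of_ass p M Q hass
    rw [hn, hv, map_smul, ← algebraMap_smul S₂ c (e n), RingHom.mem_ker.1 hc, zero_smul]
    exact vanishes_zero p M₂
  · intro Q _ _ Q₂ _ _ hQ
    have key : ∀ (c : S) (n : M), Vanishes (S := S) p M (c • n) ↔ Vanishes (S := S₂) p M₂ (algebraMap S S₂ c • e n) :=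
      fun c n => by rw [hv, map_smul, algebraMap_smul]
    constructor
    · intro h
      obtain ⟨n, hn⟩ := exists_elem_of_ass p M Q h
      refine mem_ass_of_elem p M₂ Q₂ (n := e n) fun c => ?_
      obtain ⟨c, rfl⟩ := hs c
      rw [← key, ← hn, ← hQ, Ideal.mem_comap]
    · intro h
      obtain ⟨n, hn⟩ := exists_elem_of_ass p M₂ Q₂ h
      refine mem_ass_of_elem p M Q (n := e.symm n) fun c => ?_
      rw [key, e.apply_symm_apply, ← hn, ← hQ, Ideal.mem_comap]

/-- The base changes along a closed immersion form a closed immersion with the same module. -/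
theorem exists_identify {A B C A' B' C' N N' N'' : Type u} [CommRing A] [CommRing B] [CommRing C] [Algebra A B] [Algebra B C]
    [Algebra A C] [IsScalarTower A B C] (hBC : Function.Surjective (algebraMap B C))
    [CommRing A'] [CommRing B'] [CommRing C'] [Algebra A A'] [Algebra B B'] [Algebra A' B'] [Algebra A B']
    [IsScalarTower A B B'] [IsScalarTower A A' B'] [Algebra.IsPushout A B A' B']
    [Algebra C C'] [Algebra A' C'] [Algebra A C'] [IsScalarTower A C C'] [IsScalarTower A A' C'] [Algebra.IsPushout A C A' C']
    [AddCommGroup N] [Module C N] [Module B N] [IsScalarTower B C N]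
    [AddCommGroup N'] [Module B' N'] [Module B N'] [IsScalarTower B B' N'] (f : N →ₗ[B] N') (hf : IsBaseChange B' f)
    [AddCommGroup N''] [Module C' N''] [Module C N''] [IsScalarTower C C' N''] [Module A' N''] [IsScalarTower A' C' N'']
    (g : N →ₗ[C] N'') (hg : IsBaseChange C' g) :
    ∃ (_ : Algebra B' C') (_ : IsScalarTower A' B' C') (_ : Module B' N'') (_ : IsScalarTower B' C' N'')
      (_ : IsScalarTower A' B' N''), Function.Surjective (algebraMap B' C') ∧ Nonempty (N' ≃ₗ[B'] N'') := by
  letI : Algebra B C' := ((algebraMap C C').comp (algebraMap B C)).toAlgebra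
  haveI : IsScalarTower B C C' := .of_algebraMap_eq' rfl
  haveI : IsScalarTower A B C' := IsScalarTower.of_algebraMap_eq (R := A) (S := B) (A := C') fun a => by
    rw [IsScalarTower.algebraMap_apply B C C', ← IsScalarTower.algebraMap_apply A B C, ← IsScalarTower.algebraMap_apply A C C']
  haveI : Algebra.IsPushout A A' B B' := Algebra.IsPushout.symm inferInstance
  let σ : B' →ₐ[A] C' := Algebra.pushoutDesc B' (IsScalarTower.toAlgHom A A' C') (IsScalarTower.toAlgHom A B C')
    fun _ _ => Commute.all _ _
  letI : Algebra B' C' := σ.toRingHom.toAlgebra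
  haveI : IsScalarTower A' B' C' := .of_algebraMap_eq fun b => by
    show _ = σ (algebraMap A' B' b)
    rw [Algebra.pushoutDesc_left]
    rfl
  haveI : IsScalarTower B B' C' := .of_algebraMap_eq fun b => by
    show _ = σ (algebraMap B B' b)
    rw [Algebra.pushoutDesc_right]
    rfl
  haveI : IsScalarTower A B' C' := IsScalarTower.of_algebraMap_eq (R := A) (S := B') (A := C') fun a => (σ.commutes a).symm
  haveI : Algebra.IsPushout B C B' C' := (Algebra.IsPushout.comp_iff (R := A) (S := B) (R' := A') (S' := B') (T := C) (T' := C')).1 inferInstance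
  haveI : Algebra.IsPushout B B' C C' := Algebra.IsPushout.symm inferInstance
  have hs : Function.Surjective (algebraMap B' C') := fun x => by
    obtain ⟨z, rfl⟩ := (Algebra.IsPushout.equiv B B' C C').surjective x
    induction z using TensorProduct.induction_on with
    | zero => exact ⟨0, by simp⟩
    | tmul b c =>
      obtain ⟨b', rfl⟩ := hBC c
      refine ⟨b * algebraMap B B' b', ?_⟩
      rw [Algebra.IsPushout.equiv_tmul, map_mul, ← IsScalarTower.algebraMap_apply B B' C',
        ← IsScalarTower.algebraMap_apply B C C']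
    | add u v hu hv =>
      obtain ⟨x, hx⟩ := hu
      obtain ⟨y, hy⟩ := hv
      exact ⟨x + y, by rw [map_add, map_add, hx, hy]⟩
  letI : Module B' N'' := Module.compHom _ (algebraMap B' C')
  haveI : IsScalarTower B' C' N'' := .of_algebraMap_smul fun _ _ => rfl
  haveI : IsScalarTower A' B' N'' := .of_algebraMap_smul fun a (n : N'') => by
    show algebraMap B' C' (algebraMap A' B' a) • n = a • n
    rw [← IsScalarTower.algebraMap_apply A' B' C', algebraMap_smul]
  exact ⟨inferInstance, inferInstance, inferInstance, inferInstance, inferInstance, hs,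
    ⟨hf.equiv.symm.trans (((Algebra.IsPushout.cancelBaseChange B B' C C' N).symm).trans (hg.equiv.restrictScalars B'))⟩⟩

/-- An impurity on a closed subscheme is one on the ambient scheme, and conversely. -/
theorem hasImpurity_iff {A B C : Type u} [CommRing A] [CommRing B] [CommRing C] [Algebra A B] [Algebra B C] [Algebra A C]
    [IsScalarTower A B C] [Algebra.FiniteType A B] (hBC : Function.Surjective (algebraMap B C)) (N : Type u) [AddCommGroup N]
    [Module C N] [Module B N] [IsScalarTower B C N] (p : Ideal A) [p.IsPrime]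
    (Q : ∀ (A' : Type u) [CommRing A'] [Algebra A A'], Ideal A' → Prop) :
    FlatCA.HasImpurity A C N p Q ↔ FlatCA.HasImpurity A B N p Q := by
  constructor
  · rintro ⟨A', C', N'', _, _, _, _, _, _, _, _, _, _, _, _, _, _, g, t', t, _, _, P₂, _, ⟨hpo, hbc, htt, htp, hPt, hass, hno⟩, hQ⟩
    haveI := hpo
    let B' := A' ⊗[A] B
    let N' := B' ⊗[B] N
    haveI : Algebra.IsPushout A B A' B' := Algebra.IsPushout.symm inferInstance
    obtain ⟨_, _, _, _, _, hs, ⟨e⟩⟩ := exists_identify (A := A) (A' := A') hBC (TensorProduct.mk B B' N 1) (TensorProduct.isBaseChange B N B') g hbc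
    haveI : Algebra.FiniteType A' B' := inferInstanceAs (Algebra.FiniteType A' (A' ⊗[A] B))
    haveI := hPt
    haveI : (P₂.comap (algebraMap B' C')).LiesOver t' := ⟨by
      rw [Ideal.under_def, Ideal.comap_comap, ← IsScalarTower.algebraMap_eq]
      exact P₂.over_def t'⟩
    refine ⟨A', B', N', inferInstance, inferInstance, inferInstance, inferInstance, inferInstance, inferInstance, inferInstance,
      inferInstance, inferInstance, inferInstance, inferInstance, inferInstance, inferInstance, inferInstance,
      TensorProduct.mk B B' N 1, t', t, inferInstance, inferInstance, P₂.comap (algebraMap B' C'), inferInstance,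
      ⟨inferInstance, TensorProduct.isBaseChange B N B', htt, htp, inferInstance,
        ((ass_iff hs e t').2 _ P₂ rfl).2 hass, fun R _ hPR hRt => ?_⟩, hQ⟩
    have hker : RingHom.ker (algebraMap B' C') ≤ R := (Ideal.comap_mono bot_le).trans hPR
    haveI : (R.map (algebraMap B' C')).IsPrime := Ideal.map_isPrime_of_surjective hs hker
    have hR : (R.map (algebraMap B' C')).comap (algebraMap B' C') = R := by
      rw [Ideal.comap_map_of_surjective _ hs, ← RingHom.ker_eq_comap_bot, sup_eq_left.2 hker]
    refine hno (R.map (algebraMap B' C')) ?_ ⟨?_⟩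
    · rw [← Ideal.map_comap_of_surjective _ hs P₂]
      exact Ideal.map_mono hPR
    · rw [Ideal.under_def, IsScalarTower.algebraMap_eq A' B' C', ← Ideal.comap_comap, hR]
      exact hRt.over
  · rintro ⟨A', B', N', _, _, _, _, _, _, _, _, _, _, _, _, _, _, f, t', t, _, _, P, _, ⟨hpo, hbc, htt, htp, hPt, hass, hno⟩, hQ⟩
    haveI := hpo
    let C' := A' ⊗[A] C
    let N'' := C' ⊗[C] N
    haveI : Algebra.IsPushout A C A' C' := Algebra.IsPushout.symm inferInstance
    obtain ⟨_, _, _, _, _, hs, ⟨e⟩⟩ := exists_identify (A := A) (A' := A') hBC f hbc (TensorProduct.mk C C' N 1) (TensorProduct.isBaseChange C N C')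
    haveI : Algebra.FiniteType A' B' := PureLib.finiteType_pushout A B A' B' hpo
    haveI := hPt
    have hker := (ass_iff hs e t').1 P hass
    haveI : (P.map (algebraMap B' C')).IsPrime := Ideal.map_isPrime_of_surjective hs hker
    have hP : (P.map (algebraMap B' C')).comap (algebraMap B' C') = P := by
      rw [Ideal.comap_map_of_surjective _ hs, ← RingHom.ker_eq_comap_bot, sup_eq_left.2 hker]
    haveI : (P.map (algebraMap B' C')).LiesOver t' := ⟨by
      rw [Ideal.under_def, IsScalarTower.algebraMap_eq A' B' C', ← Ideal.comap_comap, hP]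
      exact P.over_def t'⟩
    refine ⟨A', C', N'', inferInstance, inferInstance, inferInstance, inferInstance, inferInstance, inferInstance, inferInstance,
      inferInstance, inferInstance, inferInstance, inferInstance, inferInstance, inferInstance, inferInstance,
      TensorProduct.mk C C' N 1, t', t, inferInstance, inferInstance, P.map (algebraMap B' C'), inferInstance,
      ⟨inferInstance, TensorProduct.isBaseChange C N C', htt, htp, inferInstance,
        ((ass_iff hs e t').2 P _ hP).1 hass, fun R _ hPR hRt => ?_⟩, hQ⟩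
    refine hno (R.comap (algebraMap B' C')) (hP.ge.trans (Ideal.comap_mono hPR)) ⟨?_⟩
    rw [Ideal.under_def, Ideal.comap_comap, ← IsScalarTower.algebraMap_eq]
    exact hRt.over

/-- For affine finite type schemes over Spec A: purity and universal purity along a fibre of a finite
module are unchanged when the module is pushed forward along a closed immersion Spec C → Spec B (a
surjective algebra map B → C). -/
theorem result {A B C : Type u} [CommRing A] [CommRing B] [CommRing C] [Algebra A B] [Algebra B C] [Algebra A C] [IsScalarTower A B C] [Algebra.FiniteType A B] (hBC : Function.Surjective (algebraMap B C)) (N : Type u) [AddCommGroup N] [Module C N] [Module B N] [IsScalarTower B C N] [Module.Finite C N] (p : Ideal A) [p.IsPrime] : (FlatCA.IsPureAlong A C N p ↔ FlatCA.IsPureAlong A B N p) ∧ (FlatCA.IsUnivPureAlong A C N p ↔ FlatCA.IsUnivPureAlong A B N p) := by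
  have conv : ∀ (X : Type u) [CommRing X] [Algebra A X] [Module X N],
      (FlatCA.IsPureAlong A X N p ↔ ¬ FlatCA.HasImpurity A X N p (fun A' _ _ t => ∃ _ : t.IsPrime, FlatCA.IsEtaleNhd A A' p t)) ∧
      (FlatCA.IsUnivPureAlong A X N p ↔ ¬ FlatCA.HasImpurity A X N p (fun _ _ _ _ => True)) := fun X _ _ _ => by
    refine ⟨⟨fun h ⟨A', B', N', _, _, _, _, _, _, _, _, _, _, _, _, _, _, f, t', t, _, _, P, _, himp, _, het⟩ =>
      h A' B' N' f t' t P het himp, fun h A' B' N' _ _ _ _ _ _ _ _ _ _ _ _ _ _ f t' t _ _ P _ het himp =>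
      h ⟨A', B', N', _, _, _, _, _, _, _, _, _, _, _, _, _, _, f, t', t, _, _, P, _, himp, ‹_›, het⟩⟩,
      ⟨fun h ⟨A', B', N', _, _, _, _, _, _, _, _, _, _, _, _, _, _, f, t', t, _, _, P, _, himp, _⟩ =>
      h A' B' N' f t' t P himp, fun h A' B' N' _ _ _ _ _ _ _ _ _ _ _ _ _ _ f t' t _ _ P _ himp =>
      h ⟨A', B', N', _, _, _, _, _, _, _, _, _, _, _, _, _, _, f, t', t, _, _, P, _, himp, trivial⟩⟩⟩
  exact ⟨by rw [(conv C).1, (conv B).1, hasImpurity_iff hBC], by rw [(conv C).2, (conv B).2, hasImpurity_iff hBC]⟩

end Groth.Agent.S8999
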