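import Groth.Statements.S9000
import Groth.Agent.Henselization.Universal
import Groth.Agent.PureCritLib.Descent
import Mathlib.RingTheory.Unramified.Finite

set_option autoImplicit false
set_option linter.style.haveILetI false
set_option backward.isDefEq.respectTransparency false
set_option backward.isDefEq.respectTransparency.types false
set_option maxHeartbeats 1000000
universe u
open FlatMor

namespace Groth.Agent.S9000

open IsLocalRing in
/-- For Spec B → Spec A of finite type, a finite B-module N and a prime p of A, an impurity of N above p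
over an elementary etale neighbourhood of (A, p) yields an impurity of N above p over the
henselization of the local ring of A at p, based at its closed point. (The other implications of the
published equivalence are separate results: from the henselization to an elementary etale
neighbourhood, and between elementary etale neighbourhoods and base rings quasi-finite at the
point.) -/
theorem result {A B : Type u} [CommRing A] [CommRing B] [Algebra A B] [Algebra.FiniteType A B] (N : Type u) [AddCommGroup N] [Module B N] [Module.Finite B N] (p : Ideal A) [p.IsPrime] (h : FlatCA.HasImpurity A B N p (fun A' _ _ t => ∃ _ : t.IsPrime, FlatCA.IsEtaleNhd A A' p t)) : FlatCA.HasImpurity A B N p (fun A' _ _ t => ∃ (_ : IsLocalRing A') (_ : Algebra (Localization.AtPrime p) A') (_ : IsScalarTower A (Localization.AtPrime p) A') (_ : IsLocalHom (algebraMap (Localization.AtPrime p) A')), Hensel.IsHenselization (Localization.AtPrime p) A' ∧ t = maximalIdeal A') := by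
  obtain ⟨A₁, B₁, N₁, _, _, _, _, _, _, _, _, _, _, _, _, _, _, g, t', t, _, _, P, _, himp, _, hA₁, htp, hbij⟩ := h
  haveI := hA₁
  haveI := htp
  let R := Localization.AtPrime p
  let K := p.ResidueField
  -- the point of the neighbourhood in the residue field
  let ψ : K ≃ₐ[A] t.ResidueField := AlgEquiv.ofBijective _ hbij
  let σ₀ : A₁ →ₐ[A] K := ψ.symm.toAlgHom.comp (IsScalarTower.toAlgHom A A₁ t.ResidueField)
  have hσ₀ : RingHom.ker σ₀.toRingHom = t := Ideal.ext fun a => by
    show ψ.symm (algebraMap A₁ t.ResidueField a) = 0 ↔ a ∈ t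
    rw [EmbeddingLike.map_eq_zero_iff, Ideal.algebraMap_residueField_eq_zero]
  let S := TensorProduct A R A₁
  let σ : S →ₐ[R] K := Algebra.TensorProduct.lift (Algebra.ofId R K) σ₀ fun _ _ => Commute.all _ _
  obtain ⟨j, e, he⟩ := Henselization.exists_idx S σ
  let H := Henselization.HenselizationRing R
  letI : Algebra A H := ((algebraMap R H).comp (algebraMap A R)).toAlgebra
  haveI : IsScalarTower A R H := .of_algebraMap_eq' rfl
  let φ : A₁ →ₐ[A] H := (((Henselization.ι j).comp e).restrictScalars A).comp Algebra.TensorProduct.includeRight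
  letI : Algebra A₁ H := φ.toRingHom.toAlgebra
  haveI : IsScalarTower A A₁ H := .of_algebraMap_eq fun a => (φ.commutes a).symm
  have hφ : (maximalIdeal H).comap φ.toRingHom = t := by
    rw [← hσ₀]
    ext a
    rw [Ideal.mem_comap, RingHom.mem_ker, Henselization.mem_maximalIdeal_iff,
      show φ.toRingHom a = Henselization.ι j (e (1 ⊗ₜ a)) from rfl, Henselization.εH_ι, ← AlgHom.comp_apply, he]
    show Algebra.TensorProduct.lift _ _ _ ((1 : R) ⊗ₜ[A] a) = 0 ↔ σ₀ a = 0
    rw [Algebra.TensorProduct.lift_tmul, map_one, one_mul]
  haveI : Module.Flat A H := Module.Flat.trans A R H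
  haveI : Module.Flat A₁ H := Algebra.FormallyUnramified.flat_of_restrictScalars A A₁ H
  haveI : (maximalIdeal H).LiesOver t := ⟨hφ.symm⟩
  haveI : (maximalIdeal H).LiesOver p := Ideal.LiesOver.trans (maximalIdeal H) t p
  obtain ⟨t₂', hle, ht₂', ht₂'t⟩ := Ideal.exists_ideal_le_liesOver_of_le (p := t') (q := t) (maximalIdeal H) himp.2.2.1
  haveI := ht₂'
  haveI := ht₂'t
  haveI : p.LiesOver p := ⟨rfl⟩
  obtain ⟨A₂, B₂, N₂, _, _, _, _, _, _, _, _, _, _, _, _, _, _, g₂, s', s, _, _, P₂, _, himp₂, ε, hε⟩ :=
    PureCritLib.impurity_pullback_core (A' := A) (B' := B) (N' := N) (p' := p) (A₂ := H) N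
      (IsBaseChange.ofEquiv (LinearEquiv.refl B N)) himp (maximalIdeal H) t₂' hle
  haveI : IsLocalRing A₂ := ε.toRingEquiv.isLocalRing
  letI : Algebra R A₂ := (ε.toRingHom.comp (algebraMap R H)).toAlgebra
  haveI : IsScalarTower A R A₂ := .of_algebraMap_eq fun a => by
    show algebraMap A A₂ a = ε (algebraMap R H (algebraMap A R a))
    rw [← IsScalarTower.algebraMap_apply, ε.commutes]
  let εR : H ≃ₐ[R] A₂ := AlgEquiv.ofRingEquiv (f := ε.toRingEquiv) fun _ => rfl
  haveI : IsLocalHom (algebraMap R A₂) := ⟨fun r hr => by
    have h2 : IsUnit (algebraMap R H r) := (isUnit_map_iff εR _).1 (by rwa [εR.commutes])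
    exact isUnit_of_map_unit _ _ h2⟩
  refine ⟨A₂, B₂, N₂, inferInstance, inferInstance, inferInstance, inferInstance, inferInstance, inferInstance,
    inferInstance, inferInstance, inferInstance, inferInstance, inferInstance, inferInstance, inferInstance, inferInstance,
    g₂, s', s, inferInstance, inferInstance, P₂, inferInstance, himp₂, inferInstance, inferInstance, inferInstance,
    inferInstance, Henselization.isHenselization_of_equiv εR, Ideal.ext fun x => ?_⟩
  have h3 : ε.symm x ∈ s.comap ε.toRingHom ↔ ε.symm x ∈ maximalIdeal H := by rw [hε]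
  rw [Ideal.mem_comap, show ε.toRingHom (ε.symm x) = x from ε.apply_symm_apply x, IsLocalRing.mem_maximalIdeal,
    mem_nonunits_iff, isUnit_map_iff] at h3
  rw [h3, IsLocalRing.mem_maximalIdeal, mem_nonunits_iff]

end Groth.Agent.S9000
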