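import Groth.Statements.S9001
import Groth.Agent.MLProjLib.Henselian
-- import your own Groth.Agent.* helpers here

set_option autoImplicit false
set_option linter.style.haveILetI false
set_option maxHeartbeats 1000000
set_option backward.isDefEq.respectTransparency false
universe u
open FlatMor

namespace Groth.Agent.S9001

open IsLocalRing TensorProduct in
/-- Over a henselian local ring R with maximal ideal m, for an R-algebra S and an S-module N which is
countably generated and Mittag-Leffler as an R-module, every associated prime q of the S-module N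
⊗_R M (M any R-module) satisfies q + mS ≠ S. (Associated primes are taken here in the sense of
primes equal to the radical of the annihilator of some element, a larger set than the annihilators
of elements used in the published statement; the published argument goes through once the chosen
element of q is replaced by a suitable power of it, so the row states this slightly stronger form.) -/
theorem result {R S : Type u} [CommRing R] [HenselianLocalRing R] [CommRing S] [Algebra R S] (N : Type u) [AddCommGroup N] [Module S N] [Module R N] [IsScalarTower R S N] (hcg : CAlg.IsCountablyGenerated R N) (hML : CAlg.IsMittagLeffler R N) (M : Type u) [AddCommGroup M] [Module R M] (q : Ideal S) [q.IsPrime] (hq : q ∈ associatedPrimes S (N ⊗[R] M)) : q ⊔ (maximalIdeal R).map (algebraMap R S) ≠ ⊤ := by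
  classical
  intro htop
  obtain ⟨ι, Nj, hint, hfp⟩ := Groth.Agent.MLProjLib.exists_isInternal_finitePresentation N hcg hML
  obtain ⟨e, he, τ, hτ, h1⟩ := Submodule.mem_sup.mp (show (1 : S) ∈ q ⊔ (maximalIdeal R).map (algebraMap R S) by
    rw [htop]; trivial)
  obtain ⟨-, y, hy⟩ := hq
  obtain ⟨k, hk⟩ := (hy ▸ he : e ∈ ((⊥ : Submodule S (N ⊗[R] M)).colon {y}).radical)
  rw [Submodule.mem_colon_singleton, Submodule.mem_bot] at hk
  -- `1 - e ^ k` lies in the extended maximal ideal
  have hek : 1 - e ^ k ∈ (maximalIdeal R).map (algebraMap R S) := by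
    obtain ⟨w, hw⟩ := sub_dvd_pow_sub_pow 1 e k
    rw [one_pow] at hw
    rw [hw]
    exact Ideal.mul_mem_right _ _ (by rwa [← h1, add_sub_cancel_left])
  have hσy : (1 - e ^ k) • y = y := by rw [sub_smul, one_smul, hk, sub_zero]
  -- `y` lives in a finitely presented direct summand
  obtain ⟨sup, hsup⟩ := TensorProduct.exists_finset y
  let d := LinearEquiv.ofBijective (DirectSum.coeLinearMap Nj) hint
  let J : Finset ι := sup.biUnion fun i => (d.symm i.1).support
  let F : Submodule R N := ⨆ j ∈ J, Nj j
  haveI : Module.Finite R F := Module.Finite.iff_fg.mpr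
    (Submodule.fg_biSup J Nj fun j _ => haveI := hfp j; Module.Finite.iff_fg.mp inferInstance)
  let p₀ : N →ₗ[R] N := DirectSum.coeLinearMap Nj ∘ₗ DFinsupp.filterLinearMap R (fun j => Nj j) (· ∈ J) ∘ₗ d.symm.toLinearMap
  have hp₀ : ∀ n, p₀ n ∈ F := fun n => by
    show DFinsupp.sumAddHom (fun j => ((Nj j).subtype).toAddMonoidHom) _ ∈ F
    rw [DFinsupp.sumAddHom_apply]
    refine Submodule.sum_mem _ fun j hj => ?_
    rw [DFinsupp.mem_support_iff] at hj
    have hjJ : j ∈ J := by
      by_contra hjJ
      exact hj (DFinsupp.filter_apply_neg _ hjJ)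
    exact Submodule.mem_iSup_of_mem j (Submodule.mem_iSup_of_mem hjJ (Subtype.coe_prop _))
  let p : N →ₗ[R] F := p₀.codRestrict F hp₀
  let i : F →ₗ[R] N := F.subtype
  have hpx : ∀ x ∈ sup, i (p x.1) = x.1 := fun x hx => by
    show DirectSum.coeLinearMap Nj (DFinsupp.filterLinearMap R (fun j => Nj j) (· ∈ J) (d.symm x.1)) = x.1
    have : DFinsupp.filterLinearMap R (fun j => Nj j) (· ∈ J) (d.symm x.1) = d.symm x.1 := DFinsupp.ext fun j => by
      by_cases hj : j ∈ J
      · simp [DFinsupp.filterLinearMap, hj]
      · have : (d.symm x.1) j = 0 := by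
          by_contra h0
          exact hj (Finset.mem_biUnion.mpr ⟨x, hx, DFinsupp.mem_support_iff.mpr h0⟩)
        simp [DFinsupp.filterLinearMap, hj, this]
    rw [this]
    exact d.apply_symm_apply x.1
  let y' : F ⊗[R] M := (p.rTensor M) y
  have hy' : i.rTensor M y' = y := by
    simp only [y', hsup, map_sum]
    exact Finset.sum_congr rfl fun x hx => by rw [LinearMap.rTensor_tmul, LinearMap.rTensor_tmul, hpx x hx]
  -- the endomorphism induced by `1 - e ^ k`
  let θ : F →ₗ[R] F := p ∘ₗ (LinearMap.lsmul S N (1 - e ^ k)).restrictScalars R ∘ₗ i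
  have hθm : ∀ x : F, θ x ∈ (maximalIdeal R • ⊤ : Submodule R F) := fun x => by
    have h2 : (1 - e ^ k) • (x : N) ∈ (maximalIdeal R • ⊤ : Submodule R N) := by
      rw [← Submodule.restrictScalars_top R S N, ← Ideal.smul_restrictScalars, Submodule.restrictScalars_mem]
      exact Submodule.smul_mem_smul hek trivial
    have := Submodule.mem_map_of_mem (f := p) h2
    rw [Submodule.map_smul''] at this
    exact Submodule.smul_mono le_rfl le_top this
  let ψ : F →ₗ[R] F := LinearMap.id - θ
  have hψs : Function.Surjective ψ := LinearMap.range_eq_top.mp <| eq_top_iff.mpr <|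
    Submodule.le_of_le_smul_of_le_jacobson_bot (Module.Finite.fg_top) (IsLocalRing.jacobson_eq_maximalIdeal ⊥ bot_ne_top).ge
      fun x _ => Submodule.mem_sup.mpr ⟨ψ x, ⟨x, rfl⟩, θ x, hθm x, by simp [ψ]⟩
  let Ψ := LinearEquiv.ofBijective ψ (OrzechProperty.bijective_of_surjective_endomorphism ψ hψs)
  have h0 : ψ.rTensor M y' = 0 := by
    rw [LinearMap.rTensor_sub, LinearMap.sub_apply, LinearMap.rTensor_id, LinearMap.id_apply, sub_eq_zero]
    show y' = (p ∘ₗ (LinearMap.lsmul S N (1 - e ^ k)).restrictScalars R ∘ₗ i).rTensor M y'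
    rw [LinearMap.rTensor_comp, LinearMap.rTensor_comp, LinearMap.comp_apply, LinearMap.comp_apply, hy']
    have hs : ((LinearMap.lsmul S N (1 - e ^ k)).restrictScalars R).rTensor M y = (1 - e ^ k) • y := by
      generalize y = z
      induction z with
      | zero => simp
      | tmul a b => rfl
      | add a b ha hb => rw [map_add, ha, hb, smul_add]
    rw [hs, hσy]
  have hy0 : y' = 0 := by
    have h3 : (Ψ.symm.toLinearMap ∘ₗ ψ).rTensor M y' = 0 := by
      rw [LinearMap.rTensor_comp, LinearMap.comp_apply, h0, map_zero]
    rwa [show Ψ.symm.toLinearMap ∘ₗ ψ = LinearMap.id from LinearMap.ext fun x => Ψ.symm_apply_apply x,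
      LinearMap.rTensor_id] at h3
  apply (inferInstance : q.IsPrime).ne_top
  rw [hy, Ideal.eq_top_iff_one]
  exact Ideal.le_radical (by rw [Submodule.mem_colon_singleton, one_smul, Submodule.mem_bot, ← hy', hy0, map_zero])

end Groth.Agent.S9001
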