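import Groth.Statements.S9006
import Groth.Agent.HTopPh.Limit
import Groth.Agent.FPModelLib.Affine
-- import your own Groth.Agent.* helpers here

set_option autoImplicit false
universe w u
open HTop

open Groth.Agent CategoryTheory.Limits
set_option backward.isDefEq.respectTransparency false
namespace Groth.Agent.S9006

open CategoryTheory CategoryTheory.Limits AlgebraicGeometry in
/-- A standard h covering of an affine scheme written as a cofiltered limit of affine schemes is, up to
isomorphism of families over the limit, the base change of a standard h covering of one of the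
schemes in the system. (The further parts of the published statement, on descending morphisms of
such coverings and equalities between them, are not stated here.) -/
theorem result {I : Type u} [SmallCategory I] [IsCofiltered I] (D : I ⥤ Scheme.{u}) [∀ i, IsAffine (D.obj i)] (c : Cone D) (hc : IsLimit c) [IsAffine c.pt] (V : PreZeroHypercover.{w} c.pt) (hV : HTop.IsStandardH V) : ∃ (i : I) (W : PreZeroHypercover.{w} (D.obj i)), HTop.IsStandardH W ∧ ∃ (σ : V.I₀ ≃ W.I₀) (e : ∀ j, V.X j ≅ pullback (c.π.app i) (W.f (σ j))), ∀ j, (e j).hom ≫ pullback.fst (c.π.app i) (W.f (σ j)) = V.f j := by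
  classical
  haveI := hV.finite_index
  haveI := hV.isAffine_obj
  haveI := hV.finitePresentation
  choose a X₀ f₀ q haX hl hpb using fun j => FPModelLib.exists_affine_model D c hc (V.f j)
  haveI : Fintype V.I₀ := Fintype.ofFinite _
  obtain ⟨i, hi⟩ := IsCofiltered.inf_objs_exists (Finset.univ.image a)
  let b : ∀ j, i ⟶ a j := fun j => (hi (Finset.mem_image_of_mem _ (Finset.mem_univ j))).some
  haveI := haX
  haveI := hl
  let X₁ : V.I₀ → Scheme.{u} := fun j => pullback (f₀ j) (D.map (b j))
  let f₁ : ∀ j, X₁ j ⟶ D.obj i := fun j => pullback.snd (f₀ j) (D.map (b j))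
  haveI : ∀ j, IsAffine (X₁ j) := fun j => inferInstanceAs (IsAffine (pullback _ _))
  haveI : ∀ j, LocallyOfFinitePresentation (f₁ j) := fun j => MorphismProperty.pullback_snd _ _ (hl j)
  let q₁ : ∀ j, V.X j ⟶ X₁ j := fun j => pullback.lift (q j) (V.f j ≫ c.π.app i)
    (by rw [(hpb j).w, Category.assoc, c.w])
  have hpb₁ : ∀ j, IsPullback (q₁ j) (V.f j) (f₁ j) (c.π.app i) := fun j =>
    IsPullback.of_right (by rw [pullback.lift_fst, c.w]; exact hpb j) (pullback.lift_snd _ _ _)
      (IsPullback.of_hasPullback (f₀ j) (D.map (b j)))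
  let e : ULift.{u} (Fin (Fintype.card V.I₀)) ≃ V.I₀ := Equiv.ulift.trans (Fintype.equivFin V.I₀).symm
  let p : (∐ fun n => X₁ (e n)) ⟶ D.obj i := Limits.Sigma.desc fun n => f₁ (e n)
  haveI : IsAffine (∐ fun n => X₁ (e n)) := inferInstance
  haveI : LocallyOfFinitePresentation p := IsZariskiLocalAtSource.sigmaDesc fun n => inferInstance
  haveI : QuasiCompact p := quasiCompact_of_compactSpace p
  haveI : QuasiSeparated p := QuasiSeparated.of_quasiSeparatedSpace p
  let ιe : ∀ j, X₁ j ⟶ ∐ fun n => X₁ (e n) := fun j =>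
    eqToHom (congrArg X₁ (e.apply_symm_apply j).symm) ≫ Limits.Sigma.ι (fun n => X₁ (e n)) (e.symm j)
  have hf₁ : ∀ {j j' : V.I₀} (h : j = j'), eqToHom (congrArg X₁ h) ≫ f₁ j' = f₁ j := fun {j j'} h => by
    subst h; simp
  have hιe : ∀ j, ιe j ≫ p = f₁ j := fun j => by
    simp only [ιe, p, Category.assoc, Limits.Sigma.ι_desc]
    exact hf₁ (e.apply_symm_apply j).symm
  have hp : Subtr.UnivSSubtrusive (pullback.snd p (c.π.app i)) :=
    HTopPh.univSSubtrusive_of_hasValLift _ V (fun j => pullback.lift (q₁ j ≫ ιe j) (V.f j)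
      (by rw [Category.assoc, hιe, (hpb₁ j).w])) (fun j => pullback.lift_snd _ _ _) hV.isVCover.hasValLift'
  let cE : Cone (Over.forget i ⋙ D) := c.whisker (Over.forget i)
  let hcE : IsLimit cE := (Functor.Initial.isLimitWhiskerEquiv (Over.forget i) c).symm hc
  haveI : ∀ k, IsAffine ((Over.forget i ⋙ D).obj k) := fun k => inferInstanceAs (IsAffine (D.obj k.left))
  haveI : IsAffine cE.pt := inferInstanceAs (IsAffine c.pt)
  obtain ⟨k, hk⟩ := SubtrRefineLib.exists_stage_subtrusive (Over.forget i ⋙ D) cE hcE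
    { app := fun k => D.map k.hom
      naturality := fun k l h => by
        show D.map h.left ≫ D.map l.hom = D.map k.hom ≫ 𝟙 (D.obj i)
        rw [← D.map_comp, Over.w h, Category.comp_id] }
    (c.π.app i) (fun k => c.w k.hom) p hp
  let W : PreZeroHypercover.{w} (D.obj k.left) :=
    ⟨V.I₀, fun j => pullback (f₁ j) (D.map k.hom), fun j => pullback.snd (f₁ j) (D.map k.hom)⟩
  have hlift : HTop.HasValLift W := HTopPh.hasValLift_of_univSSubtrusive _ W hk fun z => by
    let 𝒰 := Scheme.Pullback.openCoverOfLeft (sigmaOpenCover fun n => X₁ (e n)) p (D.map k.hom)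
    obtain ⟨n, z', hz'⟩ := 𝒰.exists_eq z
    refine ⟨e n, 𝒰.X n, 𝒰.f n, inferInstance,
      (pullback.congrHom (Limits.Sigma.ι_desc _ n) rfl).hom, ⟨z', hz'⟩, ?_⟩
    simp [W, 𝒰, pullback.congrHom, pullback.map]
    rfl
  haveI : Finite W.I₀ := inferInstanceAs (Finite V.I₀)
  refine ⟨k.left, W, ⟨inferInstance, inferInstance, fun j => inferInstanceAs (IsAffine (pullback _ _)),
    fun j => MorphismProperty.pullback_snd _ _ inferInstance,
    HTopV.isVCover_of_hasValLift W (fun j => MorphismProperty.pullback_snd _ _ inferInstance) hlift⟩, Equiv.refl _, ?_⟩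
  let q₂ : ∀ j, V.X j ⟶ W.X j := fun j => pullback.lift (q₁ j) (V.f j ≫ c.π.app k.left)
    (by rw [(hpb₁ j).w, Category.assoc, c.w])
  have hpb₂ : ∀ j, IsPullback (q₂ j) (V.f j) (W.f j) (c.π.app k.left) := fun j =>
    IsPullback.of_right (by rw [pullback.lift_fst, c.w]; exact hpb₁ j) (pullback.lift_snd _ _ _)
      (IsPullback.of_hasPullback (f₁ j) (D.map k.hom))
  exact ⟨fun j => (hpb₂ j).flip.isoPullback, fun j => (hpb₂ j).flip.isoPullback_hom_fst⟩

end Groth.Agent.S9006
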