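import Groth.Statements.S9007
import Mathlib

set_option autoImplicit false
set_option backward.isDefEq.respectTransparency false
universe u
open FlatMor

namespace Groth.Agent.S9007

open CategoryTheory CategoryTheory.Limits AlgebraicGeometry in
/-- For a morphism f of compactifications of X over a quasi-compact quasi-separated S whose source
contains X as a dense open, the preimage under f of the image of X in the target is the image of X
in the source. -/
theorem result {X S : Scheme.{u}} [CompactSpace S] [QuasiSeparatedSpace S] (p : X ⟶ S) [IsSeparated p] [QuasiCompact p] [LocallyOfFiniteType p] {Y Y' : Scheme.{u}} (j : X ⟶ Y) (q : Y ⟶ S) [IsOpenImmersion j] [IsProper q] (h : j ≫ q = p) (j' : X ⟶ Y') (q' : Y' ⟶ S) [IsOpenImmersion j'] [IsProper q'] (h' : j' ≫ q' = p) (f : Y' ⟶ Y) (hf : f ≫ q = q') (hfj : j' ≫ f = j) (hd : Dense (Set.range j'.base)) : f ⁻¹ᵁ j.opensRange = j'.opensRange := by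
  have hrange : ∀ z, f (j' z) = j z := fun z => by rw [← Scheme.Hom.comp_apply, hfj]
  have hle : j'.opensRange ≤ f ⁻¹ᵁ j.opensRange := by
    rintro _ ⟨z, rfl⟩
    exact ⟨z, (hrange z).symm⟩
  refine le_antisymm ?_ hle
  set W := f ⁻¹ᵁ j.opensRange
  let k : X ⟶ W.toScheme := IsOpenImmersion.lift W.ι j' (by
    rw [Scheme.Opens.range_ι]; exact hle)
  let r : W.toScheme ⟶ X := IsOpenImmersion.lift j (W.ι ≫ f) (by
    rintro _ ⟨w, rfl⟩
    exact w.2)
  have hr : r ≫ j = W.ι ≫ f := IsOpenImmersion.lift_fac _ _ _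
  have hk : k ≫ W.ι = j' := IsOpenImmersion.lift_fac _ _ _
  haveI : IsSeparated f := by
    haveI : IsSeparated (f ≫ q) := by rw [hf]; infer_instance
    exact IsSeparated.of_comp f q
  haveI : IsSeparated r := by
    haveI : IsSeparated (r ≫ j) := by rw [hr]; infer_instance
    exact IsSeparated.of_comp r j
  have hkr : k ≫ r = 𝟙 X := by
    rw [← cancel_mono j, Category.assoc, hr, reassoc_of% hk, hfj, Category.id_comp]
  haveI : IsClosedImmersion (k ≫ r) := by rw [hkr]; infer_instance
  haveI : IsClosedImmersion k := IsClosedImmersion.of_comp k r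
  have hcl := k.isClosedEmbedding.isClosed_range
  have hden : Dense (Set.range k) := by
    refine (hd.preimage W.ι.isOpenEmbedding.isOpenMap).mono ?_
    rintro w ⟨z, hz⟩
    refine ⟨z, W.ι.isOpenEmbedding.injective ?_⟩
    rw [← Scheme.Hom.comp_apply, hk]
    exact hz
  intro y hy
  obtain ⟨z, hz⟩ := (hcl.closure_eq ▸ hden ⟨y, hy⟩ : (⟨y, hy⟩ : W.toScheme) ∈ Set.range k)
  refine ⟨z, ?_⟩
  rw [← hk, Scheme.Hom.comp_apply, hz]
  rfl

end Groth.Agent.S9007
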