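import Groth.Statements.S9008
-- import your own Groth.Agent.* helpers here

set_option autoImplicit false
set_option linter.style.haveILetI false
set_option maxHeartbeats 1000000
set_option backward.isDefEq.respectTransparency false
universe u
open FlatMor

namespace Groth.Agent.S9008

/-- For Spec B → Spec A affine of finite type: a finite B-module is universally pure along the fibre
over a prime p of A exactly when every base change of it along a ring map A → A' is pure along the
fibre over every prime of A' above p. -/
theorem result {A B : Type u} [CommRing A] [CommRing B] [Algebra A B] [Algebra.FiniteType A B] (N : Type u) [AddCommGroup N] [Module B N] [Module.Finite B N] (p : Ideal A) [p.IsPrime] : FlatCA.IsUnivPureAlong A B N p ↔ ∀ (A' B' N' : Type u) [CommRing A'] [CommRing B'] [Algebra A A'] [Algebra B B'] [Algebra A' B'] [Algebra A B'] [IsScalarTower A B B'] [IsScalarTower A A' B'] [Algebra.IsPushout A B A' B'] [AddCommGroup N'] [Module B' N'] [Module B N'] [IsScalarTower B B' N'] (g : N →ₗ[B] N'), IsBaseChange B' g → ∀ (p' : Ideal A') [p'.IsPrime], p'.LiesOver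 p → FlatCA.IsPureAlong A' B' N' p' := by
  refine ⟨fun h A' B' N' _ _ _ _ _ _ _ _ hpo _ _ _ _ g hg p' _ hp' => ?_, fun h => ?_⟩
  · intro A'' B'' N'' _ _ _ _ _ _ _ _ _ _ _ _ _ _ f t' t _ _ P _ _ ⟨hpo2, hbc2, htt, htp, hPt, hass, hno⟩
    letI : Algebra A A'' := ((algebraMap A' A'').comp (algebraMap A A')).toAlgebra
    haveI : IsScalarTower A A' A'' := .of_algebraMap_eq fun _ => rfl
    letI : Algebra B B'' := ((algebraMap B' B'').comp (algebraMap B B')).toAlgebra
    haveI : IsScalarTower B B' B'' := .of_algebraMap_eq fun _ => rfl
    letI : Algebra A B'' := ((algebraMap B' B'').comp (algebraMap A B')).toAlgebra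
    haveI : IsScalarTower A B' B'' := .of_algebraMap_eq fun _ => rfl
    haveI : IsScalarTower A B B'' := .of_algebraMap_eq fun x =>
      show algebraMap B' B'' (algebraMap A B' x) = algebraMap B' B'' (algebraMap B B' (algebraMap A B x)) by
        rw [← IsScalarTower.algebraMap_apply A B B']
    haveI : IsScalarTower A A'' B'' := .of_algebraMap_eq fun x =>
      show algebraMap B' B'' (algebraMap A B' x) = algebraMap A'' B'' (algebraMap A' A'' (algebraMap A A' x)) by
        rw [← IsScalarTower.algebraMap_apply A' A'' B'', IsScalarTower.algebraMap_apply A' B' B'',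
          ← IsScalarTower.algebraMap_apply A A' B']
    letI : Module B N'' := Module.compHom N'' (algebraMap B B')
    haveI : IsScalarTower B B' N'' := .of_algebraMap_smul fun _ _ => rfl
    haveI : IsScalarTower B B'' N'' := .of_algebraMap_smul fun x m => by
      show algebraMap B' B'' (algebraMap B B' x) • m = algebraMap B B' x • m
      rw [algebraMap_smul]
    haveI : Algebra.IsPushout A A' B B' := ‹Algebra.IsPushout A B A' B'›.symm
    haveI : Algebra.IsPushout A' A'' B' B'' := hpo2.symm
    have hbig : Algebra.IsPushout A A'' B B'' :=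
      (Algebra.IsPushout.comp_iff A A' B B' (T := A'') (T' := B'')).mpr inferInstance
    haveI := hp'
    haveI := htp
    exact h A'' B'' N'' ((f.restrictScalars B).comp g) t' t P
      ⟨hbig.symm, hg.comp hbc2, htt, Ideal.LiesOver.trans t p' p, hPt, hass, hno⟩
  · intro A' B' N' _ _ _ _ _ _ _ _ _ _ _ _ _ _ f t' t _ _ P _ ⟨hpo, hbc, htt, htp, hPt, hass, hno⟩
    haveI := hpo
    have hid : FlatCA.IsEtaleNhd A' A' t t := by
      refine ⟨inferInstance, ⟨rfl⟩, ?_⟩
      have : (Ideal.ResidueField.mapₐ t t (Algebra.ofId A' A') rfl : t.ResidueField →ₐ[A'] t.ResidueField) =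
          AlgHom.id A' t.ResidueField := Ideal.ResidueField.algHom_ext (Subsingleton.elim _ _)
      rw [this]
      exact Function.bijective_id
    exact h A' B' N' f hbc t htp A' B' N' LinearMap.id t' t P hid
      ⟨inferInstance, IsBaseChange.ofEquiv (LinearEquiv.refl B' N'), htt, ⟨rfl⟩, hPt, hass, hno⟩

end Groth.Agent.S9008
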