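import Groth.Statements.S9009
import Groth.Agent.FibSetDimLib.Basic
import Groth.Agent.FlatAssLib.RelAss

set_option autoImplicit false
universe u
open FlatMor

namespace Groth.Agent.S9009

open CategoryTheory AlgebraicGeometry Topology in
/-- The non-flat locus in a fibre is closed in it. -/
theorem isClosed_nonflat_fibre {X S : Scheme.{u}} (f : X ⟶ S) [LocallyOfFiniteType f] (F : X.Modules) [Coh.IsQCoh F]
    (hF : CohB1.IsFT F) (s : S) :
    IsClosed (f.fiberι s ⁻¹' {x : X | f.base x = s ∧ ¬ FlatMod.IsFlatOverAt f F x}) := by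
  classical
  rw [← isOpen_compl_iff, isOpen_iff_forall_mem_open]
  intro z hz
  have hys : f (f.fiberι s z) = s := by
    have : f.fiberι s z ∈ Set.range (f.fiberι s) := ⟨z, rfl⟩
    rw [f.range_fiberι] at this; exact this
  have hflat : FlatMod.IsFlatOverAt f F (f.fiberι s z) := not_not.mp fun h => hz ⟨hys, h⟩
  obtain ⟨_, ⟨V : S.Opens, (hV : IsAffineOpen V), rfl⟩, hsV, -⟩ :=
    S.isBasis_affineOpens.exists_subset_of_mem_open (Set.mem_univ s) isOpen_univ
  obtain ⟨_, ⟨W : X.Opens, (hW : IsAffineOpen W), rfl⟩, hyW, hWV⟩ :=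
    X.isBasis_affineOpens.exists_subset_of_mem_open (a := f.fiberι s z) (u := ↑(f ⁻¹ᵁ V))
      (show f (f.fiberι s z) ∈ V by rw [hys]; exact hsV) (f ⁻¹ᵁ V).2
  have hft := f.finiteType_appLE hV hW hWV
  letI := (f.appLE V W hWV).hom.toAlgebra
  haveI : Algebra.FiniteType Γ(S, V) Γ(X, W) := hft
  letI := Module.compHom Γ(F, W) (f.appLE V W hWV).hom
  haveI : IsScalarTower Γ(S, V) Γ(X, W) Γ(F, W) := .of_algebraMap_smul fun _ _ => rfl
  haveI := QCohLib.finite_sections F hF hW
  let p := (hV.primeIdealOf ⟨s, hsV⟩).asIdeal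
  let T : Set X := {x | ¬ FlatMod.IsFlatOverAt f F x ∧
    ∃ (P : Ideal (p.Fiber Γ(X, W))) (hP : P ∈ associatedPrimes (p.Fiber Γ(X, W)) (FlatCA.fiberMod p Γ(X, W) Γ(F, W))),
      haveI := hP.1; x = AssLib.pt hW ⟨P.comap (CAlgFib.ι p), inferInstance⟩}
  have hTfin : T.Finite := by
    refine ((associatedPrimes.finite (p.Fiber Γ(X, W)) (FlatCA.fiberMod p Γ(X, W) Γ(F, W))).image
      (fun P => if hP : P.IsPrime then AssLib.pt hW ⟨P.comap (CAlgFib.ι p), inferInstance⟩ else f.fiberι s z)).subset ?_
    rintro x ⟨-, P, hP, rfl⟩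
    exact ⟨P, hP, by simp only [dif_pos hP.1]⟩
  have hC : IsClosed (⋃ x ∈ T, closure ({x} : Set X)) := hTfin.isClosed_biUnion fun _ _ => isClosed_closure
  refine ⟨f.fiberι s ⁻¹' ((W : Set X) \ ⋃ x ∈ T, closure ({x} : Set X)), fun w hw hbad => ?_,
    (W.2.sdiff hC).preimage (f.fiberι s).continuous, hyW, fun hmem => ?_⟩
  · obtain ⟨hwW, hwT⟩ := hw
    obtain ⟨hws, hnf⟩ := hbad
    have hp : (hV.primeIdealOf ⟨f (f.fiberι s w), hWV hwW⟩).asIdeal = p := by
      simp only [p]; congr 3
    haveI : (AssLib.pr hW hwW).LiesOver p :=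
      ⟨(congr($(IsAffineOpen.comap_primeIdealOf_appLE V hV W hW hWV hwW).1).trans hp).symm⟩
    have hp' : p.IsPrime := inferInstance
    apply hnf
    refine (FlatLocus.isFlatOverAt_iff f F hV hW hWV _ hwW).mpr
      (FlatAssLib.flatAt_of_assBelow p (AssLib.pr hW hwW) fun P hP r _ hr => ?_)
    haveI := hP.1.1
    let x := AssLib.pt hW ⟨r, inferInstance⟩
    have hx : x ∈ W := AssLib.pt_mem hW _
    have hpr : AssLib.pr hW hx = r := AssLib.pr_pt hW _
    by_contra hnr
    have hxT : x ∈ T := by
      refine ⟨fun h => hnr ?_, P, hP.1, by simp only [x]; subst hr; rfl⟩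
      have h2 := (FlatLocus.isFlatOverAt_iff f F hV hW hWV x hx).mp h
      show Module.Flat Γ(S, V) (LocalizedModule r.primeCompl Γ(F, W))
      convert h2 using 3 <;> exact hpr.symm
    refine hwT (Set.mem_biUnion hxT (((AssLib.specializes_iff hW hwW hx).mpr ?_).mem_closure))
    rw [hpr, hr]
    exact (Ideal.comap_mono hP.2).trans (FibAssLib.fiberIdeal_spec p (AssLib.pr hW hwW)).2.le
  · obtain ⟨x, hx, hxy⟩ := Set.mem_iUnion₂.mp hmem
    exact hx.1 (FlatAssLib.isFlatOverAt_of_specializes f F (specializes_iff_mem_closure.mpr hxy) hflat)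

open CategoryTheory CategoryTheory.Limits AlgebraicGeometry in
/-- For f : X → S locally of finite type and a finite type quasi-coherent O_X-module F, the non-flat
locus of F in every fibre has dimension less than n if and only if every point where F is not flat
over S has residue field of transcendence degree less than n over the residue field of its image.
(The non-flat locus of the fibre over s is taken with the subspace topology from X, which is that of
the fibre. The published statement adds that when these conditions hold they continue to hold after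
any base change S' → S; this row states only the equivalence.) -/
theorem result {X S : Scheme.{u}} (f : X ⟶ S) [LocallyOfFiniteType f] (F : X.Modules) [Coh.IsQCoh F] (hF : CohB1.IsFT F) (n : ℕ) : (∀ s : S, topologicalKrullDim {x : X // f.base x = s ∧ ¬ FlatMod.IsFlatOverAt f F x} < n) ↔ ∀ x : X, ¬ FlatMod.IsFlatOverAt f F x → ∀ [Algebra (S.residueField (f.base x)) (X.residueField x)], algebraMap (S.residueField (f.base x)) (X.residueField x) = (f.residueFieldMap x).hom → Algebra.trdeg (S.residueField (f.base x)) (X.residueField x) < n := by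
  constructor
  · intro h x hx alg halg
    have h1 := (FibSetDimLib.dim_lt_iff f (f.base x) _ (fun _ h => h.1) (isClosed_nonflat_fibre f F hF _) n).mp
      (h (f.base x)) x ⟨rfl, hx⟩
    have : alg = (f.residueFieldMap x).hom.toAlgebra := Algebra.algebra_ext _ _ fun r => RingHom.congr_fun halg r
    subst this
    exact h1
  · intro h s
    exact (FibSetDimLib.dim_lt_iff f s _ (fun _ h => h.1) (isClosed_nonflat_fibre f F hF s) n).mpr fun x hx =>
      @h x hx.2 ((f.residueFieldMap x).hom.toAlgebra) rfl

end Groth.Agent.S9009
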