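import Groth.Statements.S9011
import Groth.Agent.AssSupLib.SplitInj
import Groth.Agent.CAlgFib.Basic

set_option autoImplicit false
universe u
open FlatMor

namespace Groth.Agent.S9011

open IsLocalRing in
/-- For a local ring R with maximal ideal m, an R-algebra S with S/mS Noetherian and an S-module N with
N/mN finite over S/mS which is projective as an R-module, every element of S that is a
nonzerodivisor on N/mN acts R-universally injectively on N, and the map from N to its localization
at all such elements is R-universally injective. -/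
theorem result {R S : Type u} [CommRing R] [IsLocalRing R] [CommRing S] [Algebra R S] (N : Type u) [AddCommGroup N] [Module S N] [Module R N] [IsScalarTower R S N] [IsNoetherianRing ((maximalIdeal R).Fiber S)] [Module.Finite ((maximalIdeal R).Fiber S) (FlatCA.fiberMod (maximalIdeal R) S N)] [Module.Projective R N] : (∀ s ∈ FlatCA.nzdFiber R S N, FlatCA.UnivInj R ((LinearMap.lsmul S N s).restrictScalars R)) ∧ FlatCA.UnivInj R ((LocalizedModule.mkLinearMap (FlatCA.nzdFiber R S N) N).restrictScalars R) := by
  have h1 : ∀ s ∈ FlatCA.nzdFiber R S N, ∀ (Q : Type u) [AddCommGroup Q] [Module R Q],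
      Function.Injective (((LinearMap.lsmul S N s).restrictScalars R).rTensor Q) := by
    intro s hs
    refine fun Q _ _ => AssSupLib.injective_rTensor_of_projective ((LinearMap.lsmul S N s).restrictScalars R) ?_ Q
    rw [injective_iff_map_eq_zero]
    intro z hz
    obtain ⟨n, rfl⟩ := TensorProduct.mk_surjective R N (ResidueField R) IsLocalRing.residue_surjective z
    have hmem : ∀ m : N, ((1 : ResidueField R) ⊗ₜ[R] m = 0) ↔ m ∈ maximalIdeal R • (⊤ : Submodule R N) := fun m => by
      rw [← Submodule.Quotient.mk_eq_zero (p := maximalIdeal R • (⊤ : Submodule R N))]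
      nth_rewrite 2 [← one_smul R m]
      rw [← TensorProduct.quotTensorEquivQuotSMul_mk_tmul, LinearEquiv.map_eq_zero_iff]
      rfl
    rw [TensorProduct.mk_apply, LinearMap.lTensor_tmul] at hz
    have hz' : s • n ∈ maximalIdeal R • (⊤ : Submodule R N) := by
      refine (hmem _).mp ?_
      exact hz
    have h0 : FlatCA.toFiberMod (S := S) (maximalIdeal R) (N := N) (s • n) = 0 := by
      refine (CAlgFib.toFiberMod_eq_zero_iff (maximalIdeal R) N _).mpr
        ⟨1, (Ideal.ne_top_iff_one _).mp (maximalIdeal.isMaximal R).ne_top, ?_⟩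
      rw [map_one, one_smul, ← Submodule.restrictScalars_mem R, Submodule.restrictScalars_map_smul_eq,
        Submodule.restrictScalars_top]
      exact hz'
    rw [map_smul] at h0
    obtain ⟨r, hr, hrn⟩ := (CAlgFib.toFiberMod_eq_zero_iff (maximalIdeal R) N n).mp (mem_nonZeroSMulDivisors_iff.mp hs _ h0)
    rw [← Submodule.restrictScalars_mem R, Submodule.restrictScalars_map_smul_eq, Submodule.restrictScalars_top,
      algebraMap_smul] at hrn
    obtain ⟨w, rfl⟩ := not_not.mp (fun h => hr ((IsLocalRing.mem_maximalIdeal r).mpr h))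
    have := Submodule.smul_mem _ (↑w⁻¹ : R) hrn
    rw [smul_smul, Units.inv_mul, one_smul] at this
    exact (hmem n).mpr this
  have hcomm : ∀ {A B : Type u} [AddCommGroup A] [Module R A] [AddCommGroup B] [Module R B] (f : A →ₗ[R] B),
      (∀ (Q : Type u) [AddCommGroup Q] [Module R Q], Function.Injective (f.rTensor Q)) → FlatCA.UnivInj R f := by
    intro A B _ _ _ _ f hf Q _ _
    have : f.lTensor Q = (TensorProduct.comm R _ _).toLinearMap ∘ₗ f.rTensor Q ∘ₗ (TensorProduct.comm R _ _).toLinearMap := by
      ext; simp
    rw [this]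
    exact (TensorProduct.comm R _ _).injective.comp ((hf Q).comp (TensorProduct.comm R _ _).injective)
  refine ⟨fun s hs => hcomm _ (h1 s hs), hcomm _ fun Q _ _ => ?_⟩
  let L := TensorProduct.AlgebraTensorModule.rTensor R Q (LocalizedModule.mkLinearMap (FlatCA.nzdFiber R S N) N)
  rw [injective_iff_map_eq_zero]
  intro z hz
  obtain ⟨c, hc⟩ := (IsLocalizedModule.eq_zero_iff (FlatCA.nzdFiber R S N) L).mp hz
  refine h1 c.1 c.2 Q ?_
  rw [map_zero, ← hc]
  clear hz hc
  induction z using TensorProduct.induction_on with
  | zero => simp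
  | tmul n q => rfl
  | add a b ha hb => rw [map_add, smul_add, ha, hb]

end Groth.Agent.S9011
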