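import Groth.Statements.S9013
import Groth.Agent.PullbackMod.LimPSp
import Groth.Agent.FlatStage.Given
-- import your own Groth.Agent.* helpers here

set_option autoImplicit false
set_option linter.style.haveILetI false
set_option backward.isDefEq.respectTransparency false
set_option backward.defeqAttrib.useBackward true
universe u
open FlatMor

namespace Groth.Agent.S9013

open CategoryTheory CategoryTheory.Limits AlgebraicGeometry Opposite in
/-- For f : X → S quasi-compact and locally of finite presentation and F a quasi-coherent O_X-module of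
finite presentation, the functor F_flat on schemes over S (one point on T when F_T is flat over T,
empty otherwise; the subfunctor of the final functor generated by that condition) is limit
preserving: its value on a directed limit of affine schemes over S is the colimit of its values. -/
theorem result {X S : Scheme.{u}} (f : X ⟶ S) [QuasiCompact f] [LocallyOfFinitePresentation f]
    (F : X.Modules) [Coh.IsQCoh F] (hF : CohB1.IsFP F) :
    AlgSp.IsLimitPreserving
      (FlatFun.genPSp S (fun T => FlatMod.IsFlatOver (PicF.XTproj f T) (FGA.ET f F T))) := by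
  have hE : ∀ {T T₀ : Over S} (g : T ⟶ T₀),
      PicF.XTmap f g ≫ pullback.fst f T₀.hom = pullback.fst f T.hom := fun g => FGA.XTmap_fst f g
  have hiso : ∀ {T T₀ : Over S} (g : T ⟶ T₀),
      Nonempty ((Scheme.Modules.pullback (PicF.XTmap f g)).obj (FGA.ET f F T₀) ≅ FGA.ET f F T) :=
    fun g => ⟨(Scheme.Modules.pullbackComp _ _ ≪≫ Scheme.Modules.pullbackCongr (hE g)).app F⟩
  refine PullbackMod.isLimitPreserving_genPSp _ (fun T T₀ g h x => ?_) fun I _ _ D c hc hD hP => ?_
  · exact FlatStage.isFlatOverAt_of_square (PullbackMod.isPullback_XTmap f g)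
      (pullback.fst f T₀.hom) (hE g) F x (h _)
  · obtain ⟨i₀⟩ := IsCofiltered.nonempty (C := I)
    let D' := D ⋙ Over.forget S
    let c' : Cone D' := (Over.forget S).mapCone c
    haveI hD' : ∀ {i j : I} (φ : i ⟶ j), IsAffineHom (D'.map φ) := fun {i j} φ => by
      haveI : IsAffine (D'.obj i) := hD i
      haveI : IsAffine (D'.obj j) := hD j
      infer_instance
    haveI : IsAffine (D.obj i₀).left := hD i₀
    let f₀ : pullback f (D.obj i₀).hom ⟶ D'.obj i₀ := pullback.snd f (D.obj i₀).hom
    haveI : CompactSpace ↥(D'.obj i₀) := inferInstanceAs (CompactSpace ↥(D.obj i₀).left)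
    haveI : CompactSpace ↥(pullback f (D.obj i₀).hom) :=
      QuasiCompact.compactSpace_of_compactSpace f₀
    haveI := PullbackMod.isQCoh_pullback (pullback.fst f (D.obj i₀).hom) F
    have hid : ∀ {A B : Scheme.{u}} (a : A ⟶ B), IsPullback a (𝟙 A) (𝟙 B) a := fun a =>
      IsPullback.of_vert_isIso ⟨by simp⟩
    have hY : IsPullback (c'.π.app i₀) (𝟙 c'.pt) (𝟙 (D'.obj i₀)) (c'.π.app i₀) :=
      hid _
    obtain ⟨e⟩ := hiso (c.π.app i₀)
    obtain ⟨k, hk⟩ := FlatStage.exists_isFlatOver D' c' i₀ f₀ (𝟙 (D'.obj i₀)) hY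
      (PullbackMod.isPullback_XTmap f (c.π.app i₀)) hc (FGA.ET f F (D.obj i₀))
      (PullbackMod.isFP_pullback _ F hF)
      (fun x => PullbackMod.isFlatOverAt_of_iso e.symm _ x (hP x))
    refine ⟨k.left, fun x => ?_⟩
    have h1 : IsPullback (D'.map k.hom) (𝟙 (D'.obj k.left)) (𝟙 (D'.obj i₀)) (D'.map k.hom) :=
      hid _
    obtain ⟨eX, eY, he1, -, hsq, -⟩ := FlatStage.exists_comparison D' i₀ f₀ (𝟙 (D'.obj i₀)) k h1
      (PullbackMod.isPullback_XTmap f (D.map k.hom))
    obtain ⟨e'⟩ := hiso (D.map k.hom)
    exact PullbackMod.isFlatOverAt_of_iso e' _ x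
      (FlatStage.isFlatOverAt_of_square hsq _ he1 (FGA.ET f F (D.obj i₀)) x (hk _))

end Groth.Agent.S9013
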