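import Groth.Statements.S9017
import Groth.Agent.PullbackMod.GenPSp

set_option autoImplicit false
set_option linter.style.haveILetI false
universe u
open FlatMor

namespace Groth.Agent.S9017

open CategoryTheory CategoryTheory.Limits AlgebraicGeometry Opposite in
/-- For f : X → S, a homomorphism u : F → G of quasi-coherent O_X-modules, a scheme T over S and an fpqc
covering family of S-morphisms T_i → T, the base change u_T on X_T = X ×_S T is injective (a
monomorphism in the abelian category of O-modules) if and only if u_{T_i} is injective for every i.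
(Injectivity of u_T is not preserved by arbitrary base change, so this variant is a sheaf condition
on coverings rather than a subfunctor of the final functor.) -/
theorem result {X S : Scheme.{u}} (f : X ⟶ S) {F G : X.Modules} [Coh.IsQCoh F] [Coh.IsQCoh G] (u : F ⟶ G)
    (T : Over S) {ι : Type u} (Ti : ι → Over S) (g : ∀ i, Ti i ⟶ T)
    (hcov : Presieve.ofArrows (fun i => (Ti i).left) (fun i => (g i).left) ∈ Scheme.fpqcPrecoverage T.left) :
    Mono ((Scheme.Modules.pullback (pullback.fst f T.hom)).map u) ↔
      ∀ i, Mono ((Scheme.Modules.pullback (pullback.fst f (Ti i).hom)).map u) := by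
  obtain ⟨hsur, hflat⟩ := (Scheme.ofArrows_mem_precoverage_iff _).mp
    (Scheme.propQCPrecoverage_le_precoverage _ hcov)
  refine ⟨fun h i => (PullbackMod.mono_iff_stalk _).mpr fun x' => ?_,
    fun h => (PullbackMod.mono_iff_stalk _).mpr fun x => ?_⟩
  · haveI : Flat (g i).left := hflat i
    exact (PullbackMod.stalk_desc f u (g i) x').1.mpr ((PullbackMod.mono_iff_stalk _).mp h _)
  · obtain ⟨i, hi⟩ := hsur (pullback.snd f T.hom x)
    haveI : Flat (g i).left := hflat i
    obtain ⟨x', rfl⟩ := PullbackMod.exists_point_XT f T x (g i) hi
    exact (PullbackMod.stalk_desc f u (g i) x').1.mp ((PullbackMod.mono_iff_stalk _).mp (h i) x')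

end Groth.Agent.S9017
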