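import Groth.Statements.S9020
import Groth.Agent.PullbackMod.LimPSp

set_option autoImplicit false
set_option linter.style.haveILetI false
set_option backward.isDefEq.respectTransparency false
universe u
open FlatMor

namespace Groth.Agent.S9020

open CategoryTheory CategoryTheory.Limits AlgebraicGeometry Opposite in
/-- For f : X → S quasi-compact and a homomorphism u : F → G of quasi-coherent O_X-modules with F of
finite type and G of finite presentation, the functor F_iso (one point on T when the base change u_T
on X ×_S T is an isomorphism, empty otherwise; the subfunctor of the final functor generated by that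
condition) is limit preserving. -/
theorem result {X S : Scheme.{u}} (f : X ⟶ S) [QuasiCompact f] {F G : X.Modules} [Coh.IsQCoh F] [Coh.IsQCoh G]
    (hF : CohB1.IsFT F) (hG : CohB1.IsFP G) (u : F ⟶ G) :
    AlgSp.IsLimitPreserving (FlatFun.genPSp S (fun T => IsIso ((Scheme.Modules.pullback (pullback.fst f T.hom)).map u))) := by
  refine PullbackMod.isLimitPreserving_mapT f u (fun φ => IsIso φ) ?_ ?_ ?_
  · intro Y M M' N N' a φ b
    rw [isIso_comp_left_iff, isIso_comp_right_iff]
  · intro Y Y' g M N φ h
    infer_instance
  · intro J _ _ E e he hE i₀ _ g h
    haveI hD : ∀ {i j : J} (φ : i ⟶ j), IsAffineHom (E.map φ) := fun φ => hE φ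
    haveI := PullbackMod.isQCoh_pullback g F
    haveI := PullbackMod.isQCoh_pullback g G
    exact (PullbackMod.isIso_eventually E e he i₀ _ (PullbackMod.isFiniteType_pullback g F hF)
      (PullbackMod.isFP_pullback g G hG)).mp h

end Groth.Agent.S9020
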