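import Groth.Statements.S9022
import Groth.Agent.GenFreeLocus.Functor


set_option autoImplicit false
universe u
open FlatMor

open Groth.Agent
set_option linter.style.haveILetI false
set_option backward.isDefEq.respectTransparency false
namespace Groth.Agent.S9022

open CategoryTheory CategoryTheory.Limits AlgebraicGeometry Opposite in
/-- For f : X → S smooth with geometrically irreducible fibres, F a quasi-coherent O_X-module of finite
presentation and p ≥ 0, the functor H_p on schemes over S (one point on T when F_T is free of rank p
near the generic point of every fibre of X ×_S T → T, empty otherwise; the subfunctor of the final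
functor generated by that condition) is limit preserving. -/
theorem result {X S : Scheme.{u}} (f : X ⟶ S) [Smooth f] [GeometricallyIrreducible f] (F : X.Modules) [Coh.IsQCoh F]
    (hF : CohB1.IsFP F) (p : ℕ) :
    AlgSp.IsLimitPreserving (FlatFun.genPSp S (fun T => FlatFun.FreeAtGenericPts (PicF.XTproj f T) (FGA.ET f F T) p)) := by
  have hF' : CohB1.IsFT F := by
    haveI := hF
    exact inferInstance
  have hP := fun T : Over S => propext (GenFreeLocus.freeAtGenericPts_iff f F p hF' T)
  simp only [hP]
  exact PullbackMod.isLimitPreserving_genPSp _ (fun T T₀ g h => GenFreeLocus.genFree_stable f F p g h)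
    (GenFreeLocus.genFree_eventually f F p hF)

end Groth.Agent.S9022
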