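import Groth.Statements.S9025
import Groth.Agent.S1219

set_option backward.isDefEq.respectTransparency false
set_option backward.isDefEq.respectTransparency.types false

set_option autoImplicit false
universe u
open FlatMor

namespace Groth.Agent.S9025

open CategoryTheory CategoryTheory.Limits AlgebraicGeometry TensorProduct Opposite

/-- The content of a set of elements of a projective module, for a chosen section of a free cover. -/
def content {A B : Type u} [CommRing A] [AddCommGroup B] [Module A B] (s : B →ₗ[A] B →₀ A) (J : Set B) : Ideal A :=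
  Ideal.span {a | ∃ b ∈ J, ∃ x, s b x = a}

theorem tmul_eq_zero_iff {A B : Type u} [CommRing A] [CommRing B] [Algebra A B] (s : B →ₗ[A] B →₀ A)
    (hs : ∀ b, Finsupp.linearCombination A id (s b) = b) (J : Ideal B) (A' : Type u) [CommRing A'] [Algebra A A'] :
    (∀ b ∈ J, (1 : A') ⊗ₜ[A] b = 0) ↔ content s J ≤ RingHom.ker (algebraMap A A') := by
  refine ⟨fun h => Ideal.span_le.2 ?_, fun h b hb => ?_⟩
  · rintro _ ⟨b, hb, x, rfl⟩
    have e := congrArg (fun z => TensorProduct.rid A A' (LinearMap.lTensor A' ((Finsupp.lapply x) ∘ₗ s) z)) (h b hb)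
    simpa [RingHom.mem_ker, Algebra.smul_def] using e
  · conv_lhs => rw [← hs b, Finsupp.linearCombination_apply, Finsupp.sum, TensorProduct.tmul_sum]
    refine Finset.sum_eq_zero fun x _ => ?_
    rw [← TensorProduct.smul_tmul, Algebra.smul_def, mul_one,
      RingHom.mem_ker.1 (h (Ideal.subset_span ⟨b, hb, x, rfl⟩)), TensorProduct.zero_tmul]

theorem content_fg {A B : Type u} [CommRing A] [CommRing B] [Algebra A B] (s : B →ₗ[A] B →₀ A)
    (hs : ∀ b, Finsupp.linearCombination A id (s b) = b) (J : Ideal B) (hJ : J.FG) : (content s J).FG := by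
  classical
  obtain ⟨G, hG⟩ := hJ
  refine ⟨G.biUnion fun g => (s g).support.image (s g), le_antisymm (Ideal.span_le.2 fun a ha => ?_)
    (Ideal.span_le.2 ?_)⟩
  · obtain ⟨g, hg, x, -, rfl⟩ := by simpa using ha
    exact Ideal.subset_span ⟨g, hG ▸ Ideal.subset_span hg, x, rfl⟩
  · let c' : Ideal A := Ideal.span (↑(G.biUnion fun g => (s g).support.image (s g)) : Set A)
    have key : ∀ b ∈ J, (1 : A ⧸ c') ⊗ₜ[A] b = 0 := by
      intro b hb
      rw [← hG] at hb
      induction hb using Submodule.span_induction with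
      | mem g hg =>
        conv_lhs => rw [← hs g, Finsupp.linearCombination_apply, Finsupp.sum, TensorProduct.tmul_sum]
        refine Finset.sum_eq_zero fun x hx => ?_
        rw [← TensorProduct.smul_tmul, Algebra.smul_def, mul_one,
          show algebraMap A (A ⧸ c') (s g x) = 0 from Ideal.Quotient.eq_zero_iff_mem.2 (Ideal.subset_span
            (Finset.mem_biUnion.2 ⟨g, hg, Finset.mem_image.2 ⟨x, hx, rfl⟩⟩)), TensorProduct.zero_tmul]
      | zero => exact TensorProduct.tmul_zero _ _
      | add a b _ _ ha hb => rw [TensorProduct.tmul_add, ha, hb, add_zero]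
      | smul r b _ hb =>
        have e : (1 : A ⧸ c') ⊗ₜ[A] (r • b) = ((1 : A ⧸ c') ⊗ₜ[A] r) * ((1 : A ⧸ c') ⊗ₜ[A] b) := by
          rw [Algebra.TensorProduct.tmul_mul_tmul, one_mul, smul_eq_mul]
        rw [e, hb, mul_zero]
    rintro _ ⟨b, hb, x, rfl⟩
    have h := (tmul_eq_zero_iff s hs J (A ⧸ c')).1 key (Ideal.subset_span ⟨b, hb, x, rfl⟩)
    exact Ideal.Quotient.eq_zero_iff_mem.1 h

theorem isIso_snd_iff {Y W V : Scheme.{u}} (i : Y ⟶ W) [Mono i] (p : V ⟶ W) :
    IsIso (pullback.snd i p) ↔ ∃ l : V ⟶ Y, l ≫ i = p := by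
  refine ⟨fun h => ⟨inv (pullback.snd i p) ≫ pullback.fst i p, ?_⟩, fun ⟨l, hl⟩ => ?_⟩
  · rw [Category.assoc, pullback.condition, IsIso.inv_hom_id_assoc]
  · exact ⟨pullback.lift l (𝟙 V) (by rw [hl, Category.id_comp]),
      by rw [← cancel_mono (pullback.snd i p), Category.assoc, pullback.lift_snd, Category.comp_id, Category.id_comp],
      pullback.lift_snd _ _ _⟩

variable {A B : Type u} [CommRing A] [CommRing B] [Algebra A B]

/-- The condition, on an affine scheme over the base. -/
theorem factor_affine (J : Ideal B) (A' : Type u) [CommRing A'] [Algebra A A'] :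
    (∃ l : pullback (Spec.map (CommRingCat.ofHom (algebraMap A B))) (Spec.map (CommRingCat.ofHom (algebraMap A A'))) ⟶
        Spec (CommRingCat.of (B ⧸ J)),
        l ≫ Spec.map (CommRingCat.ofHom (Ideal.Quotient.mk J)) = pullback.fst _ _) ↔
      ∀ b ∈ J, (1 : A') ⊗ₜ[A] b = 0 := by
  have hsw : (pullbackSpecIso A B A').inv ≫
      pullback.fst (Spec.map (CommRingCat.ofHom (algebraMap A B))) (Spec.map (CommRingCat.ofHom (algebraMap A A'))) =
      Spec.map (CommRingCat.ofHom (Algebra.TensorProduct.includeLeftRingHom : B →+* B ⊗[A] A')) :=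
    pullbackSpecIso_inv_fst A B A'
  have hc : ∀ b, (1 : A') ⊗ₜ[A] b = 0 ↔ b ⊗ₜ[A] (1 : A') = 0 := fun b => by
    rw [← (TensorProduct.comm A B A').map_eq_zero_iff, TensorProduct.comm_tmul]
  refine ⟨fun ⟨l, hl⟩ b hb => (hc b).2 ?_, fun h => ?_⟩
  · obtain ⟨φ, hφ⟩ := Spec.map_surjective ((pullbackSpecIso A B A').inv ≫ l)
    have e : CommRingCat.ofHom (Ideal.Quotient.mk J) ≫ φ =
        CommRingCat.ofHom (Algebra.TensorProduct.includeLeftRingHom : B →+* B ⊗[A] A') := by
      apply Spec.map_injective
      rw [Spec.map_comp, hφ, Category.assoc, hl, hsw]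
    refine Eq.trans (ConcreteCategory.congr_hom e b).symm ?_
    show φ (Ideal.Quotient.mk J b) = 0
    rw [Ideal.Quotient.eq_zero_iff_mem.2 hb, map_zero]
  · refine ⟨(pullbackSpecIso A B A').hom ≫ Spec.map (CommRingCat.ofHom
      (Ideal.Quotient.lift J (Algebra.TensorProduct.includeLeftRingHom : B →+* B ⊗[A] A') fun b hb => (hc b).1 (h b hb))),
      ?_⟩
    rw [Category.assoc, ← Spec.map_comp, ← Iso.eq_inv_comp, hsw]
    rfl

open CategoryTheory CategoryTheory.Limits AlgebraicGeometry Opposite in
/-- For X = Spec B and S = Spec A affine (purity of a morphism is available here only in ring form), let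
A → B be a flat ring map of finite presentation such that the structure sheaf of X = Spec B is pure
relative to S = Spec A, and let i : Y → Spec B be a closed immersion (a closed subscheme Y of X).
Then the Weil restriction functor of Y along X → S, the functor on schemes over S with one point on
T when the base change Y_T → X_T of i is an isomorphism and empty otherwise (the subfunctor of the
final functor generated by that condition), is representable by a scheme Z over S whose structure
morphism Z → S is a closed immersion. If moreover Y → S is locally of finite presentation (hence of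
finite presentation) then Z → S is locally of finite presentation. -/
theorem result {A B : Type u} [CommRing A] [CommRing B] [Algebra A B] [Algebra.FinitePresentation A B] [Module.Flat A B]
    (hpure : FlatCA.IsPure A B B) {Y : Scheme.{u}} (i : Y ⟶ Spec (CommRingCat.of B)) [IsClosedImmersion i] :
    ∃ Z : Over (Spec (CommRingCat.of A)), IsClosedImmersion Z.hom ∧
      Nonempty ((FlatFun.genPSp (Spec (CommRingCat.of A)) (fun T =>
        IsIso (pullback.snd i (pullback.fst (Spec.map (CommRingCat.ofHom (algebraMap A B))) T.hom)))).RepresentableBy Z) ∧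
      (LocallyOfFinitePresentation (i ≫ Spec.map (CommRingCat.ofHom (algebraMap A B))) →
        LocallyOfFinitePresentation Z.hom) := by
  classical
  haveI : Module.Projective A B := (S1219.result B).2 hpure
  obtain ⟨s, hs⟩ := (Module.projective_def (R := A) (P := B)).1 inferInstance
  obtain ⟨e, he⟩ : ∃ e : Y ≅ Spec (CommRingCat.of (B ⧸ RingHom.ker ((Scheme.ΓSpecIso (CommRingCat.of B)).inv ≫ i.appTop).hom)),
      e.hom ≫ Spec.map (CommRingCat.ofHom (Ideal.Quotient.mk _)) = i := by
    haveI : IsAffine Y := isAffine_of_isAffineHom i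
    let q := (Scheme.ΓSpecIso (CommRingCat.of B)).inv ≫ i.appTop
    have hq : Function.Surjective q.hom :=
      (IsClosedImmersion.isAffine_surjective_of_isAffine i).2.comp
        (Scheme.ΓSpecIso (CommRingCat.of B)).commRingCatIsoToRingEquiv.symm.surjective
    let ψ : CommRingCat.of (B ⧸ RingHom.ker q.hom) ≅ Γ(Y, ⊤) :=
      (RingHom.quotientKerEquivOfSurjective hq).toCommRingCatIso
    refine ⟨Y.isoSpec ≪≫ Scheme.Spec.mapIso ψ.op, ?_⟩
    have e1 : CommRingCat.ofHom (Ideal.Quotient.mk (RingHom.ker q.hom)) ≫ ψ.hom = q := by ext b; rfl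
    show (Y.isoSpec.hom ≫ Spec.map ψ.hom) ≫ Spec.map _ = i
    rw [Category.assoc, ← Spec.map_comp, e1, Spec.map_comp, Scheme.isoSpec_hom_naturality_assoc,
      Scheme.isoSpec_Spec_hom, ← Spec.map_comp, Iso.inv_hom_id, Spec.map_id, Category.comp_id]
  have he' : e.inv ≫ i = Spec.map (CommRingCat.ofHom (Ideal.Quotient.mk _)) := (Iso.inv_comp_eq e).2 he.symm
  let J : Ideal B := RingHom.ker ((Scheme.ΓSpecIso (CommRingCat.of B)).inv ≫ i.appTop).hom
  let c : Ideal A := content s J
  let π := Spec.map (CommRingCat.ofHom (algebraMap A B))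
  let P : Over (Spec (CommRingCat.of A)) → Prop := fun T => IsIso (pullback.snd i (pullback.fst π T.hom))
  have hP : ∀ T : Over (Spec (CommRingCat.of A)),
      P T ↔ ∃ l, l ≫ Spec.map (CommRingCat.ofHom (Ideal.Quotient.mk J)) = pullback.fst π T.hom := fun T => by
    rw [show P T ↔ ∃ l, l ≫ i = pullback.fst π T.hom from isIso_snd_iff i _]
    exact ⟨fun ⟨l, hl⟩ => ⟨l ≫ e.hom, by rw [Category.assoc, he, hl]⟩,
      fun ⟨l, hl⟩ => ⟨l ≫ e.inv, by rw [Category.assoc, he', hl]⟩⟩
  have hst : ∀ ⦃T T₀ : Over (Spec (CommRingCat.of A))⦄ (_ : T ⟶ T₀), P T₀ → P T := fun T T₀ g h => by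
    obtain ⟨l, hl⟩ := (hP T₀).1 h
    exact (hP T).2 ⟨PicF.XTmap π g ≫ l, by rw [Category.assoc, hl, FGA.XTmap_fst]⟩
  let Z : Over (Spec (CommRingCat.of A)) := Over.mk (Spec.map (CommRingCat.ofHom (algebraMap A (A ⧸ c))))
  haveI : IsClosedImmersion Z.hom := IsClosedImmersion.spec_of_surjective _ Ideal.Quotient.mk_surjective
  have hPZ : P Z := (hP Z).2 ((factor_affine J (A ⧸ c)).2
    ((tmul_eq_zero_iff s hs J (A ⧸ c)).2 (by rw [Ideal.Quotient.algebraMap_eq, Ideal.mk_ker])))
  have hfac : ∀ T : Over (Spec (CommRingCat.of A)), P T → Nonempty (T ⟶ Z) := fun T hT => by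
    let ρ : CommRingCat.of A ⟶ Γ(T.left, ⊤) := (Scheme.ΓSpecIso (CommRingCat.of A)).inv ≫ T.hom.appTop
    have hc : ∀ a ∈ c, ρ a = 0 := fun a ha => by
      refine TopCat.Sheaf.eq_of_locally_eq' T.left.sheaf (fun V : T.left.affineOpens => V.1) ⊤
        (fun V => homOfLE le_top) (iSup_affineOpens_eq_top T.left).ge _ _ fun V => ?_
      let A' := Γ(T.left, V.1)
      let r : CommRingCat.of A ⟶ A' := ρ ≫ T.left.presheaf.map (homOfLE le_top).op
      letI : Algebra A A' := r.hom.toAlgebra
      let T' : Over (Spec (CommRingCat.of A)) := Over.mk (Spec.map r)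
      have hr : Spec.map r = V.2.fromSpec ≫ T.hom := by
        simp only [r, ρ, Spec.map_comp]
        rw [← IsAffineOpen.fromSpec_toSpecΓ V.2]
        simp only [Category.assoc]
        rw [← Scheme.toSpecΓ_naturality_assoc, toSpecΓ_SpecMap_ΓSpecIso_inv, Category.comp_id]
      have hT' : P T' := hst (Over.homMk V.2.fromSpec hr.symm : T' ⟶ T) hT
      have := (tmul_eq_zero_iff s hs J A').1 ((factor_affine J A').1 ((hP T').1 hT')) ha
      rw [map_zero]
      exact this
    exact ⟨Over.homMk (T.left.toSpecΓ ≫ Spec.map (CommRingCat.ofHom (Ideal.Quotient.lift c ρ.hom hc))) (by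
      show (T.left.toSpecΓ ≫ Spec.map _) ≫ Spec.map _ = T.hom
      rw [Category.assoc, ← Spec.map_comp,
        show CommRingCat.ofHom (algebraMap A (A ⧸ c)) ≫ CommRingCat.ofHom (Ideal.Quotient.lift c ρ.hom hc) = ρ from rfl,
        Spec.map_comp, ← Scheme.toSpecΓ_naturality_assoc, toSpecΓ_SpecMap_ΓSpecIso_inv, Category.comp_id])⟩
  haveI hsub : ∀ T : Over (Spec (CommRingCat.of A)), Subsingleton (T ⟶ Z) := fun T =>
    ⟨fun a b => Over.OverMorphism.ext ((cancel_mono Z.hom).1 ((Over.w a).trans (Over.w b).symm))⟩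
  refine ⟨Z, inferInstance, ⟨{
    homEquiv := fun {T} =>
      { toFun := fun g => (FlatFun.genPSp_nonempty_of P (hst g hPZ)).some
        invFun := fun x => (hfac T ((FlatFun.genPSp_nonempty_iff_of_stable P hst T).1 ⟨x⟩)).some
        left_inv := fun _ => Subsingleton.elim _ _
        right_inv := fun _ => (FlatFun.genPSp_subsingleton _ P _).elim _ _ }
    homEquiv_comp := fun {T T'} f g => (FlatFun.genPSp_subsingleton _ P _).elim _ _ }⟩, fun hlfp => ?_⟩
  have hfp : Algebra.FinitePresentation A (B ⧸ J) := by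
    haveI : LocallyOfFinitePresentation (Spec.map (CommRingCat.ofHom (algebraMap A (B ⧸ J)))) := by
      rw [show CommRingCat.ofHom (algebraMap A (B ⧸ J)) = CommRingCat.ofHom (algebraMap A B) ≫
        CommRingCat.ofHom (Ideal.Quotient.mk J) from rfl, Spec.map_comp]
      have e1 : Spec.map (CommRingCat.ofHom (Ideal.Quotient.mk J)) ≫ π = e.inv ≫ i ≫ π := by
        rw [← Category.assoc e.inv, he']
      rw [e1]
      infer_instance
    exact RingHom.finitePresentation_algebraMap.1
      ((HasRingHomProperty.Spec_iff (P := @LocallyOfFinitePresentation) (φ := CommRingCat.ofHom (algebraMap A (B ⧸ J)))).1 inferInstance)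
  have hJ : J.FG := by
    haveI : Algebra.FinitePresentation B (B ⧸ J) := Algebra.FinitePresentation.of_restrict_scalars_finitePresentation A B _
    have h := Algebra.FinitePresentation.ker_fG_of_surjective (f := Ideal.Quotient.mkₐ B J) Ideal.Quotient.mk_surjective
    simpa using h
  haveI : Algebra.FinitePresentation A (A ⧸ c) := Algebra.FinitePresentation.quotient (content_fg s hs J hJ)
  exact (HasRingHomProperty.Spec_iff (P := @LocallyOfFinitePresentation)).2
    (RingHom.finitePresentation_algebraMap.2 inferInstance)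

end Groth.Agent.S9025
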