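import Groth.Statements.S9026
import Groth.Agent.GenRankLib.Chart
import Groth.Agent.GenRankLib.FactorBasis

set_option autoImplicit false
set_option linter.style.haveILetI false
set_option backward.isDefEq.respectTransparency false
set_option backward.defeqAttrib.useBackward true
universe u
open FlatMor

namespace Groth.Agent.S9026

open CategoryTheory CategoryTheory.Limits AlgebraicGeometry TopologicalSpace Opposite
open Groth.Agent.PullbackMod Groth.Agent.GenFreeLocus Groth.Agent.GenRankLib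

variable {X S : Scheme.{u}} (f : X ⟶ S) [Smooth f] [GeometricallyIrreducible f] (F : X.Modules) [Coh.IsQCoh F] (p : ℕ)

/-- An affine open of the base covered by one affine open of the source. -/
def Good (V : S.affineOpens) : Prop :=
  ∃ W : X.Opens, IsAffineOpen W ∧ W ≤ f ⁻¹ᵁ V.1 ∧ ∀ s ∈ V.1, ∃ x ∈ W, f x = s

theorem good_basis : Opens.IsBasis ((fun V : S.affineOpens => V.1) '' {V | Good f V}) := by
  refine Opens.isBasis_iff_nbhd.2 fun {U s} hsU => ?_
  obtain ⟨x, rfl⟩ := f.surjective s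
  obtain ⟨_, ⟨V : S.Opens, (hV : IsAffineOpen V), rfl⟩, hxV, -⟩ :=
    S.isBasis_affineOpens.exists_subset_of_mem_open (Set.mem_univ (f x)) isOpen_univ
  obtain ⟨_, ⟨W : X.Opens, (hW : IsAffineOpen W), rfl⟩, hxW, hWV⟩ :=
    X.isBasis_affineOpens.exists_subset_of_mem_open (a := x) (u := ↑(f ⁻¹ᵁ V)) hxV (f ⁻¹ᵁ V).2
  obtain ⟨a, ha, hxa⟩ := hV.exists_basicOpen_le (V := U ⊓ ⟨f '' W, f.isOpenMap _ W.2⟩)
    ⟨f x, hsU, x, hxW, rfl⟩ hxV
  refine ⟨S.basicOpen a, ⟨⟨S.basicOpen a, hV.basicOpen a⟩,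
    ⟨X.basicOpen (f.appLE V W hWV a), hW.basicOpen _, ?_, fun s hs => ?_⟩, rfl⟩, hxa, ha.trans inf_le_left⟩
  · rw [Scheme.basicOpen_appLE]
    exact inf_le_right
  · obtain ⟨y, hy, rfl⟩ := (ha hs).2
    refine ⟨y, ?_, rfl⟩
    rw [Scheme.basicOpen_appLE]
    exact ⟨hy, hs⟩

theorem piece (hF : CohB1.IsFT F) (V : S.affineOpens) (hgood : Good f V) :
    ∃ (Z : Scheme.{u}) (e : Z ⟶ (V.1 : Scheme.{u})), IsImmersion e ∧
      (∀ (T : Scheme.{u}) (v : T ⟶ (V.1 : Scheme.{u})),
        (∃ v' : T ⟶ Z, v' ≫ e = v) ↔ GenFree f F p (Over.mk (v ≫ V.1.ι))) ∧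
      (CohB1.IsFP F → LocallyOfFinitePresentation e ∧ QuasiCompact e) := by
  classical
  obtain ⟨W, hW, hWV, hsurj⟩ := hgood
  obtain ⟨V, hV⟩ := V
  letI : Algebra Γ(S, V) Γ(X, W) := (f.appLE V W hWV).hom.toAlgebra
  haveI : Algebra.Smooth Γ(S, V) Γ(X, W) := by
    have h : (f.appLE V W hWV).hom.Smooth :=
      HasRingHomProperty.appLE @Smooth f inferInstance ⟨V, hV⟩ ⟨W, hW⟩ hWV
    exact h
  have hirr : FlatCA.GeomIrredFibres Γ(S, V) Γ(X, W) := by
    haveI : Surjective (f.resLE V W hWV) := ⟨fun s => by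
      obtain ⟨x, hx, hxe⟩ := hsurj s.1 s.2
      refine ⟨⟨x, hx⟩, Subtype.ext ?_⟩
      rw [← hxe]
      exact congrArg (fun φ => φ (⟨x, hx⟩ : W.toScheme)) (Scheme.Hom.resLE_comp_ι (f := f) hWV)⟩
    have h := geometricallyIrreducible_resLE f hWV
    show GeometricallyIrreducible (Spec.map (f.appLE V W hWV))
    have e1 : Spec.map (f.appLE V W hWV) = hW.isoSpec.inv ≫ f.resLE V W hWV ≫ hV.isoSpec.hom := by
      rw [← cancel_mono hV.fromSpec, hV.SpecMap_appLE_fromSpec f hW hWV]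
      simp only [Category.assoc, IsAffineOpen.isoSpec_hom_fromSpec, Scheme.Hom.resLE_comp_ι]
      rw [← IsAffineOpen.isoSpec_inv_ι, Category.assoc]
    rw [e1, MorphismProperty.cancel_left_of_respectsIso @GeometricallyIrreducible,
      MorphismProperty.cancel_right_of_respectsIso @GeometricallyIrreducible]
    exact h
  haveI := DevissLib.projective_of_smooth hirr
  obtain ⟨s, hs⟩ := (Module.projective_def (R := Γ(S, V)) (P := Γ(X, W))).1 inferInstance
  let I : Ideal Γ(S, V) := content s (Fprev Γ(X, W) Γ(F, W) p)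
  let O : S.Opens := ⟨f '' rankLE F p hW, f.isOpenMap _ (isOpen_rankLE F p hW)⟩
  let c : Spec (CommRingCat.of (Γ(S, V) ⧸ I)) ⟶ (V : Scheme.{u}) :=
    Spec.map (CommRingCat.ofHom (Ideal.Quotient.mk I)) ≫ hV.isoSpec.inv
  haveI : IsClosedImmersion (Spec.map (CommRingCat.ofHom (Ideal.Quotient.mk I))) :=
    IsClosedImmersion.spec_of_surjective _ Ideal.Quotient.mk_surjective
  let U := c ⁻¹ᵁ (V.ι ⁻¹ᵁ O)
  let e : (U : Scheme.{u}) ⟶ V := U.ι ≫ c
  haveI : IsImmersion e := inferInstance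
  have hP : ∀ (T : Scheme.{u}) [IsAffine T] (v : T ⟶ (V : Scheme.{u})),
      (∃ v' : T ⟶ U, v' ≫ e = v) ↔ GenFree f F p (Over.mk (v ≫ V.ι)) := by
    intro T _ v
    have eT : (⊤ : T.Opens) ≤ (v ≫ V.ι) ⁻¹ᵁ V := fun t _ => (v t).2
    haveI : IsAffine (Over.mk (v ≫ V.ι)).left := inferInstanceAs (IsAffine T)
    have hiff : GenFree f F p (Over.mk (v ≫ V.ι)) ↔
        I ≤ RingHom.ker ((v ≫ V.ι).appLE V ⊤ eT).hom ∧ ∀ t, (v ≫ V.ι) t ∈ f '' rankLE F p hW :=
      genFree_iff f F p hF hV hW hWV hsurj s hs (Over.mk (v ≫ V.ι)) eT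
    rw [hiff]
    have hv : T.isoSpec.inv ≫ v = Spec.map ((v ≫ V.ι).appLE V ⊤ eT) ≫ hV.isoSpec.inv := by
      rw [← cancel_mono V.ι, Category.assoc, Category.assoc, IsAffineOpen.isoSpec_inv_ι,
        hV.SpecMap_appLE_fromSpec (v ≫ V.ι) (isAffineOpen_top T) eT, IsAffineOpen.fromSpec_top]
    constructor
    · rintro ⟨v', hv'⟩
      refine ⟨fun a ha => ?_, fun t => ?_⟩
      · obtain ⟨ψ, hψ⟩ := Spec.map_surjective (T.isoSpec.inv ≫ v' ≫ U.ι)
        have h1 : CommRingCat.ofHom (Ideal.Quotient.mk I) ≫ ψ = (v ≫ V.ι).appLE V ⊤ eT := by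
          apply Spec.map_injective
          rw [Spec.map_comp, hψ, ← cancel_mono hV.isoSpec.inv, ← hv, ← hv']
          simp [e, c]
        rw [RingHom.mem_ker, ← h1]
        show ψ (Ideal.Quotient.mk I a) = 0
        rw [Ideal.Quotient.eq_zero_iff_mem.2 ha, map_zero]
      · have h : (v ≫ V.ι) t = V.ι (c (U.ι (v' t))) := by
          rw [← hv']
          simp [e]
        rw [h]
        exact (v' t).2
    · rintro ⟨hI, hO⟩
      let l : T ⟶ Spec (CommRingCat.of (Γ(S, V) ⧸ I)) :=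
        T.isoSpec.hom ≫ Spec.map (CommRingCat.ofHom (Ideal.Quotient.lift I ((v ≫ V.ι).appLE V ⊤ eT).hom
          fun a ha => hI ha))
      have hl : l ≫ c = v := by
        show (T.isoSpec.hom ≫ _) ≫ (_ ≫ hV.isoSpec.inv) = v
        rw [Category.assoc, ← Spec.map_comp_assoc]
        show T.isoSpec.hom ≫ Spec.map ((v ≫ V.ι).appLE V ⊤ eT) ≫ hV.isoSpec.inv = v
        rw [← hv, Iso.hom_inv_id_assoc]
      have hr : Set.range l ⊆ Set.range U.ι := by
        rw [Scheme.Opens.range_ι]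
        rintro _ ⟨t, rfl⟩
        show V.ι (c (l t)) ∈ O
        rw [← Scheme.Hom.comp_apply l c, hl]
        exact hO t
      exact ⟨IsOpenImmersion.lift U.ι l hr, by
        rw [← Category.assoc, IsOpenImmersion.lift_fac, hl]⟩
  refine ⟨U, e, inferInstance, fun T v => ⟨?_, fun h => ?_⟩, fun hfp => ?_⟩
  · rintro ⟨v', rfl⟩
    refine genFree_desc f F p hF _ fun t => ?_
    obtain ⟨_, ⟨W₀ : T.Opens, (hW₀ : IsAffineOpen W₀), rfl⟩, htW, -⟩ :=
      T.isBasis_affineOpens.exists_subset_of_mem_open (Set.mem_univ t) isOpen_univ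
    haveI : IsAffine (W₀ : Scheme.{u}) := hW₀
    let g : Over.mk ((W₀.ι ≫ v' ≫ e) ≫ V.ι) ⟶ Over.mk ((v' ≫ e) ≫ V.ι) := Over.homMk W₀.ι (by simp)
    haveI : Flat g.left := inferInstanceAs (Flat W₀.ι)
    exact ⟨_, g, inferInstance, ⟨⟨t, htW⟩, rfl⟩, (hP _ _).1 ⟨W₀.ι ≫ v', Category.assoc _ _ _⟩⟩
  · let 𝒰 := T.directedAffineCover
    haveI : ∀ j, IsAffine (𝒰.X j) := fun j => j.2
    have hloc : ∀ j, ∃ v' : 𝒰.X j ⟶ U, v' ≫ e = 𝒰.f j ≫ v := fun j => (hP _ _).2
      (genFree_stable f F p (Over.homMk (𝒰.f j) (by simp) :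
        Over.mk ((𝒰.f j ≫ v) ≫ V.ι) ⟶ Over.mk (v ≫ V.ι)) h)
    choose k hk using hloc
    refine ⟨𝒰.glueMorphisms k fun x y => ?_, Scheme.Cover.hom_ext 𝒰 _ _ fun j => ?_⟩
    · rw [← cancel_mono e, Category.assoc, Category.assoc, hk, hk, pullback.condition_assoc]
    · rw [← Category.assoc, Scheme.Cover.ι_glueMorphisms, hk]
  · haveI := QCohLib.finitePresentation_sections F hfp hW
    haveI : Algebra.FinitePresentation Γ(S, V) (Γ(S, V) ⧸ I) :=
      Algebra.FinitePresentation.quotient (content_fg s hs _ (fprev_fg Γ(F, W) p))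
    haveI : LocallyOfFinitePresentation (Spec.map (CommRingCat.ofHom (Ideal.Quotient.mk I))) :=
      (HasRingHomProperty.Spec_iff (P := @LocallyOfFinitePresentation)).2
        (RingHom.finitePresentation_algebraMap.2 ‹Algebra.FinitePresentation Γ(S, V) (Γ(S, V) ⧸ I)›)
    refine ⟨inferInstance, ?_⟩
    haveI : IsAffine (V : Scheme.{u}) := hV
    have hc : IsCompact (O : Set S) :=
      (isCompact_rankLE F p hW (fitt_fg Γ(F, W) p)).image f.continuous
    have hsub : (O : Set S) ⊆ V := by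
      rintro _ ⟨x, ⟨hx, -⟩, rfl⟩
      exact hWV hx
    have h1 : IsCompact ((V.ι ⁻¹ᵁ O : V.toScheme.Opens) : Set V.toScheme) :=
      V.ι.isOpenEmbedding.isInducing.isCompact_preimage' hc (by rwa [Scheme.Opens.range_ι])
    haveI : CompactSpace U := isCompact_iff_compactSpace.1 (c.isCompact_preimage h1)
    exact (quasiCompact_iff_compactSpace e).2 inferInstance

open CategoryTheory CategoryTheory.Limits AlgebraicGeometry Opposite in
/-- For f : X → S smooth with geometrically irreducible fibres, F a quasi-coherent O_X-module of finite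
type and p ≥ 0, the functor H_p on schemes over S (one point on T when the base change F_T is free
of rank p on a neighbourhood of the generic point of every fibre of X ×_S T → T, empty otherwise;
the subfunctor of the final functor generated by that condition) is representable by a scheme S_p
over S whose structure morphism S_p → S is an immersion (a locally closed immersion). When the
module F is finitely presented, the morphism S_p → S is likewise finitely presented, i.e. locally of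
finite presentation, quasi-compact and quasi-separated. -/
theorem result {X S : Scheme.{u}} (f : X ⟶ S) [Smooth f] [GeometricallyIrreducible f] (F : X.Modules) [Coh.IsQCoh F]
    (hF : CohB1.IsFT F) (p : ℕ) :
    ∃ Z : Over S, IsImmersion Z.hom ∧
      Nonempty ((FlatFun.genPSp S (fun T => FlatFun.FreeAtGenericPts (PicF.XTproj f T) (FGA.ET f F T) p)).RepresentableBy Z) ∧
      (CohB1.IsFP F → LocallyOfFinitePresentation Z.hom ∧ QuasiCompact Z.hom ∧ QuasiSeparated Z.hom) := by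
  choose Z e hImm huniv hfpZ using fun V : {V : S.affineOpens | Good f V} => piece f F p hF V.1 V.2
  let P : ∀ ⦃T : Scheme.{u}⦄, (T ⟶ S) → Prop := fun T u => GenFree f F p (Over.mk u)
  have hcomp : ∀ ⦃T' T : Scheme.{u}⦄ (a : T' ⟶ T) (u : T ⟶ S), P u → P (a ≫ u) := fun T' T a u h =>
    genFree_stable f F p (Over.homMk a rfl : Over.mk (a ≫ u) ⟶ Over.mk u) h
  have hloc : ∀ ⦃T : Scheme.{u}⦄ (u : T ⟶ S),
      (∀ t : T, ∃ W : T.Opens, t ∈ W ∧ P (W.ι ≫ u)) → P u := fun T u h =>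
    genFree_desc f F p hF _ fun t => by
      obtain ⟨W, htW, hWP⟩ := h t
      exact ⟨Over.mk (W.ι ≫ u), Over.homMk W.ι rfl, inferInstanceAs (Flat W.ι), ⟨⟨t, htW⟩, rfl⟩, hWP⟩
  obtain ⟨Y, i, hmono, hpb, hY⟩ := FactorBasis.exists_glued _ (good_basis f) P hcomp hloc Z e
    (fun V => by haveI := hImm V; infer_instance) huniv
  let Q : Over S → Prop := fun T => FlatFun.FreeAtGenericPts (PicF.XTproj f T) (FGA.ET f F T) p
  have hQ : ∀ T : Over S, Q T ↔ GenFree f F p T := freeAtGenericPts_iff f F p hF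
  have hst : ∀ ⦃T T₀ : Over S⦄ (_ : T ⟶ T₀), Q T₀ → Q T := fun T T₀ g h =>
    (hQ T).2 (genFree_stable f F p g ((hQ T₀).1 h))
  haveI := hmono
  let Y' : Over S := Over.mk i
  haveI : Mono Y'.hom := hmono
  haveI hsub : ∀ T : Over S, Subsingleton (T ⟶ Y') := fun T =>
    ⟨fun a b => Over.OverMorphism.ext ((cancel_mono i).1 ((Over.w a).trans (Over.w b).symm))⟩
  have hQY : Q Y' := (hQ Y').2 ((hY Y i).1 ⟨𝟙 Y, Category.id_comp i⟩)
  have hfac : ∀ T : Over S, Q T → Nonempty (T ⟶ Y') := fun T hT => by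
    obtain ⟨u', hu'⟩ := (hY T.left T.hom).2 ((hQ T).1 hT)
    exact ⟨Over.homMk u' hu'⟩
  refine ⟨Y', FactorBasis.of_pieces _ (good_basis f) Z e @IsImmersion i hpb hImm, ⟨{
    homEquiv := fun {T} =>
      { toFun := fun g => (FlatFun.genPSp_nonempty_of Q (hst g hQY)).some
        invFun := fun x => (hfac T ((FlatFun.genPSp_nonempty_iff_of_stable Q hst T).1 ⟨x⟩)).some
        left_inv := fun _ => Subsingleton.elim _ _
        right_inv := fun _ => (FlatFun.genPSp_subsingleton _ Q _).elim _ _ }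
    homEquiv_comp := fun {T T'} f' g => (FlatFun.genPSp_subsingleton _ Q _).elim _ _ }⟩, fun hfp => ?_⟩
  exact ⟨FactorBasis.of_pieces _ (good_basis f) Z e @LocallyOfFinitePresentation i hpb fun V => (hfpZ V hfp).1,
    FactorBasis.of_pieces _ (good_basis f) Z e @QuasiCompact i hpb fun V => (hfpZ V hfp).2,
    inferInstanceAs (QuasiSeparated i)⟩

end Groth.Agent.S9026
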