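import Groth.Statements.S9029
import Groth.Agent.GenRankLib.GenericPts

set_option autoImplicit false
set_option linter.style.haveILetI false
set_option backward.isDefEq.respectTransparency false
set_option backward.defeqAttrib.useBackward true
universe u
open FlatMor

namespace Groth.Agent.S9029

open CategoryTheory CategoryTheory.Limits AlgebraicGeometry TopologicalSpace Opposite
open scoped TensorProduct
open Groth.Agent.PullbackMod Groth.Agent.GenFreeLocus

/-- The rank at a point is bounded by the number of global generators. -/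
theorem exists_bound {X : Scheme.{u}} [IsAffine X] (F : X.Modules) [Coh.IsQCoh F] (hF : CohB1.IsFT F) :
    ∃ c : ℕ, ∀ {X' : Scheme.{u}} (g : X' ⟶ X) (x' : X') (p : ℕ),
      FreeAt p ((Scheme.Modules.pullback g).obj F) x' → p ≤ c := by
  classical
  haveI := QCohLib.finite_sections F hF (isAffineOpen_top X)
  obtain ⟨c, v, hv⟩ := Module.Finite.exists_fin (R := Γ(X, ⊤)) (M := Γ(F, ⊤))
  refine ⟨c, fun {X'} g x' p h => ?_⟩
  have hxt : g x' ∈ (⊤ : X.Opens) := trivial
  letI := (g.stalkMap x').hom.toAlgebra
  letI := Module.compHom (F.presheaf.stalk (g x')) (X.presheaf.germ ⊤ (g x') hxt).hom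
  letI : Algebra Γ(X, ⊤) (X.presheaf.stalk (g x')) :=
    TopCat.Presheaf.algebra_section_stalk X.presheaf ⟨g x', hxt⟩
  haveI := (isAffineOpen_top X).isLocalization_stalk ⟨g x', hxt⟩
  haveI : IsScalarTower Γ(X, ⊤) (X.presheaf.stalk (g x')) (F.presheaf.stalk (g x')) :=
    .of_algebraMap_smul fun _ _ => rfl
  haveI := FlatLocus.isLocalizedModule_germL F (isAffineOpen_top X) (g x') hxt
  let gl := FlatLocus.germL F ⊤ (g x') hxt
  have hspan : Submodule.span (X.presheaf.stalk (g x')) (Set.range fun i => gl (v i)) = ⊤ := by
    refine eq_top_iff.2 fun z _ => ?_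
    have hgen : ∀ y, gl y ∈ Submodule.span (X.presheaf.stalk (g x')) (Set.range fun i => gl (v i)) := by
      intro y
      have hy : y ∈ Submodule.span Γ(X, ⊤) (Set.range v) := hv ▸ Submodule.mem_top
      induction hy using Submodule.span_induction with
      | mem y hy =>
        obtain ⟨i, rfl⟩ := hy
        exact Submodule.subset_span ⟨i, rfl⟩
      | zero => rw [map_zero]; exact zero_mem _
      | add b c _ _ hb hc => rw [map_add]; exact add_mem hb hc
      | smul r b _ hb =>
        rw [map_smul, ← algebraMap_smul (A := X.presheaf.stalk (g x'))]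
        exact Submodule.smul_mem _ _ hb
    obtain ⟨⟨y, t⟩, rfl⟩ := IsLocalizedModule.mk'_surjective
      ((isAffineOpen_top X).primeIdealOf ⟨g x', hxt⟩).asIdeal.primeCompl gl z
    have hu : IsUnit (algebraMap Γ(X, ⊤) (X.presheaf.stalk (g x')) t) := IsLocalization.map_units _ t
    refine (Submodule.smul_mem_iff_of_isUnit _ hu).1 ?_
    rw [algebraMap_smul, Function.uncurry_apply_pair]
    exact (IsLocalizedModule.mk'_cancel' gl y t).symm ▸ hgen y
  obtain ⟨φ, -⟩ := exists_pullback_stalk_equiv g F x'
  obtain ⟨e⟩ := h
  let ψ : (Fin c → X'.presheaf.stalk x') →ₗ[X'.presheaf.stalk x']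
      X'.presheaf.stalk x' ⊗[X.presheaf.stalk (g x')] F.presheaf.stalk (g x') :=
    Fintype.linearCombination _ fun i => 1 ⊗ₜ gl (v i)
  have hψ : Function.Surjective ψ := LinearMap.range_eq_top.1 (by
    rw [Fintype.range_linearCombination]
    refine eq_top_iff.2 fun z hz' => ?_
    clear hz'
    induction z using TensorProduct.induction_on with
    | zero => exact zero_mem _
    | add a b ha hb => exact add_mem ha hb
    | tmul b m =>
      rw [← mul_one b, ← smul_eq_mul, ← TensorProduct.smul_tmul']
      refine Submodule.smul_mem _ _ ?_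
      have hm : m ∈ Submodule.span (X.presheaf.stalk (g x')) (Set.range fun i => gl (v i)) :=
        hspan ▸ Submodule.mem_top
      induction hm using Submodule.span_induction with
      | mem y hy =>
        obtain ⟨i, rfl⟩ := hy
        exact Submodule.subset_span ⟨i, rfl⟩
      | zero => rw [TensorProduct.tmul_zero]; exact zero_mem _
      | add b c _ _ hb hc => rw [TensorProduct.tmul_add]; exact add_mem hb hc
      | smul r b _ hb =>
        rw [TensorProduct.tmul_smul, ← algebraMap_smul (A := X'.presheaf.stalk x')]
        exact Submodule.smul_mem _ _ hb)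
  exact le_of_fin_surjective (X'.presheaf.stalk x') (((φ.trans e).toLinearMap).comp ψ)
    ((φ.trans e).surjective.comp hψ)

open CategoryTheory CategoryTheory.Limits AlgebraicGeometry Opposite in
/-- Let X → S be a morphism of affine schemes which is smooth of relative dimension d with geometrically
irreducible fibres, and F a quasi-coherent O_X-module of finite presentation. Then the functor F_d
(F_T flat over T in dimensions ≥ d) is the disjoint union, as a sheaf, of the functors H_p for p =
0, …, c for some c ≥ 0: there is c such that for every scheme T over S, the base change F_T on X ×_S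
T is flat over T in dimensions ≥ d (every point where it is not flat over T has residue field of
transcendence degree less than d over that of its image) if and only if every point of T has an open
neighbourhood V in T and an integer p ≤ c such that F_V is free of rank p on a neighbourhood of the
generic point of every fibre of X ×_S V → V. -/
theorem result {X S : Scheme.{u}} [IsAffine X] [IsAffine S] (f : X ⟶ S) (d : ℕ) [SmoothOfRelativeDimension d f]
    [GeometricallyIrreducible f] (F : X.Modules) [Coh.IsQCoh F] (hF : CohB1.IsFP F) :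
    ∃ c : ℕ, ∀ T : Over S,
      (FlatFun.DimFibresLT d (PicF.XTproj f T)
        {x | ¬ FlatMod.IsFlatOverAt (PicF.XTproj f T) (FGA.ET f F T) x}) ↔
      ∀ t : T.left, ∃ (V : T.left.Opens) (p : ℕ), t ∈ V ∧ p ≤ c ∧
        FlatFun.FreeAtGenericPts (PicF.XTproj f (Over.mk (V.ι ≫ T.hom)))
          (FGA.ET f F (Over.mk (V.ι ≫ T.hom))) p := by
  have hFT : CohB1.IsFT F := by
    haveI : SheafOfModules.IsFinitePresentation (R := X.ringCatSheaf) F := hF
    exact inferInstanceAs (SheafOfModules.IsFiniteType (R := X.ringCatSheaf) F)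
  obtain ⟨c, hc⟩ := exists_bound F hFT
  refine ⟨c, fun T => ?_⟩
  haveI : Smooth f := SmoothOfRelativeDimension.smooth d f
  haveI := smoothOfRelativeDimension_isStableUnderBaseChange.{u} d
  haveI : SmoothOfRelativeDimension d (pullback.snd f T.hom) :=
    MorphismProperty.pullback_snd (P := @SmoothOfRelativeDimension d) _ _ inferInstance
  haveI := isQCoh_pullback (pullback.fst f T.hom) F
  refine (GenRank.flatDimGE_iff (pullback.snd f T.hom) (FGA.ET f F T) d (isFP_pullback _ F hF)).trans ⟨fun h t => ?_, fun h η hη => ?_⟩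
  · obtain ⟨η, hηt, hη⟩ := exists_genericPt (pullback.snd f T.hom) t
    obtain ⟨p, hp⟩ := h η hη
    let U : (pullback f T.hom).Opens :=
      ⟨{x | FreeAt p (FGA.ET f F T) x}, isOpen_freeAt _ (isFP_pullback _ F hF) p⟩
    let V : T.left.Opens := ⟨pullback.snd f T.hom '' U, (pullback.snd f T.hom).isOpenMap _ U.2⟩
    refine ⟨V, p, ⟨η, hp, hηt⟩, hc _ η p hp, ?_⟩
    refine (freeAtGenericPts_iff f F p hFT _).2 fun ξ hξ => ?_
    let T' : Over S := Over.mk (V.ι ≫ T.hom)
    let j : T' ⟶ T := Over.homMk V.ι rfl
    refine freeAt_XTmap f F j ξ ?_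
    have hgen := generic_map f j ξ hξ
    have hmem : pullback.snd f T.hom (PicF.XTmap f j ξ) ∈ (V : Set T.left) := by
      rw [snd_XTmap]
      exact (pullback.snd f T'.hom ξ).2
    obtain ⟨x, hx, hxe⟩ := hmem
    exact (hgen x hxe).mem_open U.2 hx
  · obtain ⟨V, p, htV, -, hfree⟩ := h (pullback.snd f T.hom η)
    refine ⟨p, ?_⟩
    let T' : Over S := Over.mk (V.ι ≫ T.hom)
    let j : T' ⟶ T := Over.homMk V.ι rfl
    have h' := (freeAtGenericPts_iff f F p hFT T').1 hfree
    obtain ⟨η', hη't, hη'⟩ := exists_genericPt (pullback.snd f T'.hom) (⟨_, htV⟩ : V.toScheme)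
    have he : PicF.XTmap f j η' = η := genericPt_unique (pullback.snd f T.hom) (generic_map f j η' hη') hη
      (by rw [snd_XTmap, hη't]; rfl)
    haveI : Flat j.left := inferInstanceAs (Flat V.ι)
    haveI := flat_XTmap f j
    rw [← he]
    exact freeAt_desc (PicF.XTmap f j) _ (isFiniteType_pullback (pullback.fst f T.hom) F hFT) η'
      (freeAt_of_iso (FGA.ETiso f F j).symm (h' η' hη'))

end Groth.Agent.S9029
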