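import Groth.Statements.S9030
import Groth.Agent.GenRankLib.Step

set_option linter.style.haveILetI false
set_option backward.isDefEq.respectTransparency false
set_option backward.isDefEq.respectTransparency.types false
set_option maxHeartbeats 1000000
-- import your own Groth.Agent.* helpers here

set_option autoImplicit false
universe u
open FlatMor

namespace Groth.Agent.S9030

open Groth.Agent.GenRankLib

open CategoryTheory CategoryTheory.Limits AlgebraicGeometry Opposite in
/-- In this form S = Spec A and X = Spec B are affine, as the existence of a complete dévissage forces,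
and the test schemes are affine as well, which suffices. Let B be a finitely presented A-algebra, N
a finitely presented B-module, s a prime of A and d ≥ 0. Assume given a complete dévissage (A_i,
B_i, M_i, α_i) of N over B over A over s (the ring-level structure) in which, for every step i, the
smooth A-algebra B_i has relative dimension equal to the Krull dimension of the support of the fibre
module M_i ⊗ κ(s) over B_i ⊗ κ(s) — together this is the complete dévissage of the module over the
scheme Spec B over Spec A over the point s — and assume that N is flat over A in dimensions ≥ d + 1.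
Then, over some principal open neighbourhood D(g) of s, the functor F_d is representable by a
monomorphism of finite presentation: there are g ∈ A not in s and a monomorphism of schemes Z → Spec
A which is locally of finite presentation, quasi-compact and quasi-separated, such that for every
A-algebra A' in which g is invertible, with base changes B' of B and N' of N (any models), N' is
flat over A' in dimensions ≥ d if and only if Spec A' → Spec A factors through Z. -/
theorem result {A B : Type u} [CommRing A] [CommRing B] [Algebra A B] [Algebra.FinitePresentation A B]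
    (N : Type u) [AddCommGroup N] [Module B N] [Module A N] [IsScalarTower A B N] [Module.FinitePresentation B N]
    (s : Ideal A) [s.IsPrime] (D : FlatCA.CompleteDevissage A B N s)
    (hdim : ∀ i, i < D.n → ∃ e : ℕ, FlatCA.SmoothRelDim e A (D.B i) ∧
      Module.supportDim (s.Fiber (D.B i)) (FlatCA.fiberMod s (D.B i) (D.M i)) = e)
    (d : ℕ) (hflat : FlatCA.FlatInDimGE (d + 1) A B N) :
    ∃ g : A, g ∉ s ∧ ∃ (Z : Scheme.{u}) (i : Z ⟶ Spec (CommRingCat.of A)),
      Mono i ∧ LocallyOfFinitePresentation i ∧ QuasiCompact i ∧ QuasiSeparated i ∧
      ∀ (A' B' N' : Type u) [CommRing A'] [CommRing B'] [Algebra A A'] [Algebra B B'] [Algebra A' B'] [Algebra A B']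
        [IsScalarTower A B B'] [IsScalarTower A A' B'] [Algebra.IsPushout A B A' B']
        [AddCommGroup N'] [Module B' N'] [Module B N'] [IsScalarTower B B' N'] [Module A' N'] [IsScalarTower A' B' N']
        (φ : N →ₗ[B] N'), IsBaseChange B' φ → IsUnit (algebraMap A A' g) →
        (FlatCA.FlatInDimGE d A' B' N' ↔
          ∃ k : Spec (CommRingCat.of A') ⟶ Z, k ≫ i = Spec.map (CommRingCat.ofHom (algebraMap A A'))) := by
  have hn := D.pos
  haveI := fun i => D.hp i
  letI : ∀ i, Module A (D.M i) := fun i => D.mRM i
  haveI : ∀ i, IsScalarTower A (D.A i) (D.M i) := fun i => IsScalarTower.of_algebraMap_smul fun r m => by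
    rw [IsScalarTower.algebraMap_apply A (D.B i) (D.A i), algebraMap_smul, algebraMap_smul]
  haveI : IsScalarTower A B (D.M 0) := IsScalarTower.of_algebraMap_smul fun r m => by
    rw [← algebraMap_smul (D.A 0) (algebraMap A B r) m, ← IsScalarTower.algebraMap_apply A B (D.A 0), algebraMap_smul]
  haveI : ∀ i, IsScalarTower A (D.B i) (D.M (i + 1)) := fun i => IsScalarTower.of_algebraMap_smul fun r m => by
    rw [← algebraMap_smul (D.A (i + 1)) (algebraMap A (D.B i) r) m, ← IsScalarTower.algebraMap_apply A (D.B i) (D.A (i + 1)),
      algebraMap_smul]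
  -- presentations
  have hfp : ∀ i, i < D.n → Algebra.FinitePresentation A (D.A i) ∧ Module.FinitePresentation (D.A i) (D.M i) ∧
      Module.FinitePresentation (D.B i) (D.M i) := by
    have hB : ∀ i, i < D.n → Algebra.FinitePresentation A (D.A i) → Module.FinitePresentation (D.A i) (D.M i) →
        Module.FinitePresentation (D.B i) (D.M i) := fun i hi hA hM => by
      haveI := hA
      haveI := hM
      haveI := D.smooth i hi
      haveI := D.finiteBA i hi
      haveI : Algebra.FinitePresentation (D.B i) (D.A i) :=
        Algebra.FinitePresentation.of_restrict_scalars_finitePresentation A (D.B i) (D.A i)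
      haveI : Module.FinitePresentation (D.B i) (D.A i) := Module.FinitePresentation.of_finite_of_finitePresentation _ _
      exact Module.FinitePresentation.trans (D.B i) (D.M i) (D.A i)
    intro i
    induction i with
    | zero =>
      intro h0
      haveI := D.fpSA
      haveI : Algebra.FinitePresentation A (D.A 0) := Algebra.FinitePresentation.trans A B (D.A 0)
      haveI : Module.Finite B (D.A 0) := Module.Finite.of_surjective (Algebra.linearMap B (D.A 0)) D.surjSA
      haveI : Module.FinitePresentation B (D.M 0) := Module.FinitePresentation.of_equiv D.isoN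
      haveI : Module.FinitePresentation (D.A 0) (D.M 0) := DevissLib.fp_of_finite_algebra (B := B)
      exact ⟨inferInstance, inferInstance, hB 0 h0 inferInstance inferInstance⟩
    | succ i ih =>
      intro hi
      obtain ⟨-, -, hMB⟩ := ih (by omega)
      haveI := hMB
      haveI := D.smooth i (by omega)
      haveI := D.fpBA' i hi
      haveI : Algebra.FinitePresentation A (D.A (i + 1)) := Algebra.FinitePresentation.trans A (D.B i) (D.A (i + 1))
      haveI : Module.Finite (D.B i) (D.A (i + 1)) :=
        Module.Finite.of_surjective (Algebra.linearMap (D.B i) (D.A (i + 1))) (D.surjBA' i hi)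
      haveI : Module.FinitePresentation (D.B i) (D.M i ⧸ LinearMap.range (D.α i)) :=
        Module.finitePresentation_of_surjective (LinearMap.range (D.α i)).mkQ (Submodule.mkQ_surjective _) (by
          rw [Submodule.ker_mkQ, LinearMap.range_eq_map]
          exact Module.Finite.fg_top.map _)
      haveI : Module.FinitePresentation (D.B i) (D.M (i + 1)) := Module.FinitePresentation.of_equiv (D.isoCoker i hi)
      haveI : Module.FinitePresentation (D.A (i + 1)) (D.M (i + 1)) := DevissLib.fp_of_finite_algebra (B := D.B i)
      exact ⟨inferInstance, inferInstance, hB (i + 1) hi inferInstance inferInstance⟩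
  -- the recursion
  have key : ∀ k i, i + k + 1 = D.n → Hyp A (D.B i) (D.M i) s d → Rep A (D.B i) (D.M i) s d := by
    intro k
    induction k with
    | zero =>
      intro i hi hH
      have hi0 : i < D.n := by omega
      haveI := (hfp i hi0).2.2
      obtain ⟨e, hsm, -⟩ := hdim i hi0
      rcases lt_trichotomy e d with h | rfl | h
      · exact rep_small hsm (D.geomIrred i hi0) h
      · obtain ⟨Z, j, h1, h2, h3, h4, h5⟩ := exists_rep_flatInDimGE hsm (D.geomIrred i hi0) (D.M i)
        exact ⟨1, (Ideal.ne_top_iff_one _).1 ‹s.IsPrime›.ne_top, Z, j, h1, h2, h3, h4,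
          fun A' B' M' _ _ _ _ _ _ _ _ _ _ _ _ _ _ _ φ hφ _ => h5 A' B' M' φ hφ⟩
      · refine (step hsm (D.geomIrred i hi0) h (D.α i) (D.fibreIso i hi0) hH).2 ?_
        have hs : Function.Surjective (D.α i) := by
          obtain rfl : i = D.n - 1 := by omega
          exact D.cokerLast
        haveI : Subsingleton (D.M i ⧸ LinearMap.range (D.α i)) :=
          Submodule.Quotient.subsingleton_iff.2 (LinearMap.range_eq_top.2 hs)
        exact rep_zero
    | succ k ih =>
      intro i hi hH
      have hi0 : i < D.n := by omega
      have hi1 : i + 1 < D.n := by omega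
      haveI := (hfp i hi0).2.2
      obtain ⟨e, hsm, -⟩ := hdim i hi0
      rcases lt_trichotomy e d with h | rfl | h
      · exact rep_small hsm (D.geomIrred i hi0) h
      · obtain ⟨Z, j, h1, h2, h3, h4, h5⟩ := exists_rep_flatInDimGE hsm (D.geomIrred i hi0) (D.M i)
        exact ⟨1, (Ideal.ne_top_iff_one _).1 ‹s.IsPrime›.ne_top, Z, j, h1, h2, h3, h4,
          fun A' B' M' _ _ _ _ _ _ _ _ _ _ _ _ _ _ _ φ hφ _ => h5 A' B' M' φ hφ⟩
      · obtain ⟨hH', hrep⟩ := step hsm (D.geomIrred i hi0) h (D.α i) (D.fibreIso i hi0) hH
        refine hrep (Rep.congr (D.isoCoker i hi1).symm ?_)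
        haveI : Module.Finite (D.B i) (D.A (i + 1)) :=
          Module.Finite.of_surjective (Algebra.linearMap (D.B i) (D.A (i + 1))) (D.surjBA' i hi1)
        haveI := D.finiteBA (i + 1) hi1
        refine (rep_finite_iff (D.A (i + 1)) (D.M (i + 1))).2 ((rep_finite_iff (D.A (i + 1)) (D.M (i + 1))).1
          (ih (i + 1) (by omega) ?_))
        exact (hyp_finite_iff (D.A (i + 1)) (D.M (i + 1))).2
          ((hyp_finite_iff (D.A (i + 1)) (D.M (i + 1))).1 (Hyp.congr (D.isoCoker i hi1) hH'))
  haveI : Module.Finite B (D.A 0) := Module.Finite.of_surjective (Algebra.linearMap B (D.A 0)) D.surjSA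
  haveI := D.finiteBA 0 hn
  have h0 : Hyp A B N s d := fun Q _ _ hQ => (flatInDimGE_iff (d + 1) A B N).1 hflat Q hQ
  have h1 : Hyp A (D.B 0) (D.M 0) s d := (hyp_finite_iff (D.A 0) (D.M 0)).2
    ((hyp_finite_iff (D.A 0) (D.M 0)).1 (Hyp.congr D.isoN h0))
  exact Rep.congr D.isoN.symm ((rep_finite_iff (D.A 0) (D.M 0)).2
    ((rep_finite_iff (D.A 0) (D.M 0)).1 (key (D.n - 1) 0 (by omega) h1)))

end Groth.Agent.S9030
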