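import Groth.Statements.S9032

import Groth.Agent.FlatIdealLib.Chart
import Groth.Agent.FlatIdealLib.Global
import Groth.Agent.PullbackMod.Flat
import Groth.Agent.QCohLib.FPSections
import Groth.Agent.QCohLib.FiniteType

set_option autoImplicit false
set_option linter.style.haveILetI false
set_option backward.isDefEq.respectTransparency false
set_option backward.isDefEq.respectTransparency.types false
set_option maxHeartbeats 2000000
universe u
open FlatMor

namespace Groth.Agent.S9032

open CategoryTheory CategoryTheory.Limits AlgebraicGeometry Opposite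

/-- Membership in the prime of a point of an affine open. -/
theorem mem_primeIdealOf {X : Scheme.{u}} {W : X.Opens} (hW : IsAffineOpen W) (x : X) (hx : x ∈ W) (a : Γ(X, W)) :
    a ∈ (hW.primeIdealOf ⟨x, hx⟩).asIdeal ↔ x ∉ X.basicOpen a := by
  have h := SetLike.ext_iff.mp (hW.fromSpec_preimage_basicOpen a) (hW.primeIdealOf ⟨x, hx⟩)
  rw [Scheme.Hom.mem_preimage, hW.fromSpec_primeIdealOf] at h
  rw [iff_not_comm]
  exact h

/-- Affine opens over the whole of the affine base. -/
theorem le_top_preimage {A : Type u} [CommRing A] {X : Scheme.{u}} (f : X ⟶ Spec (CommRingCat.of A)) (W : X.Opens) :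
    W ≤ f ⁻¹ᵁ ⊤ := fun _ _ => trivial

/-- The coefficient map to the sections over an affine open. -/
noncomputable def coef {A : Type u} [CommRing A] {X : Scheme.{u}} (f : X ⟶ Spec (CommRingCat.of A)) (W : X.Opens) : A →+* Γ(X, W) :=
  ((f.appLE ⊤ W (le_top_preimage f W)).hom).comp (Scheme.ΓSpecIso (CommRingCat.of A)).inv.hom

theorem coef_bijective (A : Type u) [CommRing A] :
    Function.Bijective (Scheme.ΓSpecIso (CommRingCat.of A)).inv.hom :=
  ((Scheme.ΓSpecIso (CommRingCat.of A)).symm.commRingCatIsoToRingEquiv).bijective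

theorem mem_coef_prime {A : Type u} [CommRing A] {X : Scheme.{u}} (f : X ⟶ Spec (CommRingCat.of A)) {W : X.Opens}
    (hW : IsAffineOpen W) (x : X) (hx : x ∈ W) (a : A) :
    coef f W a ∈ (hW.primeIdealOf ⟨x, hx⟩).asIdeal ↔ a ∈ (f.base x).asIdeal := by
  rw [mem_primeIdealOf, coef, RingHom.comp_apply, Scheme.Hom.appLE, CommRingCat.comp_apply, Scheme.basicOpen_res]
  have h1 : x ∈ W ⊓ X.basicOpen ((f.app ⊤).hom ((Scheme.ΓSpecIso (CommRingCat.of A)).inv.hom a)) ↔
      f.base x ∈ (Spec (CommRingCat.of A)).basicOpen ((Scheme.ΓSpecIso (CommRingCat.of A)).inv.hom a) := by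
    rw [← Scheme.preimage_basicOpen]
    exact ⟨fun h => h.2, fun h => ⟨hx, h⟩⟩
  rw [h1]
  erw [basicOpen_eq_of_affine]
  exact not_not

/-- The condition at one point of the closed fibre, over one affine open around it. -/
theorem exists_point {A : Type u} [CommRing A] [HenselianLocalRing A] {X : Scheme.{u}} (f : X ⟶ Spec (CommRingCat.of A))
    [LocallyOfFiniteType f] (F : X.Modules) [Coh.IsQCoh F] (hF : CohB1.IsFT F) {W : X.Opens} (hW : IsAffineOpen W)
    (x : X) (hx : x ∈ W) (hfx : f.base x = IsLocalRing.closedPoint A) :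
    ∃ I : Ideal A,
      (letI := (coef f W).toAlgebra
       FlatIdealLib.Parts A Γ(X, W) Γ(F, W) (hW.primeIdealOf ⟨x, hx⟩).asIdeal I) ∧
      ∀ (T : Scheme.{u}) (g : T ⟶ Spec (CommRingCat.of A)) (t : T), g.base t = IsLocalRing.closedPoint A →
        ((∀ x' : ↑(pullback f g), (pullback.snd f g).base x' = t → (pullback.fst f g).base x' = x →
            FlatMod.IsFlatOverAt (pullback.snd f g) ((Scheme.Modules.pullback (pullback.fst f g)).obj F) x') ↔
          ∀ a ∈ I, (T.presheaf.germ ⊤ t trivial).hom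
            (g.appTop.hom ((Scheme.ΓSpecIso (CommRingCat.of A)).inv.hom a)) = 0) := by
  letI := (coef f W).toAlgebra
  let q := (hW.primeIdealOf ⟨x, hx⟩).asIdeal
  haveI : q.LiesOver (IsLocalRing.maximalIdeal A) := ⟨Ideal.ext fun a => by
    rw [Ideal.mem_comap, RingHom.algebraMap_toAlgebra, mem_coef_prime f hW x hx a, hfx]
    rfl⟩
  haveI : Algebra.FiniteType A Γ(X, W) := by
    rw [← RingHom.finiteType_algebraMap, RingHom.algebraMap_toAlgebra]
    exact (f.finiteType_appLE (isAffineOpen_top _) hW _).comp (RingHom.FiniteType.of_surjective _ (coef_bijective A).2)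
  haveI : Module.Finite Γ(X, W) Γ(F, W) := QCohLib.finite_sections F hF hW
  letI : Module A Γ(F, W) := Module.compHom _ (algebraMap A Γ(X, W))
  haveI : IsScalarTower A Γ(X, W) Γ(F, W) := .of_algebraMap_smul fun _ _ => rfl
  obtain ⟨I, hI⟩ := FlatIdealLib.exists_parts (A := A) Γ(F, W) q
  refine ⟨I, hI, fun T g t ht => ?_⟩
  obtain ⟨_, ⟨V' : T.Opens, (hV' : IsAffineOpen V'), rfl⟩, htV, -⟩ :=
    T.isBasis_affineOpens.exists_subset_of_mem_open (Set.mem_univ t) isOpen_univ
  have hc : IsPullback (pullback.fst f g) (pullback.snd f g) f g := IsPullback.of_hasPullback f g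
  have e : W ≤ f ⁻¹ᵁ ⊤ := le_top_preimage f W
  have e' : V' ≤ g ⁻¹ᵁ ⊤ := le_top_preimage g V'
  obtain ⟨hW', hpo⟩ := PullbackMod.isPushout_appLE hc (isAffineOpen_top _) hW hV' e e'
  let g' := pullback.fst f g
  let f' := pullback.snd f g
  let W' := g' ⁻¹ᵁ W ⊓ f' ⁻¹ᵁ V'
  let gF := (Scheme.Modules.pullback g').obj F
  haveI : Coh.IsQCoh gF := PullbackMod.isQCoh_pullback g' F
  let A₀ := Γ(Spec (CommRingCat.of A), ⊤)
  letI : Algebra A₀ Γ(X, W) := (f.appLE ⊤ W e).hom.toAlgebra
  letI : Algebra A₀ Γ(T, V') := (g.appLE ⊤ V' e').hom.toAlgebra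
  letI : Algebra Γ(X, W) Γ(pullback f g, W') := (g'.appLE W W' inf_le_left).hom.toAlgebra
  letI : Algebra Γ(T, V') Γ(pullback f g, W') := (f'.appLE V' W' inf_le_right).hom.toAlgebra
  letI : Algebra A₀ Γ(pullback f g, W') := ((g'.appLE W W' inf_le_left).hom.comp (f.appLE ⊤ W e).hom).toAlgebra
  haveI : IsScalarTower A₀ Γ(X, W) Γ(pullback f g, W') := .of_algebraMap_eq fun _ => rfl
  haveI : IsScalarTower A₀ Γ(T, V') Γ(pullback f g, W') := .of_algebraMap_eq' (by
    show ((f.appLE ⊤ W e) ≫ g'.appLE W _ inf_le_left).hom = ((g.appLE ⊤ V' e') ≫ f'.appLE V' _ inf_le_right).hom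
    simp only [g', f', Scheme.Hom.appLE_comp_appLE, hc.w])
  haveI : Algebra.IsPushout A₀ Γ(T, V') Γ(X, W) Γ(pullback f g, W') := hpo
  letI : Algebra A A₀ := (Scheme.ΓSpecIso (CommRingCat.of A)).inv.hom.toAlgebra
  letI : Algebra A Γ(T, V') := (coef g V').toAlgebra
  letI : Algebra A Γ(pullback f g, W') := ((algebraMap Γ(X, W) Γ(pullback f g, W')).comp (coef f W)).toAlgebra
  haveI : IsScalarTower A A₀ Γ(X, W) := .of_algebraMap_eq fun _ => rfl
  haveI : IsScalarTower A A₀ Γ(T, V') := .of_algebraMap_eq fun _ => rfl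
  haveI : IsScalarTower A Γ(X, W) Γ(pullback f g, W') := .of_algebraMap_eq fun _ => rfl
  haveI : IsScalarTower A A₀ Γ(pullback f g, W') := .of_algebraMap_eq fun _ => rfl
  haveI : IsScalarTower A Γ(T, V') Γ(pullback f g, W') := .of_algebraMap_eq fun a =>
    IsScalarTower.algebraMap_apply A₀ Γ(T, V') Γ(pullback f g, W') (algebraMap A A₀ a)
  haveI : Algebra.IsPushout A A₀ Γ(X, W) Γ(X, W) := (Algebra.IsPushout.of_bijective_left (R := A) A₀ Γ(X, W) (coef_bijective A)).symm
  haveI : Algebra.IsPushout A Γ(T, V') Γ(X, W) Γ(pullback f g, W') :=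
    (Algebra.IsPushout.comp_iff (R := A) (S := A₀) (R' := Γ(X, W)) (S' := Γ(X, W)) (T := Γ(T, V'))
      (T' := Γ(pullback f g, W'))).2 inferInstance
  haveI : Algebra.IsPushout A Γ(X, W) Γ(T, V') Γ(pullback f g, W') := Algebra.IsPushout.symm inferInstance
  letI : Module Γ(T, V') Γ(gF, W') := Module.compHom _ (f'.appLE V' W' inf_le_right).hom
  haveI : IsScalarTower Γ(T, V') Γ(pullback f g, W') Γ(gF, W') := .of_algebraMap_smul fun _ _ => rfl
  letI : Module Γ(X, W) Γ(gF, W') := Module.compHom _ (g'.appLE W W' inf_le_left).hom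
  haveI : IsScalarTower Γ(X, W) Γ(pullback f g, W') Γ(gF, W') := .of_algebraMap_smul fun _ _ => rfl
  let p := (hV'.primeIdealOf ⟨t, htV⟩).asIdeal
  have hp : p.comap (algebraMap A Γ(T, V')) = IsLocalRing.maximalIdeal A := Ideal.ext fun a => by
    rw [Ideal.mem_comap, RingHom.algebraMap_toAlgebra, mem_coef_prime g hV' t htV a, ht]
    rfl
  have hrep := hI.rep.atPrime Γ(T, V') p hp Γ(pullback f g, W') Γ(gF, W') (PullbackMod.pullMapL g' F (W' := W') inf_le_left)
    (PullbackMod.isBaseChange_pullMapL g' F hW hW' inf_le_left)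
  -- the stalk
  letI := TopCat.Presheaf.algebra_section_stalk T.presheaf ⟨t, htV⟩
  haveI := hV'.isLocalization_stalk ⟨t, htV⟩
  have hgerm : ∀ a : A, algebraMap A (Localization.AtPrime p) a = 0 ↔
      (T.presheaf.germ ⊤ t trivial).hom (g.appTop.hom ((Scheme.ΓSpecIso (CommRingCat.of A)).inv.hom a)) = 0 := fun a => by
    have h1 : (T.presheaf.germ ⊤ t trivial).hom (g.appTop.hom ((Scheme.ΓSpecIso (CommRingCat.of A)).inv.hom a)) =
        algebraMap Γ(T, V') (T.presheaf.stalk t) (algebraMap A Γ(T, V') a) := by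
      rw [RingHom.algebraMap_toAlgebra (coef g V'), coef, RingHom.comp_apply, Scheme.Hom.appLE, CommRingCat.comp_apply]
      exact (T.presheaf.germ_res_apply _ t htV _).symm
    rw [h1, IsScalarTower.algebraMap_apply A Γ(T, V') (Localization.AtPrime p),
      IsLocalization.map_eq_zero_iff p.primeCompl, IsLocalization.map_eq_zero_iff p.primeCompl]
  rw [show (∀ a ∈ I, (T.presheaf.germ ⊤ t trivial).hom (g.appTop.hom ((Scheme.ΓSpecIso (CommRingCat.of A)).inv.hom a)) = 0) ↔
    ∀ a ∈ I, algebraMap A (Localization.AtPrime p) a = 0 from forall₂_congr fun a _ => (hgerm a).symm, ← hrep]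
  have hpt : ∀ (x' : ↑(pullback f g)) (hx' : x' ∈ W'),
      (hW'.primeIdealOf ⟨x', hx'⟩).asIdeal.comap (algebraMap Γ(X, W) Γ(pullback f g, W')) = (hW.primeIdealOf ⟨g'.base x', hx'.1⟩).asIdeal ∧
      (hW'.primeIdealOf ⟨x', hx'⟩).asIdeal.comap (algebraMap Γ(T, V') Γ(pullback f g, W')) = (hV'.primeIdealOf ⟨f'.base x', hx'.2⟩).asIdeal :=
    fun x' hx' => ⟨congr($(IsAffineOpen.comap_primeIdealOf_appLE W hW W' hW' inf_le_left hx').1),
      congr($(IsAffineOpen.comap_primeIdealOf_appLE V' hV' W' hW' inf_le_right hx').1)⟩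
  constructor
  · intro h Q _ hQq hQp
    have hx' : hW'.fromSpec ⟨Q, inferInstance⟩ ∈ W' := by
      rw [← SetLike.mem_coe, ← hW'.range_fromSpec]
      exact ⟨_, rfl⟩
    have hQ : hW'.primeIdealOf ⟨_, hx'⟩ = ⟨Q, inferInstance⟩ :=
      hW'.fromSpec.isOpenEmbedding.injective (hW'.fromSpec_primeIdealOf _)
    obtain ⟨h1, h2⟩ := hpt _ hx'
    rw [hQ] at h1 h2
    have e1 : g'.base (hW'.fromSpec ⟨Q, inferInstance⟩) = x := by
      have h3 : hW.primeIdealOf ⟨_, hx'.1⟩ = hW.primeIdealOf ⟨x, hx⟩ := PrimeSpectrum.ext (h1.symm.trans hQq)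
      have h4 := congrArg (fun y => hW.fromSpec y) h3
      simp only [IsAffineOpen.fromSpec_primeIdealOf] at h4
      exact h4
    have e2 : f'.base (hW'.fromSpec ⟨Q, inferInstance⟩) = t := by
      have h3 : hV'.primeIdealOf ⟨_, hx'.2⟩ = hV'.primeIdealOf ⟨t, htV⟩ := PrimeSpectrum.ext (h2.symm.trans hQp)
      have h4 := congrArg (fun y => hV'.fromSpec y) h3
      simp only [IsAffineOpen.fromSpec_primeIdealOf] at h4
      exact h4
    have h5 := (FlatLocus.isFlatOverAt_iff f' gF hV' hW' inf_le_right _ hx').1 (h _ e2 e1)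
    rw [hQ] at h5
    exact h5
  · intro h x' e2 e1
    have hx' : x' ∈ W' := ⟨show g'.base x' ∈ W by rw [e1]; exact hx, show f'.base x' ∈ V' by rw [e2]; exact htV⟩
    obtain ⟨h1, h2⟩ := hpt x' hx'
    refine (FlatLocus.isFlatOverAt_iff f' gF hV' hW' inf_le_right x' hx').2 (h _ (h1.trans ?_) (h2.trans ?_))
    · congr 2; exact Subtype.ext e1
    · congr 2; exact Subtype.ext e2

open CategoryTheory CategoryTheory.Limits AlgebraicGeometry Opposite in
/-- Let A be a henselian local ring, s the closed point of S = Spec A, f : X → S a morphism locally of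
finite type, F a quasi-coherent O_X-module of finite type and E a subset of the closed fibre X_s.
Then there is a closed subscheme Z = V(I) of S with the following property: for every morphism of
pointed schemes (T, t) → (S, s), the base change F_T on X_T = X ×_S T is T-flat at each point over t
whose image in X lies in E if and only if Spec(O_{T,t}) → S factors through Z, that is, the map A →
O_{T,t} sends I to zero. Assume in addition that the morphism f is locally finitely presented, that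
the module F is finitely presented, and that the subset E is both quasi-compact and closed; in that
case the closed immersion Z → S is finitely presented, meaning the ideal I is finitely generated. -/
theorem result {A : Type u} [CommRing A] [HenselianLocalRing A] {X : Scheme.{u}} (f : X ⟶ Spec (CommRingCat.of A))
    [LocallyOfFiniteType f] (F : X.Modules) [Coh.IsQCoh F] (hF : CohB1.IsFT F)
    (E : Set X) (hE : ∀ x ∈ E, f.base x = IsLocalRing.closedPoint A) :
    ∃ I : Ideal A,
      (∀ (T : Scheme.{u}) (g : T ⟶ Spec (CommRingCat.of A)) (t : T), g.base t = IsLocalRing.closedPoint A →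
        ((∀ x' : ↑(pullback f g), (pullback.snd f g).base x' = t → (pullback.fst f g).base x' ∈ E →
            FlatMod.IsFlatOverAt (pullback.snd f g) ((Scheme.Modules.pullback (pullback.fst f g)).obj F) x') ↔
          ∀ a ∈ I, (T.presheaf.germ ⊤ t trivial).hom
            (g.appTop.hom ((Scheme.ΓSpecIso (CommRingCat.of A)).inv.hom a)) = 0)) ∧
      (LocallyOfFinitePresentation f → CohB1.IsFP F → IsClosed E → IsCompact E → I.FG) := by
  classical
  let hyp := LocallyOfFinitePresentation f ∧ CohB1.IsFP F ∧ IsCompact E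
  obtain ⟨κ, W, hW, hcov, hfin⟩ : ∃ (κ : Type u) (W : κ → X.Opens), (∀ j, IsAffineOpen (W j)) ∧
      (∀ x ∈ E, ∃ j, x ∈ W j) ∧ (hyp → Finite κ) := by
    by_cases h : hyp
    · obtain ⟨s, hs⟩ := h.2.2.elim_finite_subcover (fun U : X.affineOpens => (U.1 : Set X)) (fun U => U.1.2)
        (fun x _ => by
          obtain ⟨_, ⟨U : X.Opens, (hU : IsAffineOpen U), rfl⟩, hxU, -⟩ :=
            X.isBasis_affineOpens.exists_subset_of_mem_open (Set.mem_univ x) isOpen_univ
          exact Set.mem_iUnion.2 ⟨⟨U, hU⟩, hxU⟩)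
      refine ⟨s, fun j => j.1.1, fun j => j.1.2, fun x hx => ?_, fun _ => inferInstance⟩
      obtain ⟨U, hU⟩ := Set.mem_iUnion.1 (hs hx)
      obtain ⟨hUs, hxU⟩ := Set.mem_iUnion.1 hU
      exact ⟨⟨U, hUs⟩, hxU⟩
    · refine ⟨X.affineOpens, fun U => U.1, fun U => U.2, fun x _ => ?_, fun h' => absurd h' h⟩
      obtain ⟨_, ⟨U : X.Opens, (hU : IsAffineOpen U), rfl⟩, hxU, -⟩ :=
        X.isBasis_affineOpens.exists_subset_of_mem_open (Set.mem_univ x) isOpen_univ
      exact ⟨⟨U, hU⟩, hxU⟩
  choose J hJp hJ using fun (j : κ) (x : {x : X // x ∈ E ∧ x ∈ W j}) =>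
    exists_point f F hF (hW j) x.1 x.2.2 (hE x.1 x.2.1)
  let I : Ideal A := ⨆ (j : κ) (x : {x : X // x ∈ E ∧ x ∈ W j}), J j x
  refine ⟨I, fun T g t ht => ?_, fun h1 h2 h3 h4 => ?_⟩
  · constructor
    · intro h a ha
      let φ : A →+* T.presheaf.stalk t := (T.presheaf.germ ⊤ t trivial).hom.comp
        (g.appTop.hom.comp (Scheme.ΓSpecIso (CommRingCat.of A)).inv.hom)
      have hle : I ≤ RingHom.ker φ := iSup₂_le fun j x a ha =>
        (hJ j x T g t ht).1 (fun x' e2 e1 => h x' e2 (by rw [e1]; exact x.2.1)) a ha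
      exact hle ha
    · intro h x' e2 hx'
      obtain ⟨j, hj⟩ := hcov _ hx'
      exact (hJ j ⟨_, hx', hj⟩ T g t ht).2 (fun a ha =>
        h a ((le_iSup₂ (f := fun (j : κ) (x : {x : X // x ∈ E ∧ x ∈ W j}) => J j x) j ⟨_, hx', hj⟩) ha)) x' e2 rfl
  · haveI := h1
    haveI : Finite κ := hfin ⟨h1, h2, h4⟩
    have hIm : I ≤ IsLocalRing.maximalIdeal A := iSup₂_le fun j x => by
      letI := (coef f (W j)).toAlgebra
      exact (hJp j x).le_max
    have hj : ∀ j : κ, ∃ I₀ : Ideal A, I₀.FG ∧ I₀ ≤ I ∧ ∀ x, J j x ≤ I₀ := by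
      intro j
      letI := (coef f (W j)).toAlgebra
      haveI : Algebra.FinitePresentation A Γ(X, W j) := by
        rw [← RingHom.finitePresentation_algebraMap, RingHom.algebraMap_toAlgebra]
        exact (f.finitePresentation_appLE (isAffineOpen_top _) (hW j) _).comp
          (RingHom.FinitePresentation.of_bijective (coef_bijective A))
      haveI : Module.FinitePresentation Γ(X, W j) Γ(F, W j) := QCohLib.finitePresentation_sections F h2 (hW j)
      letI : Module A Γ(F, W j) := Module.compHom _ (algebraMap A Γ(X, W j))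
      haveI : IsScalarTower A Γ(X, W j) Γ(F, W j) := .of_algebraMap_smul fun _ _ => rfl
      let Z : Set (PrimeSpectrum Γ(X, W j)) := (hW j).fromSpec.base ⁻¹' E
      have hZc : IsCompact Z := (h3.preimage (hW j).fromSpec.continuous).isCompact
      have hmemW : ∀ z : Z, (hW j).fromSpec.base z.1 ∈ W j := fun z => by
        rw [← SetLike.mem_coe, ← (hW j).range_fromSpec]
        exact ⟨z.1, rfl⟩
      have hZeq : ∀ z : Z, (hW j).primeIdealOf ⟨_, hmemW z⟩ = z.1 := fun z =>
        (hW j).fromSpec.isOpenEmbedding.injective ((hW j).fromSpec_primeIdealOf _)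
      obtain ⟨I₀, hfg, hle, hz⟩ := FlatIdealLib.exists_fg_of_isCompact (A := A) Γ(F, W j) Z hZc
        (fun z hz => Ideal.ext fun a => by
          rw [Ideal.mem_comap, RingHom.algebraMap_toAlgebra,
            show z = (hW j).primeIdealOf ⟨_, hmemW ⟨z, hz⟩⟩ from (hZeq ⟨z, hz⟩).symm, mem_coef_prime f (hW j), hE _ hz]
          rfl)
        (fun z => J j ⟨_, z.2, hmemW z⟩) (fun z => by
          have := hJp j ⟨_, z.2, hmemW z⟩
          rwa [hZeq z] at this) I hIm
        (fun z => le_iSup₂ (f := fun (j : κ) (x : {x : X // x ∈ E ∧ x ∈ W j}) => J j x) j ⟨_, z.2, hmemW z⟩)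
      refine ⟨I₀, hfg, hle, fun x => ?_⟩
      have hxz : (hW j).primeIdealOf ⟨x.1, x.2.2⟩ ∈ Z := by
        show (hW j).fromSpec.base _ ∈ E
        rw [(hW j).fromSpec_primeIdealOf]
        exact x.2.1
      have h5 := hz ⟨_, hxz⟩
      have h6 : (⟨(hW j).fromSpec.base ((hW j).primeIdealOf ⟨x.1, x.2.2⟩), hxz, hmemW ⟨_, hxz⟩⟩ :
          {x : X // x ∈ E ∧ x ∈ W j}) = x := Subtype.ext ((hW j).fromSpec_primeIdealOf _)
      rw [h6] at h5
      exact h5
    choose I₀ hfg hle hge using hj
    have : I = ⨆ j, I₀ j := le_antisymm (iSup₂_le fun j x => (hge j x).trans (le_iSup I₀ j)) (iSup_le hle)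
    rw [this]
    exact Submodule.fg_iSup I₀ hfg

end Groth.Agent.S9032
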