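import Groth.Statements.S9033
import Mathlib
-- import your own Groth.Agent.* helpers here

set_option autoImplicit false
universe u
open Cpct

namespace Groth.Agent.S9033

open CategoryTheory CategoryTheory.Limits AlgebraicGeometry Opposite in
/-- Let S be a quasi-compact and quasi-separated scheme. In the category of compactifications over S —
objects the pairs (X, X̄) with X̄ proper over S and X a quasi-compact open of X̄, morphisms the
morphisms X̄' → X̄ over S mapping X' into X — the collection of morphisms (u, ū) : (X', X̄') → (X,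
X̄) with u : X' → X an isomorphism is a right multiplicative system: it contains the identities and
is closed under composition; for f : (Y, Ȳ) → (X, X̄) and (u, ū) : (X', X̄') → (X, X̄) in the
collection there are (v, v̄) : (Y', Ȳ') → (Y, Ȳ) in the collection and g : (Y', Ȳ') → (X', X̄') with
f ∘ (v, v̄) = (u, ū) ∘ g; and if two morphisms (X, X̄) → (Y, Ȳ) become equal after composing with
some (Y, Ȳ) → (Y', Ȳ') of the collection, they become equal after precomposing with some (X', X̄') →
(X, X̄) of the collection. -/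
theorem result (S : Scheme.{u}) [CompactSpace S] [QuasiSeparatedSpace S] :
    (Cpct.isoOpen S).HasRightCalculusOfFractions := by
  have hmk : ∀ {A B : Cpct.Pair S} (f : A ⟶ B), Cpct.restr f ≫ B.U.ι = A.U.ι ≫ (Cpct.Pair.Hom.bar f).left :=
    fun f => Scheme.Hom.resLE_comp_ι _ _
  have hcomp : ∀ {A B C : Cpct.Pair S} (f : A ⟶ B) (g : B ⟶ C),
      Cpct.restr (f ≫ g) = Cpct.restr f ≫ Cpct.restr g := fun f g =>
    congrArg CommaMorphism.left (Cpct.openOver.map_comp f g)
  haveI : (Cpct.isoOpen S).IsMultiplicative :=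
    { id_mem := fun A => by
        show IsIso (Cpct.restr (𝟙 A))
        rw [show Cpct.restr (𝟙 A) = 𝟙 _ from congrArg CommaMorphism.left (Cpct.openOver.map_id A)]
        infer_instance
      comp_mem := fun f g hf hg => by
        show IsIso (Cpct.restr (f ≫ g))
        haveI : IsIso (Cpct.restr f) := hf
        haveI : IsIso (Cpct.restr g) := hg
        rw [hcomp]
        infer_instance }
  refine { exists_rightFraction := fun {X Y} φ => ?_, ext := fun {X Y Y'} f₁ f₂ s hs he => ?_ }
  · haveI : IsIso (Cpct.restr φ.s) := φ.hs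
    haveI := X.isProper
    haveI := Y.isProper
    haveI := φ.Y'.isProper
    let a := (Cpct.Pair.Hom.bar φ.f).left
    let b := (Cpct.Pair.Hom.bar φ.s).left
    have ha : a ≫ φ.Y'.bar.hom = X.bar.hom := Over.w _
    have hb : b ≫ φ.Y'.bar.hom = Y.bar.hom := Over.w _
    haveI : IsProper b := by
      haveI : IsProper (b ≫ φ.Y'.bar.hom) := by rw [hb]; infer_instance
      exact IsProper.of_comp b φ.Y'.bar.hom
    let Z : Scheme.{u} := pullback a b
    let UZ : Z.Opens := (pullback.fst a b) ⁻¹ᵁ X.U ⊓ (pullback.snd a b) ⁻¹ᵁ Y.U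
    let t : (X.U : Scheme.{u}) ⟶ Z := pullback.lift X.U.ι
      (Cpct.restr φ.f ≫ inv (Cpct.restr φ.s) ≫ Y.U.ι) (by
        simp only [Category.assoc, a, b]
        rw [← hmk φ.s, IsIso.inv_hom_id_assoc, hmk φ.f])
    have htU : Set.range t ⊆ Set.range UZ.ι := by
      rw [Scheme.Opens.range_ι]
      rintro _ ⟨x, rfl⟩
      refine ⟨?_, ?_⟩
      · show (pullback.fst a b).base (t.base x) ∈ X.U
        rw [← Scheme.Hom.comp_apply, pullback.lift_fst]
        exact x.2
      · show (pullback.snd a b).base (t.base x) ∈ Y.U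
        rw [← Scheme.Hom.comp_apply, pullback.lift_snd]
        exact ((Cpct.restr φ.f ≫ inv (Cpct.restr φ.s)).base x).2
    let t' : (X.U : Scheme.{u}) ⟶ UZ := IsOpenImmersion.lift UZ.ι t htU
    have ht' : t' ≫ UZ.ι = t := IsOpenImmersion.lift_fac _ _ _
    let r : (UZ : Scheme.{u}) ⟶ X.U := (pullback.fst a b).resLE X.U UZ inf_le_left
    let q : (UZ : Scheme.{u}) ⟶ Y.U := (pullback.snd a b).resLE Y.U UZ inf_le_right
    have hr : r ≫ X.U.ι = UZ.ι ≫ pullback.fst a b := Scheme.Hom.resLE_comp_ι _ _
    have hq : q ≫ Y.U.ι = UZ.ι ≫ pullback.snd a b := Scheme.Hom.resLE_comp_ι _ _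
    have h1 : t' ≫ r = 𝟙 _ := by
      rw [← cancel_mono X.U.ι, Category.assoc, hr, reassoc_of% ht', pullback.lift_fst, Category.id_comp]
    have h2 : r ≫ Cpct.restr φ.f = q ≫ Cpct.restr φ.s := by
      rw [← cancel_mono φ.Y'.U.ι, Category.assoc, Category.assoc, hmk, hmk, reassoc_of% hr,
        reassoc_of% hq]
      exact congrArg (UZ.ι ≫ ·) pullback.condition
    have h3 : r ≫ t' = 𝟙 _ := by
      rw [← cancel_mono UZ.ι, Category.assoc, ht', Category.id_comp]
      apply pullback.hom_ext
      · rw [Category.assoc, pullback.lift_fst, hr]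
      · rw [Category.assoc, pullback.lift_snd, reassoc_of% h2, IsIso.hom_inv_id_assoc, hq]
    have hiso : IsIso r := ⟨t', h3, h1⟩
    have hcpt : IsCompact (UZ : Set Z) := by
      have : CompactSpace X.U := isCompact_iff_compactSpace.1 X.isCompact
      have : CompactSpace UZ := (asIso r).inv.homeomorph.compactSpace
      exact isCompact_iff_compactSpace.2 this
    let P : Cpct.Pair S :=
      { bar := Over.mk (pullback.fst a b ≫ X.bar.hom)
        U := UZ
        isProper := by
          show IsProper (pullback.fst a b ≫ X.bar.hom)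
          infer_instance
        isCompact := hcpt }
    let v : P ⟶ X := ⟨Over.homMk (pullback.fst a b) rfl, fun z hz => hz.1⟩
    let g : P ⟶ Y := ⟨Over.homMk (pullback.snd a b) (by
      show pullback.snd a b ≫ Y.bar.hom = pullback.fst a b ≫ X.bar.hom
      rw [← ha, ← hb, pullback.condition_assoc]), fun z hz => hz.2⟩
    refine ⟨⟨v, hiso, g⟩, ?_⟩
    apply Cpct.Pair.Hom.ext
    apply Over.OverMorphism.ext
    exact pullback.condition
  · haveI : IsIso (Cpct.restr s) := hs
    haveI := X.isProper
    haveI := Y.isProper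
    have hU : Cpct.restr f₁ = Cpct.restr f₂ := by
      rw [← cancel_mono (Cpct.restr s), ← hcomp, ← hcomp, he]
    let a₁ := (Cpct.Pair.Hom.bar f₁).left
    let a₂ := (Cpct.Pair.Hom.bar f₂).left
    have hw₁ : a₁ ≫ Y.bar.hom = X.bar.hom := Over.w _
    have hw₂ : a₂ ≫ Y.bar.hom = X.bar.hom := Over.w _
    let γ : X.bar.left ⟶ pullback Y.bar.hom Y.bar.hom := pullback.lift a₁ a₂ (hw₁.trans hw₂.symm)
    let E : Scheme.{u} := pullback γ (pullback.diagonal Y.bar.hom)
    let i : E ⟶ X.bar.left := pullback.fst γ (pullback.diagonal Y.bar.hom)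
    have hi : i ≫ a₁ = i ≫ a₂ := by
      have e1 := congrArg (fun m => m ≫ pullback.fst Y.bar.hom Y.bar.hom)
        (pullback.condition (f := γ) (g := pullback.diagonal Y.bar.hom))
      have e2 := congrArg (fun m => m ≫ pullback.snd Y.bar.hom Y.bar.hom)
        (pullback.condition (f := γ) (g := pullback.diagonal Y.bar.hom))
      simp only [γ, Category.assoc, pullback.lift_fst, pullback.lift_snd, pullback.diagonal_fst,
        pullback.diagonal_snd, Category.comp_id] at e1 e2
      exact e1.trans e2.symm
    have e12 : X.U.ι ≫ a₁ = X.U.ι ≫ a₂ := by rw [← hmk f₁, hU, hmk f₂]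
    let j : (X.U : Scheme.{u}) ⟶ E := pullback.lift X.U.ι (X.U.ι ≫ a₁) (by
      apply pullback.hom_ext
      · simp only [γ, Category.assoc, pullback.diagonal_fst, Category.comp_id]
        exact congrArg (X.U.ι ≫ ·) (pullback.lift_fst _ _ _)
      · simp only [γ, Category.assoc, pullback.diagonal_snd, Category.comp_id]
        exact ((congrArg (X.U.ι ≫ ·) (pullback.lift_snd _ _ _)).trans e12.symm))
    let UE : E.Opens := i ⁻¹ᵁ X.U
    have hjU : Set.range j ⊆ Set.range UE.ι := by
      rw [Scheme.Opens.range_ι]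
      rintro _ ⟨x, rfl⟩
      show i.base (j.base x) ∈ X.U
      rw [← Scheme.Hom.comp_apply, pullback.lift_fst]
      exact x.2
    let j' : (X.U : Scheme.{u}) ⟶ UE := IsOpenImmersion.lift UE.ι j hjU
    have hj' : j' ≫ UE.ι = j := IsOpenImmersion.lift_fac _ _ _
    let r : (UE : Scheme.{u}) ⟶ X.U := i.resLE X.U UE le_rfl
    have hr : r ≫ X.U.ι = UE.ι ≫ i := Scheme.Hom.resLE_comp_ι _ _
    have h1 : j' ≫ r = 𝟙 _ := by
      rw [← cancel_mono X.U.ι, Category.assoc, hr, reassoc_of% hj', pullback.lift_fst, Category.id_comp]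
    haveI : Mono (r ≫ X.U.ι) := by rw [hr]; infer_instance
    haveI : Mono r := mono_of_mono r X.U.ι
    have h3 : r ≫ j' = 𝟙 _ := by
      rw [← cancel_mono r, Category.assoc, h1, Category.comp_id, Category.id_comp]
    have hiso : IsIso r := ⟨j', h3, h1⟩
    let P : Cpct.Pair S :=
      { bar := Over.mk (i ≫ X.bar.hom)
        U := UE
        isProper := by
          show IsProper (i ≫ X.bar.hom)
          infer_instance
        isCompact := by
          have : CompactSpace X.U := isCompact_iff_compactSpace.1 X.isCompact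
          have : CompactSpace UE := (asIso r).inv.homeomorph.compactSpace
          exact isCompact_iff_compactSpace.2 this }
    let v : P ⟶ X := ⟨Over.homMk i rfl, fun z hz => hz⟩
    refine ⟨P, v, hiso, ?_⟩
    apply Cpct.Pair.Hom.ext
    apply Over.OverMorphism.ext
    exact hi

end Groth.Agent.S9033
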