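import Groth.Statements.S9034
import Mathlib
import Groth.Agent.S9033
-- import your own Groth.Agent.* helpers here

set_option autoImplicit false
universe u
open Cpct

namespace Groth.Agent.S9034

section
open CategoryTheory.Limits AlgebraicGeometry CategoryTheory

theorem restr_ι {S : Scheme.{u}} {A B : Cpct.Pair S} (f : A ⟶ B) :
    Cpct.restr f ≫ B.U.ι = A.U.ι ≫ (Cpct.Pair.Hom.bar f).left := Scheme.Hom.resLE_comp_ι _ _

/-- Morphisms with the same open part agree after an open-isomorphism. -/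
theorem exists_equalizing {S : Scheme.{u}} {X Y : Cpct.Pair S} (f₁ f₂ : X ⟶ Y)
    (hU : Cpct.restr f₁ = Cpct.restr f₂) :
    ∃ (X' : Cpct.Pair S) (t : X' ⟶ X) (_ : Cpct.isoOpen S t), t ≫ f₁ = t ≫ f₂ := by
    haveI := X.isProper
    haveI := Y.isProper
    have hmk := @restr_ι S
    let a₁ := (Cpct.Pair.Hom.bar f₁).left
    let a₂ := (Cpct.Pair.Hom.bar f₂).left
    have hw₁ : a₁ ≫ Y.bar.hom = X.bar.hom := Over.w _
    have hw₂ : a₂ ≫ Y.bar.hom = X.bar.hom := Over.w _
    let γ : X.bar.left ⟶ pullback Y.bar.hom Y.bar.hom := pullback.lift a₁ a₂ (hw₁.trans hw₂.symm)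
    let E : Scheme.{u} := pullback γ (pullback.diagonal Y.bar.hom)
    let i : E ⟶ X.bar.left := pullback.fst γ (pullback.diagonal Y.bar.hom)
    have hi : i ≫ a₁ = i ≫ a₂ := by
      have e1 := congrArg (fun m => m ≫ pullback.fst Y.bar.hom Y.bar.hom)
        (pullback.condition (f := γ) (g := pullback.diagonal Y.bar.hom))
      have e2 := congrArg (fun m => m ≫ pullback.snd Y.bar.hom Y.bar.hom)
        (pullback.condition (f := γ) (g := pullback.diagonal Y.bar.hom))
      simp only [γ, Category.assoc, pullback.lift_fst, pullback.lift_snd, pullback.diagonal_fst,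
        pullback.diagonal_snd, Category.comp_id] at e1 e2
      exact e1.trans e2.symm
    have e12 : X.U.ι ≫ a₁ = X.U.ι ≫ a₂ := by rw [← restr_ι f₁, hU, restr_ι f₂]
    let j : (X.U : Scheme.{u}) ⟶ E := pullback.lift X.U.ι (X.U.ι ≫ a₁) (by
      apply pullback.hom_ext
      · simp only [γ, Category.assoc, pullback.diagonal_fst, Category.comp_id]
        exact congrArg (X.U.ι ≫ ·) (pullback.lift_fst _ _ _)
      · simp only [γ, Category.assoc, pullback.diagonal_snd, Category.comp_id]
        exact ((congrArg (X.U.ι ≫ ·) (pullback.lift_snd _ _ _)).trans e12.symm))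
    let UE : E.Opens := i ⁻¹ᵁ X.U
    have hjU : Set.range j ⊆ Set.range UE.ι := by
      rw [Scheme.Opens.range_ι]
      rintro _ ⟨x, rfl⟩
      show i.base (j.base x) ∈ X.U
      rw [← Scheme.Hom.comp_apply, pullback.lift_fst]
      exact x.2
    let j' : (X.U : Scheme.{u}) ⟶ UE := IsOpenImmersion.lift UE.ι j hjU
    have hj' : j' ≫ UE.ι = j := IsOpenImmersion.lift_fac _ _ _
    let r : (UE : Scheme.{u}) ⟶ X.U := i.resLE X.U UE le_rfl
    have hr : r ≫ X.U.ι = UE.ι ≫ i := Scheme.Hom.resLE_comp_ι _ _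
    have h1 : j' ≫ r = 𝟙 _ := by
      rw [← cancel_mono X.U.ι, Category.assoc, hr, reassoc_of% hj', pullback.lift_fst, Category.id_comp]
    haveI : Mono (r ≫ X.U.ι) := by rw [hr]; infer_instance
    haveI : Mono r := mono_of_mono r X.U.ι
    have h3 : r ≫ j' = 𝟙 _ := by
      rw [← cancel_mono r, Category.assoc, h1, Category.comp_id, Category.id_comp]
    have hiso : IsIso r := ⟨j', h3, h1⟩
    let P : Cpct.Pair S :=
      { bar := Over.mk (i ≫ X.bar.hom)
        U := UE
        isProper := by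
          show IsProper (i ≫ X.bar.hom)
          infer_instance
        isCompact := by
          have : CompactSpace X.U := isCompact_iff_compactSpace.1 X.isCompact
          have : CompactSpace UE := (asIso r).inv.homeomorph.compactSpace
          exact isCompact_iff_compactSpace.2 this }
    let v : P ⟶ X := ⟨Over.homMk i rfl, fun z hz => hz⟩
    refine ⟨P, v, hiso, ?_⟩
    apply Cpct.Pair.Hom.ext
    apply Over.OverMorphism.ext
    exact hi


/-- Morphisms of open parts come from roofs of compactifications (closure of the graph). -/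
theorem exists_roof {S : Scheme.{u}} [CompactSpace S] [QuasiSeparatedSpace S] (A B : Cpct.Pair S)
    (g : Cpct.openOver.obj A ⟶ Cpct.openOver.obj B) :
    ∃ (P : Cpct.Pair S) (v : P ⟶ A) (w : P ⟶ B), Cpct.isoOpen S v ∧
      Cpct.openOver.map w = Cpct.openOver.map v ≫ g := by
  haveI := A.isProper
  haveI := B.isProper
  let g' : (A.U : Scheme.{u}) ⟶ B.U := g.left
  have hg : g' ≫ B.U.ι ≫ B.bar.hom = A.U.ι ≫ A.bar.hom := Over.w g
  let Γ : (A.U : Scheme.{u}) ⟶ pullback A.bar.hom B.bar.hom :=
    pullback.lift A.U.ι (g' ≫ B.U.ι) (by rw [Category.assoc, hg])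
  have hΓ₁ : Γ ≫ pullback.fst A.bar.hom B.bar.hom = A.U.ι := pullback.lift_fst _ _ _
  have hΓ₂ : Γ ≫ pullback.snd A.bar.hom B.bar.hom = g' ≫ B.U.ι := pullback.lift_snd _ _ _
  haveI : CompactSpace A.U := isCompact_iff_compactSpace.1 A.isCompact
  haveI : QuasiSeparatedSpace A.bar.left := quasiSeparatedSpace_of_quasiSeparated A.bar.hom
  haveI : IsImmersion Γ := by
    haveI : IsImmersion (Γ ≫ pullback.fst A.bar.hom B.bar.hom) := by rw [hΓ₁]; infer_instance
    exact IsImmersion.of_comp Γ (pullback.fst A.bar.hom B.bar.hom)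
  haveI : QuasiCompact Γ := by
    haveI : QuasiCompact (Γ ≫ pullback.fst A.bar.hom B.bar.hom) := by
      rw [hΓ₁]; infer_instance
    exact QuasiCompact.of_comp Γ (pullback.fst A.bar.hom B.bar.hom)
  let z := Γ.toImage
  let p := Γ.imageι ≫ pullback.fst A.bar.hom B.bar.hom
  let q := Γ.imageι ≫ pullback.snd A.bar.hom B.bar.hom
  have hp : z ≫ p = A.U.ι := by rw [← hΓ₁, ← Category.assoc, Scheme.Hom.toImage_imageι]
  have hq : z ≫ q = g' ≫ B.U.ι := by rw [← hΓ₂, ← Category.assoc, Scheme.Hom.toImage_imageι]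
  let P : Cpct.Pair S :=
    { bar := Over.mk (p ≫ A.bar.hom)
      U := z.opensRange
      isProper := by
        show IsProper ((Γ.imageι ≫ pullback.fst A.bar.hom B.bar.hom) ≫ A.bar.hom)
        infer_instance
      isCompact := isCompact_range z.continuous }
  let v : P ⟶ A := ⟨Over.homMk p rfl, fun x hx => by
    obtain ⟨a, rfl⟩ := hx
    show p (z a) ∈ A.U
    rw [← Scheme.Hom.comp_apply, hp]
    exact a.2⟩
  let w : P ⟶ B := ⟨Over.homMk q (by
    show (Γ.imageι ≫ pullback.snd A.bar.hom B.bar.hom) ≫ B.bar.hom =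
      (Γ.imageι ≫ pullback.fst A.bar.hom B.bar.hom) ≫ A.bar.hom
    rw [Category.assoc, Category.assoc, pullback.condition]), fun x hx => by
    obtain ⟨a, rfl⟩ := hx
    show q (z a) ∈ B.U
    rw [← Scheme.Hom.comp_apply, hq]
    exact (g' a).2⟩
  let e : (A.U : Scheme.{u}) ≅ z.opensRange := z.isoOpensRange
  have he : e.hom ≫ z.opensRange.ι = z := z.isoOpensRange_hom_ι
  have hv : e.hom ≫ Cpct.restr v = 𝟙 _ := by
    rw [← cancel_mono A.U.ι, Category.assoc, restr_ι v, Category.id_comp, ← hp]
    exact (reassoc_of% he) p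
  have hvinv : Cpct.restr v = e.inv := by
    rw [← cancel_epi e.hom, hv, e.hom_inv_id]
  refine ⟨P, v, w, ?_, ?_⟩
  · show IsIso (Cpct.restr v)
    rw [hvinv]; infer_instance
  · ext1
    show Cpct.restr w = Cpct.restr v ≫ g'
    rw [← cancel_epi e.hom, ← Category.assoc, hv, Category.id_comp, ← cancel_mono B.U.ι, Category.assoc,
      restr_ι w, ← hq]
    exact (reassoc_of% he) q

end

open CategoryTheory CategoryTheory.Limits AlgebraicGeometry Opposite in
/-- Fix a scheme S which is quasi-separated and quasi-compact. Sending a pair (X, X̄) to X gives a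
functor from the category of compactifications over S (pairs of a scheme X̄ proper over S and a
quasi-compact open X ⊆ X̄, with morphisms the S-morphisms X̄' → X̄ sending X' into X) to the
category of compactifyable schemes over S (the full subcategory of schemes over S that are the open
part of such a pair), and this functor is a localization functor for the class of morphisms whose
open part X' → X is an isomorphism: it inverts that class and the induced functor from the localized
category is an equivalence. -/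
theorem result (S : Scheme.{u}) [CompactSpace S] [QuasiSeparatedSpace S] :
    (Cpct.openFunctor S).IsLocalization (Cpct.isoOpen S) := by
  haveI := Groth.Agent.S9033.result S
  let W := Cpct.isoOpen S
  let F := Cpct.openFunctor S
  have hW : W.IsInvertedBy F := fun A B f (hf : IsIso (Cpct.restr f)) => by
    have h1 : IsIso (Cpct.openOver.map f) := by
      haveI : IsIso ((CategoryTheory.Over.forget S).map (Cpct.openOver.map f)) := hf
      exact isIso_of_reflects_iso _ (CategoryTheory.Over.forget S)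
    haveI : IsIso ((ObjectProperty.ι _).map (F.map f)) := h1
    exact isIso_of_reflects_iso _ (ObjectProperty.ι (Cpct.IsCompactifyable S))
  let G := Localization.lift F hW W.Q
  let e : W.Q ⋙ G ≅ F := Localization.fac F hW W.Q
  have nat : ∀ {A B : Cpct.Pair S} (f : A ⟶ B),
      G.map (W.Q.map f) = e.hom.app A ≫ F.map f ≫ e.inv.app B := fun {A B} f => by
    rw [← e.hom.naturality_assoc, Iso.hom_inv_id_app, Category.comp_id]
    rfl
  haveI := Localization.essSurj W.Q W
  haveI : G.EssSurj := ⟨fun Y => by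
    obtain ⟨A, ⟨i⟩⟩ := Y.property
    exact ⟨W.Q.obj A, ⟨e.app A ≪≫ ObjectProperty.isoMk _ i⟩⟩⟩
  have hfull : ∀ A B (g : G.obj (W.Q.obj A) ⟶ G.obj (W.Q.obj B)), ∃ φ, G.map φ = g := by
    intro A B g
    let g' : F.obj A ⟶ F.obj B := e.inv.app A ≫ g ≫ e.hom.app B
    obtain ⟨P, v, w, hv, hvw⟩ := exists_roof A B g'.hom
    haveI : IsIso (W.Q.map v) := Localization.inverts W.Q W v hv
    have hFw : F.map w = F.map v ≫ g' := ObjectProperty.hom_ext _ hvw
    refine ⟨inv (W.Q.map v) ≫ W.Q.map w, ?_⟩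
    rw [G.map_comp, G.map_inv, IsIso.inv_comp_eq, nat w, nat v, hFw]
    simp [g']
  have hfaith : ∀ A B (φ₁ φ₂ : W.Q.obj A ⟶ W.Q.obj B), G.map φ₁ = G.map φ₂ → φ₁ = φ₂ := by
    intro A B φ₁ φ₂ h
    obtain ⟨r₁, rfl⟩ := Localization.exists_rightFraction W.Q W φ₁
    obtain ⟨r₂, rfl⟩ := Localization.exists_rightFraction W.Q W φ₂
    obtain ⟨ψ, hψ⟩ := (MorphismProperty.LeftFraction.mk r₁.s r₂.s r₂.hs).exists_rightFraction
    dsimp at hψ
    haveI := Localization.inverts W.Q W _ r₁.hs
    haveI := Localization.inverts W.Q W _ r₂.hs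
    haveI := Localization.inverts W.Q W _ ψ.hs
    let a := ψ.s ≫ r₁.f
    let b := ψ.f ≫ r₂.f
    have h₁ : W.Q.map (ψ.s ≫ r₁.s) ≫ r₁.map W.Q (Localization.inverts W.Q W) = W.Q.map a := by
      simp [a, MorphismProperty.RightFraction.map]
    have h₂ : W.Q.map (ψ.s ≫ r₁.s) ≫ r₂.map W.Q (Localization.inverts W.Q W) = W.Q.map b := by
      rw [hψ]
      simp [b, MorphismProperty.RightFraction.map]
    haveI : IsIso (W.Q.map (ψ.s ≫ r₁.s)) := by rw [W.Q.map_comp]; infer_instance
    rw [← cancel_epi (W.Q.map (ψ.s ≫ r₁.s)), h₁, h₂]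
    have hG : G.map (W.Q.map a) = G.map (W.Q.map b) := by
      rw [← h₁, ← h₂, G.map_comp, G.map_comp, h]
    rw [nat, nat, cancel_epi, cancel_mono] at hG
    have hab : Cpct.restr a = Cpct.restr b := congrArg (fun m => m.hom.left) hG
    obtain ⟨P, t, ht, htab⟩ := exists_equalizing a b hab
    haveI := Localization.inverts W.Q W _ ht
    rw [← cancel_epi (W.Q.map t), ← W.Q.map_comp, ← W.Q.map_comp, htab]
  haveI : G.Full := ⟨fun {X Y} g => by
    let i := W.Q.objObjPreimageIso X
    let j := W.Q.objObjPreimageIso Y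
    obtain ⟨φ, hφ⟩ := hfull _ _ (G.map i.hom ≫ g ≫ G.map j.inv)
    refine ⟨i.inv ≫ φ ≫ j.hom, ?_⟩
    simp [hφ]⟩
  haveI : G.Faithful := ⟨fun {X Y φ₁ φ₂} h => by
    let i := W.Q.objObjPreimageIso X
    let j := W.Q.objObjPreimageIso Y
    have := hfaith _ _ (i.hom ≫ φ₁ ≫ j.inv) (i.hom ≫ φ₂ ≫ j.inv) (by simp [h])
    rwa [cancel_epi, cancel_mono] at this⟩
  haveI : G.IsEquivalence := {}
  exact Functor.IsLocalization.of_equivalence_target W.Q W F G.asEquivalence e

end Groth.Agent.S9034
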