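import Groth.Statements.S9038
import Mathlib.Topology.Separation.Hausdorff
-- import your own Groth.Agent.* helpers here

set_option autoImplicit false
universe u
open Topology
open CohTop

namespace Groth.Agent.S9038

/-- In the category of Hausdorff locally quasi-compact spaces, call a family of continuous maps f_i :
X_i → X a qc covering when every point of X has a neighbourhood of the form ⋃_{i ∈ t} f_i(E_i) with
t a finite set of indices and E_i ⊆ X_i quasi-compact. If (f_i : X_i → X) is a qc covering and for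
each i the family (g_{ij} : X_{ij} → X_i)_j is a qc covering, then the family of composites X_{ij} →
X, indexed by the pairs (i, j), is a qc covering. -/
theorem result
    {B : Type u} [TopologicalSpace B] [T2Space B] [LocallyCompactSpace B]
    {ι : Type u} {X : ι → Type u} [∀ i, TopologicalSpace (X i)] [∀ i, T2Space (X i)]
    [∀ i, LocallyCompactSpace (X i)]
    (f : ∀ i, X i → B) (hf : ∀ i, Continuous (f i))
    (hcov : ∀ x : B, ∃ (t : Finset ι) (E : ∀ i, Set (X i)),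
      (∀ i ∈ t, IsCompact (E i)) ∧ (⋃ i ∈ t, f i '' E i) ∈ 𝓝 x)
    {κ : ι → Type u} {Y : ∀ i, κ i → Type u} [∀ i j, TopologicalSpace (Y i j)] [∀ i j, T2Space (Y i j)]
    [∀ i j, LocallyCompactSpace (Y i j)]
    (g : ∀ i j, Y i j → X i) (hg : ∀ i j, Continuous (g i j))
    (hcov' : ∀ (i : ι) (x : X i), ∃ (t : Finset (κ i)) (E : ∀ j, Set (Y i j)),
      (∀ j ∈ t, IsCompact (E j)) ∧ (⋃ j ∈ t, g i j '' E j) ∈ 𝓝 x) :
    ∀ x : B, ∃ (t : Finset (Σ i, κ i)) (E : ∀ p : (Σ i, κ i), Set (Y p.1 p.2)),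
      (∀ p ∈ t, IsCompact (E p)) ∧ (⋃ p ∈ t, f p.1 '' (g p.1 p.2 '' E p)) ∈ 𝓝 x := by
  classical
  intro x
  obtain ⟨t, E, hE, hN⟩ := hcov x
  have h : ∀ i ∈ t, ∃ (s : Finset (κ i)) (F : ∀ j, Set (Y i j)),
      (∀ j ∈ s, IsCompact (F j)) ∧ E i ⊆ ⋃ j ∈ s, g i j '' F j := fun i hi => by
    choose s F hF hnh using hcov' i
    obtain ⟨b, -, hb⟩ := (hE i hi).elim_nhds_subcover _ (fun x _ => hnh x)
    refine ⟨b.biUnion s, fun j => ⋃ z ∈ b.filter (fun z => j ∈ s z), F z j, fun j _ => ?_, ?_⟩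
    · exact Finset.isCompact_biUnion _ fun z hz => hF z j (Finset.mem_filter.1 hz).2
    · intro y hy
      obtain ⟨z, hz, hy⟩ := Set.mem_iUnion₂.1 (hb hy)
      obtain ⟨j, hj, w, hw, rfl⟩ := Set.mem_iUnion₂.1 hy
      exact Set.mem_iUnion₂.2 ⟨j, Finset.mem_biUnion.2 ⟨z, hz, hj⟩, w,
        Set.mem_iUnion₂.2 ⟨z, Finset.mem_filter.2 ⟨hz, hj⟩, hw⟩, rfl⟩
  choose s F hF hsub using h
  let F' : ∀ p : (Σ i, κ i), Set (Y p.1 p.2) := fun p => if h : p.1 ∈ t then F p.1 h p.2 else ∅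
  let s' : ∀ i, Finset (κ i) := fun i => if h : i ∈ t then s i h else ∅
  refine ⟨t.sigma s', F', fun p hp => ?_, Filter.mem_of_superset hN ?_⟩
  · obtain ⟨hi, hj⟩ := Finset.mem_sigma.1 hp
    simp only [F', s', dif_pos hi] at hj ⊢
    exact hF _ hi _ hj
  · intro y hy
    obtain ⟨i, hi, w, hw, rfl⟩ := Set.mem_iUnion₂.1 hy
    obtain ⟨j, hj, hw'⟩ := Set.mem_iUnion₂.1 (hsub i hi hw)
    refine Set.mem_iUnion₂.2 ⟨⟨i, j⟩, Finset.mem_sigma.2 ⟨hi, ?_⟩, w, ?_, rfl⟩
    · simpa only [s', dif_pos hi] using hj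
    · simpa only [F', dif_pos hi] using hw'

end Groth.Agent.S9038
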