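import Groth.Statements.S9064
import Groth.Agent.RlimCrit.Sites
import Groth.Agent.RlimCrit.Bounded
-- import your own Groth.Agent.* helpers here

set_option autoImplicit false
universe u
open CategoryTheory CategoryTheory.Limits Opposite
attribute [local instance] HasDerivedCategory.standard
open ModSite

namespace Groth.Agent.S9064

/-- Let (C, O) be a ringed site, A ⊂ Mod(O) a weak Serre subcategory and B a set of objects such that
every object has a covering by members of B and every V ∈ B has an integer d_V and a cofinal system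
of coverings {V_i → V} with H^p(V_i, F) = 0 for all F ∈ A and p > d_V. Let (K_n) be an inverse
system in D^+_A(O) such that for every j the system (H^j(K_n))_n is eventually constant, with value
H^j say. Then H^j(R lim K_n) = H^j: for a derived limit L of (K_n) through maps a_n : L → K_n, each
H^j(a_n) is an isomorphism for n large. Cofinality is expressed by asking every covering sieve of V
to contain such a covering family; H^p(V, -) of a module is the cohomology of its underlying abelian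
sheaf; the product of the K_n is an instance hypothesis. -/
theorem result
    {C : Type u} [SmallCategory C] {J : GrothendieckTopology C} (O : Sheaf J CommRingCat.{u})
    (A : ObjectProperty (ModSite.Mod O)) [WSerre.IsWeakSerre A] (B : Set C)
    (hB : ∀ U : C, ∃ (ι : Type u) (Y : ι → C) (g : ∀ i, Y i ⟶ U), Sieve.ofArrows Y g ∈ J U ∧ ∀ i, Y i ∈ B)
    (hA : ∀ V ∈ B, ∃ d : ℕ, ∀ T ∈ J V, ∃ (ι : Type u) (Y : ι → C) (g : ∀ i, Y i ⟶ V),
      (∀ i, T.arrows (g i)) ∧ Sieve.ofArrows Y g ∈ J V ∧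
      ∀ (i : ι) (F : ModSite.Mod O), A F → ∀ k : ℕ, d < k → Subsingleton (ModSite.HU O F k (Y i)))
    (K : ℕ → DerivedCategory (ModSite.Mod O)) (t : ∀ n, K (n + 1) ⟶ K n) [HasProduct K]
    (hK : ∀ n, WSerre.cohInPlus A (K n))
    (hconst : ∀ j : ℤ, ∃ n₀ : ℕ, ∀ n, n₀ ≤ n →
      IsIso ((DerivedCategory.homologyFunctor (ModSite.Mod O) j).map (t n)))
    (L : DerivedCategory (ModSite.Mod O)) (a : ∀ n, L ⟶ K n) (hL : CohCx.IsRlimVia K t L a) (j : ℤ) :
    ∃ n₀ : ℕ, ∀ n, n₀ ≤ n → IsIso ((DerivedCategory.homologyFunctor (ModSite.Mod O) j).map (a n)) := by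
  haveI : IsGrothendieckAbelian.{u} (ModSite.Mod O) := Groth.Agent.ModTensor.isGrothendieckAbelian_mod O
  haveI : HasExt.{u} (ModSite.Mod O) := inferInstance
  obtain ⟨n₀, hn₀⟩ := hconst j
  refine ⟨n₀, fun n hn => ?_⟩
  have hiso : ∀ m, n ≤ m → IsIso ((DerivedCategory.homologyFunctor (ModSite.Mod O) j).map (t m)) :=
    fun m hm => hn₀ m (hn.trans hm)
  have key : ∀ W ∈ B, ∃ N : ℕ, ∀ T ∈ J W, ∃ (ι : Type u) (Y : ι → C) (g : ∀ i, Y i ⟶ W),
      Sieve.ofArrows Y g ∈ J W ∧ ∀ i, T.arrows (g i) ∧ ∀ m, N ≤ m →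
        (∀ z : Groth.Agent.RlimCrit.sgl j ((Groth.Agent.RlimCrit.modP (ModSite.ringSh O)).obj (Y i)) ⟶ K (m + 1),
          z ≫ t m = 0 → z = 0) ∧
        (∀ w : Groth.Agent.RlimCrit.sgl j ((Groth.Agent.RlimCrit.modP (ModSite.ringSh O)).obj (Y i)) ⟶ K m,
          ∃ v, v ≫ t m = w) ∧
        ∀ w : (Groth.Agent.RlimCrit.sgl j ((Groth.Agent.RlimCrit.modP (ModSite.ringSh O)).obj (Y i)))⟦(1 : ℤ)⟧ ⟶ K m,
          ∃ v, v ≫ t m = w := by
    intro W hW
    obtain ⟨d, hd⟩ := hA W hW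
    obtain ⟨N, hN⟩ := Groth.Agent.RlimCrit.tower_bijective A t
      (fun m => ⟨(hK m).1, (hK m).2⟩) hconst d j
    refine ⟨N, fun T hT => ?_⟩
    obtain ⟨ι, Y, g, hg, hS, hv⟩ := hd T hT
    exact ⟨ι, Y, g, hS, fun i => ⟨hg i, fun m hm => hN _ (fun F hF k hk =>
      Groth.Agent.RlimCrit.subsingleton_ext_mod (ModSite.ringSh O) (Y i) F k (hv i F hF k hk)) m hm⟩⟩
  haveI := Groth.Agent.RlimCrit.mono_homology_of_isRlimVia
    (Groth.Agent.RlimCrit.isLocGen_mod (ModSite.ringSh O)) B hB hL j n hiso fun W hW T hT => by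
      obtain ⟨N, hN⟩ := key W hW
      obtain ⟨ι, Y, g, hS, hY⟩ := hN (T N) (hT N)
      exact ⟨ι, Y, g, hS, fun i => ⟨N, (hY i).1, fun m hm => ((hY i).2 m hm).1,
        fun m hm => ((hY i).2 m hm).2.2⟩⟩
  haveI := Groth.Agent.RlimCrit.epi_homology_of_isRlimVia
    (Groth.Agent.RlimCrit.isLocGen_mod (ModSite.ringSh O)) B hB hL j n hiso fun W hW T hT => by
      obtain ⟨N, hN⟩ := key W hW
      obtain ⟨ι, Y, g, hS, hY⟩ := hN (T N) (hT N)
      exact ⟨ι, Y, g, hS, fun i => ⟨N, (hY i).1, fun m hm => ((hY i).2 m hm).2.1⟩⟩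
  exact isIso_of_mono_of_epi _

end Groth.Agent.S9064
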