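import Groth.Statements.S9078
import Groth.Agent.KFlat.FreeClass
-- import your own Groth.Agent.* helpers here

set_option autoImplicit false
universe u
open CategoryTheory CategoryTheory.Limits Opposite
attribute [local instance] HasDerivedCategory.standard
open ModSite

namespace Groth.Agent.S9078

/-- Let (C, O) be a ringed site and G a complex of O-modules. There is a commutative diagram of
complexes K_1 → K_2 → … over τ_{≤1}G → τ_{≤2}G → … such that (1) the vertical maps K_n → τ_{≤n}G are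
termwise surjective quasi-isomorphisms, (2) every K_n is bounded above with terms direct sums of
modules of the form j_{U!}O_U, (3) each K_n → K_{n+1} is split injective in every degree, with
cokernel in each degree a direct sum of modules j_{U!}O_U; moreover colim K_n → G is a
quasi-isomorphism. Here the system is indexed by n ≥ 0 with K_n mapping to τ_{≤ n+1}G, commutativity
of the diagram is expressed after composing with the inclusions τ_{≤ m}G → G, 'direct sum of modules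
j_{U!}O_U' means isomorphic to a coproduct of such modules, and the map colim K_n → G is the one
induced by the K_n → τ_{≤ n+1}G → G. -/
theorem result
    {C : Type u} [SmallCategory C] {J : GrothendieckTopology C} (O : Sheaf J CommRingCat.{u})
    (G : CochainComplex (ModSite.Mod O) ℤ) :
    ∃ (Kc : ℕ ⥤ CochainComplex (ModSite.Mod O) ℤ) (π : ∀ n : ℕ, Kc.obj n ⟶ G.truncLE ((n : ℤ) + 1)),
      (∀ n : ℕ, Kc.map (homOfLE (Nat.le_succ n)) ≫ π (n + 1) ≫ G.ιTruncLE (((n + 1 : ℕ) : ℤ) + 1) =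
        π n ≫ G.ιTruncLE ((n : ℤ) + 1)) ∧
      (∀ n : ℕ, QuasiIso (π n) ∧ ∀ i : ℤ, Epi ((π n).f i)) ∧
      (∀ n : ℕ, ∃ b : ℤ, (Kc.obj n).IsStrictlyLE b) ∧
      (∀ (n : ℕ) (i : ℤ), ∃ (ι : Type u) (U : ι → C),
        Nonempty ((Kc.obj n).X i ≅ ∐ fun j => ModSite.freeOn O (U j))) ∧
      (∀ (n : ℕ) (i : ℤ), ∃ r : (Kc.obj (n + 1)).X i ⟶ (Kc.obj n).X i,
        (Kc.map (homOfLE (Nat.le_succ n))).f i ≫ r = 𝟙 _ ∧
        ∃ (ι : Type u) (U : ι → C),
          Nonempty (cokernel ((Kc.map (homOfLE (Nat.le_succ n))).f i) ≅ ∐ fun j => ModSite.freeOn O (U j))) ∧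
      ∃ c : colimit Kc ⟶ G, (∀ n : ℕ, colimit.ι Kc n ≫ c = π n ≫ G.ιTruncLE ((n : ℤ) + 1)) ∧ QuasiIso c := by
  haveI : HasColimitsOfShape (Discrete ℕ) (ModSite.Mod O) := by
    haveI : HasColimitsOfSize.{0, 0} (ModSite.Mod O) := hasColimitsOfSizeShrink.{0, 0, u, u} _
    infer_instance
  haveI : HasCountableCoproducts (ModSite.Mod O) := by
    haveI : HasColimitsOfSize.{0, 0} (ModSite.Mod O) := hasColimitsOfSizeShrink.{0, 0, u, u} _
    exact ⟨fun J _ => inferInstance⟩
  have hle : ∀ m : ℤ, (G.truncLE m).IsStrictlyLE m := fun m =>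
    inferInstanceAs (HomologicalComplex.IsStrictlySupported _ _)
  have ht : ∀ n : ℕ, ∃ t : G.truncLE ((n : ℤ) + 1) ⟶ G.truncLE (((n + 1 : ℕ) : ℤ) + 1),
      t ≫ G.ιTruncLE (((n + 1 : ℕ) : ℤ) + 1) = G.ιTruncLE ((n : ℤ) + 1) := fun n => by
    haveI := hle ((n : ℤ) + 1)
    haveI : (G.truncLE ((n : ℤ) + 1)).IsStrictlyLE (((n + 1 : ℕ) : ℤ) + 1) :=
      CochainComplex.isStrictlyLE_of_le _ ((n : ℤ) + 1) _ (by omega)
    refine ⟨inv ((G.truncLE ((n : ℤ) + 1)).ιTruncLE (((n + 1 : ℕ) : ℤ) + 1)) ≫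
      CochainComplex.truncLEMap (G.ιTruncLE ((n : ℤ) + 1)) _, ?_⟩
    rw [Category.assoc, CochainComplex.ιTruncLE_naturality, IsIso.inv_hom_id_assoc]
  choose t ht using ht
  obtain ⟨Kc, p, hcomm, hqis, hbdd, hΦ, hsplit⟩ :=
    Groth.Agent.KFlat.exists_system (Groth.Agent.KFlat.resClassFree O)
      (fun n => G.truncLE ((n : ℤ) + 1)) t fun n => by
        haveI := hle ((n : ℤ) + 1)
        exact ⟨_, fun i hi => CochainComplex.isZero_of_isStrictlyLE _ ((n : ℤ) + 1) i hi⟩
  let ψ : ∀ n : ℕ, Kc.obj n ⟶ G := fun n => p n ≫ G.ιTruncLE ((n : ℤ) + 1)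
  have hψ : ∀ n, Kc.map (homOfLE (Nat.le_succ n)) ≫ ψ (n + 1) = ψ n := fun n => by
    simp only [ψ]
    rw [← Category.assoc, hcomm, Category.assoc, ht]
  let cc : Cocone Kc :=
    { pt := G
      ι := NatTrans.ofSequence ψ fun n => (hψ n).trans (Category.comp_id _).symm }
  have hι : ∀ n : ℕ, colimit.ι Kc n ≫ colimit.desc Kc cc = p n ≫ G.ιTruncLE ((n : ℤ) + 1) :=
    fun n => colimit.ι_desc cc n
  refine ⟨Kc, p, fun n => by rw [← Category.assoc, hcomm, Category.assoc, ht], hqis,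
    fun n => ?_, hΦ, fun n i => ?_, colimit.desc Kc cc, hι, ⟨fun i => ?_⟩⟩
  · obtain ⟨b, hb⟩ := hbdd n
    exact ⟨b, (CochainComplex.isStrictlyLE_iff _ b).2 hb⟩
  · obtain ⟨r, hr⟩ := (hsplit n i).exists_retraction
    exact ⟨r, hr, (hsplit n i).cokernel (Groth.Agent.KFlat.resClassFree O).iso⟩
  · have hq : ∀ k : ℕ, i.toNat ≤ k → QuasiIsoAt (ψ k) i := fun k hk => by
      haveI := (hqis k).1
      haveI := CochainComplex.quasiIsoAt_ιTruncLE G ((k : ℤ) + 1) i (by omega)
      exact quasiIsoAt_comp (p k) (G.ιTruncLE ((k : ℤ) + 1)) i (hφ := (hqis k).1.quasiIsoAt i)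
    haveI : QuasiIsoAt (colimit.ι Kc i.toNat) i :=
      Groth.Agent.KFlat.quasiIsoAt_ι_of_isColimit Kc (colimit.cocone Kc) (colimit.isColimit Kc) i
        i.toNat fun k hk => by
          haveI := hq (k + 1) (by omega)
          haveI : QuasiIsoAt (Kc.map (homOfLE (Nat.le_succ k)) ≫ ψ (k + 1)) i := by
            rw [hψ]
            exact hq k hk
          exact quasiIsoAt_of_comp_right (Kc.map (homOfLE (Nat.le_succ k))) (ψ (k + 1)) i
    haveI : QuasiIsoAt (colimit.ι Kc i.toNat ≫ colimit.desc Kc cc) i := by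
      rw [hι]
      exact hq _ le_rfl
    exact quasiIsoAt_of_comp_left (colimit.ι Kc i.toNat) (colimit.desc Kc cc) i

end Groth.Agent.S9078
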