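import Groth.Statements.S9089
import Mathlib
-- import your own Groth.Agent.* helpers here

set_option autoImplicit false
universe u
open CategoryTheory Opposite
open ModSite

namespace Groth.Agent.S9089

/-- Part (1): ⇔ (2), for a ringed site (C, O) with C small and O a sheaf of commutative rings: the
following are equivalent. (1) For every object U and every section f of O over U there is a covering
sieve on U on each of whose arrows either f or 1 - f restricts to a unit. (2) For every object U,
every n ≥ 1 and all sections f₁, …, fₙ of O over U generating the unit ideal of O(U), there is a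
covering sieve on U on each of whose arrows some fᵢ restricts to a unit. -/
theorem result {C : Type u} [SmallCategory C] (J : GrothendieckTopology C)
    (O : Sheaf J CommRingCat.{u}) :
    (∀ (U : C) (f : O.obj.obj (op U)), ∃ S ∈ J U, ∀ ⦃V : C⦄ (g : V ⟶ U), S g →
        IsUnit ((O.obj.map g.op).hom f) ∨ IsUnit ((O.obj.map g.op).hom (1 - f))) ↔
    (∀ (U : C) (n : ℕ) (f : Fin n → O.obj.obj (op U)), 1 ≤ n → Ideal.span (Set.range f) = ⊤ →
        ∃ S ∈ J U, ∀ ⦃V : C⦄ (g : V ⟶ U), S g → ∃ i, IsUnit ((O.obj.map g.op).hom (f i))) := by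
  classical
  constructor
  · intro h U n f hn hf
    obtain ⟨a, ha⟩ := Ideal.mem_span_range_iff_exists_fun.1 ((Ideal.eq_top_iff_one _).1 hf)
    suffices key : ∀ (s : Finset (Fin n)) (U : C) (a f : Fin n → O.obj.obj (op U)),
        IsUnit (∑ i ∈ s, a i * f i) →
        ∃ S ∈ J U, ∀ ⦃V : C⦄ (g : V ⟶ U), S g → ∃ i, IsUnit ((O.obj.map g.op).hom (f i)) from
      key Finset.univ U a f (ha ▸ isUnit_one)
    intro s
    induction s using Finset.induction_on with
    | empty =>
      intro U a f hu
      rw [Finset.sum_empty, isUnit_zero_iff] at hu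
      refine ⟨⊤, J.top_mem U, fun V g _ => ⟨⟨0, hn⟩, RingHom.isUnit_map _ ?_⟩⟩
      haveI := subsingleton_of_zero_eq_one hu
      exact isUnit_of_subsingleton _
    | insert i s hi ih =>
      intro U a f hu
      rw [Finset.sum_insert hi] at hu
      obtain ⟨e, he⟩ := hu
      obtain ⟨S, hS, hS'⟩ := h U (a i * f i * ↑e⁻¹)
      have h1 : 1 - a i * f i * ↑e⁻¹ = (∑ j ∈ s, a j * f j) * ↑e⁻¹ := by
        rw [sub_eq_iff_eq_add, ← add_mul, add_comm, ← he, Units.mul_inv]
      have h2 : ∀ ⦃V : C⦄ (g : V ⟶ U), S g →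
          ∃ T ∈ J V, ∀ ⦃W : C⦄ (k : W ⟶ V), T k → ∃ j, IsUnit ((O.obj.map (k ≫ g).op).hom (f j)) := by
        intro V g hg
        rcases hS' g hg with hu' | hu'
        · refine ⟨⊤, J.top_mem V, fun W k _ => ⟨i, ?_⟩⟩
          rw [map_mul, map_mul] at hu'
          have := (isUnit_of_mul_isUnit_right (isUnit_of_mul_isUnit_left hu')).map (O.obj.map k.op).hom
          rw [op_comp, O.obj.map_comp]
          exact this
        · rw [h1, map_mul, map_sum] at hu'
          simp only [map_mul] at hu'
          obtain ⟨T, hT, hT'⟩ := ih V _ _ (isUnit_of_mul_isUnit_left hu')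
          refine ⟨T, hT, fun W k hk => ?_⟩
          obtain ⟨j, hj⟩ := hT' k hk
          refine ⟨j, ?_⟩
          rw [op_comp, O.obj.map_comp]
          exact hj
      choose T hT hT' using h2
      refine ⟨Sieve.bind S.arrows fun V g hg => T g hg, J.bind_covering hS fun V g hg => hT g hg, ?_⟩
      rintro W _ ⟨V, k, g, hg, hk, rfl⟩
      exact hT' g hg k hk
  · intro h U f
    obtain ⟨S, hS, hS'⟩ := h U 2 ![f, 1 - f] (by omega) ((Ideal.eq_top_iff_one _).2
      (Ideal.mem_span_range_iff_exists_fun.2 ⟨![1, 1], by simp [Fin.sum_univ_two]⟩))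
    refine ⟨S, hS, fun V g hg => ?_⟩
    obtain ⟨i, hi⟩ := hS' g hg
    fin_cases i
    · exact Or.inl hi
    · exact Or.inr hi

end Groth.Agent.S9089
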