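import Groth.Statements.S9091
import Mathlib
-- import your own Groth.Agent.* helpers here

set_option autoImplicit false
universe u
open CategoryTheory Opposite
open ModSite

namespace Groth.Agent.S9091

/-- Part (2): ⇒ (1) when the site has enough points, for a ringed site (C, O) with C small and O a sheaf
of commutative rings: if at every point p of the site the stalk O_p is the zero ring or is local,
then for every object U and every section f of O over U there is a covering sieve on U on each of
whose arrows either f or 1 - f restricts to a unit. -/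
theorem result {C : Type u} [SmallCategory C] {J : GrothendieckTopology C}
    (O : Sheaf J CommRingCat.{u}) [GrothendieckTopology.HasEnoughPoints.{u} J]
    (h : ∀ p : GrothendieckTopology.Point.{u} J, Subsingleton (ModSite.stalkRing p O) ∨ IsLocalRing (ModSite.stalkRing p O))
    (U : C) (f : O.obj.obj (op U)) :
    ∃ S ∈ J U, ∀ ⦃V : C⦄ (g : V ⟶ U), S g →
        IsUnit ((O.obj.map g.op).hom f) ∨ IsUnit ((O.obj.map g.op).hom (1 - f)) := by
  classical
  let S : Sieve U :=
    { arrows := fun V g => IsUnit ((O.obj.map g.op).hom f) ∨ IsUnit ((O.obj.map g.op).hom (1 - f))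
      downward_closed := fun {V W g} hg k => by
        have e : ∀ s, (O.obj.map (k ≫ g).op).hom s = (O.obj.map k.op).hom ((O.obj.map g.op).hom s) := fun s => by
          rw [op_comp, Functor.map_comp]; rfl
        rcases hg with hg | hg
        · exact Or.inl (by rw [e]; exact hg.map _)
        · exact Or.inr (by rw [e]; exact hg.map _) }
  refine ⟨S, ?_, fun V g hg => hg⟩
  have key : ∀ (p : GrothendieckTopology.Point.{u} J) (x : p.fiber.obj U) (s : O.obj.obj (op U)),
      IsUnit ((p.toPresheafFiber U x O.obj).hom s) →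
        ∃ (V : C) (g : V ⟶ U) (y : p.fiber.obj V), p.fiber.map g y = x ∧
          IsUnit ((O.obj.map g.op).hom s) := by
    intro p x s hs
    obtain ⟨b, hb⟩ := isUnit_iff_exists_inv.1 hs
    obtain ⟨X, z, c, rfl⟩ := p.toPresheafFiber_jointly_surjective b
    let W := IsCofiltered.min (Functor.elementsMk p.fiber U x) (Functor.elementsMk p.fiber X z)
    let gX := IsCofiltered.minToLeft (Functor.elementsMk p.fiber U x) (Functor.elementsMk p.fiber X z)
    let gY := IsCofiltered.minToRight (Functor.elementsMk p.fiber U x) (Functor.elementsMk p.fiber X z)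
    have hX : (p.toPresheafFiber U x O.obj).hom s =
        (p.toPresheafFiber W.1 W.2 O.obj).hom ((O.obj.map gX.1.op).hom s) :=
      ((congrArg (fun t => (p.toPresheafFiber U t O.obj).hom s) gX.2).symm).trans
        (p.toPresheafFiber_w_apply gX.1 W.2 O.obj s).symm
    have hY : (p.toPresheafFiber X z O.obj).hom c =
        (p.toPresheafFiber W.1 W.2 O.obj).hom ((O.obj.map gY.1.op).hom c) :=
      ((congrArg (fun t => (p.toPresheafFiber X t O.obj).hom c) gY.2).symm).trans
        (p.toPresheafFiber_w_apply gY.1 W.2 O.obj c).symm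
    change (p.toPresheafFiber U x O.obj).hom s * (p.toPresheafFiber X z O.obj).hom c = 1 at hb
    rw [hX, hY, ← map_mul] at hb
    replace hb := hb.trans (map_one (p.toPresheafFiber W.1 W.2 O.obj).hom).symm
    obtain ⟨Y, k, y, hy, hk⟩ := (p.toPresheafFiber_eq_iff' W.1 W.2 _ _).1 hb
    refine ⟨Y, k ≫ gX.1, y, ?_, ?_⟩
    · rw [Functor.map_comp, CategoryTheory.comp_apply, hy]
      exact gX.2
    · change (O.obj.map k.op).hom _ = (O.obj.map k.op).hom 1 at hk
      rw [map_mul, map_one] at hk
      have e : (O.obj.map (k ≫ gX.1).op).hom s = (O.obj.map k.op).hom ((O.obj.map gX.1.op).hom s) := by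
        rw [op_comp, Functor.map_comp]; rfl
      rw [e]
      exact isUnit_iff_exists_inv.2 ⟨_, hk⟩
  obtain ⟨P, hPs, hP⟩ := GrothendieckTopology.HasEnoughPoints.exists_objectProperty.{u} J
  haveI := hPs
  let ι := {g : Σ V : C, V ⟶ U // S g.2}
  refine J.superset_covering (S := Sieve.ofArrows (fun i : ι => i.1.1) (fun i => i.1.2)) ?_
    ((hP.jointly_reflect_ofArrows_mem_of_small (fun i : ι => i.1.2)).2 fun Φ x => ?_)
  · rw [Sieve.generate_le_iff, Presieve.ofArrows_le_iff]
    exact fun i => i.2
  · have hu : IsUnit ((Φ.obj.toPresheafFiber U x O.obj).hom f) ∨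
        IsUnit ((Φ.obj.toPresheafFiber U x O.obj).hom (1 - f)) := by
      rcases h Φ.obj with hsub | hloc
      · have : Subsingleton ((Φ.obj.presheafFiber (A := CommRingCat.{u})).obj O.obj : CommRingCat.{u}) := hsub
        exact Or.inl (isUnit_iff_exists_inv.2 ⟨1, Subsingleton.elim _ _⟩)
      · have : IsLocalRing ((Φ.obj.presheafFiber (A := CommRingCat.{u})).obj O.obj : CommRingCat.{u}) := hloc
        rw [map_sub, map_one]
        exact IsLocalRing.isUnit_or_isUnit_one_sub_self _
    rcases hu with hu | hu
    · obtain ⟨V, g, y, hy, hg⟩ := key Φ.obj x f hu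
      exact ⟨⟨⟨V, g⟩, Or.inl hg⟩, y, hy⟩
    · obtain ⟨V, g, y, hy, hg⟩ := key Φ.obj x (1 - f) hu
      exact ⟨⟨⟨V, g⟩, Or.inr hg⟩, y, hy⟩

end Groth.Agent.S9091
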