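import Groth.Statements.S9104
import Groth.Agent.PullFlat.InvRing

set_option autoImplicit false
universe u
open CategoryTheory
open ModSite

namespace Groth.Agent.S9104

/-- Part (1): for a morphism of ringed sites f : (C, O_C) → (D, O_D) between small sites with
commutative structure sheaves (only the underlying morphism of topoi is used): if (D, O_D) is a
locally ringed site then C equipped with the pulled-back sheaf of rings f⁻¹O_D is a locally ringed
site. -/
theorem result {C D : Type u} [SmallCategory C] [SmallCategory D] {J : GrothendieckTopology C}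
    {K : GrothendieckTopology D} {O_C : Sheaf J CommRingCat.{u}} {O_D : Sheaf K CommRingCat.{u}}
    (f : ModSite.RMor O_C O_D) (hD : ModSite.IsLocallyRinged K O_D) : ModSite.IsLocallyRinged J f.invRing := by
  refine ⟨fun U b => ?_, fun U h => ?_⟩
  · refine PullFlat.Loc.bind (PullFlat.loc_exists_inv f (fun _ : PUnit.{1} => b)) (fun W g hg => ?_)
    obtain ⟨V, ψ, β, hβ⟩ := hg
    obtain ⟨S, hS, hu⟩ := hD.1 V (β PUnit.unit)
    obtain ⟨T, hT, hT'⟩ := PullFlat.loc_of_covering f ψ hS
    refine ⟨T, hT, fun W' k hk => ?_⟩
    obtain ⟨V', a, ψ', hk', ha⟩ := hT' k hk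
    have key : (f.invRing.obj.map (k ≫ g).op).hom b =
        PullFlat.shRes (PullFlat.invRMor f) ψ' ((O_D.obj.map a.op).hom (β PUnit.unit)) := by
      rw [PullFlat.shRes_change (PullFlat.invRMor f) k ψ ψ' a hk' (β PUnit.unit), ← hβ PUnit.unit,
        op_comp]
      exact ModTensor.ores_comp f.invRing g.op k.op b
    rcases hu a ha with hx | hx
    · left
      rw [key]
      exact hx.map _
    · right
      rw [map_sub, map_one, key]
      rw [map_sub, map_one] at hx
      have hx' := hx.map (PullFlat.shRes (PullFlat.invRMor f) ψ')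
      rwa [map_sub, map_one] at hx'
  · obtain ⟨S, hS, hS'⟩ := PullFlat.Loc.bind
      (PullFlat.loc_exists_inv f (fun x : PEmpty.{1} => x.elim (C := f.invRing.obj.obj (Opposite.op U))))
      (Q := fun W _ => False) (fun W g hg => by
        obtain ⟨V, ψ, -, -⟩ := hg
        have h1 : PullFlat.shRes (PullFlat.invRMor f) ψ (1 : O_D.obj.obj (Opposite.op V)) = 0 := by
          rw [map_one]
          have h2 := congrArg (f.invRing.obj.map g.op).hom h
          rw [map_zero, map_one] at h2
          exact h2.symm
        refine PullFlat.Loc.bind (PullFlat.loc_of_shRes_eq_zero f ψ 1 h1) (fun W' k hk => ?_)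
        obtain ⟨V', a, ψ', -, ha⟩ := hk
        have h3 : (0 : O_D.obj.obj (Opposite.op V')) = 1 := by
          rw [← ha]
          exact map_one _
        obtain ⟨T, hT, hT'⟩ := PullFlat.loc_of_covering f ψ' (hD.2 V' h3)
        exact ⟨T, hT, fun W'' l hl => by
          obtain ⟨_, _, _, _, hbot⟩ := hT' l hl
          exact hbot⟩)
    exact J.superset_covering (fun W g hg => (hS' g hg).elim) hS

end Groth.Agent.S9104
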