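import Groth.Statements.S9105


set_option autoImplicit false
universe u
open CategoryTheory
open ModSite

namespace Groth.Agent.S9105

set_option backward.isDefEq.respectTransparency false
set_option backward.isDefEq.respectTransparency.types false

/-- If (C, O) is a locally ringed site (C small, O a sheaf of commutative rings) and U is an object of
C, then the localised ringed site (C/U, O_U) is again locally ringed. -/
theorem result {C : Type u} [SmallCategory C] {J : GrothendieckTopology C} (O : Sheaf J CommRingCat.{u})
    (hO : ModSite.IsLocallyRinged J O) (U : C) : ModSite.IsLocallyRinged (J.over U) (O.over U) := by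
  refine ⟨fun Y f => ?_, fun Y h => ?_⟩
  · obtain ⟨S, hS, h⟩ := hO.1 Y.left f
    exact ⟨(Sieve.overEquiv Y).symm S, (GrothendieckTopology.mem_over_iff _ _).2 (by simpa using hS),
      fun V g hg => h g.left hg⟩
  · have := hO.2 Y.left h
    rw [GrothendieckTopology.mem_over_iff]
    exact J.superset_covering bot_le this

end Groth.Agent.S9105
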