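import Groth.Statements.S9109
import Mathlib

set_option autoImplicit false
universe u
open CategoryTheory CategoryTheory.Limits
open CohSite

namespace Groth.Agent.S9109

/-- Part (1): on a small site (C, J) with a point p: the skyscraper functor p_* from abelian groups to
abelian sheaves on C (right adjoint to the stalk functor at p; its value on A is the sheaf U ↦ ∏_{x
∈ p⁻¹U} A) is exact. As a right adjoint it preserves limits; the statement here is that it also
preserves finite colimits. -/
theorem result {C : Type u} [SmallCategory C] {J : GrothendieckTopology C}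
    (p : GrothendieckTopology.Point.{u} J) :
    PreservesFiniteColimits (p.skyscraperSheafFunctor (A := AddCommGrpCat.{u})) := by
  haveI : (p.skyscraperSheafFunctor (A := AddCommGrpCat.{u})).IsRightAdjoint :=
    ⟨_, ⟨p.skyscraperSheafAdjunction⟩⟩
  haveI : (p.skyscraperSheafFunctor (A := AddCommGrpCat.{u})).Additive :=
    Functor.additive_of_preserves_binary_products _
  rw [Functor.preservesFiniteColimits_iff_forall_exact_map_and_epi]
  intro S hS
  haveI := hS.mono_f
  haveI := hS.epi_g
  refine ⟨ShortComplex.exact_of_f_is_kernel _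
    (isLimitForkMapOfIsLimit' (p.skyscraperSheafFunctor (A := AddCommGrpCat.{u})) _ hS.exact.fIsKernel), ?_⟩
  rw [← Sheaf.isLocallySurjective_iff_epi']
  refine Presheaf.isLocallySurjective_of_surjective J _ fun V => ?_
  rw [← AddCommGrpCat.epi_iff_surjective]
  show Epi (Limits.Pi.map fun _ : p.fiber.obj V.unop => S.g)
  haveI : HasExactLimitsOfShape (Discrete (p.fiber.obj V.unop)) AddCommGrpCat.{u} := inferInstance
  haveI : Epi (Discrete.natTrans fun _ : Discrete (p.fiber.obj V.unop) => S.g :
      Discrete.functor (fun _ : p.fiber.obj V.unop => S.X₂) ⟶ Discrete.functor (fun _ => S.X₃)) :=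
    (NatTrans.epi_iff_epi_app _).2 fun _ => inferInstanceAs (Epi S.g)
  haveI : PreservesFiniteColimits (lim : (Discrete (p.fiber.obj V.unop) ⥤ AddCommGrpCat.{u}) ⥤ _) :=
    HasExactLimitsOfShape.preservesFiniteColimits
  exact inferInstanceAs (Epi ((lim : (Discrete (p.fiber.obj V.unop) ⥤ AddCommGrpCat.{u}) ⥤ _).map
    (Discrete.natTrans fun _ => S.g : Discrete.functor (fun _ : p.fiber.obj V.unop => S.X₂) ⟶ Discrete.functor (fun _ => S.X₃))))

end Groth.Agent.S9109
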