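import Groth.Statements.S9121
import Mathlib

set_option autoImplicit false
universe u
open CategoryTheory CategoryTheory.Limits
open CohSite

namespace Groth.Agent.S9121

/-- Part (1): for the morphism of topoi f : Sh(C) → Sh(D) attached to a continuous functor u : D ⥤ C
between small sites whose induced pullback of sheaves of sets is exact (f_* is restriction along u):
if f_* transforms epimorphisms of sheaves of sets into epimorphisms, then f_* on abelian sheaves is
exact; being a right adjoint it preserves finite limits, and the statement is that it also preserves
finite colimits. -/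
theorem result {C D : Type u} [SmallCategory C] [SmallCategory D]
    (J : GrothendieckTopology C) (K : GrothendieckTopology D) (u : D ⥤ C) [u.IsContinuous K J]
    [PreservesFiniteLimits (u.sheafPullback (Type u) K J)]
    [(u.sheafPushforwardContinuous (Type u) K J).PreservesEpimorphisms] :
    PreservesFiniteColimits (u.sheafPushforwardContinuous AddCommGrpCat.{u} K J) := by
  haveI : (CohSite.push J K u).IsRightAdjoint := (u.sheafAdjunctionContinuous _ K J).isRightAdjoint
  rw [Functor.preservesFiniteColimits_iff_forall_exact_map_and_epi]
  intro S hS
  haveI := hS.mono_f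
  haveI := hS.epi_g
  refine ⟨ShortComplex.exact_of_f_is_kernel _
    (isLimitForkMapOfIsLimit' (CohSite.push J K u) _ hS.exact.fIsKernel), ?_⟩
  haveI : Sheaf.IsLocallySurjective S.g := (Sheaf.isLocallySurjective_iff_epi' _ S.g).2 inferInstance
  haveI : Sheaf.IsLocallySurjective ((sheafCompose J (forget AddCommGrpCat.{u})).map S.g) := inferInstance
  haveI : Epi ((u.sheafPushforwardContinuous (Type u) K J).map
      ((sheafCompose J (forget AddCommGrpCat.{u})).map S.g)) := Functor.map_epi _ _
  haveI : Sheaf.IsLocallySurjective
      ((sheafCompose K (forget AddCommGrpCat.{u})).map ((CohSite.push J K u).map S.g)) :=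
    (Sheaf.isLocallySurjective_iff_epi' _ ((u.sheafPushforwardContinuous (Type u) K J).map
      ((sheafCompose J (forget AddCommGrpCat.{u})).map S.g))).2 inferInstance
  rw [← Sheaf.isLocallySurjective_iff_epi']
  exact (Presheaf.isLocallySurjective_iff_whisker_forget K ((CohSite.push J K u).map S.g).hom).2
    (inferInstanceAs (Sheaf.IsLocallySurjective
      ((sheafCompose K (forget AddCommGrpCat.{u})).map ((CohSite.push J K u).map S.g))))

end Groth.Agent.S9121
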