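import Groth.Statements.S9127
import Groth.Agent.CatLib.Basic

set_option autoImplicit false
universe u
open CAlg

namespace Groth.Agent.S9127
open Groth.Agent Groth.Agent.CatLib

/-- A Noetherian ring is catenary if and only if its quotient by every minimal prime is catenary. -/
theorem result (R : Type u) [CommRing R] [IsNoetherianRing R] :
    CAlg.IsCatenary R ↔ ∀ p ∈ minimalPrimes R, CAlg.IsCatenary (R ⧸ p) := by
  refine ⟨fun h p _ => isCatenary_quotient p h, fun h => ?_⟩
  have key : ∀ P : PrimeSpectrum R, ∀ x : PrimeSpectrum R, P.asIdeal ≤ x.asIdeal →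
      ∃ y : PrimeSpectrum (R ⧸ P.asIdeal), PrimeSpectrum.comap (Ideal.Quotient.mk P.asIdeal) y = x := by
    intro P x hx
    haveI : (x.asIdeal.map (Ideal.Quotient.mk P.asIdeal)).IsPrime :=
      Ideal.map_isPrime_of_surjective Ideal.Quotient.mk_surjective (by rwa [Ideal.mk_ker])
    refine ⟨⟨x.asIdeal.map (Ideal.Quotient.mk P.asIdeal), inferInstance⟩, PrimeSpectrum.ext ?_⟩
    show (x.asIdeal.map (Ideal.Quotient.mk P.asIdeal)).comap (Ideal.Quotient.mk P.asIdeal) = x.asIdeal
    rw [Ideal.comap_map_of_surjective _ Ideal.Quotient.mk_surjective, ← RingHom.ker_eq_comap_bot,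
      Ideal.mk_ker, sup_eq_left.mpr hx]
  have lift : ∀ P : PrimeSpectrum R, ∀ s : LTSeries (PrimeSpectrum R), P ≤ s.head →
      ∃ s' : LTSeries (PrimeSpectrum (R ⧸ P.asIdeal)),
        s'.map (fun y => PrimeSpectrum.comap (Ideal.Quotient.mk P.asIdeal) y)
          (Monotone.strictMono_of_injective (fun a b hab => Ideal.comap_mono hab)
            (PrimeSpectrum.comap_injective_of_surjective _ Ideal.Quotient.mk_surjective)) = s := by
    intro P s hs
    choose g hg using fun i => key P (s i) (hs.trans (s.head_le i))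
    refine ⟨⟨s.length, g, fun i => ?_⟩, ?_⟩
    · have h1 : s i.castSucc < s i.succ := s.step i
      rw [← hg, ← hg] at h1
      exact lt_of_le_not_ge ((Ideal.comap_le_comap_iff_of_surjective _ Ideal.Quotient.mk_surjective _ _).mp h1.le)
        fun hge => h1.not_ge (Ideal.comap_mono hge)
    · exact RelSeries.ext rfl (funext fun i => hg i)
  refine ⟨fun p q hpq => ?_, fun s t hh hl hs ht => ?_⟩
  · obtain ⟨P, hP, hPle⟩ := Ideal.exists_minimalPrimes_le (I := (⊥ : Ideal R)) (J := p.asIdeal) bot_le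
    let P' : PrimeSpectrum R := ⟨P, hP.1.1⟩
    obtain ⟨y, hy⟩ := key P' p hPle
    obtain ⟨z, hz⟩ := key P' q (hPle.trans hpq)
    obtain ⟨n, hn⟩ := (h P hP).1 y z (by
      rw [← hy, ← hz] at hpq
      exact (Ideal.comap_le_comap_iff_of_surjective _ Ideal.Quotient.mk_surjective _ _).mp hpq)
    refine ⟨n, fun s hs hs' => ?_⟩
    obtain ⟨s', rfl⟩ := lift P' s (hs.symm ▸ hPle)
    exact hn s' (PrimeSpectrum.comap_injective_of_surjective _ Ideal.Quotient.mk_surjective (by
      rw [hy, ← hs, LTSeries.head_map])) (PrimeSpectrum.comap_injective_of_surjective _ Ideal.Quotient.mk_surjective (by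
      rw [hz, ← hs', LTSeries.last_map]))
  · obtain ⟨P, hP, hPle⟩ := Ideal.exists_minimalPrimes_le (I := (⊥ : Ideal R)) (J := s.head.asIdeal) bot_le
    let P' : PrimeSpectrum R := ⟨P, hP.1.1⟩
    obtain ⟨s', rfl⟩ := lift P' s hPle
    obtain ⟨t', rfl⟩ := lift P' t (hh ▸ hPle)
    have hinj := PrimeSpectrum.comap_injective_of_surjective (Ideal.Quotient.mk P'.asIdeal) Ideal.Quotient.mk_surjective
    have hcov : ∀ (a b : PrimeSpectrum (R ⧸ P'.asIdeal)), PrimeSpectrum.comap (Ideal.Quotient.mk P'.asIdeal) a ⋖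
        PrimeSpectrum.comap (Ideal.Quotient.mk P'.asIdeal) b → a ⋖ b := fun a b hab => by
      exact CovBy.of_image (OrderEmbedding.ofMapLEIff (fun q => PrimeSpectrum.comap (Ideal.Quotient.mk P'.asIdeal) q)
        fun p q => Ideal.comap_le_comap_iff_of_surjective _ Ideal.Quotient.mk_surjective _ _) hab
    exact (h P hP).2 s' t' (hinj (by simpa [LTSeries.head_map] using hh)) (hinj (by simpa [LTSeries.last_map] using hl))
      (fun i => hcov _ _ (hs i)) (fun i => hcov _ _ (ht i))
end Groth.Agent.S9127
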