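import Groth.Statements.S9129
import Mathlib
import Groth.Agent.Depth.FlatLocal
import Groth.Agent.QGorLib.Depth

set_option autoImplicit false
universe u
open CAlg

namespace Groth.Agent.S9129

/-- Suppose R → S is a flat local homomorphism between Noetherian local rings, with R Cohen–Macaulay.
Assume either that S is finite over R or that the Krull dimension of S is at most that of R. Then
the two rings have equal dimension and S is itself Cohen–Macaulay. -/
theorem result (R S : Type u) [CommRing R] [CommRing S]
    [LocCoh.IsCohenMacaulayLocalRing R] [IsNoetherianRing S] [IsLocalRing S] [Algebra R S]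
    [IsLocalHom (algebraMap R S)] [Module.Flat R S]
    (h : Module.Finite R S ∨ ringKrullDim S ≤ ringKrullDim R) :
    LocCoh.IsCohenMacaulayLocalRing S ∧ ringKrullDim R = ringKrullDim S := by
  let m := IsLocalRing.maximalIdeal R
  let n := IsLocalRing.maximalIdeal S
  haveI : n.LiesOver m := ⟨(((IsLocalRing.local_hom_TFAE (algebraMap R S)).out 0 4 rfl rfl).mp inferInstance).symm⟩
  have hge : ringKrullDim R ≤ ringKrullDim S := by
    rw [← IsLocalRing.maximalIdeal_height_eq_ringKrullDim, ← IsLocalRing.maximalIdeal_height_eq_ringKrullDim,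
      Ideal.height_eq_height_add_of_liesOver_of_hasGoingDown m n]
    exact WithBot.coe_le_coe.mpr le_self_add
  have hle : ringKrullDim S ≤ ringKrullDim R := by
    rcases h with h | h
    · haveI := h
      exact Order.krullDim_le_of_strictMono (PrimeSpectrum.comap (algebraMap R S)) fun p q hpq =>
        Ideal.IsIntegral.comap_lt_comap (A := S) (R := R) hpq
    · exact h
  have heq : ringKrullDim R = ringKrullDim S := le_antisymm hge hle
  refine ⟨{ supportDim_eq_depth := le_antisymm ?_ (Groth.Agent.QGorLib.depth_le_supportDim S) }, heq⟩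
  haveI := Module.FaithfullyFlat.of_flat_of_isLocalHom (A := R) (B := S)
  have h1 : LocCoh.depth R R = LocCoh.idealDepth (m.map (algebraMap R S)) S :=
    (Groth.Agent.Depth.idealDepth_baseChange (I := m) S S (IsBaseChange.linearMap R S)).symm
  have hmn : m.map (algebraMap R S) ≤ n := ((IsLocalRing.local_hom_TFAE (algebraMap R S)).out 0 2 rfl rfl).mp inferInstance
  have hnt : n • (⊤ : Submodule S S) ≠ ⊤ := by
    rw [smul_eq_mul, Ideal.mul_top]; exact (IsLocalRing.maximalIdeal.isMaximal S).ne_top
  have h2 : LocCoh.idealDepth (m.map (algebraMap R S)) S ≤ LocCoh.depth S S := by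
    rw [LocCoh.depth, LocCoh.idealDepth, LocCoh.idealDepth, if_neg hnt,
      if_neg fun ht => hnt (top_le_iff.mp (ht.ge.trans (Submodule.smul_mono_left hmn)))]
    exact iSup₂_mono' fun rs hrs => ⟨rs, ⟨hrs.1, fun r hr => hmn (hrs.2 r hr)⟩, le_rfl⟩
  rw [Module.supportDim_self_eq_ringKrullDim, ← heq, ← Module.supportDim_self_eq_ringKrullDim,
    LocCoh.IsCohenMacaulayLocalRing.supportDim_eq_depth (R := R), h1]
  exact WithBot.coe_le_coe.mpr h2

end Groth.Agent.S9129
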