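import Groth.Statements.S9133
import Mathlib
import Groth.Agent.DomDVR.KrullAkizuki
import Groth.Agent.TFLib.Mult

set_option autoImplicit false
universe u
open CAlg

namespace Groth.Agent.S9133
open scoped Pointwise


/-- Let R → S be a homomorphism of domains compatible with field maps K → L of their fraction fields (so
R → S is injective), where R is Noetherian local of dimension one and L is finite over K. Then each
prime n of S whose contraction to R is the maximal ideal of R is a maximal ideal of S, only finitely
many such n exist, and each quotient S/n is a finite R-module (its residue field is a finite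
extension of that of R). -/
theorem result (R S K L : Type u)
    [CommRing R] [IsDomain R] [IsNoetherianRing R] [IsLocalRing R] (hdim : ringKrullDim R = 1)
    [CommRing S] [IsDomain S] [Algebra R S] [Field K] [Field L] [Algebra R K] [IsFractionRing R K]
    [Algebra S L] [IsFractionRing S L] [Algebra K L] [Algebra R L] [IsScalarTower R K L]
    [IsScalarTower R S L] [FiniteDimensional K L] :
    (∀ n ∈ (IsLocalRing.maximalIdeal R).primesOver S, n.IsMaximal) ∧
      ((IsLocalRing.maximalIdeal R).primesOver S).Finite ∧
      ∀ n ∈ (IsLocalRing.maximalIdeal R).primesOver S, Module.Finite R (S ⧸ n) := by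
  classical
  haveI : Ring.KrullDimLE 1 R := (Ring.krullDimLE_iff).mpr (le_of_eq hdim)
  have hRL : Function.Injective (algebraMap R L) := by
    rw [IsScalarTower.algebraMap_eq R K L]
    exact (algebraMap K L).injective.comp (IsFractionRing.injective R K)
  have hRS : Function.Injective (algebraMap R S) := fun a b h => hRL (by
    rw [IsScalarTower.algebraMap_apply R S L, IsScalarTower.algebraMap_apply R S L, h])
  have hnf : ¬ IsField R := fun h => by
    rw [ringKrullDim_eq_zero_of_isField h] at hdim
    exact zero_ne_one hdim
  obtain ⟨x, hxm, hx⟩ := Submodule.exists_mem_ne_zero_of_ne_bot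
    (mt IsLocalRing.isField_iff_maximalIdeal_eq.2 hnf)
  let I : Ideal S := Ideal.span {algebraMap R S x}
  let D : ℕ∞ := (Module.finrank K L : ℕ∞) * Ring.ord R x
  have hord := Ring.ord_ne_top (R := R) (mem_nonZeroDivisors_of_ne_zero hx)
  have hD : D ≠ ⊤ := WithTop.mul_ne_top (ENat.coe_ne_top _) hord
  have hb : ∀ M : Submodule R S, M.FG → Module.length R (M.map (I.mkQ.restrictScalars R)) ≤ D := by
    intro M hM
    haveI : Module.Finite R M := Module.Finite.iff_fg.mpr hM
    let f : M →ₗ[R] L := (IsScalarTower.toAlgHom R S L).toLinearMap ∘ₗ M.subtype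
    have hf : Function.Injective f := (IsFractionRing.injective S L).comp Subtype.val_injective
    haveI : NoZeroSMulDivisors R M := ⟨fun {r m} h => by
      have := congrArg f h
      rw [map_smul, map_zero, Algebra.smul_def, mul_eq_zero, map_eq_zero_iff _ hRL, map_eq_zero_iff f hf] at this
      exact this⟩
    let ι : M →ₗ[R] TensorProduct R K M := TensorProduct.mk R K M 1
    haveI : IsLocalizedModule (nonZeroDivisors R) ι :=
      (isLocalizedModule_iff_isBaseChange (nonZeroDivisors R) K _).mpr (TensorProduct.isBaseChange R M K)
    let F := LinearMap.liftBaseChange K f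
    have hF : Function.Injective F := by
      rw [← LinearMap.ker_eq_bot, LinearMap.ker_eq_bot']
      intro z hz
      obtain ⟨⟨m, s⟩, h⟩ := IsLocalizedModule.surj (nonZeroDivisors R) ι z
      replace h : (s : R) • z = ι m := h
      have h1 : f m = 0 := by
        have := congrArg F h
        rw [← algebraMap_smul K (s : R) z, map_smul, hz, smul_zero] at this
        simpa [F, ι, LinearMap.liftBaseChange_tmul] using this.symm
      rw [(map_eq_zero_iff f hf).1 h1, map_zero, ← algebraMap_smul K (s : R) z] at h
      exact (smul_eq_zero.1 h).resolve_left (IsFractionRing.to_map_ne_zero_of_mem_nonZeroDivisors s.2)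
    have hfin : Module.finrank K (TensorProduct R K M) ≤ Module.finrank K L :=
      LinearMap.finrank_le_finrank_of_injective hF
    have hlen := Groth.Agent.TFLib.length_quot_smul_le_finrank_mul (R := R) (K := K) (M := M) rfl hx
    let g : M →ₗ[R] M.map (I.mkQ.restrictScalars R) := (I.mkQ.restrictScalars R).submoduleMap M
    have hle : (x • ⊤ : Submodule R M) ≤ LinearMap.ker g := by
      intro m hm
      obtain ⟨y, -, rfl⟩ := (Submodule.mem_smul_pointwise_iff_exists _ _ _).1 hm
      rw [LinearMap.mem_ker]
      refine Subtype.ext ((Submodule.Quotient.mk_eq_zero _).mpr ?_)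
      show x • (y : S) ∈ I
      rw [Algebra.smul_def]
      exact I.mul_mem_right _ (Ideal.mem_span_singleton_self _)
    refine le_trans (Module.length_le_of_surjective (Submodule.liftQ _ g hle) ?_) (hlen.le.trans ?_)
    · intro y
      obtain ⟨z, rfl⟩ := (I.mkQ.restrictScalars R).submoduleMap_surjective M y
      exact ⟨Submodule.Quotient.mk z, rfl⟩
    · exact mul_le_mul' (by exact_mod_cast hfin) le_rfl
  have hfl : IsFiniteLength R (S ⧸ I) := Groth.Agent.DomDVR.isFiniteLength_of_surjective_bounded
    (I.mkQ.restrictScalars R) (Submodule.mkQ_surjective I) hD hb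
  obtain ⟨_, _⟩ := isFiniteLength_iff_isNoetherian_isArtinian.mp hfl
  have hmem : ∀ n ∈ (IsLocalRing.maximalIdeal R).primesOver S, I ≤ n := fun n hn => by
    haveI := hn.2
    exact (Ideal.span_singleton_le_iff_mem n).2 ((Ideal.mem_of_liesOver n (IsLocalRing.maximalIdeal R) x).1 hxm)
  haveI : IsArtinian S (S ⧸ I) := isArtinian_of_tower R inferInstance
  haveI : IsArtinianRing (S ⧸ I) := isArtinian_of_tower S inferInstance
  refine ⟨fun n hn => ?_, ?_, fun n hn => ?_⟩
  · haveI := hn.1
    haveI : (n.map (Ideal.Quotient.mk I)).IsPrime := Ideal.map_isPrime_of_surjective Ideal.Quotient.mk_surjective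
      (by rw [Ideal.mk_ker]; exact hmem n hn)
    have h := Ideal.comap_isMaximal_of_surjective (Ideal.Quotient.mk I) Ideal.Quotient.mk_surjective
      (K := n.map (Ideal.Quotient.mk I))
    rwa [Ideal.comap_map_of_surjective _ Ideal.Quotient.mk_surjective, ← RingHom.ker_eq_comap_bot, Ideal.mk_ker,
      sup_eq_left.2 (hmem n hn)] at h
  · refine Set.Finite.of_finite_image (f := fun n => n.map (Ideal.Quotient.mk I)) ((IsArtinianRing.setOfPred_isMaximal_finite (R := S ⧸ I)).subset ?_) ?_
    · rintro _ ⟨n, hn, rfl⟩
      haveI := hn.1
      haveI : (n.map (Ideal.Quotient.mk I)).IsPrime := Ideal.map_isPrime_of_surjective Ideal.Quotient.mk_surjective (by rw [Ideal.mk_ker]; exact hmem n hn)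
      exact IsArtinianRing.isMaximal_of_isPrime _
    · intro a ha b hb e
      have := congrArg (Ideal.comap (Ideal.Quotient.mk I)) e
      simpa [Ideal.comap_map_of_surjective _ Ideal.Quotient.mk_surjective, ← RingHom.ker_eq_comap_bot, sup_eq_left.2 (hmem a ha), sup_eq_left.2 (hmem b hb)] using this
  · exact Module.Finite.of_surjective ((Submodule.factor (hmem n hn)).restrictScalars R) (Submodule.factor_surjective (hmem n hn))

end Groth.Agent.S9133
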