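import Groth.Statements.S9130
import Mathlib
import Groth.Agent.S9133

set_option autoImplicit false
universe u
open CAlg

namespace Groth.Agent.S9130

/-- Let A ⊆ B be domains with B of finite type over A and A Noetherian, and assume every element of B is
algebraic over A. For a height-one prime p of A, only finitely many primes of B lie over p and each
of them has height one. (The published statement assumes that Frac(B) is finite over Frac(A); this
row assumes B algebraic over A, which is equivalent for a finite type extension of domains.) -/
theorem result (A B : Type u) [CommRing A] [IsDomain A]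
    [IsNoetherianRing A] [CommRing B] [IsDomain B] [Algebra A B] [FaithfulSMul A B]
    [Algebra.FiniteType A B] [Algebra.IsAlgebraic A B] (p : Ideal A) [p.IsPrime]
    (hp : p.height = 1) :
    (p.primesOver B).Finite ∧ ∀ q ∈ p.primesOver B, q.height = 1 := by
  classical
  have hinj : Function.Injective (algebraMap A B) := FaithfulSMul.algebraMap_injective A B
  let M := Algebra.algebraMapSubmonoid B p.primeCompl
  have hM : M ≤ nonZeroDivisors B := by
    rintro _ ⟨a, ha, rfl⟩
    exact mem_nonZeroDivisors_of_ne_zero fun h => ha (by rw [(map_eq_zero_iff _ hinj).1 h]; exact p.zero_mem)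
  haveI : IsDomain (Localization M) := IsLocalization.isDomain_localization hM
  let K := FractionRing A
  let L := FractionRing B
  haveI : FaithfulSMul A L := (faithfulSMul_iff_algebraMap_injective A L).2 (by
    rw [IsScalarTower.algebraMap_eq A B L]
    exact (IsFractionRing.injective B L).comp hinj)
  letI : Algebra K L := FractionRing.liftAlgebra A L
  haveI : IsScalarTower A K L := FractionRing.isScalarTower_liftAlgebra A L
  haveI : Algebra.IsAlgebraic K L := by
    haveI : Algebra.IsAlgebraic A L := (IsFractionRing.isAlgebraic_iff' A B L).1 inferInstance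
    exact (IsFractionRing.comap_isAlgebraic_iff (A := A)).1 inferInstance
  haveI : Algebra.EssFiniteType B L := Algebra.EssFiniteType.of_isLocalization L (nonZeroDivisors B)
  haveI : Algebra.EssFiniteType A L := Algebra.EssFiniteType.comp A B L
  haveI : Algebra.EssFiniteType K L := Algebra.EssFiniteType.of_comp A K L
  haveI : FiniteDimensional K L := Algebra.finite_of_essFiniteType_of_isAlgebraic
  let R := Localization.AtPrime p
  letI : Algebra R K := IsLocalization.localizationAlgebraOfSubmonoidLe R K p.primeCompl (nonZeroDivisors A) p.primeCompl_le_nonZeroDivisors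
  haveI : IsScalarTower A R K := IsLocalization.localization_isScalarTower_of_submonoid_le R K p.primeCompl (nonZeroDivisors A) p.primeCompl_le_nonZeroDivisors
  haveI : IsFractionRing R K := IsFractionRing.isFractionRing_of_isDomain_of_isLocalization p.primeCompl R K
  letI : Algebra (Localization M) L := IsLocalization.localizationAlgebraOfSubmonoidLe (Localization M) L M (nonZeroDivisors B) hM
  haveI : IsScalarTower B (Localization M) L := IsLocalization.localization_isScalarTower_of_submonoid_le (Localization M) L M (nonZeroDivisors B) hM
  haveI : IsFractionRing (Localization M) L := IsFractionRing.isFractionRing_of_isDomain_of_isLocalization M (Localization M) L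
  letI : Algebra R L := ((algebraMap K L).comp (algebraMap R K)).toAlgebra
  haveI : IsScalarTower R K L := IsScalarTower.of_algebraMap_eq' rfl
  haveI : IsScalarTower A R L := IsScalarTower.of_algebraMap_eq fun a => by
    rw [IsScalarTower.algebraMap_apply A K L, IsScalarTower.algebraMap_apply A R K]; rfl
  letI : Algebra R (Localization M) := localizationAlgebra p.primeCompl B
  haveI : IsScalarTower A R (Localization M) := IsScalarTower.of_algebraMap_eq fun a => by
    rw [localizationAlgebraMap_def, IsLocalization.map_eq, ← IsScalarTower.algebraMap_apply]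
  haveI : IsScalarTower R (Localization M) L := by
    refine IsScalarTower.of_algebraMap_eq' (IsLocalization.ringHom_ext p.primeCompl ?_)
    ext a
    simp only [RingHom.comp_apply]
    rw [← IsScalarTower.algebraMap_apply A R (Localization M), ← IsScalarTower.algebraMap_apply A R L,
      IsScalarTower.algebraMap_apply A B (Localization M), ← IsScalarTower.algebraMap_apply B (Localization M) L,
      ← IsScalarTower.algebraMap_apply A B L]
  have hdim : ringKrullDim R = 1 := by
    rw [IsLocalization.AtPrime.ringKrullDim_eq_height p R, hp]; rfl
  obtain ⟨hmax, hfin, -⟩ := Groth.Agent.S9133.result R (Localization M) K L hdim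
  have hdisj : ∀ q : Ideal B, q.IsPrime → q.comap (algebraMap A B) ≤ p → Disjoint (M : Set B) q := by
    intro q _ hq
    rw [Set.disjoint_left]
    rintro _ ⟨a, ha, rfl⟩ h
    exact ha (hq h)
  let Q : Ideal B → Ideal (Localization M) := Ideal.map (algebraMap B (Localization M))
  have hcomap : ∀ q : Ideal B, q.IsPrime → q.comap (algebraMap A B) ≤ p → (Q q).comap (algebraMap B (Localization M)) = q :=
    fun q h1 h2 => IsLocalization.under_map_of_isPrime_disjoint M (Localization M) h1 (hdisj q h1 h2)
  have hQ : ∀ q : Ideal B, q.IsPrime → q.comap (algebraMap A B) = p → Q q ∈ (IsLocalRing.maximalIdeal R).primesOver (Localization M) := by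
    intro q h1 h2
    haveI hQp : (Q q).IsPrime := IsLocalization.isPrime_of_isPrime_disjoint M _ q h1 (hdisj q h1 h2.le)
    refine ⟨hQp, ⟨?_⟩⟩
    have e : (Ideal.under R (Q q)).comap (algebraMap A R) = p := by
      rw [Ideal.under, Ideal.comap_comap, ← IsScalarTower.algebraMap_eq, IsScalarTower.algebraMap_eq A B (Localization M),
        ← Ideal.comap_comap, hcomap q h1 h2.le, h2]
    rw [← IsLocalization.map_under p.primeCompl R (Ideal.under R (Q q)), Ideal.under_def A, e]
    exact Localization.AtPrime.map_eq_maximalIdeal.symm
  have hover : ∀ q ∈ p.primesOver B, q.IsPrime ∧ q.comap (algebraMap A B) = p := fun q hq => ⟨hq.1, hq.2.over.symm⟩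
  refine ⟨Set.Finite.of_finite_image (f := Q) (hfin.subset ?_) ?_, fun q hq => ?_⟩
  · rintro _ ⟨q, hq, rfl⟩
    exact hQ q (hover q hq).1 (hover q hq).2
  · intro a ha b hb e
    rw [← hcomap a (hover a ha).1 (hover a ha).2.le, e, hcomap b (hover b hb).1 (hover b hb).2.le]
  · obtain ⟨h1, h2⟩ := hover q hq
    haveI := h1
    have hp0 : p ≠ ⊥ := fun h => by subst h; simp at hp
    have hq0 : q ≠ ⊥ := fun h => hp0 (by rw [← h2, h]; exact Ideal.comap_bot_of_injective _ hinj)
    refine le_antisymm ((Ideal.height_le_iff (n := 1)).2 ?_) (ENat.one_le_iff_ne_zero.2 ?_)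
    · intro q' h1' hlt
      by_contra hne
      haveI := h1'
      have hq'0 : q' ≠ ⊥ := fun h => by subst h; simp at hne
      have hc0 : q'.comap (algebraMap A B) ≠ ⊥ := by
        obtain ⟨y, hy, hy0⟩ := Submodule.exists_mem_ne_zero_of_ne_bot hq'0
        exact Ideal.comap_ne_bot_of_algebraic_mem hy0 hy (Algebra.IsAlgebraic.isAlgebraic y)
      have hle : q'.comap (algebraMap A B) ≤ p := h2 ▸ Ideal.comap_mono hlt.le
      have h2' : q'.comap (algebraMap A B) = p := by
        by_contra hne'
        have := Ideal.height_strict_mono_of_isPrime (lt_of_le_of_ne hle hne')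
        rw [hp, ENat.lt_one_iff_eq_zero, Ideal.height_eq_zero_iff_eq_bot] at this
        exact hc0 this
      have := (hmax _ (hQ q' h1' h2')).eq_of_le (hQ q h1 h2).1.ne_top (Ideal.map_mono hlt.le)
      exact hlt.ne (by rw [← hcomap q' h1' h2'.le, ← hcomap q h1 h2.le]; exact congrArg _ this)
    · intro h
      exact hq0 (Ideal.height_eq_zero_iff_eq_bot.1 h)

end Groth.Agent.S9130
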