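import Groth.Statements.S9599
import Groth.Agent.AdicExact.Basic

set_option autoImplicit false
universe u
open CAlg

namespace Groth.Agent.S9599

/-- For a ring R, an ideal I of R and a short exact sequence 0 → K → M → N → 0 of R-modules with N flat
over R, the induced sequence of I-adic completions 0 → K^ → M^ → N^ → 0 is again short exact. -/
theorem result {R : Type u} [CommRing R] (I : Ideal R) {K M N : Type u} [AddCommGroup K] [Module R K] [AddCommGroup M] [Module R M] [AddCommGroup N] [Module R N] [Module.Flat R N] (i : K →ₗ[R] M) (g : M →ₗ[R] N) (hi : Function.Injective i) (hg : Function.Surjective g) (hig : Function.Exact i g) :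
    Function.Injective (AdicCompletion.map I i) ∧ Function.Exact (AdicCompletion.map I i) (AdicCompletion.map I g) ∧ Function.Surjective (AdicCompletion.map I g) := by
  have hc' : ∀ n, ∀ m : K, i m ∈ (I ^ (n + 0) • ⊤ : Submodule R M) → m ∈ (I ^ n • ⊤ : Submodule R K) := by
    intro n k hk
    rw [add_zero] at hk
    obtain ⟨a, ha, hsum⟩ : ∃ a : M →₀ R, (∀ z, a z ∈ I ^ n) ∧ (a.sum fun z r => r • z) = i k := by
      refine Submodule.smul_induction_on hk (fun r hr z _ => ⟨Finsupp.single z r, fun y => ?_, by simp⟩) ?_
      · classical
        rw [Finsupp.single_apply]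
        split_ifs
        · exact hr
        · exact zero_mem _
      · rintro x y ⟨a, ha, rfl⟩ ⟨b, hb, rfl⟩
        exact ⟨a + b, fun z => add_mem (ha z) (hb z),
          Finsupp.sum_add_index' (fun _ => zero_smul R _) (fun _ => by intros; rw [add_smul])⟩
    let e := a.support.equivFin.symm
    let f : Fin a.support.card → R := fun j => a (e j).1
    let x : Fin a.support.card → M := fun j => (e j).1
    have hfx : ∑ j, f j • x j = i k := by
      rw [← hsum, Finsupp.sum, ← Finset.sum_coe_sort a.support]
      exact e.sum_comp fun z : a.support => a z.1 • z.1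
    have h0 : ∑ j, f j • g (x j) = 0 := by
      simp only [← map_smul, ← map_sum, hfx, hig.apply_apply_eq_zero]
    obtain ⟨t, c, z, hz, hc⟩ := Module.Flat.iff_forall_isTrivialRelation.mp inferInstance h0
    choose w hw using fun l => hg (z l)
    have hk' : ∀ j, ∃ k' : K, i k' = x j - ∑ l, c j l • w l := fun j => (hig _).mp (by
      have hzj : g (x j) = ∑ l, c j l • z l := hz j
      simp [map_sub, map_sum, hw, hzj])
    choose k' hk' using hk'
    have : k = ∑ j, f j • k' j := hi (by
      simp only [map_sum, map_smul, hk', smul_sub, Finset.sum_sub_distrib, hfx, Finset.smul_sum, smul_smul]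
      rw [Finset.sum_comm]
      simp only [← Finset.sum_smul, hc, zero_smul, Finset.sum_const_zero, sub_zero])
    rw [this]
    exact Submodule.sum_mem _ fun j _ => Submodule.smul_mem_smul (ha _) trivial
  exact ⟨Groth.Agent.AdicExact.map_injective I i 0 hc', Groth.Agent.AdicExact.map_exact I i g 0 hg hig hc',
    AdicCompletion.map_surjective I hg⟩
end Groth.Agent.S9599
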