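import Groth.Statements.S9131
import Mathlib
import Groth.Agent.AdicDecay.Free
import Groth.Agent.AdicDecay.Complete
import Groth.Agent.S7107
import Groth.Agent.S9599

set_option autoImplicit false
universe u
open CAlg

namespace Groth.Agent.S9131

/-- Let R be a ring, I an ideal, and 0 → K → P → M → 0 a short exact sequence of R-modules with M flat
over R and M/IM projective over R/I. Then the induced sequence of I-adic completions is split short
exact: the map on completions of K → P is injective, the sequence is exact in the middle, and the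
map on completions of P → M has a section linear over the completion of R (so it is surjective). -/
theorem result (R : Type u) [CommRing R] (I : Ideal R)
    (K P M : Type u) [AddCommGroup K] [Module R K] [AddCommGroup P] [Module R P]
    [AddCommGroup M] [Module R M] (f : K →ₗ[R] P) (g : P →ₗ[R] M)
    (hf : Function.Injective f) (hg : Function.Surjective g) (hfg : Function.Exact f g)
    [Module.Flat R M] [Module.Projective (R ⧸ I) (M ⧸ (I • ⊤ : Submodule R M))] :
    Function.Injective (AdicCompletion.map I f) ∧
      Function.Exact (AdicCompletion.map I f) (AdicCompletion.map I g) ∧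
      ∃ s : AdicCompletion I M →ₗ[AdicCompletion I R] AdicCompletion I P,
        AdicCompletion.map I g ∘ₗ s = LinearMap.id := by
  classical
  open AdicDecay in
  let Rb := R ⧸ I
  let P₀ := M ⧸ (I • ⊤ : Submodule R M)
  let q : M →ₗ[R] P₀ := Submodule.mkQ _
  let κ : Type u := P₀ × ℕ
  have : Infinite κ := Prod.infinite_of_right
  let π₀ : (κ →₀ Rb) →ₗ[Rb] P₀ := Finsupp.linearCombination Rb Prod.fst
  have hπ : Function.Surjective π₀ := fun p => ⟨Finsupp.single (p, 0) 1, by simp [π₀]⟩
  obtain ⟨σ, hσ⟩ := Module.projective_lifting_property π₀ LinearMap.id hπ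
  have hσ' : ∀ p, π₀ (σ p) = p := fun p => LinearMap.congr_fun hσ p
  let e0 : (P₀ × LinearMap.ker π₀) ≃ₗ[Rb] (κ →₀ Rb) := LinearEquiv.ofLinearMap (σ.coprod (LinearMap.ker π₀).subtype)
    (π₀.prod ((LinearMap.id - σ ∘ₗ π₀).codRestrict _ fun v => by simp [hσ']))
    (LinearMap.ext fun v => by simp)
    (LinearMap.ext fun v => Prod.ext (by simp [hσ', LinearMap.mem_ker.mp v.2.2])
      (Subtype.ext (by simp [hσ', LinearMap.mem_ker.mp v.2.2])))
  obtain ⟨E⟩ := S7107.result Rb P₀ (LinearMap.ker π₀) κ e0
  let mk := Ideal.Quotient.mk I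
  let b : κ → P₀ × (κ →₀ Rb) := fun i => E.symm (Finsupp.single i 1)
  choose a ha using fun i => Submodule.Quotient.mk_surjective _ (b i).1
  choose d hd using fun i => Finsupp.mapRange_surjective mk (map_zero _) Ideal.Quotient.mk_surjective (b i).2
  let x : κ → M × (κ →₀ R) := fun i => (a i, d i)
  let red : M × (κ →₀ R) →ₗ[R] P₀ × (κ →₀ Rb) :=
    q.prodMap (Finsupp.mapRange.linearMap (Algebra.linearMap R Rb))
  have hlc : ∀ c : κ →₀ R, red (Finsupp.linearCombination R x c) = E.symm (c.mapRange mk (map_zero _)) := fun c => by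
    induction c using Finsupp.induction_linear with
    | zero => simp
    | add u v hu hv => rw [map_add, map_add, Finsupp.mapRange_add (map_add mk), map_add, hu, hv]
    | single i r =>
      have hxb : red (x i) = b i := Prod.ext (ha i) (hd i)
      rw [Finsupp.linearCombination_single, map_smul, hxb, Finsupp.mapRange_single,
        show Finsupp.single i (mk r) = mk r • Finsupp.single i (1 : Rb) by simp, map_smul]
      exact (algebraMap_smul Rb r (b i)).symm
  have hred : ∀ v, red v = 0 → v ∈ (I • ⊤ : Submodule R (M × (κ →₀ R))) := by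
    rintro ⟨m, c⟩ h
    have h1 : m ∈ (I • ⊤ : Submodule R M) := (Submodule.Quotient.mk_eq_zero _).mp (congrArg Prod.fst h)
    have h2 : c ∈ (I • ⊤ : Submodule R (κ →₀ R)) := by
      rw [← pow_one I]
      refine mem_smul_top_finsupp fun z => ?_
      rw [pow_one, smul_eq_mul, Ideal.mul_top, ← Ideal.Quotient.eq_zero_iff_mem]
      exact DFunLike.congr_fun (congrArg Prod.snd h) z
    have h1' := Submodule.mem_map_of_mem (f := LinearMap.inl R M (κ →₀ R)) h1
    have h2' := Submodule.mem_map_of_mem (f := LinearMap.inr R M (κ →₀ R)) h2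
    rw [Submodule.map_smul''] at h1' h2'
    have := add_mem (Submodule.smul_mono le_rfl le_top h1') (Submodule.smul_mono le_rfl le_top h2')
    simpa using this
  have hs : Submodule.span R (Set.range x) ⊔ (I • ⊤ : Submodule R (M × (κ →₀ R))) = ⊤ := eq_top_iff.mpr fun v _ => by
    obtain ⟨c, hc⟩ := Finsupp.mapRange_surjective mk (map_zero _) Ideal.Quotient.mk_surjective (E (red v))
    rw [← add_sub_cancel (Finsupp.linearCombination R x c) v]
    refine add_mem (Submodule.mem_sup_left ?_) (Submodule.mem_sup_right (hred _ ?_))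
    · rw [← Finsupp.range_linearCombination]; exact ⟨c, rfl⟩
    · rw [map_sub, hlc, hc, E.symm_apply_apply, sub_self]
  have hi : ∀ c : κ →₀ R, Finsupp.linearCombination R x c ∈ (I • ⊤ : Submodule R (M × (κ →₀ R))) → ∀ z, c z ∈ I := by
    intro c hc z
    have h0 : red (Finsupp.linearCombination R x c) = 0 := by
      refine Submodule.smul_induction_on hc (fun r hr v _ => ?_) (fun u v hu hv => by rw [map_add, hu, hv, add_zero])
      rw [map_smul, ← algebraMap_smul Rb r (red v)]
      rw [show algebraMap R Rb r = 0 from Ideal.Quotient.eq_zero_iff_mem.mpr hr, zero_smul]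
    rw [hlc, LinearEquiv.map_eq_zero_iff] at h0
    exact Ideal.Quotient.eq_zero_iff_mem.mp (by simpa using DFunLike.congr_fun h0 z)
  have hprod : Module.Flat R (M × (κ →₀ R)) := by
    rw [Module.Flat.iff_lTensor_preserves_injective_linearMap]
    intro N N' _ _ _ _ g hg
    have hcomm : (TensorProduct.prodLeft R R M (κ →₀ R) N').toLinearMap ∘ₗ g.lTensor (M × (κ →₀ R)) =
        ((g.lTensor M).prodMap (g.lTensor (κ →₀ R))) ∘ₗ (TensorProduct.prodLeft R R M (κ →₀ R) N).toLinearMap :=
      TensorProduct.ext' fun u v => by obtain ⟨u₁, u₂⟩ := u; simp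
    intro u v huv
    apply (TensorProduct.prodLeft R R M (κ →₀ R) N).injective
    have h' := LinearMap.congr_fun hcomm u
    have h'' := LinearMap.congr_fun hcomm v
    simp only [LinearMap.comp_apply, LinearEquiv.coe_coe] at h' h''
    rw [huv, h''] at h'
    exact (Function.Injective.prodMap (Module.Flat.lTensor_preserves_injective_linearMap g hg)
      (Module.Flat.lTensor_preserves_injective_linearMap g hg)) h'.symm
  have hfl : ∀ n, Module.Flat (R ⧸ I ^ n) ((M × (κ →₀ R)) ⧸ (I ^ n • ⊤ : Submodule R (M × (κ →₀ R)))) :=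
    fun n => flat_quotient_smul_top _
  obtain ⟨h1, h2⟩ := levels_of_flat x hs hi
  let φ := Finsupp.linearCombination R x
  let e := LinearEquiv.ofBijective (AdicCompletion.map I φ) (map_bijective_of_levels _ h1 h2)
  obtain ⟨ψ, hψ⟩ := Module.projective_lifting_property g ((LinearMap.fst R M (κ →₀ R)).comp φ) hg
  refine ⟨(S9599.result I f g hf hg hfg).1, (S9599.result I f g hf hg hfg).2.1,
    (AdicCompletion.map I ψ).comp (e.symm.toLinearMap.comp (AdicCompletion.map I (LinearMap.inl R M (κ →₀ R)))),
    LinearMap.ext fun v => ?_⟩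
  show AdicCompletion.map I g (AdicCompletion.map I ψ (e.symm _)) = v
  rw [AdicCompletion.map_comp_apply, hψ, ← AdicCompletion.map_comp_apply]
  rw [show AdicCompletion.map I φ (e.symm _) = _ from e.apply_symm_apply _,
    AdicCompletion.map_comp_apply, LinearMap.fst_comp_inl, AdicCompletion.map_id]
  rfl

end Groth.Agent.S9131
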