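import Groth.Statements.S9132
import Groth.Agent.DomDVR.Dominate
-- import your own Groth.Agent.* helpers here

set_option autoImplicit false
universe u
open CAlg

namespace Groth.Agent.S9132

open IsLocalRing nonZeroDivisors


/-- A Noetherian local domain R that is not a field is dominated by a Noetherian local ring R' of
dimension one lying between R and its fraction field, with R' essentially of finite type over R. -/
theorem result (R : Type u) [CommRing R] [IsDomain R]
    [IsNoetherianRing R] [IsLocalRing R] (hR : ¬ IsField R) :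
    ∃ R' : Subalgebra R (FractionRing R), ∃ _ : IsLocalRing R',
      IsNoetherianRing R' ∧ ringKrullDim R' = 1 ∧ IsLocalHom (algebraMap R R') ∧
        Algebra.EssFiniteType R R' := by
  classical
  let K := FractionRing R
  obtain ⟨W, hW, hWl⟩ := IsLocalRing.exists_factor_valuationRing (algebraMap R K)
  obtain ⟨s, hs⟩ := (IsNoetherian.noetherian (maximalIdeal R) : (maximalIdeal R).FG)
  have hne : ∃ x ∈ s, x ≠ (0 : R) := by
    by_contra h
    push Not at h
    refine IsLocalRing.isField_iff_maximalIdeal_eq.not.mp hR ?_
    rw [← hs, Submodule.span_eq_bot]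
    exact h
  obtain ⟨a, has, hmax⟩ := s.exists_max_image (fun x => W.valuation (algebraMap R K x))
    (by obtain ⟨x, hx, -⟩ := hne; exact ⟨x, hx⟩)
  have ha0 : algebraMap R K a ≠ 0 := by
    obtain ⟨x, hx, hx0⟩ := hne
    intro h
    have := hmax x hx
    rw [h, map_zero, le_zero_iff, Valuation.zero_iff] at this
    exact hx0 (IsFractionRing.injective R K (this.trans (map_zero _).symm))
  have ham : a ∈ maximalIdeal R := hs ▸ Submodule.subset_span has
  let R₁ := Algebra.adjoin R ((s.image fun x => algebraMap R K x / algebraMap R K a) : Set K)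
  haveI : IsNoetherianRing R₁ := isNoetherianRing_of_fg (Subalgebra.fg_adjoin_finset _)
  have hR₁ : ∀ x ∈ R₁, x ∈ W := by
    intro x hx
    induction hx using Algebra.adjoin_induction with
    | mem y hy =>
      obtain ⟨z, hz, rfl⟩ := Finset.mem_image.mp hy
      rw [← W.valuation_le_one_iff, map_div₀, div_le_one₀ (zero_lt_iff.mpr ((W.valuation.ne_zero_iff).mpr ha0))]
      exact hmax z hz
    | algebraMap r => exact hW r
    | add x y _ _ hx hy => exact add_mem hx hy
    | mul x y _ _ hx hy => exact mul_mem hx hy
  have haW : algebraMap R K a ∈ W.nonunits := by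
    have : (⟨algebraMap R K a, hW a⟩ : W) ∈ maximalIdeal W :=
      fun h => ham (IsUnit.of_map ((algebraMap R K).codRestrict W.toSubring hW) a h)
    exact ValuationSubring.coe_mem_nonunits_iff.mpr this
  have hI : Ideal.span {algebraMap R R₁ a} ≠ ⊤ := by
    intro h
    obtain ⟨b, hb⟩ := Ideal.mem_span_singleton'.mp (h.ge (Submodule.mem_top : (1 : R₁) ∈ ⊤))
    rw [ValuationSubring.mem_nonunits_iff_or] at haW
    rcases haW with h0 | h0
    · exact ha0 h0
    · apply h0
      have : (b : K) * algebraMap R K a = 1 := congrArg Subtype.val hb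
      rw [← eq_inv_of_mul_eq_one_left this]
      exact hR₁ _ b.2
  obtain ⟨P, hP⟩ := (Ideal.span {algebraMap R R₁ a}).nonempty_minimalPrimes hI
  haveI := hP.1.1
  have haP : algebraMap R R₁ a ∈ P := hP.1.2 (Ideal.mem_span_singleton_self _)
  have hmP : ∀ r ∈ maximalIdeal R, algebraMap R R₁ r ∈ P := by
    intro r hr
    rw [← hs] at hr
    induction hr using Submodule.span_induction with
    | mem x hx =>
      have : algebraMap R R₁ x = ⟨algebraMap R K x / algebraMap R K a,
          Algebra.subset_adjoin (Finset.mem_image_of_mem _ hx)⟩ * algebraMap R R₁ a :=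
        Subtype.ext (div_mul_cancel₀ _ ha0).symm
      rw [this]
      exact P.mul_mem_left _ haP
    | zero => rw [map_zero]; exact P.zero_mem
    | add x y _ _ hx hy => rw [map_add]; exact P.add_mem hx hy
    | smul c x _ hx => rw [smul_eq_mul, map_mul]; exact P.mul_mem_left _ hx
  let T := Localization.subalgebra.ofField K P.primeCompl P.primeCompl_le_nonZeroDivisors
  haveI : IsLocalization.AtPrime T P := Localization.subalgebra.isLocalization_ofField K P.primeCompl _
  haveI : IsLocalRing T := IsLocalization.AtPrime.isLocalRing T P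
  haveI : IsNoetherianRing T := IsLocalization.isNoetherianRing P.primeCompl T inferInstance
  haveI : Ring.KrullDimLE 1 T := by
    rw [Ring.KrullDimLE, Order.krullDimLE_iff]
    show ringKrullDim T ≤ _
    rw [IsLocalization.AtPrime.ringKrullDim_eq_height P T]
    exact_mod_cast Ideal.height_le_one_of_isPrincipal_of_mem_minimalPrimes _ P hP
  have haT : algebraMap R₁ T (algebraMap R R₁ a) ∈ maximalIdeal T :=
    (IsLocalization.AtPrime.to_map_mem_maximal_iff T P _).mpr haP
  have hT : ¬ IsField T := by
    intro h
    rw [IsLocalRing.isField_iff_maximalIdeal_eq.mp h, Submodule.mem_bot] at haT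
    exact ha0 (congrArg Subtype.val haT)
  haveI : Algebra.FiniteType R R₁ := (Subalgebra.fg_iff_finiteType R₁).1 (Subalgebra.fg_adjoin_finset _)
  haveI : Algebra.EssFiniteType R₁ T := Algebra.EssFiniteType.of_isLocalization T P.primeCompl
  haveI : IsScalarTower R R₁ T := IsScalarTower.of_algebraMap_eq fun r => rfl
  haveI : Algebra.EssFiniteType R T := Algebra.EssFiniteType.comp R R₁ T
  refine ⟨T.restrictScalars R, inferInstanceAs (IsLocalRing T), inferInstanceAs (IsNoetherianRing T), ?_, ?_,
    inferInstanceAs (Algebra.EssFiniteType R T)⟩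
  · show ringKrullDim T = 1
    refine le_antisymm ((Order.krullDimLE_iff 1 (PrimeSpectrum T)).1 ‹Ring.KrullDimLE 1 T›) ?_
    by_contra h
    have h0 : ringKrullDim T ≤ 0 := by
      obtain hd | ⟨d, hd⟩ : ringKrullDim T = ⊥ ∨ ∃ d : ℕ∞, ringKrullDim T = d := by
        rcases ringKrullDim T with _ | d
        · exact Or.inl rfl
        · exact Or.inr ⟨d, rfl⟩
      · rw [hd]; exact bot_le
      · rw [hd] at h ⊢
        rw [not_le] at h
        have h1 : d < 1 := by exact_mod_cast h
        rw [ENat.lt_one_iff_eq_zero.1 h1]; rfl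
    haveI : Ring.KrullDimLE 0 T := Ring.krullDimLE_iff.2 (by exact_mod_cast h0)
    exact hT Ring.KrullDimLE.isField_of_isDomain
  · refine ⟨fun r hr => by_contra fun hr' => ?_⟩
    have h := (IsLocalization.AtPrime.to_map_mem_maximal_iff T P _).mpr
      (hmP r ((IsLocalRing.mem_maximalIdeal r).2 hr'))
    exact h hr

end Groth.Agent.S9132
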