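import Groth.Statements.S9135
import Mathlib
import Groth.Agent.GenFin.Algebra

set_option autoImplicit false
universe u
open CAlg

namespace Groth.Agent.S9135

/-- Let R → S be of finite type and p a minimal prime of R over which only finitely many primes of S
lie. Then for some g ∈ R outside p the localized map R_g → S_g is finite. -/
theorem result (R S : Type u) [CommRing R] [CommRing S]
    [Algebra R S] [Algebra.FiniteType R S] (p : Ideal R) (hp : p ∈ minimalPrimes R)
    (hfin : (p.primesOver S).Finite) :
    ∃ g : R, g ∉ p ∧ (Localization.awayMap (algebraMap R S) g).Finite := by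
  obtain ⟨s, hs, H⟩ := Groth.Agent.GenFin.exists_integral_away (A := R) (B := S) p hp hfin
  refine ⟨s, hs, ?_⟩
  let ψ := Localization.awayMap (algebraMap R S) s
  letI : Algebra (Localization.Away s) (Localization.Away (algebraMap R S s)) := ψ.toAlgebra
  haveI : IsScalarTower R (Localization.Away s) (Localization.Away (algebraMap R S s)) := .of_algebraMap_eq fun r => by
    rw [RingHom.algebraMap_toAlgebra]
    refine Eq.trans ?_ (IsLocalization.map_eq _ r).symm
    exact IsScalarTower.algebraMap_apply R S _ r
  haveI := H (Localization.Away s) (Localization.Away (algebraMap R S s))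
  haveI : Algebra.FiniteType R (Localization.Away (algebraMap R S s)) :=
    Algebra.FiniteType.trans (S := S) inferInstance inferInstance
  haveI : Algebra.FiniteType (Localization.Away s) (Localization.Away (algebraMap R S s)) :=
    Algebra.FiniteType.of_restrictScalars_finiteType R _ _
  show ψ.Finite
  exact RingHom.finite_algebraMap.mpr Algebra.IsIntegral.finite

end Groth.Agent.S9135
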