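import Groth.Statements.S9136
import Groth.Agent.DegOrdLib.Basic
import Groth.Agent.S6320
-- import your own Groth.Agent.* helpers here

set_option autoImplicit false
universe u
open CAlg

namespace Groth.Agent.S9136

section

open scoped Pointwise

theorem exists_quot_equiv {A B : Type u} [CommRing A] [CommRing B] [Algebra A B] (x : A) :
    Module.length A (B ⧸ (x • ⊤ : Submodule A B)) =
      Module.length A (B ⧸ Ideal.span {algebraMap A B x}) := by
  have h : (Ideal.span {algebraMap A B x}).restrictScalars A = (x • ⊤ : Submodule A B) := by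
    ext z
    rw [Submodule.restrictScalars_mem, Ideal.mem_span_singleton', Submodule.mem_smul_pointwise_iff_exists]
    constructor
    · rintro ⟨a, rfl⟩; exact ⟨a, trivial, by rw [Algebra.smul_def, mul_comm]⟩
    · rintro ⟨a, -, rfl⟩; exact ⟨a, by rw [Algebra.smul_def, mul_comm]⟩
  exact (LinearEquiv.trans (Submodule.quotEquivOfEq _ _ h.symm)
    (Submodule.Quotient.restrictScalarsEquiv A (Ideal.span {algebraMap A B x}))).length_eq

theorem length_loc_eq {B : Type u} [CommRing B] (m : Ideal B) [m.IsPrime] (I : Ideal B) :
    Module.length (Localization.AtPrime m) (LocalizedModule m.primeCompl (B ⧸ I)) =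
      Module.length (Localization.AtPrime m)
        (Localization.AtPrime m ⧸ I.map (algebraMap B (Localization.AtPrime m))) := by
  have hb := (isLocalizedModule_iff_isBaseChange m.primeCompl (Localization.AtPrime m)
    (LocalizedModule.mkLinearMap m.primeCompl (B ⧸ I))).mp inferInstance
  exact (hb.equiv.symm.trans
    (Algebra.TensorProduct.quotIdealMapEquivTensorQuot (Localization.AtPrime m) I).symm.toLinearEquiv).length_eq

end

/-- Let A ⊆ B be a finite type extension of domains, A Noetherian local of dimension one, with
compatible fraction fields K ⊆ L and L finite over K. Then B has finitely many maximal ideals, and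
for a nonzero x in the maximal ideal of A the sum over the maximal ideals m of B of (length of B/m
over A, i.e. the residue degree) times (length of B_m / x B_m over B_m) is at most the degree of L
over K times the length of A/xA; equality holds exactly when B is a finite A-module. -/
theorem result (A B K L : Type u)
    [CommRing A] [IsDomain A] [IsNoetherianRing A] [IsLocalRing A] (hdim : ringKrullDim A = 1)
    [CommRing B] [IsDomain B] [Algebra A B] [FaithfulSMul A B] [Algebra.FiniteType A B]
    [Field K] [Field L] [Algebra A K] [IsFractionRing A K] [Algebra B L] [IsFractionRing B L]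
    [Algebra K L] [Algebra A L] [IsScalarTower A K L] [IsScalarTower A B L] [FiniteDimensional K L]
    (x : A) (hx : x ∈ IsLocalRing.maximalIdeal A) (hx0 : x ≠ 0) :
    Finite (MaximalSpectrum B) ∧
      (∑ᶠ m : MaximalSpectrum B,
          Module.length A (B ⧸ m.asIdeal) *
            Module.length (Localization.AtPrime m.asIdeal)
              (Localization.AtPrime m.asIdeal ⧸
                Ideal.span ({algebraMap A (Localization.AtPrime m.asIdeal) x} : Set _)) ≤
        (Module.finrank K L : ℕ∞) * Module.length A (A ⧸ Ideal.span ({x} : Set A))) ∧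
      ((∑ᶠ m : MaximalSpectrum B,
          Module.length A (B ⧸ m.asIdeal) *
            Module.length (Localization.AtPrime m.asIdeal)
              (Localization.AtPrime m.asIdeal ⧸
                Ideal.span ({algebraMap A (Localization.AtPrime m.asIdeal) x} : Set _)) =
        (Module.finrank K L : ℕ∞) * Module.length A (A ⧸ Ideal.span ({x} : Set A))) ↔ Module.Finite A B) := by
  haveI : Ring.KrullDimLE 1 A := Ring.krullDimLE_iff.mpr (le_of_eq hdim)
  have hord : Ring.ord A x = Module.length A (A ⧸ Ideal.span ({x} : Set A)) := rfl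
  have hne : Module.length A (A ⧸ Ideal.span ({x} : Set A)) ≠ ⊤ :=
    hord ▸ Ring.ord_ne_top (mem_nonZeroDivisors_of_ne_zero hx0)
  have hle := Groth.Agent.DegOrdLib.length_le (B := B) (K := K) (L := L) x hx0
  have hiff := Groth.Agent.DegOrdLib.length_eq_iff (B := B) (K := K) (L := L) x hdim hx0 hx
  rw [exists_quot_equiv, hord] at hle hiff
  set xB : B := algebraMap A B x with hxB
  have hfinL : IsFiniteLength A (B ⧸ Ideal.span {xB}) := Module.length_ne_top_iff.mp
    (ne_top_of_le_ne_top (WithTop.mul_ne_top (ENat.natCast_ne_top _) hne) hle)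
  haveI hN := (isFiniteLength_iff_isNoetherian_isArtinian.mp hfinL).1
  haveI hAr := (isFiniteLength_iff_isNoetherian_isArtinian.mp hfinL).2
  haveI : IsArtinianRing (B ⧸ Ideal.span {xB}) := isArtinian_of_tower A hAr
  haveI : IsArtinian B (B ⧸ Ideal.span {xB}) := isArtinian_of_tower A hAr
  haveI : IsNoetherian B (B ⧸ Ideal.span {xB}) := isNoetherian_of_tower A hN
  have hmx : ∀ m : MaximalSpectrum B, xB ∉ m.asIdeal → m.asIdeal = ⊥ := by
    intro m hm
    by_contra hne'
    obtain ⟨b, hb, hb0⟩ := Submodule.exists_mem_ne_zero_of_ne_bot hne'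
    have halg : IsAlgebraic A b := by
      have hbL : IsAlgebraic A (algebraMap B L b) :=
        (IsFractionRing.comap_isAlgebraic_iff (A := A) (K := K) (C := L)).mpr inferInstance |>.isAlgebraic _
      exact (isAlgebraic_algebraMap_iff (IsFractionRing.injective B L)).mp hbL
    have h0 : m.asIdeal.comap (algebraMap A B) ≠ ⊥ :=
      Ideal.comap_ne_bot_of_algebraic_mem hb0 hb halg
    haveI := m.isMaximal
    haveI : (m.asIdeal.comap (algebraMap A B)).IsPrime := Ideal.IsPrime.comap _
    haveI : (m.asIdeal.comap (algebraMap A B)).IsMaximal :=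
      Ring.krullDimLE_one_iff_of_noZeroDivisors.mp ‹_› _ h0 inferInstance
    apply hm
    rw [← IsLocalRing.eq_maximalIdeal ‹(m.asIdeal.comap (algebraMap A B)).IsMaximal›] at hx
    exact hx
  haveI hfinM : Finite (MaximalSpectrum B) := by
    have : (Set.univ : Set (MaximalSpectrum B)) ⊆
        {m | xB ∈ m.asIdeal} ∪ {m | m.asIdeal = ⊥} := fun m _ => by
      by_cases h : xB ∈ m.asIdeal
      · exact Or.inl h
      · exact Or.inr (hmx m h)
    refine Set.finite_univ_iff.mp ((Set.Finite.union ?_ ?_).subset this)
    · refine Set.Finite.of_finite_image (f := fun m : MaximalSpectrum B =>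
        (m.asIdeal.map (Ideal.Quotient.mk (Ideal.span {xB})))) ?_ ?_
      · refine ((Set.toFinite (Set.univ : Set (MaximalSpectrum (B ⧸ Ideal.span {xB})))).image
          (fun n => n.asIdeal)).subset ?_
        rintro _ ⟨m, hm, rfl⟩
        haveI := m.isMaximal
        exact ⟨⟨_, Ideal.IsMaximal.map_of_surjective_of_ker_le Ideal.Quotient.mk_surjective
          (by rw [Ideal.mk_ker, Ideal.span_singleton_le_iff_mem]; exact hm)⟩, trivial, rfl⟩
      · intro m hm n hn h
        apply MaximalSpectrum.ext
        have := congrArg (Ideal.comap (Ideal.Quotient.mk (Ideal.span {xB}))) h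
        rwa [Ideal.comap_map_quotientMk, Ideal.comap_map_quotientMk,
          sup_eq_right.mpr ((Ideal.span_singleton_le_iff_mem _).mpr hm),
          sup_eq_right.mpr ((Ideal.span_singleton_le_iff_mem _).mpr hn)] at this
    · exact Set.Subsingleton.finite fun m hm n hn => MaximalSpectrum.ext (hm.trans hn.symm)
  have hsum : (∑ᶠ m : MaximalSpectrum B,
      Module.length A (B ⧸ m.asIdeal) *
        Module.length (Localization.AtPrime m.asIdeal)
          (Localization.AtPrime m.asIdeal ⧸
            Ideal.span ({algebraMap A (Localization.AtPrime m.asIdeal) x} : Set _))) =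
      Module.length A (B ⧸ Ideal.span {xB}) := by
    have hmap : ∀ m : MaximalSpectrum B,
        Ideal.span ({algebraMap A (Localization.AtPrime m.asIdeal) x} : Set _) =
          (Ideal.span {xB}).map (algebraMap B (Localization.AtPrime m.asIdeal)) := fun m => by
      rw [Ideal.map_span, Set.image_singleton, ← IsScalarTower.algebraMap_apply]
    by_cases hfld : ∃ m : MaximalSpectrum B, xB ∉ m.asIdeal
    · obtain ⟨m₀, hm₀⟩ := hfld
      have hbot := hmx m₀ hm₀
      have hfield : IsField B := by
        by_contra hB
        exact Ring.ne_bot_of_isMaximal_of_not_isField m₀.isMaximal hB hbot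
      have hu : IsUnit xB := by
        letI := hfield.toField
        exact isUnit_iff_ne_zero.mpr fun h => hm₀ (h ▸ zero_mem _)
      haveI : Subsingleton (B ⧸ Ideal.span {xB}) :=
        Ideal.Quotient.subsingleton_iff.mpr (Ideal.span_singleton_eq_top.mpr hu)
      rw [Module.length_eq_zero]
      refine finsum_eq_zero_of_forall_eq_zero fun m => ?_
      haveI : Subsingleton (Localization.AtPrime m.asIdeal ⧸
          Ideal.span ({algebraMap A (Localization.AtPrime m.asIdeal) x} : Set _)) := by
        refine Ideal.Quotient.subsingleton_iff.mpr ?_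
        rw [hmap, Ideal.span_singleton_eq_top.mpr hu, Ideal.map_top]
      exact mul_eq_zero_of_right _ Module.length_eq_zero
    push_neg at hfld
    have hover : ∀ n : MaximalSpectrum B, n.asIdeal.comap (algebraMap A B) = IsLocalRing.maximalIdeal A := by
      intro n
      haveI := n.isMaximal
      haveI : (n.asIdeal.comap (algebraMap A B)).IsPrime := Ideal.IsPrime.comap _
      exact IsLocalRing.eq_maximalIdeal (Ring.krullDimLE_one_iff_of_noZeroDivisors.mp ‹_› _
        (fun h => hx0 (by simpa [h] using (Ideal.mem_comap (f := algebraMap A B)).mpr (hfld n))) inferInstance)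
    have hfinA : ∀ n : MaximalSpectrum B, Module.Finite A (B ⧸ n.asIdeal) := by
      intro n
      haveI : Module.Finite A (B ⧸ Ideal.span {xB}) := ⟨hN.noetherian ⊤⟩
      exact Module.Finite.of_surjective
        (Ideal.Quotient.factorₐ A ((Ideal.span_singleton_le_iff_mem (x := xB) n.asIdeal).mpr (hfld n))).toLinearMap
        (Ideal.Quotient.factor_surjective ((Ideal.span_singleton_le_iff_mem (x := xB) n.asIdeal).mpr (hfld n)))
    have hfin : ∀ n : MaximalSpectrum B,
        Module.Finite (A ⧸ n.asIdeal.comap (algebraMap A B)) (B ⧸ n.asIdeal) := fun n => by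
      haveI := hfinA n
      haveI : IsScalarTower A (A ⧸ n.asIdeal.comap (algebraMap A B)) (B ⧸ n.asIdeal) :=
        IsScalarTower.of_algebraMap_eq fun a => rfl
      exact Module.Finite.of_restrictScalars_finite A _ _
    rw [Groth.Agent.S6320.result hover hfin (B ⧸ Ideal.span {xB})
      (isFiniteLength_iff_isNoetherian_isArtinian.mpr ⟨inferInstance, inferInstance⟩)]
    refine finsum_congr fun n => ?_
    rw [length_loc_eq n.asIdeal (Ideal.span {xB}), hmap n]
    congr 1
    haveI : IsScalarTower A (A ⧸ n.asIdeal.comap (algebraMap A B)) (B ⧸ n.asIdeal) :=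
      IsScalarTower.of_algebraMap_eq fun a => rfl
    haveI : (n.asIdeal.comap (algebraMap A B)).IsMaximal := (hover n) ▸ IsLocalRing.maximalIdeal.isMaximal A
    letI := Ideal.Quotient.field (n.asIdeal.comap (algebraMap A B))
    haveI := hfin n
    rw [Module.length_eq_of_surjective (R := A ⧸ n.asIdeal.comap (algebraMap A B)) (M := B ⧸ n.asIdeal)
      (S := A) Ideal.Quotient.mk_surjective]
    exact Module.length_eq_finrank _ _
  refine ⟨hfinM, ?_, ?_⟩
  · rw [hsum]; exact hle
  · rw [hsum]; exact hiff

end Groth.Agent.S9136
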