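import Groth.Statements.S9137
import Mathlib

set_option autoImplicit false
universe u
open CAlg

namespace Groth.Agent.S9137
/-- A point isolated in its fibre is a point of quasi-finiteness. -/
theorem quasiFiniteAt_of_isolated {A B : Type u} [CommRing A] [IsLocalRing A] [CommRing B] [Algebra A B]
    [Algebra.FiniteType A B] (n : Ideal B) [n.IsMaximal]
    (hn : n.comap (algebraMap A B) = IsLocalRing.maximalIdeal A)
    (hmin : ∀ q : Ideal B, q.IsPrime → q.comap (algebraMap A B) = IsLocalRing.maximalIdeal A → q ≤ n → q = n) :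
    Algebra.QuasiFiniteAt A n := by
  refine Algebra.QuasiFiniteAt.of_isOpen_singleton_fiber ⟨n, inferInstance⟩ ?_
  let p := PrimeSpectrum.comap (algebraMap A B) ⟨n, inferInstance⟩
  have hp : p.asIdeal = IsLocalRing.maximalIdeal A := hn
  let e := PrimeSpectrum.preimageHomeomorphFiber A B p
  haveI : IsJacobsonRing (p.asIdeal.Fiber B) :=
    isJacobsonRing_of_finiteType (A := p.asIdeal.ResidueField)
  haveI : IsNoetherianRing (p.asIdeal.Fiber B) :=
    Algebra.FiniteType.isNoetherianRing p.asIdeal.ResidueField _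
  rw [← e.isOpen_image, Set.image_singleton]
  set Q := e ⟨⟨n, inferInstance⟩, rfl⟩ with hQ
  have hmax : ∀ x : PrimeSpectrum (p.asIdeal.Fiber B), Q ≤ x → x = Q := by
    intro x hx
    have hx' : (PrimeSpectrum.preimageOrderIsoFiber A B p).symm Q ≤
        (PrimeSpectrum.preimageOrderIsoFiber A B p).symm x :=
      (PrimeSpectrum.preimageOrderIsoFiber A B p).symm.le_iff_le.mpr hx
    rw [hQ, show (PrimeSpectrum.preimageOrderIsoFiber A B p).symm (e _) = _ from
      e.symm_apply_apply _] at hx'
    apply e.symm.injective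
    rw [hQ, e.symm_apply_apply]
    apply Subtype.ext
    apply PrimeSpectrum.ext
    exact ((‹n.IsMaximal›).eq_of_le ((e.symm x).1.isPrime.ne_top) hx').symm
  have hmin' : ∀ x : PrimeSpectrum (p.asIdeal.Fiber B), x ≤ Q → x = Q := by
    intro x hx
    have hx' : (PrimeSpectrum.preimageOrderIsoFiber A B p).symm x ≤
        (PrimeSpectrum.preimageOrderIsoFiber A B p).symm Q :=
      (PrimeSpectrum.preimageOrderIsoFiber A B p).symm.le_iff_le.mpr hx
    rw [hQ, show (PrimeSpectrum.preimageOrderIsoFiber A B p).symm (e _) = _ from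
      e.symm_apply_apply _] at hx'
    apply e.symm.injective
    rw [hQ, e.symm_apply_apply]
    apply Subtype.ext
    apply PrimeSpectrum.ext
    refine hmin _ (e.symm x).1.isPrime ?_ hx'
    exact (congrArg PrimeSpectrum.asIdeal (e.symm x).2).trans hn
  refine ((PrimeSpectrum.isOpen_singleton_tfae_of_isNoetherian_of_isJacobsonRing Q).out 0 2).mpr ?_
  refine ⟨(PrimeSpectrum.isClosed_singleton_iff_isMaximal Q).mpr
    (PrimeSpectrum.isMax_iff.mp fun x hx => (hmax x hx).le), fun x y hxy hx => ?_⟩
  obtain rfl := Set.mem_singleton_iff.mp hx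
  exact hmin' y ((PrimeSpectrum.le_iff_specializes y Q).mpr hxy)



/-- Let R → S be a local ring homomorphism between local rings, essentially of finite type, such that
the residue field of S is finite over that of R and S/m_R S has dimension zero. Then S is, as an
R-algebra, the localization of a finite R-algebra at a prime. -/
theorem result (R S : Type u) [CommRing R] [CommRing S]
    [IsLocalRing R] [IsLocalRing S] [Algebra R S] [IsLocalHom (algebraMap R S)]
    [Algebra.EssFiniteType R S]
    (hres : Module.Finite (IsLocalRing.ResidueField R) (IsLocalRing.ResidueField S))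
    (hdim : ringKrullDim (S ⧸ (IsLocalRing.maximalIdeal R).map (algebraMap R S)) = 0) :
    ∃ (S' : Type u) (_ : CommRing S') (_ : Algebra R S') (_ : Algebra S' S) (_ : IsScalarTower R S' S)
      (q : Ideal S') (_ : q.IsPrime), Module.Finite R S' ∧ IsLocalization.AtPrime S q := by
  let A := Algebra.EssFiniteType.subalgebra R S
  let q : Ideal A := (IsLocalRing.maximalIdeal S).comap (algebraMap A S)
  have hM : Algebra.EssFiniteType.submonoid R S = q.primeCompl := by
    ext a
    show IsUnit (algebraMap A S a) ↔ ¬ algebraMap A S a ∈ IsLocalRing.maximalIdeal S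
    rw [IsLocalRing.mem_maximalIdeal]
    exact not_not.symm
  haveI hloc : IsLocalization.AtPrime S q := by
    show IsLocalization q.primeCompl S
    rw [← hM]
    infer_instance
  haveI : Algebra.FiniteType R A := A.fg_iff_finiteType.mp (Subalgebra.fg_adjoin_finset _)
  have hqR : q.comap (algebraMap R A) = IsLocalRing.maximalIdeal R := by
    rw [Ideal.comap_comap, ← IsScalarTower.algebraMap_eq]
    exact IsLocalRing.maximalIdeal_comap _
  haveI : q.IsMaximal := by
    let φ : A ⧸ q →ₐ[R] IsLocalRing.ResidueField S := Ideal.Quotient.liftₐ q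
      ((IsScalarTower.toAlgHom R S _).comp (IsScalarTower.toAlgHom R A S))
      (fun a ha => Ideal.Quotient.eq_zero_iff_mem.mpr ha)
    have hφ : Function.Injective φ :=
      (injective_iff_map_eq_zero φ).mpr fun z hz => by
        obtain ⟨a, rfl⟩ := Ideal.Quotient.mk_surjective z
        exact Ideal.Quotient.eq_zero_iff_mem.mpr (Ideal.Quotient.eq_zero_iff_mem.mp hz :
          algebraMap A S a ∈ IsLocalRing.maximalIdeal S)
    haveI : Module.Finite (IsLocalRing.ResidueField R) (IsLocalRing.ResidueField S) := hres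
    haveI : Module.Finite R (IsLocalRing.ResidueField R) :=
      Module.Finite.of_surjective (Algebra.linearMap R _) Ideal.Quotient.mk_surjective
    haveI : Module.Finite R (IsLocalRing.ResidueField S) :=
      Module.Finite.trans (IsLocalRing.ResidueField R) _
    haveI : Algebra.IsIntegral R (A ⧸ q) :=
      ⟨fun z => (isIntegral_algHom_iff φ hφ).mp (Algebra.IsIntegral.isIntegral (φ z))⟩
    have hb : (⊥ : Ideal (A ⧸ q)).IsMaximal := by
      refine Ideal.isMaximal_of_isIntegral_of_isMaximal_comap (R := R) ⊥ ?_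
      have h0 : (⊥ : Ideal (A ⧸ q)).comap (algebraMap R (A ⧸ q)) = IsLocalRing.maximalIdeal R := by
        rw [← hqR, IsScalarTower.algebraMap_eq R A (A ⧸ q), ← Ideal.comap_comap]
        congr 1
        exact Ideal.mk_ker
      rw [h0]; infer_instance
    exact Ideal.Quotient.maximal_of_isField q (Ring.isField_iff_maximal_bot.mpr hb)
  haveI : Algebra.QuasiFiniteAt R q := by
    refine quasiFiniteAt_of_isolated q hqR fun q₀ hq₀ hq₀R hle => ?_
    have hd : Disjoint (q.primeCompl : Set A) q₀ :=
      Set.disjoint_left.mpr fun x hx hx' => hx (hle hx')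
    have hP : (q₀.map (algebraMap A S)).IsPrime :=
      IsLocalization.isPrime_of_isPrime_disjoint q.primeCompl S q₀ hq₀ hd
    have hmle : (IsLocalRing.maximalIdeal R).map (algebraMap R S) ≤ q₀.map (algebraMap A S) := by
      rw [IsScalarTower.algebraMap_eq R A S, ← Ideal.map_map]
      exact Ideal.map_mono (Ideal.map_le_iff_le_comap.mpr hq₀R.ge)
    haveI : Ring.KrullDimLE 0 (S ⧸ (IsLocalRing.maximalIdeal R).map (algebraMap R S)) :=
      Ring.krullDimLE_iff.mpr hdim.le
    have hmax : (q₀.map (algebraMap A S)).IsMaximal := by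
      haveI := Ideal.map_isPrime_of_surjective (Ideal.Quotient.mk_surjective
        (I := (IsLocalRing.maximalIdeal R).map (algebraMap R S))) (I := q₀.map (algebraMap A S))
        (by rw [Ideal.mk_ker]; exact hmle)
      have h1 : ((q₀.map (algebraMap A S)).map
          (Ideal.Quotient.mk ((IsLocalRing.maximalIdeal R).map (algebraMap R S)))).IsMaximal :=
        Ideal.IsPrime.isMaximal' this
      have h2 := Ideal.comap_isMaximal_of_surjective (K := _) _ Ideal.Quotient.mk_surjective (H := h1)
      rwa [Ideal.comap_map_of_surjective _ Ideal.Quotient.mk_surjective, ← RingHom.ker_eq_comap_bot,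
        Ideal.mk_ker, sup_eq_left.mpr hmle] at h2
    show q₀ = (IsLocalRing.maximalIdeal S).comap (algebraMap A S)
    rw [← IsLocalRing.eq_maximalIdeal hmax]
    exact (IsLocalization.comap_map_of_isPrime_disjoint q.primeCompl S hq₀ hd).symm
  obtain ⟨S₂, hS₂, r, hr, H⟩ :=
    Algebra.QuasiFiniteAt.exists_fg_and_exists_notMem_and_awayMap_bijective (R := R) q
  haveI : Module.Finite R S₂ := ⟨(Submodule.fg_top _).mpr hS₂⟩
  have hpow : ∀ a : A, ∃ (k : ℕ) (s : S₂), s.1 = r.1 ^ k * a := by
    intro a
    obtain ⟨z, hz⟩ := H.2 (algebraMap A _ a)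
    obtain ⟨s, ⟨_, k, rfl⟩, rfl⟩ := IsLocalization.exists_mk'_eq (.powers r) z
    rw [Localization.awayMap, IsLocalization.Away.map, IsLocalization.map_mk',
      IsLocalization.mk'_eq_iff_eq_mul, ← map_mul,
      IsLocalization.eq_iff_exists (.powers (S₂.val.toRingHom r))] at hz
    obtain ⟨⟨_, l, rfl⟩, hl⟩ := hz
    refine ⟨l + k, r ^ l * s, ?_⟩
    have hl' : r.1 ^ l * s.1 = r.1 ^ l * (a * r.1 ^ k) := by simpa using hl
    show (r ^ l * s : S₂).1 = _
    push_cast
    rw [hl', pow_add]
    ring
  let alg : Algebra S₂ S := ((algebraMap A S).comp S₂.val.toRingHom).toAlgebra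
  letI := alg
  haveI tower : IsScalarTower R S₂ S := .of_algebraMap_eq fun x => by
    show algebraMap R S x = algebraMap A S (algebraMap R A x)
    exact IsScalarTower.algebraMap_apply R A S x
  let q₂ : Ideal S₂ := q.comap S₂.val.toRingHom
  refine ⟨S₂, inferInstance, inferInstance, alg, tower, q₂, inferInstance, inferInstance, ?_⟩
  have halg : ∀ s : S₂, algebraMap S₂ S s = algebraMap A S s.1 := fun s => rfl
  have hrq : ∀ k : ℕ, r.1 ^ k ∉ q := fun k h => hr (Ideal.IsPrime.mem_of_pow_mem inferInstance k h)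
  refine (isLocalization_iff _ _).mpr
    ⟨fun y => by rw [halg]; exact IsLocalization.map_units S (⟨y.1.1, y.2⟩ : q.primeCompl),
      fun z => ?_, fun {s₁ s₂} he => ?_⟩
  · obtain ⟨⟨a, t⟩, hat⟩ := IsLocalization.surj q.primeCompl z
    obtain ⟨k, sa, hsa⟩ := hpow a
    obtain ⟨l, st, hst⟩ := hpow t.1
    refine ⟨⟨r ^ l * sa, ⟨r ^ k * st, ?_⟩⟩, ?_⟩
    · show ((r ^ k * st : S₂).1) ∉ q
      push_cast
      rw [hst]
      exact q.primeCompl.mul_mem (hrq k) (q.primeCompl.mul_mem (hrq l) t.2)
    · show z * algebraMap A S (r.1 ^ k * st.1) = algebraMap A S (r.1 ^ l * sa.1)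
      rw [hst, hsa, map_mul, map_mul, map_mul, map_mul, ← hat]
      ring
  · rw [halg, halg, IsLocalization.eq_iff_exists q.primeCompl] at he
    obtain ⟨c, hc⟩ := he
    obtain ⟨k, sc, hsc⟩ := hpow c.1
    refine ⟨⟨sc, ?_⟩, ?_⟩
    · show sc.1 ∉ q
      rw [hsc]
      exact q.primeCompl.mul_mem (hrq k) c.2
    · apply Subtype.ext
      show sc.1 * s₁.1 = sc.1 * s₂.1
      rw [hsc, mul_assoc, hc, mul_assoc]

end Groth.Agent.S9137
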