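import Groth.Statements.S9139
import Mathlib

set_option autoImplicit false
universe u
open CAlg

namespace Groth.Agent.S9139

/-- Let I be a locally nilpotent ideal of a ring R (every element of I is nilpotent) and S → S' a map of
R-algebras with S' of finite type over R. If S → S'/IS' is surjective then so is S → S'. -/
theorem result (R S S' : Type u) [CommRing R] [CommRing S]
    [CommRing S'] [Algebra R S] [Algebra R S'] [Algebra.FiniteType R S'] (I : Ideal R)
    (hI : ∀ x ∈ I, IsNilpotent x) (f : S →ₐ[R] S')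
    (hf : Function.Surjective ((Ideal.Quotient.mk (I.map (algebraMap R S'))).comp f.toRingHom)) :
    Function.Surjective f := by
  classical
  obtain ⟨G, hG⟩ := Algebra.FiniteType.out (R := R) (A := S')
  let T := f.range
  have hdec : ∀ g : S', ∃ J : Ideal R, J.FG ∧ J ≤ I ∧ ∃ t ∈ T, g - t ∈ J.map (algebraMap R S') := by
    intro g
    obtain ⟨s, hs⟩ := hf (Ideal.Quotient.mk _ g)
    have hmem : g - f s ∈ I.map (algebraMap R S') := Ideal.Quotient.eq.mp hs.symm
    obtain ⟨s₀, hs₀, hmem'⟩ := Submodule.mem_span_finite_of_mem_span (hmem : g - f s ∈ Submodule.span S' (algebraMap R S' '' (I : Set R)))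
    obtain ⟨F, hF, hF'⟩ := Finset.subset_set_image_iff.mp hs₀
    refine ⟨Ideal.span F, ⟨F, rfl⟩, Ideal.span_le.mpr hF, f s, ⟨s, rfl⟩, ?_⟩
    rw [Ideal.map_span, ← Finset.coe_image, hF']
    exact hmem'
  choose J hJ hJI t ht hgt using hdec
  let K : Ideal R := G.sup J
  have hK : K.FG := Finset.sup_induction Submodule.fg_bot (fun a ha b hb => Submodule.FG.sup ha hb) (fun g _ => hJ g)
  obtain ⟨n, hn⟩ : ∃ n, K ^ n = ⊥ := (Ideal.FG.isNilpotent_iff_le_nilradical hK).mpr
    ((Finset.sup_le fun g _ => hJI g).trans fun x hx => hI x hx)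
  let K' := K.map (algebraMap R S')
  have key : ∀ x : S', ∃ y ∈ T, x - y ∈ K' := by
    intro x
    have hx : x ∈ Algebra.adjoin R (G : Set S') := hG ▸ trivial
    induction hx using Algebra.adjoin_induction with
    | mem g hg => exact ⟨t g, ht g, Ideal.map_mono (Finset.le_sup hg) (hgt g)⟩
    | algebraMap r => exact ⟨_, T.algebraMap_mem r, by simp⟩
    | add a b _ _ ha hb =>
      obtain ⟨ya, h1, h2⟩ := ha
      obtain ⟨yb, h3, h4⟩ := hb
      exact ⟨ya + yb, add_mem h1 h3, by rw [add_sub_add_comm]; exact add_mem h2 h4⟩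
    | mul a b _ _ ha hb =>
      obtain ⟨ya, h1, h2⟩ := ha
      obtain ⟨yb, h3, h4⟩ := hb
      refine ⟨ya * yb, mul_mem h1 h3, ?_⟩
      rw [show a * b - ya * yb = (a - ya) * b + ya * (b - yb) by ring]
      exact add_mem (K'.mul_mem_right _ h2) (K'.mul_mem_left _ h4)
  have step : ∀ m (x : S'), x ∈ (K ^ m) • (⊤ : Submodule R S') → ∃ y ∈ T, x - y ∈ (K ^ (m+1)) • (⊤ : Submodule R S') := by
    intro m x hx
    refine Submodule.smul_induction_on hx (fun r hr z _ => ?_) (fun a b ha hb => ?_)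
    · obtain ⟨y, hy, hy'⟩ := key z
      refine ⟨r • y, T.smul_mem hy r, ?_⟩
      rw [← smul_sub, pow_succ, Submodule.mul_smul]
      exact Submodule.smul_mem_smul hr (by rw [Ideal.smul_top_eq_map]; exact hy')
    · obtain ⟨ya, h1, h2⟩ := ha
      obtain ⟨yb, h3, h4⟩ := hb
      exact ⟨ya + yb, add_mem h1 h3, by rw [add_sub_add_comm]; exact add_mem h2 h4⟩
  have all : ∀ m, ∀ x : S', ∃ y ∈ T, x - y ∈ (K ^ m) • (⊤ : Submodule R S') := by
    intro m
    induction m with
    | zero => exact fun x => ⟨0, T.zero_mem, by rw [pow_zero, Ideal.one_eq_top, Submodule.top_smul]; trivial⟩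
    | succ m ih =>
      intro x
      obtain ⟨y, hy, hy'⟩ := ih x
      obtain ⟨z, hz, hz'⟩ := step m _ hy'
      exact ⟨y + z, add_mem hy hz, by rw [← sub_sub]; exact hz'⟩
  intro x
  obtain ⟨y, hy, hy'⟩ := all n x
  rw [hn, Submodule.bot_smul, Submodule.mem_bot, sub_eq_zero] at hy'
  exact hy' ▸ hy

end Groth.Agent.S9139
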