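import Groth.Statements.S9140
import Mathlib

set_option autoImplicit false
universe u
open CAlg

namespace Groth.Agent.S9140

/-- Let I be a locally nilpotent ideal of a ring R and S → S' a map of R-algebras with S of finite type
over R and S' of finite presentation and flat over R. If the induced map S/IS → S'/IS' is bijective
(stated as: S → S'/IS' is surjective with kernel IS), then S → S' is bijective. -/
theorem result (R S S' : Type u)
    [CommRing R] [CommRing S] [CommRing S'] [Algebra R S] [Algebra R S'] [Algebra.FiniteType R S]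
    [Algebra.FinitePresentation R S'] [Module.Flat R S'] (I : Ideal R) (hI : ∀ x ∈ I, IsNilpotent x)
    (f : S →ₐ[R] S')
    (hsurj : Function.Surjective ((Ideal.Quotient.mk (I.map (algebraMap R S'))).comp f.toRingHom))
    (hker : ∀ s : S, f s ∈ I.map (algebraMap R S') → s ∈ I.map (algebraMap R S)) :
    Function.Bijective f := by
  classical
  have hnil : ∀ (T : Type u) [CommRing T] [Algebra R T], I.map (algebraMap R T) ≤ Ideal.jacobson ⊥ := fun T _ _ =>
    (show I.map (algebraMap R T) ≤ nilradical T from Ideal.map_le_iff_le_comap.mpr fun x hx => ((hI x hx).map (algebraMap R T) : algebraMap R T x ∈ nilradical T)).trans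
      (Ideal.radical_le_jacobson (I := ⊥))
  -- surjectivity
  obtain ⟨G, hG⟩ := (Algebra.FiniteType.out : (⊤ : Subalgebra R S').FG)
  have hx : ∀ x : S', ∃ T : Finset R, (∀ a ∈ T, a ∈ I) ∧ ∃ s : S, x - f s ∈ (Ideal.span (T : Set R)).map (algebraMap R S') := fun x => by
    obtain ⟨s, hs⟩ := hsurj (Ideal.Quotient.mk _ x)
    have h1 : x - f s ∈ I.map (algebraMap R S') := Ideal.Quotient.eq.mp hs.symm
    obtain ⟨T, hT, hmem⟩ := Submodule.mem_span_finite_of_mem_span h1
    choose g hg using fun y (hy : y ∈ (T : Set S')) => hT hy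
    refine ⟨T.attach.image fun y => g y.1 y.2, fun a ha => ?_, s, ?_⟩
    · obtain ⟨y, -, rfl⟩ := Finset.mem_image.mp ha
      exact (hg y.1 y.2).1
    · refine (Ideal.span_le.mpr fun y hy => ?_ : Ideal.span (T : Set S') ≤ _) hmem
      rw [SetLike.mem_coe, ← (hg y hy).2]
      exact Ideal.mem_map_of_mem _ (Ideal.subset_span (Finset.mem_image.mpr ⟨⟨y, hy⟩, Finset.mem_attach _ _, rfl⟩))
  choose T hT s hs using hx
  let J : Ideal R := Ideal.span (G.biUnion T : Set R)
  have hJI : J ≤ I := Ideal.span_le.mpr fun a ha => by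
    obtain ⟨x, -, ha⟩ := Finset.mem_biUnion.mp (Finset.mem_coe.mp ha)
    exact hT x a ha
  have hJ : IsNilpotent J := (Ideal.FG.isNilpotent_iff_le_nilradical (Submodule.fg_span (G.biUnion T).finite_toSet)).mpr
    fun a ha => hI a (hJI ha)
  let A' : Subalgebra R S' :=
    { carrier := {x | ∃ s, x - f s ∈ J.map (algebraMap R S')}
      mul_mem' := fun {x y} ⟨a, ha⟩ ⟨b, hb⟩ => ⟨a * b, by
        rw [map_mul, show x * y - f a * f b = (x - f a) * y + f a * (y - f b) by ring]
        exact add_mem (Ideal.mul_mem_right _ _ ha) (Ideal.mul_mem_left _ _ hb)⟩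
      add_mem' := fun {x y} ⟨a, ha⟩ ⟨b, hb⟩ => ⟨a + b, by
        rw [map_add, show x + y - (f a + f b) = (x - f a) + (y - f b) by ring]
        exact add_mem ha hb⟩
      algebraMap_mem' := fun r => ⟨algebraMap R S r, by rw [f.commutes, sub_self]; exact zero_mem _⟩ }
  have htop : ∀ x : S', x ∈ A' := fun x => by
    refine (hG.ge.trans (Algebra.adjoin_le ?_)) Algebra.mem_top
    intro g hg
    exact ⟨s g, Ideal.map_mono (Ideal.span_mono (Finset.coe_subset.mpr (Finset.subset_biUnion_of_mem T hg))) (hs g)⟩
  have hpow : ∀ n : ℕ, (⊤ : Submodule R S') ≤ LinearMap.range f.toLinearMap ⊔ J ^ n • ⊤ := by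
    intro n
    induction n with
    | zero => rw [pow_zero, Ideal.one_eq_top, Submodule.top_smul]; exact le_sup_right
    | succ n ih =>
      refine ih.trans (sup_le le_sup_left ?_)
      refine Submodule.smul_le.mpr fun a ha x _ => ?_
      obtain ⟨t, ht⟩ := htop x
      rw [show x = f t + (x - f t) by ring, smul_add]
      refine add_mem (Submodule.mem_sup_left ⟨a • t, by simp⟩) (Submodule.mem_sup_right ?_)
      rw [pow_succ, Submodule.mul_smul]
      refine Submodule.smul_mem_smul ha ?_
      rw [Ideal.smul_top_eq_map]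
      exact ht
  obtain ⟨n, hn⟩ := hJ
  have hsurj' : Function.Surjective f := fun x => by
    have := hpow n (Submodule.mem_top (x := x))
    rw [hn, Ideal.zero_eq_bot, Submodule.bot_smul, sup_bot_eq] at this
    exact this
  -- injectivity
  refine ⟨?_, hsurj'⟩
  have hKfg : (RingHom.ker f.toRingHom).FG := by
    obtain ⟨m, g, hg⟩ := Algebra.FiniteType.iff_quotient_mvPolynomial''.1 (inferInstance : Algebra.FiniteType R S)
    have := (Algebra.FinitePresentation.ker_fG_of_surjective (f.comp g) (hsurj'.comp hg)).map g.toRingHom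
    rwa [show RingHom.ker (f.comp g).toRingHom = Ideal.comap g.toRingHom (RingHom.ker f.toRingHom) from rfl,
      Ideal.map_comap_of_surjective g.toRingHom hg] at this
  have hK : RingHom.ker f.toRingHom ≤ I.map (algebraMap R S) * RingHom.ker f.toRingHom := by
    intro k hk
    have h1 : k ∈ (I • ⊤ : Submodule R S) := by
      rw [Ideal.smul_top_eq_map]
      exact hker k ((show f k = 0 from hk).symm ▸ zero_mem _)
    rw [show (⊤ : Submodule R S) = Submodule.span R (Set.range (id : S → S)) by rw [Set.range_id, Submodule.span_univ],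
      Submodule.mem_ideal_smul_span_iff_exists_sum] at h1
    obtain ⟨a₀, ha₀, rfl⟩ := h1
    let a : a₀.support → R := fun i => a₀ i.1
    let x : a₀.support → S := fun i => i.1
    have ha : ∀ i, a i ∈ I := fun i => ha₀ i.1
    have hsum : (a₀.sum fun i c => c • id i) = ∑ i, a i • x i :=
      (Finset.sum_coe_sort a₀.support fun i => a₀ i • i).symm
    rw [hsum] at hk ⊢
    have h2 : ∑ i, a i • f (x i) = 0 := by
      have : f (∑ i, a i • x i) = 0 := hk
      simpa using this
    obtain ⟨κ, c, y, hy, hc⟩ := Module.Flat.isTrivialRelation_of_sum_smul_eq_zero (R := R) (M := S') h2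
    choose t ht using fun j => hsurj' (y j)
    have h3 : ∑ i, a i • x i = ∑ i, a i • (x i - ∑ j, c i j • t j) := by
      simp only [smul_sub, Finset.sum_sub_distrib, Finset.smul_sum, smul_smul]
      rw [Finset.sum_comm]
      simp only [← Finset.sum_smul, hc, zero_smul, Finset.sum_const_zero, sub_zero]
    rw [h3]
    refine Submodule.sum_mem _ fun i _ => ?_
    rw [Algebra.smul_def]
    refine Ideal.mul_mem_mul (Ideal.mem_map_of_mem _ (ha i)) ?_
    show f (x i - ∑ j, c i j • t j) = 0
    simp only [map_sub, map_sum, map_smul, ht]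
    exact sub_eq_zero.mpr (hy i)
  have hbot := Submodule.eq_bot_of_le_smul_of_le_jacobson_bot _ _ hKfg hK (hnil S)
  exact (injective_iff_map_eq_zero f).mpr fun k hk => (Submodule.mem_bot S).mp (hbot.le hk)

end Groth.Agent.S9140
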