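import Groth.Statements.S9143
import Groth.Agent.CILib.LCIPoint

set_option autoImplicit false
universe u
open Synt

namespace Groth.Agent.S9143

theorem equiv_atPrime {k S A : Type u} [Field k] [CommRing S] [Algebra k S] [CommRing A] [Algebra k A] {n : ℕ}
    (φ : MvPolynomial (Fin n) k →ₐ[k] A) (hφ : Function.Surjective φ) (a : Ideal A) [a.IsPrime]
    (Q : Ideal (MvPolynomial (Fin n) k)) [Q.IsPrime] (hQ : a.comap φ.toRingHom = Q)
    (π : Localization.AtPrime Q →ₐ[k] S) (hπ : Function.Surjective π)
    (hk : (RingHom.ker φ.toRingHom).map (algebraMap _ (Localization.AtPrime Q)) = RingHom.ker π.toRingHom) :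
    Nonempty (S ≃ₐ[k] Localization.AtPrime a) := by
  subst hQ
  have hk' : RingHom.ker (Groth.Agent.CILib.atPrimeMap φ a).toRingHom = RingHom.ker π.toRingHom :=
    (Groth.Agent.CMGraded.ker_localRingHom hφ _ a rfl).trans hk
  exact ⟨((Ideal.quotientKerAlgEquivOfSurjective hπ).symm.trans (Ideal.quotientEquivAlgOfEq k hk'.symm)).trans
    (Ideal.quotientKerAlgEquivOfSurjective (Groth.Agent.CILib.atPrimeMap_surjective φ hφ a))⟩

theorem globalNbhd (k S : Type u) [Field k] [CommRing S]
    [IsLocalRing S] [Algebra k S] [Algebra.EssFiniteType k S] (h : Synt.IsCIOver k S) :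
    ∃ (A : Type u) (_ : CommRing A) (_ : Algebra k A) (a : Ideal A) (_ : a.IsPrime),
      Algebra.FiniteType k A ∧ Synt.IsGlobalCI k A ∧ Nonempty (S ≃ₐ[k] Localization.AtPrime a) := by
  obtain ⟨n, Q, _, π, hπ⟩ := Groth.Agent.CILib.exists_regular_presentation (k := k) (S := S)
  let J := RingHom.ker π.toRingHom
  let I : Ideal (MvPolynomial (Fin n) k) := J.comap (algebraMap _ (Localization.AtPrime Q))
  have hJI : I.map (algebraMap _ (Localization.AtPrime Q)) = J := IsLocalization.map_under Q.primeCompl _ J
  have hIQ : I ≤ Q := by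
    intro x hx
    have : algebraMap _ (Localization.AtPrime Q) x ∈ IsLocalRing.maximalIdeal (Localization.AtPrime Q) :=
      IsLocalRing.le_maximalIdeal (RingHom.ker_ne_top π.toRingHom) hx
    exact (IsLocalization.AtPrime.to_map_mem_maximal_iff (Localization.AtPrime Q) Q x).1 this
  let A := MvPolynomial (Fin n) k ⧸ I
  let a : Ideal A := Q.map (Ideal.Quotient.mk I)
  haveI : a.IsPrime := Ideal.map_isPrime_of_surjective Ideal.Quotient.mk_surjective (by rw [Ideal.mk_ker]; exact hIQ)
  let φ : MvPolynomial (Fin n) k →ₐ[k] A := Ideal.Quotient.mkₐ k I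
  have hφ : Function.Surjective φ := Ideal.Quotient.mk_surjective
  have hQ : a.comap φ.toRingHom = Q := by
    show (Q.map (Ideal.Quotient.mk I)).comap (Ideal.Quotient.mk I) = Q
    rw [Ideal.comap_map_of_surjective' _ Ideal.Quotient.mk_surjective, Ideal.mk_ker, sup_eq_left.2 hIQ]
  haveI : (a.comap φ.toRingHom).IsPrime := Ideal.IsPrime.comap _
  obtain ⟨e₀⟩ : Nonempty (S ≃ₐ[k] Localization.AtPrime a) :=
    equiv_atPrime φ hφ a Q hQ π hπ (by
      show Ideal.map _ (RingHom.ker (Ideal.Quotient.mk I)) = _
      rw [Ideal.mk_ker, hJI])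
  haveI : Algebra.FiniteType k A := Algebra.FiniteType.of_surjective φ hφ
  obtain ⟨g, hg, hci⟩ := Groth.Agent.CILib.exists_away_of_isCIOver a (Groth.Agent.CILib.isCIOver_congr e₀ h)
  let T := Localization.Away g
  have hd : Disjoint (Submonoid.powers g : Set A) a := Set.disjoint_left.2 fun x ⟨m, hm⟩ hx =>
    hg (‹a.IsPrime›.mem_of_pow_mem m (show g ^ m ∈ a by rwa [show g ^ m = x from hm]))
  haveI : (a.map (algebraMap A T)).IsPrime := IsLocalization.isPrime_of_isPrime_disjoint _ T a ‹_› hd
  have hc : (a.map (algebraMap A T)).comap (algebraMap A T) = a :=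
    IsLocalization.comap_map_of_isPrime_disjoint (Submonoid.powers g) T ‹_› hd
  haveI : ((a.map (algebraMap A T)).comap (algebraMap A T)).IsPrime := Ideal.IsPrime.comap _
  haveI : IsLocalization.AtPrime (Localization.AtPrime (a.map (algebraMap A T))) a := by
    have := IsLocalization.isLocalization_isLocalization_atPrime_isLocalization (Submonoid.powers g)
      (Localization.AtPrime (a.map (algebraMap A T))) (a.map (algebraMap A T))
    convert this
    exact hc.symm
  exact ⟨T, inferInstance, inferInstance, a.map (algebraMap A T), inferInstance,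
    Groth.Agent.CILib.finiteType_of_isGlobalCI hci, hci,
    ⟨e₀.trans ((IsLocalization.algEquiv a.primeCompl (Localization.AtPrime a)
      (Localization.AtPrime (a.map (algebraMap A T)))).restrictScalars k)⟩⟩


/-- For a local k-algebra S which is essentially of finite type over a field k, being a complete
intersection over k is equivalent to each of: (2) whenever a regular local ring R, essentially of
finite type over k, maps onto S by a surjective k-algebra map, the kernel is generated by a regular
sequence; (3) some regular local ring R, essentially of finite type over k, maps onto S by a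
surjective k-algebra map whose kernel is generated by a list of dim R − dim S elements (stated as
dim R = dim S + the length of the list); (4) S is isomorphic over k to a localization at a prime of
a global complete intersection over k; (5) the same with a local complete intersection over k. -/
theorem result (k S : Type u) [Field k] [CommRing S]
    [IsLocalRing S] [Algebra k S] [Algebra.EssFiniteType k S] :
    (Synt.IsCIOver k S ↔
        ∀ (R : Type u) [CommRing R] [IsRegularLocalRing R] [Algebra k R], Algebra.EssFiniteType k R →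
          ∀ π : R →ₐ[k] S, Function.Surjective π →
            ∃ rs : List R, RingTheory.Sequence.IsRegular R rs ∧ RingHom.ker π.toRingHom = Ideal.ofList rs) ∧
      (Synt.IsCIOver k S ↔
        ∃ (R : Type u) (_ : CommRing R) (_ : IsRegularLocalRing R) (_ : Algebra k R),
          Algebra.EssFiniteType k R ∧ ∃ π : R →ₐ[k] S, Function.Surjective π ∧
            ∃ rs : List R, RingHom.ker π.toRingHom = Ideal.ofList rs ∧
              ringKrullDim R = ringKrullDim S + (rs.length : WithBot ℕ∞)) ∧
      (Synt.IsCIOver k S ↔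
        ∃ (A : Type u) (_ : CommRing A) (_ : Algebra k A) (a : Ideal A) (_ : a.IsPrime),
          Algebra.FiniteType k A ∧ Synt.IsGlobalCI k A ∧ Nonempty (S ≃ₐ[k] Localization.AtPrime a)) ∧
      (Synt.IsCIOver k S ↔
        ∃ (A : Type u) (_ : CommRing A) (_ : Algebra k A) (a : Ideal A) (_ : a.IsPrime),
          Synt.IsLCIOver k A ∧ Nonempty (S ≃ₐ[k] Localization.AtPrime a)) := by
  refine ⟨⟨fun h R _ _ _ hR π hπ => ?_, fun h => ?_⟩, ⟨fun h => ?_, ?_⟩, ⟨fun h => ?_, ?_⟩, ⟨fun h => ?_, ?_⟩⟩
  · obtain ⟨rs, h1, h2⟩ := Groth.Agent.CILib.isRegular_of_cutBy π.toRingHom hπ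
      ((Groth.Agent.CILib.isCIOver_iff_cutBy π hπ).1 h)
    exact ⟨rs, h1, h2⟩
  · obtain ⟨n, Q, _, π, hπ⟩ := Groth.Agent.CILib.exists_regular_presentation (k := k) (S := S)
    haveI := Groth.Agent.CILib.regularLocal_mvPolynomial Q
    haveI : Algebra.EssFiniteType k (Localization.AtPrime Q) := Algebra.EssFiniteType.comp k (MvPolynomial (Fin n) k) _
    obtain ⟨rs, h1, h2⟩ := h (Localization.AtPrime Q) inferInstance π hπ
    exact (Groth.Agent.CILib.isCIOver_iff_cutBy π hπ).2
      (Groth.Agent.CILib.cutBy_of_isRegular π.toRingHom hπ rs h1 h2)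
  · obtain ⟨R, _, _, _, hR, π, hπ, c, ⟨f, hf⟩, hd⟩ := Groth.Agent.CILib.isCIOver_iff_exists.1 h
    refine ⟨R, inferInstance, inferInstance, inferInstance, hR, π, hπ, List.ofFn f, ?_, ?_⟩
    · rw [hf, Ideal.ofList]; congr 1; ext x; simp [List.mem_ofFn]
    · rw [List.length_ofFn]; exact hd
  · rintro ⟨R, _, _, _, hR, π, hπ, rs, hk, hd⟩
    refine Groth.Agent.CILib.isCIOver_iff_exists.2 ⟨R, inferInstance, inferInstance, inferInstance, hR, π, hπ,
      rs.length, ⟨fun i => rs.get i, ?_⟩, hd⟩
    rw [hk, Ideal.ofList]; congr 1; ext x; simp [List.mem_iff_getElem, Fin.exists_iff, eq_comm]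
  · exact globalNbhd k S h
  · rintro ⟨A, _, _, a, _, hA, hci, ⟨e⟩⟩
    exact Groth.Agent.CILib.isCIOver_congr e.symm (Groth.Agent.CILib.isCIOver_of_isGlobalCI hci a)
  · obtain ⟨A, _, _, a, ha, hA, hci, he⟩ := globalNbhd k S h
    exact ⟨A, inferInstance, inferInstance, a, ha, Groth.Agent.CILib.isLCIOver_of_isGlobalCI hci, he⟩
  · rintro ⟨A, _, _, a, _, hci, ⟨e⟩⟩
    exact Groth.Agent.CILib.isCIOver_congr e.symm (Groth.Agent.CILib.isCIOver_atPrime_of_isLCIOver hci a)

end Groth.Agent.S9143
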