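import Groth.Statements.S9148
import Groth.Agent.CILib.RelGCI

set_option autoImplicit false
universe u
open Synt

namespace Groth.Agent.S9148

/-- A relative global complete intersection over a ring R descends to a relative global complete
intersection over a finite type ℤ-subalgebra of R containing the coefficients. -/
theorem result (R : Type u) [CommRing R] (n c : ℕ)
    (F : Fin c → MvPolynomial (Fin n) R) (h : Synt.IsRelGCI R n c F) :
    ∃ (R₀ : Subalgebra ℤ R) (F₀ : Fin c → MvPolynomial (Fin n) R₀), Algebra.FiniteType ℤ R₀ ∧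
      (∀ i, MvPolynomial.map (algebraMap R₀ R) (F₀ i) = F i) ∧ Synt.IsRelGCI R₀ n c F₀ := by
  obtain ⟨R₀, F₀, hft, hF, hR⟩ := Groth.Agent.CILib.exists_fg_subalgebra_isRelGCI F h
  exact ⟨R₀, F₀, hft, fun i => congrFun hF i, hR⟩

end Groth.Agent.S9148
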