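import Groth.Statements.S9150
import Groth.Agent.CILib.RelGCIQuot
-- import your own Groth.Agent.* helpers here

set_option autoImplicit false
universe u
open Synt

namespace Groth.Agent.S9150

/-- Let I be an ideal of a ring R and S̄ an R-algebra killed by I which is syntomic over R/I. Then S̄ is
covered by finitely many basic opens S̄_g each isomorphic, as an R-algebra, to S/IS for some
relative global complete intersection S over R. -/
theorem result (R : Type u) [CommRing R] (I : Ideal R) (Sb : Type u) [CommRing Sb]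
    [Algebra R Sb] [Algebra (R ⧸ I) Sb] [IsScalarTower R (R ⧸ I) Sb] (h : Synt.IsSyntomic (R ⧸ I) Sb) :
    ∃ s : Finset Sb, Ideal.span (s : Set Sb) = ⊤ ∧ ∀ g ∈ s,
      ∃ (n c : ℕ) (F : Fin c → MvPolynomial (Fin n) R), Synt.IsRelGCI R n c F ∧
        Nonempty (Localization.Away g ≃ₐ[R]
          (Synt.RelGCIRing R n c F ⧸ I.map (algebraMap R (Synt.RelGCIRing R n c F)))) := by
  obtain ⟨s, hs, hg⟩ := Groth.Agent.CILib.exists_finset_relGCI h
  refine ⟨s, hs, fun g hgs => ?_⟩
  obtain ⟨n, c, G, hG, ⟨e⟩⟩ := hg g hgs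
  obtain ⟨n', c', F, hF, ⟨e'⟩⟩ := Groth.Agent.CILib.exists_relGCI_lift I G hG
  exact ⟨n', c', F, hF, ⟨(e.restrictScalars R).trans e'⟩⟩

end Groth.Agent.S9150
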