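import Groth.Statements.S9152
import Groth.Agent.CMFlatLib.Misc
-- import your own Groth.Agent.* helpers here

set_option autoImplicit false
universe u
open CAlg

namespace Groth.Agent.S9152

/-- The Cohen–Macaulay locus of a finite type algebra over a field is open. -/
theorem result (k S : Type u) [Field k] [CommRing S] [Algebra k S]
    [Algebra.FiniteType k S] :
    IsOpen {q : PrimeSpectrum S | LocCoh.IsCohenMacaulayLocalRing (Localization.AtPrime q.asIdeal)} := by
  haveI : AlgebraicGeometry.LocallyOfFinitePresentation (AlgebraicGeometry.Spec.map (CommRingCat.ofHom (algebraMap k S))) :=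
    AlgebraicGeometry.HasRingHomProperty.Spec_iff.2 (RingHom.finitePresentation_algebraMap.2
      (Algebra.FinitePresentation.of_finiteType.1 inferInstance))
  haveI : AlgebraicGeometry.Flat (AlgebraicGeometry.Spec.map (CommRingCat.ofHom (algebraMap k S))) :=
    AlgebraicGeometry.HasRingHomProperty.Spec_iff.2 (RingHom.flat_algebraMap_iff.2 inferInstance)
  have h := CMFlatLib.isOpen_isCMAt (AlgebraicGeometry.Spec.map (CommRingCat.ofHom (algebraMap k S)))
  have e : {q : PrimeSpectrum S | LocCoh.IsCohenMacaulayLocalRing (Localization.AtPrime q.asIdeal)} =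
      {q : PrimeSpectrum S | MoreMor.IsCMAt (AlgebraicGeometry.Spec.map (CommRingCat.ofHom (algebraMap k S))) q} :=
    Set.ext fun q => (CMFlatLib.spec_isCMAt_field_iff (k := k) (S := S) q).symm
  rw [e]
  exact h

end Groth.Agent.S9152
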