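import Groth.Statements.S9153
import Mathlib
import Groth.Agent.AffineDim.Covering

set_option autoImplicit false
universe u
open CAlg

namespace Groth.Agent.S9153

/-- In a polynomial ring in finitely many variables over a field, every saturated chain of primes
between two primes p ⊆ q has length equal to the difference of their heights (stated additively:
length + height p = height q). -/
theorem result (k : Type u) [Field k] (n : ℕ)
    (s : LTSeries (PrimeSpectrum (MvPolynomial (Fin n) k)))
    (hsat : ∀ i : Fin s.length, s (Fin.castSucc i) ⋖ s (Fin.succ i)) :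
    (s.length : ℕ∞) + s.head.asIdeal.height = s.last.asIdeal.height := by
  classical
  have key : ∀ p : PrimeSpectrum (MvPolynomial (Fin n) k), ∃ c : LTSeries (PrimeSpectrum (MvPolynomial (Fin n) k)),
      c.head.asIdeal = ⊥ ∧ c.last = p ∧ (∀ i : Fin c.length, c i.castSucc ⋖ c i.succ) ∧ (c.length : ℕ∞) = p.asIdeal.height := by
    intro p
    obtain ⟨c, hlast, hlen⟩ := Ideal.exists_ltSeries_length_eq_height p.asIdeal
    replace hlast : c.last = p := hlast
    have hbound : ∀ c' : LTSeries (PrimeSpectrum (MvPolynomial (Fin n) k)), c'.last = p → c'.length ≤ c.length := by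
      intro c' h'
      have h1 : (c'.length : ℕ∞) ≤ Order.height p := Order.length_le_height h'.le
      rw [← PrimeSpectrum.height_eq_orderHeight, ← hlen] at h1
      exact_mod_cast h1
    refine ⟨c, ?_, hlast, fun i => ⟨c.step i, fun r h1 h2 => ?_⟩, hlen⟩
    · by_contra hb
      have := hbound (c.cons ⟨⊥, Ideal.isPrime_bot⟩ (show (⟨⊥, Ideal.isPrime_bot⟩ : PrimeSpectrum (MvPolynomial (Fin n) k)) < c.head from
        lt_of_le_of_ne (show (⊥ : Ideal (MvPolynomial (Fin n) k)) ≤ c.head.asIdeal from bot_le) (fun e => hb (congrArg PrimeSpectrum.asIdeal e).symm))) (by rw [RelSeries.last_cons]; exact hlast)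
      simp at this
    · have hl : (c.insertNth i r h1 h2).last = p := by
        rw [← hlast]
        show Fin.insertNth (α := fun _ => _) i.succ.castSucc r c.toFun (Fin.last (c.length + 1)) = c.toFun (Fin.last c.length)
        rw [Fin.insertNth_apply_above (Fin.castSucc_lt_last _)]
        simp only [eq_rec_constant]
        congr 1
      have := hbound _ hl
      simp at this
  have hn : ∀ (c : LTSeries (PrimeSpectrum (MvPolynomial (Fin n) k))), c.head.asIdeal = ⊥ →
      (∀ i : Fin c.length, c i.castSucc ⋖ c i.succ) →
      ringKrullDim (MvPolynomial (Fin n) k ⧸ c.last.asIdeal) + c.length = n := by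
    intro c h0 hs
    rw [show c.last = c ⟨c.length, Nat.lt_succ_self _⟩ from rfl,
      Groth.Agent.AffineDim.ringKrullDim_quotient_add_of_saturated (k := k) c h0 hs c.length _]
    simp
  have step : ∀ p q : PrimeSpectrum (MvPolynomial (Fin n) k), p ⋖ q → q.asIdeal.height = p.asIdeal.height + 1 := by
    intro p q hpq
    obtain ⟨c, c0, cl, cs, clen⟩ := key p
    obtain ⟨e, e0, el, es, elen⟩ := key q
    let c' := c.snoc q (show c.last < q from cl ▸ hpq.lt)
    have hs' : ∀ i : Fin c'.length, c' i.castSucc ⋖ c' i.succ := by
      intro i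
      refine Fin.lastCases ?_ (fun j => ?_) (i : Fin (c.length + 1))
      · have h1 : c' (Fin.last c.length).castSucc = c.last := RelSeries.snoc_castSucc c q _ _
        have h2 : c' (Fin.last c.length).succ = q := by
          rw [Fin.succ_last]; exact RelSeries.last_snoc c q _
        exact (congrArg₂ (· ⋖ ·) h1 h2).mpr (cl.symm ▸ hpq)
      · have h1 : c' j.castSucc.castSucc = c j.castSucc := RelSeries.snoc_castSucc c q _ _
        have h2 : c' j.castSucc.succ = c j.succ := by
          rw [← Fin.castSucc_succ]; exact RelSeries.snoc_castSucc c q _ _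
        exact (congrArg₂ (· ⋖ ·) h1 h2).mpr (cs j)
    have a := hn c' (by rw [show c'.head = c.head from RelSeries.head_snoc c q _]; exact c0) hs'
    have b := hn e e0 es
    rw [show c'.last = q from RelSeries.last_snoc c q _] at a
    rw [el] at b
    rw [← clen, ← elen]
    cases hd : ringKrullDim (MvPolynomial (Fin n) k ⧸ q.asIdeal) with
    | bot => rw [hd, WithBot.bot_add] at a; exact absurd a (WithBot.bot_ne_natCast n)
    | coe d =>
      rw [hd] at a b
      have a' : d + ((c.length + 1 : ℕ) : ℕ∞) = n := WithBot.coe_injective a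
      have b' : d + (e.length : ℕ∞) = n := WithBot.coe_injective b
      have hd' : d ≠ ⊤ := fun h => by rw [h, top_add] at b'; exact ENat.top_ne_coe _ b'
      obtain ⟨d, rfl⟩ := ENat.ne_top_iff_exists.1 hd'
      rw [← Nat.cast_add, Nat.cast_inj] at a' b'
      rw [← Nat.cast_one, ← Nat.cast_add, Nat.cast_inj]
      omega
  have h : ∀ (j : ℕ) (hj : j < s.length + 1), (j : ℕ∞) + s.head.asIdeal.height = (s ⟨j, hj⟩).asIdeal.height := by
    intro j
    induction j with
    | zero => intro hj; rw [Nat.cast_zero, zero_add]; rfl
    | succ j ih =>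
      intro hj
      rw [show (s ⟨j + 1, hj⟩) = s (Fin.succ ⟨j, by omega⟩) from rfl, step _ _ (hsat ⟨j, by omega⟩),
        show s (Fin.castSucc ⟨j, by omega⟩) = s ⟨j, by omega⟩ from rfl, ← ih, Nat.cast_succ]
      rw [add_right_comm]
  exact h s.length (Nat.lt_succ_self _)

end Groth.Agent.S9153
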