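import Groth.Statements.S9154
import Mathlib
import Groth.Agent.CILib.Regular
import Groth.Agent.CILib.Dim
import Groth.Agent.DimFormulaLib.LocalDim
set_option maxHeartbeats 1000000
open IsLocalRing
-- import your own Groth.Agent.* helpers here

set_option autoImplicit false
universe u
open CAlg

namespace Groth.Agent.S9154

/-- Let S be a Cohen–Macaulay finite type algebra over a field k, equidimensional of dimension d, and
f_1, …, f_i elements (i ≤ d) generating a proper ideal whose zero locus has dimension at most d − i.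
Then that dimension equals d − i and the f_j form a regular sequence in S_q for every prime q
containing them. (The published statement also allows the f_j to generate the unit ideal, where the
zero locus is empty and the equality fails, e.g. f_1 = 1 in k[x]; this row assumes the ideal is
proper.) -/
theorem result (k S : Type u) [Field k] [CommRing S] [Algebra k S]
    [Algebra.FiniteType k S] [LocCoh.IsCohenMacaulayRing S] (d : ℕ)
    (heq : ∀ p ∈ minimalPrimes S, ringKrullDim (S ⧸ p) = d) (f : List S) (hi : f.length ≤ d)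
    (hne : Ideal.ofList f ≠ ⊤)
    (hle : ringKrullDim (S ⧸ Ideal.ofList f) ≤ ((d - f.length : ℕ) : WithBot ℕ∞)) :
    ringKrullDim (S ⧸ Ideal.ofList f) = ((d - f.length : ℕ) : WithBot ℕ∞) ∧
      ∀ (q : Ideal S) [q.IsPrime], Ideal.ofList f ≤ q →
        RingTheory.Sequence.IsRegular (Localization.AtPrime q)
          (f.map (algebraMap S (Localization.AtPrime q))) := by
  classical
  have haux : ∀ {R : Type u} [CommRing R] (P : Ideal R) [P.IsPrime],
      (P.height : WithBot ℕ∞) + ringKrullDim (R ⧸ P) ≤ ringKrullDim R := by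
    intro R _ P _
    let x : PrimeSpectrum R := ⟨P, inferInstance⟩
    have h1 : ringKrullDim (R ⧸ P) = (Order.coheight x : WithBot ℕ∞) := by
      rw [ringKrullDim_quotient, Order.coheight_eq_krullDim_Ici]
      refine Order.krullDim_eq_of_orderIso (OrderIso.setCongr _ _ ?_)
      ext y
      exact (PrimeSpectrum.mem_zeroLocus y _).trans Iff.rfl
    haveI : Nonempty (PrimeSpectrum R) := ⟨x⟩
    rw [h1, ringKrullDim, Order.krullDim_eq_iSup_height_add_coheight_of_nonempty, ← WithBot.coe_add,
      WithBot.coe_le_coe, show P.height = Order.height x from PrimeSpectrum.height_eq_orderHeight x]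
    exact le_iSup (fun y : PrimeSpectrum R => Order.height y + Order.coheight y) x
  haveI : IsNoetherianRing S := Algebra.FiniteType.isNoetherianRing k S
  set i := f.length with hidef
  set J := Ideal.ofList f with hJ
  -- the dimension of `S`
  have hdimS : ringKrullDim S ≤ (d : WithBot ℕ∞) := by
    refine DimFormulaLib.ringKrullDim_le_of_forall_minimal k S _ fun P hP n hn => ?_
    haveI := (show P ∈ (⊥ : Ideal S).minimalPrimes from hP).1.1
    rw [← DimFormulaLib.ringKrullDim_eq_trdeg k n hn, heq P hP]
  have key : ∀ q : PrimeSpectrum S, ∃ a r : ℕ, q.asIdeal.height = a ∧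
      ringKrullDim (S ⧸ q.asIdeal) = r ∧ a + r = d := by
    intro q
    obtain ⟨r, hr⟩ := DimFormulaLib.exists_nat_trdeg_quotient k S q.asIdeal
    obtain ⟨a, ha⟩ : ∃ a : ℕ, q.asIdeal.height = a :=
      ENat.ne_top_iff_exists.1 (Ideal.height_ne_top q.isPrime.ne_top) |>.imp fun _ h => h.symm
    have hr' := DimFormulaLib.ringKrullDim_eq_trdeg k r hr
    refine ⟨a, r, ha, hr', le_antisymm ?_ ?_⟩
    · have h := (haux q.asIdeal).trans hdimS
      rw [ha, hr'] at h
      exact_mod_cast h
    · obtain ⟨P, hP, hPq⟩ := Ideal.exists_minimalPrimes_le (I := (⊥ : Ideal S)) (J := q.asIdeal) bot_le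
      haveI := hP.1.1
      obtain ⟨n, hn⟩ := DimFormulaLib.exists_nat_trdeg_quotient k S P
      obtain ⟨b, hb, hnb⟩ := DimFormulaLib.trdeg_eq_relHeight_add k S (P := ⟨P, hP.1.1⟩) (p := q) hPq n r hn hr
      have h := DimFormulaLib.relHeight_le_height (P := (⟨P, hP.1.1⟩ : PrimeSpectrum S)) (p := q) hPq
      rw [hb, ha] at h
      have h' : b ≤ a := by exact_mod_cast h
      have h2 := DimFormulaLib.ringKrullDim_eq_trdeg k n hn
      rw [heq P hP] at h2
      have h3 : d = n := by exact_mod_cast h2
      omega
  constructor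
  · refine le_antisymm hle ?_
    obtain ⟨M, hM, hJM⟩ := Ideal.exists_le_maximal J hne
    haveI := hM.isPrime
    obtain ⟨q, hq, -⟩ := Ideal.exists_minimalPrimes_le (I := J) (J := M) hJM
    haveI := hq.1.1
    obtain ⟨a, r, ha, hr, har⟩ := key ⟨q, hq.1.1⟩
    have h1 : q.height ≤ i := by
      refine (Ideal.height_le_card_of_mem_minimalPrimes_span_finset (s := f.toFinset) ?_).trans
        (by exact_mod_cast f.toFinset_card_le)
      rw [List.coe_toFinset]
      exact hq
    rw [show q.height = (a : ℕ∞) from ha] at h1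
    have h2 : ringKrullDim (S ⧸ q) ≤ ringKrullDim (S ⧸ J) :=
      ringKrullDim_le_of_surjective (Ideal.Quotient.factor hq.1.2) (Ideal.Quotient.factor_surjective hq.1.2)
    rw [show ringKrullDim (S ⧸ q) = (r : WithBot ℕ∞) from hr] at h2
    refine le_trans ?_ h2
    have h1' : a ≤ i := by exact_mod_cast h1
    exact_mod_cast (show d - i ≤ r by omega)
  · intro q _ hJq
    haveI := LocCoh.IsCohenMacaulayRing.isCohenMacaulayLocalRing_localization (R := S) q
    let A := Localization.AtPrime q
    have hm : ∀ x ∈ f.map (algebraMap S A), x ∈ maximalIdeal A := by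
      intro x hx
      obtain ⟨y, hy, rfl⟩ := List.mem_map.1 hx
      exact (IsLocalization.AtPrime.to_map_mem_maximal_iff A q y).2 (hJq (Ideal.subset_span hy))
    refine (CILib.isRegular_of_ringKrullDim_quotient_add_le _ hm ?_).1
    set JA := Ideal.ofList (f.map (algebraMap S A)) with hJA
    let qb : PrimeSpectrum (S ⧸ J) := ⟨q.map (Ideal.Quotient.mk J),
      Ideal.map_isPrime_of_surjective Ideal.Quotient.mk_surjective (by rw [Ideal.mk_ker]; exact hJq)⟩
    -- `dim (S_q / J S_q) ≤ ht (q / J)`
    have hcomap : J ≤ JA.comap (algebraMap S A) := by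
      rw [← Ideal.map_le_iff_le_comap, hJ, hJA, Ideal.map_ofList]
    let φ : S ⧸ J →+* A ⧸ JA := Ideal.quotientMap JA (algebraMap S A) hcomap
    have hφ : φ.comp (Ideal.Quotient.mk J) = (Ideal.Quotient.mk JA).comp (algebraMap S A) :=
      Ideal.quotientMap_comp_mk hcomap
    have hinj : Function.Injective (PrimeSpectrum.comap φ) := by
      intro x y hxy
      have h := congrArg (PrimeSpectrum.comap (Ideal.Quotient.mk J)) hxy
      rw [← PrimeSpectrum.comap_comp_apply, ← PrimeSpectrum.comap_comp_apply, hφ,
        PrimeSpectrum.comap_comp_apply, PrimeSpectrum.comap_comp_apply] at h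
      exact PrimeSpectrum.comap_injective_of_surjective _ Ideal.Quotient.mk_surjective
        ((PrimeSpectrum.localization_comap_injective A q.primeCompl) h)
    have hle' : ∀ x : PrimeSpectrum (A ⧸ JA), PrimeSpectrum.comap φ x ≤ qb := by
      intro x y hy
      obtain ⟨y, rfl⟩ := Ideal.Quotient.mk_surjective y
      refine Ideal.mem_map_of_mem _ ?_
      by_contra hyq
      have hu : IsUnit (algebraMap S A y) := IsLocalization.map_units A (⟨y, hyq⟩ : q.primeCompl)
      exact x.isPrime.ne_top (Ideal.eq_top_of_isUnit_mem _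
        (show φ (Ideal.Quotient.mk J y) ∈ x.asIdeal from hy) (by
          rw [show φ (Ideal.Quotient.mk J y) = Ideal.Quotient.mk JA (algebraMap S A y) from DFunLike.congr_fun hφ y]
          exact hu.map _))
    have hdA : ringKrullDim (A ⧸ JA) ≤ (qb.asIdeal.height : WithBot ℕ∞) := by
      rw [PrimeSpectrum.height_eq_orderHeight qb, Order.height_eq_krullDim_Iic]
      exact Order.krullDim_le_of_strictMono (fun x => (⟨PrimeSpectrum.comap φ x, hle' x⟩ : Set.Iic qb))
        fun x y hxy => lt_of_le_of_ne (Ideal.comap_mono hxy.le) fun h => hxy.ne (hinj (congrArg Subtype.val h))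
    obtain ⟨a, r, ha, hr, har⟩ := key ⟨q, ‹_›⟩
    haveI := qb.isPrime
    have h3 := (haux qb.asIdeal).trans hle
    rw [ringKrullDim_eq_of_ringEquiv (DoubleQuot.quotQuotEquivQuotOfLE hJq),
      show ringKrullDim (S ⧸ q) = (r : WithBot ℕ∞) from hr] at h3
    obtain ⟨b, hb⟩ : ∃ b : ℕ, qb.asIdeal.height = b :=
      ENat.ne_top_iff_exists.1 (Ideal.height_ne_top qb.isPrime.ne_top) |>.imp fun _ h => h.symm
    rw [hb] at h3 hdA
    have h4 : b + r ≤ d - i := by
      refine (Nat.cast_le (α := WithBot ℕ∞)).1 ?_
      rw [Nat.cast_add]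
      exact h3
    rw [IsLocalization.AtPrime.ringKrullDim_eq_height q A, List.length_map, show q.height = (a : ℕ∞) from ha]
    calc ringKrullDim (A ⧸ JA) + (f.length : WithBot ℕ∞) ≤ ((b : ℕ∞) : WithBot ℕ∞) + (f.length : WithBot ℕ∞) :=
          add_le_add_left hdA _
      _ ≤ ((a : ℕ∞) : WithBot ℕ∞) := by exact_mod_cast (show b + f.length ≤ a by omega)

end Groth.Agent.S9154
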