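import Groth.Statements.S9156
import Groth.Agent.DimFormulaLib.LocalDim
import Groth.Agent.CMCat.Local
-- import your own Groth.Agent.* helpers here

set_option autoImplicit false
universe u
open CAlg

namespace Groth.Agent.S9156

open DimFormulaLib in
theorem height_eq_dim {k S : Type u} [Field k] [CommRing S] [Algebra k S] [Algebra.FiniteType k S]
    [LocCoh.IsCohenMacaulayRing S] (P : Ideal S) [P.IsPrime] (hP : P ∈ minimalPrimes S) (m : Ideal S) [m.IsMaximal]
    (hPm : P ≤ m) (n : ℕ) (hn : Algebra.trdeg k (S ⧸ P) = n) : m.height = n := by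
  haveI := LocCoh.IsCohenMacaulayRing.isCohenMacaulayLocalRing_localization m
  obtain ⟨r, hr⟩ := exists_nat_trdeg_quotient k S m
  have hr0 : r = 0 := by
    have h1 := ringKrullDim_eq_trdeg k r hr
    letI := Ideal.Quotient.field m
    rw [ringKrullDim_eq_zero_of_field] at h1
    exact_mod_cast h1.symm
  subst hr0
  obtain ⟨a, ha, hna⟩ := trdeg_eq_relHeight_add k S (P := ⟨P, inferInstance⟩) (p := ⟨m, inferInstance⟩) hPm n 0 hn hr
  obtain rfl : n = a := by omega
  rw [← ha]
  let B := Localization.AtPrime m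
  let PB := P.map (algebraMap S B)
  have hd : Disjoint (m.primeCompl : Set S) (P : Set S) := Set.disjoint_left.2 fun x hx hxP => hx (hPm hxP)
  haveI hPB : PB.IsPrime := IsLocalization.isPrime_of_isPrime_disjoint m.primeCompl B P ‹_› hd
  have hh : PB.height = 0 := by
    rw [← IsLocalization.height_under m.primeCompl PB, IsLocalization.under_map_of_isPrime_disjoint m.primeCompl B ‹_› hd]
    exact Ideal.height_eq_zero_iff.2 hP
  have h2 := (CMCat.height_add_and_cm PB).2
  rw [hh] at h2
  simp only [WithBot.coe_zero, zero_add] at h2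
  haveI hq : (m.map (Ideal.Quotient.mk P)).IsPrime :=
    Ideal.map_isPrime_of_surjective Ideal.Quotient.mk_surjective (by rw [Ideal.mk_ker]; exact hPm)
  have hsub : Algebra.algebraMapSubmonoid (S ⧸ P) m.primeCompl = (m.map (Ideal.Quotient.mk P)).primeCompl := by
    ext x
    constructor
    · rintro ⟨y, hy, rfl⟩ hx
      obtain ⟨z, hz, hzy⟩ := (Ideal.mem_map_iff_of_surjective _ Ideal.Quotient.mk_surjective).1 hx
      exact hy (by simpa using m.sub_mem hz (hPm (Ideal.Quotient.eq.1 hzy)))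
    · intro hx
      obtain ⟨y, rfl⟩ := Ideal.Quotient.mk_surjective x
      exact ⟨y, fun hy => hx (Ideal.mem_map_of_mem _ hy), rfl⟩
  haveI : IsLocalization.AtPrime (B ⧸ PB) (m.map (Ideal.Quotient.mk P)) := by
    unfold IsLocalization.AtPrime
    rw [← hsub]
    infer_instance
  have h3 := IsLocalization.AtPrime.ringKrullDim_eq_height (m.map (Ideal.Quotient.mk P)) (B ⧸ PB)
  rw [h2, IsLocalization.AtPrime.ringKrullDim_eq_height m B] at h3
  exact WithBot.coe_injective h3

theorem height_quot {S : Type u} [CommRing S] (J : Ideal S) (m : Ideal (S ⧸ J)) [m.IsPrime]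
    (h : ∀ q : Ideal S, q.IsPrime → q ≤ m.comap (Ideal.Quotient.mk J) → J ≤ q) :
    m.height = (m.comap (Ideal.Quotient.mk J)).height := by
  rw [PrimeSpectrum.height_eq_orderHeight ⟨m, inferInstance⟩,
    PrimeSpectrum.height_eq_orderHeight ⟨m.comap (Ideal.Quotient.mk J), inferInstance⟩]
  let f : Set.Iic (⟨m, inferInstance⟩ : PrimeSpectrum (S ⧸ J)) →
      Set.Iic (⟨m.comap (Ideal.Quotient.mk J), inferInstance⟩ : PrimeSpectrum S) :=
    fun q => ⟨⟨q.1.asIdeal.comap (Ideal.Quotient.mk J), inferInstance⟩, Ideal.comap_mono (f := Ideal.Quotient.mk J) (show q.1.asIdeal ≤ m from q.2)⟩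
  have hf : ∀ a b, f a ≤ f b ↔ a ≤ b := fun a b =>
    ⟨fun hab => show a.1.asIdeal ≤ b.1.asIdeal from
      (Ideal.comap_le_comap_iff_of_surjective _ Ideal.Quotient.mk_surjective _ _).1 hab, fun hab => Ideal.comap_mono (f := Ideal.Quotient.mk J) (show a.1.asIdeal ≤ b.1.asIdeal from hab)⟩
  have hsur : Function.Surjective f := by
    rintro ⟨⟨q, hq⟩, hle⟩
    haveI : (q.map (Ideal.Quotient.mk J)).IsPrime :=
      Ideal.map_isPrime_of_surjective Ideal.Quotient.mk_surjective (by rw [Ideal.mk_ker]; exact h q hq hle)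
    have he : (q.map (Ideal.Quotient.mk J)).comap (Ideal.Quotient.mk J) = q := Ideal.comap_map_mk (h q hq hle)
    refine ⟨⟨⟨q.map (Ideal.Quotient.mk J), inferInstance⟩, Ideal.map_le_iff_le_comap.2 hle⟩, ?_⟩
    exact Subtype.ext (PrimeSpectrum.ext he)
  have hinj : Function.Injective f := fun a b hab => le_antisymm ((hf a b).1 hab.le) ((hf b a).1 hab.ge)
  let e : Set.Iic (⟨m, inferInstance⟩ : PrimeSpectrum (S ⧸ J)) ≃o
      Set.Iic (⟨m.comap (Ideal.Quotient.mk J), inferInstance⟩ : PrimeSpectrum S) :=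
    { Equiv.ofBijective f ⟨hinj, hsur⟩ with map_rel_iff' := fun {a b} => hf a b }
  apply WithBot.coe_injective
  rw [Order.height_eq_krullDim_Iic, Order.height_eq_krullDim_Iic]
  exact Order.krullDim_eq_of_orderIso e


/-- A Cohen–Macaulay finite type algebra S over a field k decomposes as a finite product of k-algebras
S_0 × ⋯ × S_N in which every maximal ideal of the factor S_d has height d (so Spec S is a finite
disjoint union of equidimensional open and closed pieces). -/
theorem result (k S : Type u) [Field k] [CommRing S]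
    [Algebra k S] [Algebra.FiniteType k S] [LocCoh.IsCohenMacaulayRing S] :
    ∃ (N : ℕ) (T : Fin (N + 1) → Type u) (_ : ∀ d, CommRing (T d)) (_ : ∀ d, Algebra k (T d)),
      Nonempty (S ≃ₐ[k] ((d : Fin (N + 1)) → T d)) ∧
        ∀ (d : Fin (N + 1)) (m : Ideal (T d)), m.IsMaximal → m.height = (d : ℕ) := by
  classical
  haveI : IsNoetherianRing S := Algebra.FiniteType.isNoetherianRing k S
  have hfin : (minimalPrimes S).Finite := minimalPrimes.finite_of_isNoetherianRing S
  have hdim : ∀ P : Ideal S, ∃ n : ℕ, ∀ (h : P ∈ minimalPrimes S), ∀ (m : Ideal S) [m.IsMaximal], P ≤ m → m.height = n := by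
    intro P
    by_cases hP : P ∈ minimalPrimes S
    · haveI : P.IsPrime := hP.1.1
      obtain ⟨n, hn⟩ := DimFormulaLib.exists_nat_trdeg_quotient k S P
      exact ⟨n, fun h m _ hle => height_eq_dim P hP m hle n hn⟩
    · exact ⟨0, fun h => absurd h hP⟩
  choose D hD using hdim
  obtain ⟨K, hK⟩ := IsNoetherianRing.isNilpotent_nilradical S
  let N := hfin.toFinset.sup D
  let I : Fin (N + 1) → Ideal S := fun d => (hfin.toFinset.filter fun P => D P = (d : ℕ)).inf id
  let J : Fin (N + 1) → Ideal S := fun d => I d ^ K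
  have hIle : ∀ (d : Fin (N + 1)) (q : Ideal S), q.IsPrime → I d ≤ q → ∃ P ∈ minimalPrimes S, D P = (d : ℕ) ∧ P ≤ q := by
    intro d q hq hle
    obtain ⟨P, hP, hPq⟩ := (Ideal.IsPrime.inf_le' hq).1 hle
    rw [Finset.mem_filter, Set.Finite.mem_toFinset] at hP
    exact ⟨P, hP.1, hP.2, hPq⟩
  have hval : ∀ (d : Fin (N + 1)) (m : Ideal S) [m.IsMaximal], J d ≤ m → m.height = (d : ℕ) := by
    intro d m hm hle
    obtain ⟨P, hP, hPd, hPm⟩ := hIle d m hm.isPrime ((Ideal.IsPrime.le_of_pow_le (hP := hm.isPrime) hle))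
    rw [← hPd]
    exact hD P hP m hPm
  have hco : ∀ d e, d ≠ e → IsCoprime (J d) (J e) := by
    intro d e hde
    rw [Ideal.isCoprime_iff_sup_eq]
    by_contra h
    obtain ⟨m, hm, hle⟩ := Ideal.exists_le_maximal _ h
    have h1 := hval d m (le_sup_left.trans hle)
    have h2 := hval e m (le_sup_right.trans hle)
    rw [h1] at h2
    exact hde (Fin.ext (by exact_mod_cast h2))
  have hbot : (⨅ d, J d) = ⊥ := by
    have h0 : ∏ d, J d = ⨅ d, J d := by
      rw [Ideal.prod_eq_iInf_of_pairwise_isCoprime fun d _ e _ hde => hco d e hde]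
      simp
    rw [← h0]
    rw [show (∏ d, J d) = (∏ d, I d) ^ K from Finset.prod_pow _ _ _, ← le_bot_iff,
      show (⊥ : Ideal S) = nilradical S ^ K from hK.symm]
    refine pow_le_pow_left' (le_trans Ideal.prod_le_inf fun x hx => ?_) K
    rw [nilradical, Ideal.radical_eq_sInf]
    refine Submodule.mem_sInf.2 fun q ⟨_, hq⟩ => ?_
    haveI := hq
    obtain ⟨P, hP, hPq⟩ := Ideal.exists_minimalPrimes_le (I := (⊥ : Ideal S)) (J := q) bot_le
    refine hPq (Finset.inf_le (f := id) (s := hfin.toFinset.filter fun Q => D Q = D P) ?_ ?_)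
    · simp only [Finset.mem_filter, Set.Finite.mem_toFinset]; exact ⟨hP, trivial⟩
    · exact (Finset.inf_le (f := I) (Finset.mem_univ ⟨D P, Nat.lt_succ_of_le (Finset.le_sup (f := D) (hfin.mem_toFinset.2 hP))⟩) :) hx
  let e := Ideal.quotientInfRingEquivPiQuotient J hco
  let φ : S →ₐ[k] (∀ d, S ⧸ J d) := Pi.algHom k _ fun d => Ideal.Quotient.mkₐ k (J d)
  have hφ : Function.Bijective φ := by
    have : (φ : S → ∀ d, S ⧸ J d) = e ∘ (Ideal.Quotient.mk (⨅ d, J d)) := funext fun x => rfl
    rw [this]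
    refine e.bijective.comp ⟨?_, Ideal.Quotient.mk_surjective⟩
    rw [RingHom.injective_iff_ker_eq_bot, Ideal.mk_ker, hbot]
  refine ⟨N, fun d => S ⧸ J d, fun d => inferInstance, fun d => inferInstance, ⟨AlgEquiv.ofBijective φ hφ⟩, ?_⟩
  intro d m hm
  haveI : (m.comap (Ideal.Quotient.mk (J d))).IsMaximal :=
    Ideal.comap_isMaximal_of_surjective _ Ideal.Quotient.mk_surjective
  have hJm : J d ≤ m.comap (Ideal.Quotient.mk (J d)) :=
    le_trans (le_of_eq Ideal.mk_ker.symm) (Ideal.comap_mono bot_le)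
  rw [height_quot (J d) m fun q hq hle => ?_, hval d _ hJm]
  obtain ⟨P, hP, hPq⟩ := Ideal.exists_minimalPrimes_le (I := (⊥ : Ideal S)) (J := q) bot_le
  haveI := hq
  have hPd : D P = (d : ℕ) := by
    have h1 := hD P hP _ (hPq.trans hle)
    rw [hval d _ hJm] at h1
    exact_mod_cast h1.symm
  rcases Nat.eq_zero_or_pos K with hK0 | hK0
  · exfalso
    rw [hK0, pow_zero] at hK
    have h1 : (1 : Ideal S) ≤ q := hK.le.trans bot_le
    rw [Ideal.one_eq_top] at h1
    exact hq.ne_top (top_le_iff.1 h1)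
  refine (Ideal.pow_le_self hK0.ne').trans (le_trans ?_ hPq)
  exact Finset.inf_le (f := id) (by simp only [Finset.mem_filter, Set.Finite.mem_toFinset]; exact ⟨hP, hPd⟩)

end Groth.Agent.S9156
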