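import Groth.Statements.S9157
import Mathlib

set_option autoImplicit false
universe u
open CAlg

namespace Groth.Agent.S9157

/-- If the localization S⁻¹M of an R-module M is finitely presented over S⁻¹R, then some finitely
presented R-module M' maps to M inducing an isomorphism S⁻¹M' → S⁻¹M. -/
theorem result (R : Type u) [CommRing R] (S : Submonoid R)
    (M : Type u) [AddCommGroup M] [Module R M]
    [Module.FinitePresentation (Localization S) (LocalizedModule S M)] :
    ∃ (M' : Type u) (_ : AddCommGroup M') (_ : Module R M') (φ : M' →ₗ[R] M),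
      Module.FinitePresentation R M' ∧ Function.Bijective (LocalizedModule.map S φ) := by
  classical
  let B := Localization S
  let N := LocalizedModule S M
  let fM := LocalizedModule.mkLinearMap S M
  obtain ⟨G, hG⟩ := (inferInstance : Module.Finite B N).fg_top
  choose num hnum using fun z : G => IsLocalizedModule.mk'_surjective S fM z.1
  let q : (G → R) →ₗ[R] M := Fintype.linearCombination R fun z => (num z).1
  let fF := LocalizedModule.mkLinearMap S (G → R)
  let qS : LocalizedModule S (G → R) →ₗ[B] N := LocalizedModule.map S q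
  have hqf : ∀ v, qS (fF v) = fM (q v) := fun v => IsLocalizedModule.map_apply S fF fM q v
  have hsurj : Function.Surjective qS := by
    rw [← LinearMap.range_eq_top, eq_top_iff, ← hG, Submodule.span_le]
    intro z hz
    have h1 : fM (num ⟨z, hz⟩).1 = qS (fF (Pi.single ⟨z, hz⟩ 1)) := by
      rw [hqf]
      simp [q, Fintype.linearCombination_apply, Pi.single_apply]
    obtain ⟨c, hc⟩ := IsLocalization.map_units B (num ⟨z, hz⟩).2
    refine ⟨((c⁻¹ : Bˣ) : B) • fF (Pi.single ⟨z, hz⟩ 1), ?_⟩
    rw [map_smul, ← h1, ← IsLocalizedModule.mk'_cancel' fM (num ⟨z, hz⟩).1 (num ⟨z, hz⟩).2]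
    have h2 : IsLocalizedModule.mk' fM (num ⟨z, hz⟩).1 (num ⟨z, hz⟩).2 = z := hnum ⟨z, hz⟩
    rw [h2, Submonoid.smul_def, ← algebraMap_smul B ((num ⟨z, hz⟩).2 : R), ← hc, smul_smul, Units.inv_mul, one_smul]
  haveI : Module.Finite B (LocalizedModule S (G → R)) := Module.Finite.of_isLocalizedModule S fF
  obtain ⟨K, hK⟩ := Module.FinitePresentation.fg_ker qS hsurj
  -- clear denominators so that the relations vanish in `M` itself
  have hrel : ∀ w : K, ∃ v : G → R, q v = 0 ∧ w.1 ∈ Submodule.span B ({fF v} : Set (LocalizedModule S (G → R))) := by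
    intro w
    obtain ⟨⟨v, s⟩, hvs⟩ := IsLocalizedModule.mk'_surjective S fF w.1
    have h3 : qS w.1 = 0 := LinearMap.mem_ker.mp (hK ▸ Submodule.subset_span w.2)
    have h4 : fM (q v) = 0 := by
      rw [← hqf, ← IsLocalizedModule.mk'_cancel' fF v s, Submonoid.smul_def, LinearMap.map_smul_of_tower]
      simp only [Function.uncurry_apply_pair] at hvs
      rw [hvs, h3, smul_zero]
    obtain ⟨c, hc⟩ := (IsLocalizedModule.eq_zero_iff S fM).mp h4
    refine ⟨(c : R) • v, by rw [map_smul]; exact hc, ?_⟩
    obtain ⟨u, hu⟩ := IsLocalization.map_units B c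
    obtain ⟨u', hu'⟩ := IsLocalization.map_units B s
    refine Submodule.mem_span_singleton.mpr ⟨((u'⁻¹ : Bˣ) : B) * ((u⁻¹ : Bˣ) : B), ?_⟩
    rw [map_smul, ← algebraMap_smul B (c : R), ← hu, mul_smul, smul_smul _ (u : B), Units.inv_mul, one_smul,
      ← IsLocalizedModule.mk'_cancel' fF v s, Submonoid.smul_def, ← algebraMap_smul B (s : R), ← hu', smul_smul,
      Units.inv_mul, one_smul]
    exact hvs
  choose v hv hvspan using hrel
  let P : Submodule R (G → R) := Submodule.span R (Set.range v)
  haveI : Module.FinitePresentation R ((G → R) ⧸ P) :=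
    Module.finitePresentation_of_free_of_surjective P.mkQ P.mkQ_surjective (by rw [Submodule.ker_mkQ]; exact Submodule.fg_span (Set.finite_range v))
  refine ⟨(G → R) ⧸ P, inferInstance, inferInstance,
    P.liftQ q (Submodule.span_le.mpr (by rintro _ ⟨w, rfl⟩; exact hv w)), inferInstance, ?_, ?_⟩
  · rw [injective_iff_map_eq_zero]
    intro z hz
    obtain ⟨y, rfl⟩ := LocalizedModule.map_surjective S P.mkQ P.mkQ_surjective z
    have hy : qS y = 0 := by
      rw [← hz]
      obtain ⟨⟨a, s⟩, rfl⟩ := IsLocalizedModule.mk'_surjective S fF y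
      simp [qS, fF, ← IsLocalizedModule.mk_eq_mk', LocalizedModule.map_mk]
      exact LocalizedModule.map_mk S q a s
    have hmem : y ∈ Submodule.span B (K : Set (LocalizedModule S (G → R))) := by rw [hK]; exact hy
    have hle : Submodule.span B (K : Set (LocalizedModule S (G → R))) ≤ LinearMap.ker (LocalizedModule.map S P.mkQ) := by
      refine Submodule.span_le.mpr fun w hw => ?_
      refine (Submodule.span_le.mpr ?_) (hvspan ⟨w, hw⟩)
      rintro _ rfl
      rw [SetLike.mem_coe, LinearMap.mem_ker]
      have h5 : LocalizedModule.map S P.mkQ (fF (v ⟨w, hw⟩)) = LocalizedModule.mkLinearMap S _ (P.mkQ (v ⟨w, hw⟩)) :=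
        IsLocalizedModule.map_apply S fF _ P.mkQ _
      rw [h5, Submodule.mkQ_apply, (Submodule.Quotient.mk_eq_zero P).mpr (Submodule.subset_span ⟨⟨w, hw⟩, rfl⟩) , map_zero]
    exact hle hmem
  · intro z
    obtain ⟨y, rfl⟩ := hsurj z
    refine ⟨LocalizedModule.map S P.mkQ y, ?_⟩
    obtain ⟨⟨a, s⟩, rfl⟩ := IsLocalizedModule.mk'_surjective S fF y
    simp [qS, fF, ← IsLocalizedModule.mk_eq_mk', LocalizedModule.map_mk]
    exact (LocalizedModule.map_mk S q a s).symm
end Groth.Agent.S9157
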