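import Groth.Statements.S9159
import Groth.Agent.CMFlatLib.Misc
-- import your own Groth.Agent.* helpers here

set_option autoImplicit false
universe u
open CAlg

namespace Groth.Agent.S9159

/-- Fix a field k, a k-algebra S of finite type, and a quasi-finite map of k-algebras k[y_1, …, y_d] →
S. A prime q of S has S_q flat over k[y_1, …, y_d] exactly when S_q is Cohen–Macaulay and Spec S has
local dimension d at q. -/
theorem result (k S : Type u) [Field k] [CommRing S]
    [Algebra k S] [Algebra.FiniteType k S] (d : ℕ) [Algebra (MvPolynomial (Fin d) k) S]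
    [IsScalarTower k (MvPolynomial (Fin d) k) S] [Algebra.QuasiFinite (MvPolynomial (Fin d) k) S]
    (q : Ideal S) [q.IsPrime] :
    Module.Flat (MvPolynomial (Fin d) k) (Localization.AtPrime q) ↔
      (LocCoh.IsCohenMacaulayLocalRing (Localization.AtPrime q) ∧
        FlatMor.localDim (PrimeSpectrum S) ⟨q, inferInstance⟩ = (d : WithBot ℕ∞)) := by
  haveI : Algebra.FinitePresentation k S := Algebra.FinitePresentation.of_finiteType.1 inferInstance
  let p : PrimeSpectrum k := PrimeSpectrum.comap (algebraMap k S) ⟨q, inferInstance⟩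
  haveI : q.LiesOver p.asIdeal := ⟨rfl⟩
  let Q := PrimeSpectrum.preimageEquivFiber k S p ⟨⟨q, inferInstance⟩, rfl⟩
  have hQ : Q.asIdeal.comap (Algebra.TensorProduct.includeRight : S →ₐ[k] p.asIdeal.Fiber S).toRingHom = q :=
    congrArg (fun z => z.1.asIdeal)
      ((PrimeSpectrum.preimageEquivFiber k S p).symm_apply_apply ⟨⟨q, inferInstance⟩, rfl⟩)
  rw [CMFlatLib.flat_poly_iff p.asIdeal q Q hQ]
  obtain ⟨eB⟩ := CMFlatLib.exists_quotLocal_equiv p.asIdeal q Q.asIdeal hQ
  have hp : p.asIdeal = ⊥ := (Ideal.eq_bot_or_top p.asIdeal).resolve_right Ideal.IsPrime.ne_top'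
  have e1 : Localization.AtPrime q ⧸ p.asIdeal.map (algebraMap k (Localization.AtPrime q)) ≃+* Localization.AtPrime q :=
    (Ideal.quotEquivOfEq (by rw [hp, Ideal.map_bot])).trans (RingEquiv.quotientBot _)
  refine and_congr ((CMFlatLib.cm_congr eB).symm.trans (CMFlatLib.cm_congr e1)) ?_
  let G : PrimeSpectrum (p.asIdeal.Fiber S) → PrimeSpectrum S := fun z => ((PrimeSpectrum.preimageEquivFiber k S p).symm z).1
  have hG : Topology.IsOpenEmbedding G := by
    have hr : IsOpen (PrimeSpectrum.comap (algebraMap k S) ⁻¹' {p}) := by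
      rw [show PrimeSpectrum.comap (algebraMap k S) ⁻¹' {p} = Set.univ from Set.eq_univ_of_forall fun _ => Subsingleton.elim _ _]
      exact isOpen_univ
    exact hr.isOpenEmbedding_subtypeVal.comp (PrimeSpectrum.preimageHomeomorphFiber k S p).symm.isOpenEmbedding
  have h := (FibreDimEt.localDim_eq_of_isGenLift (FibreDimEt.isGenLift_of_isOpenEmbedding hG) hG.isOpenMap Q).symm
  rw [show G Q = ⟨q, inferInstance⟩ from PrimeSpectrum.ext hQ] at h
  rw [h]

end Groth.Agent.S9159
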