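import Groth.Statements.S9160
import Mathlib

set_option autoImplicit false
universe u
open CAlg

namespace Groth.Agent.S9160

/-- In a semi-local Noetherian ring of dimension one, for nonzerodivisors a and b the length of R/(ab)
is the sum of the lengths of R/(a) and R/(b), and these lengths are finite. -/
theorem result (R : Type u) [CommRing R] [IsNoetherianRing R]
    (hsemi : Finite (MaximalSpectrum R)) (hdim : ringKrullDim R = 1) (a b : R) (ha : IsRegular a)
    (hb : IsRegular b) :
    Module.length R (R ⧸ Ideal.span ({a * b} : Set R)) =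
        Module.length R (R ⧸ Ideal.span ({a} : Set R)) + Module.length R (R ⧸ Ideal.span ({b} : Set R)) ∧
      Module.length R (R ⧸ Ideal.span ({a} : Set R)) ≠ ⊤ ∧
      Module.length R (R ⧸ Ideal.span ({b} : Set R)) ≠ ⊤ := by
  have hfin : ∀ c : R, IsRegular c → Module.length R (R ⧸ Ideal.span ({c} : Set R)) ≠ ⊤ := by
    intro c hc
    have hd : ringKrullDim (R ⧸ Ideal.span ({c} : Set R)) + 1 ≤ ringKrullDim R :=
      ringKrullDim_quotient_succ_le_of_nonZeroDivisor (isRegular_iff_mem_nonZeroDivisors.mp hc)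
    have hd0 : ringKrullDim (R ⧸ Ideal.span ({c} : Set R)) ≤ 0 := by
      rw [hdim] at hd
      generalize ringKrullDim (R ⧸ Ideal.span ({c} : Set R)) = d at hd
      induction d using WithBot.recBotCoe with
      | bot => exact bot_le
      | coe d =>
        have h' : d + 1 ≤ (1 : ℕ∞) := by exact_mod_cast hd
        have : d ≤ 0 := (ENat.add_le_add_iff_right (k := (1 : ℕ∞)) (by simp)).mp (by rwa [zero_add])
        exact_mod_cast this
    haveI : Ring.KrullDimLE 0 (R ⧸ Ideal.span ({c} : Set R)) := Ring.krullDimLE_iff.mpr hd0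
    haveI : IsArtinianRing (R ⧸ Ideal.span ({c} : Set R)) :=
      isArtinianRing_iff_isNoetherianRing_krullDimLE_zero.mpr ⟨inferInstance, inferInstance⟩
    haveI : IsArtinian R (R ⧸ Ideal.span ({c} : Set R)) :=
      isArtinian_of_surjective_algebraMap (Ideal.Quotient.mk_surjective (I := Ideal.span ({c} : Set R)))
    exact Module.length_ne_top
  refine ⟨?_, hfin a ha, hfin b hb⟩
  let f : (R ⧸ Ideal.span ({b} : Set R)) →ₗ[R] R ⧸ Ideal.span ({a * b} : Set R) :=
    Submodule.mapQ _ _ (LinearMap.mulLeft R a) (fun x hx => by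
      obtain ⟨y, rfl⟩ := Ideal.mem_span_singleton'.mp hx
      exact Ideal.mem_span_singleton'.mpr ⟨y, by simp [mul_left_comm]⟩)
  let g : (R ⧸ Ideal.span ({a * b} : Set R)) →ₗ[R] R ⧸ Ideal.span ({a} : Set R) :=
    Submodule.mapQ _ _ LinearMap.id (fun x hx => by
      obtain ⟨y, rfl⟩ := Ideal.mem_span_singleton'.mp hx
      exact Ideal.mem_span_singleton'.mpr ⟨y * b, by simp [mul_assoc, mul_comm b a]⟩)
  have hf : Function.Injective f := by
    rw [injective_iff_map_eq_zero]
    intro x hx
    obtain ⟨x, rfl⟩ := Submodule.Quotient.mk_surjective _ x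
    rw [Submodule.mapQ_apply, Submodule.Quotient.mk_eq_zero] at hx
    obtain ⟨y, hy⟩ := Ideal.mem_span_singleton'.mp hx
    rw [Submodule.Quotient.mk_eq_zero]
    exact Ideal.mem_span_singleton'.mpr ⟨y, ha.left (by simp only [LinearMap.mulLeft_apply] at hy; show a * (y * b) = a * x; rw [← hy]; ring)⟩
  have hg : Function.Surjective g := fun x => by
    obtain ⟨x, rfl⟩ := Submodule.Quotient.mk_surjective _ x
    exact ⟨Submodule.Quotient.mk x, rfl⟩
  have hfg : Function.Exact f g := by
    intro x
    obtain ⟨x, rfl⟩ := Submodule.Quotient.mk_surjective _ x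
    constructor
    · intro hx
      rw [Submodule.mapQ_apply, Submodule.Quotient.mk_eq_zero] at hx
      obtain ⟨y, hy⟩ := Ideal.mem_span_singleton'.mp hx
      exact ⟨Submodule.Quotient.mk y, by
        rw [Submodule.mapQ_apply]; exact congrArg _ (by simpa [mul_comm] using hy)⟩
    · rintro ⟨y, hy⟩
      obtain ⟨y, rfl⟩ := Submodule.Quotient.mk_surjective _ y
      rw [← hy, Submodule.mapQ_apply, Submodule.mapQ_apply, Submodule.Quotient.mk_eq_zero]
      exact Ideal.mem_span_singleton'.mpr ⟨y, by simp [mul_comm]⟩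
  rw [Module.length_eq_add_of_exact f g hf hg hfg, add_comm]
end Groth.Agent.S9160
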