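import Groth.Statements.S9162
import Groth.Agent.S9161
import Mathlib.RingTheory.Extension.Cotangent.Basic
import Mathlib.RingTheory.Kaehler.Polynomial

set_option autoImplicit false
universe u
open CAlg

namespace Groth.Agent.S9162

/-- Let S be an R-algebra and α : R[x_1, …, x_n] → S, β : R[y_1, …, y_m] → S surjective R-algebra maps
(presentations by polynomial rings in finitely many variables; the kernels I and J need not be
finitely generated). Then I/I² ⊕ S^m and J/J² ⊕ S^n are isomorphic S-modules. -/
theorem result (R S : Type u) [CommRing R] [CommRing S]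
    [Algebra R S] (n m : ℕ) (α : MvPolynomial (Fin n) R →ₐ[R] S) (hα : Function.Surjective α)
    (β : MvPolynomial (Fin m) R →ₐ[R] S) (hβ : Function.Surjective β) :
    Nonempty (((Algebra.Extension.ofSurjective α hα).Cotangent × (Fin m → S)) ≃ₗ[S]
      ((Algebra.Extension.ofSurjective β hβ).Cotangent × (Fin n → S))) := by
  let P := Algebra.Extension.ofSurjective α hα
  let Q := Algebra.Extension.ofSurjective β hβ
  have haux : ∀ {a b : ℕ} (γ : MvPolynomial (Fin a) R →ₐ[R] S) (δ : MvPolynomial (Fin b) R →ₐ[R] S) (hδ : Function.Surjective δ),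
      ∃ θ : MvPolynomial (Fin a) R →ₐ[R] MvPolynomial (Fin b) R, δ.comp θ = γ := fun γ δ hδ =>
    ⟨MvPolynomial.aeval fun i => (hδ (γ (MvPolynomial.X i))).choose,
      MvPolynomial.algHom_ext fun i => by
        rw [AlgHom.comp_apply, MvPolynomial.aeval_X]
        exact (hδ (γ (MvPolynomial.X i))).choose_spec⟩
  obtain ⟨θ, hθ⟩ := haux α β hβ
  obtain ⟨η, hη⟩ := haux β α hα
  let f : P.Hom Q := { toRingHom := θ.toRingHom, toRingHom_algebraMap := θ.commutes, algebraMap_toRingHom := fun x => DFunLike.congr_fun hθ x }
  let g : Q.Hom P := { toRingHom := η.toRingHom, toRingHom_algebraMap := η.commutes, algebraMap_toRingHom := fun x => DFunLike.congr_fun hη x }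
  let bP : Module.Basis (Fin n) P.Ring Ω[P.Ring⁄R] := KaehlerDifferential.mvPolynomialBasis R (Fin n)
  let eP : P.CotangentSpace ≃ₗ[S] (Fin n → S) := (bP.baseChange S).equivFun
  let bQ : Module.Basis (Fin m) Q.Ring Ω[Q.Ring⁄R] := KaehlerDifferential.mvPolynomialBasis R (Fin m)
  let eQ : Q.CotangentSpace ≃ₗ[S] (Fin m → S) := (bQ.baseChange S).equivFun
  obtain ⟨e⟩ := Groth.Agent.S9161.result S P.Cotangent P.CotangentSpace Q.Cotangent Q.CotangentSpace
    P.cotangentComplex Q.cotangentComplex (Algebra.Extension.Cotangent.map f) (Algebra.Extension.CotangentSpace.map f)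
    (Algebra.Extension.Cotangent.map g) (Algebra.Extension.CotangentSpace.map g)
    (LinearMap.ext fun x => (Algebra.Extension.CotangentSpace.map_cotangentComplex f x).symm)
    (LinearMap.ext fun x => (Algebra.Extension.CotangentSpace.map_cotangentComplex g x).symm)
    ((Algebra.Extension.Hom.id P).sub (g.comp f))
    (by
      rw [← Algebra.Extension.Cotangent.map_sub_map, Algebra.Extension.Cotangent.map_id, Algebra.Extension.Cotangent.map_comp]
      rfl)
    (by
      refine Eq.trans ?_ (Algebra.Extension.CotangentSpace.map_sub_map (Algebra.Extension.Hom.id P) (g.comp f))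
      rw [Algebra.Extension.CotangentSpace.map_id, Algebra.Extension.CotangentSpace.map_comp]
      rfl)
    ((Algebra.Extension.Hom.id Q).sub (f.comp g))
    (by
      rw [← Algebra.Extension.Cotangent.map_sub_map, Algebra.Extension.Cotangent.map_id, Algebra.Extension.Cotangent.map_comp]
      rfl)
    (by
      refine Eq.trans ?_ (Algebra.Extension.CotangentSpace.map_sub_map (Algebra.Extension.Hom.id Q) (f.comp g))
      rw [Algebra.Extension.CotangentSpace.map_id, Algebra.Extension.CotangentSpace.map_comp]
      rfl)
  exact ⟨((LinearEquiv.refl S _).prodCongr eQ).symm.trans (e.trans ((LinearEquiv.refl S _).prodCongr eP))⟩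

end Groth.Agent.S9162
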