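import Groth.Statements.S9163
import Mathlib

set_option autoImplicit false
universe u
open CAlg

namespace Groth.Agent.S9163

/-- If S is integral over R, then any finitely many elements of R and of S lie in a pair R₀ ⊆ R, S₀ ⊆ S
with R₀ a finite type ℤ-subalgebra, S₀ an R₀-subalgebra of S, and S₀ finite as an R₀-module; so R →
S is the directed colimit of finite maps between finite type ℤ-algebras. -/
theorem result (R S : Type u) [CommRing R] [CommRing S] [Algebra R S]
    [Algebra.IsIntegral R S] (E : Finset R) (F : Finset S) :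
    ∃ (R₀ : Subalgebra ℤ R) (S₀ : Subalgebra R₀ S), Algebra.FiniteType ℤ R₀ ∧ (E : Set R) ⊆ R₀ ∧
      (F : Set S) ⊆ S₀ ∧ Module.Finite R₀ S₀ := by
  classical
  choose P hP hPx using fun x : S => Algebra.IsIntegral.isIntegral (R := R) x
  let C : Finset R := E ∪ F.biUnion fun x => (P x).coeffs
  let R₀ : Subalgebra ℤ R := Algebra.adjoin ℤ (C : Set R)
  have hC : (C : Set R) ⊆ R₀ := Algebra.subset_adjoin
  have hint : ∀ x ∈ (F : Set S), IsIntegral R₀ x := fun x hx => by
    have hsub : ((P x).coeffs : Set R) ⊆ R₀.toSubring := fun c hc =>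
      hC (Finset.mem_union_right _ (Finset.mem_biUnion.mpr ⟨x, hx, hc⟩))
    refine ⟨(P x).toSubring R₀.toSubring hsub, (Polynomial.monic_toSubring _ _ _).mpr (hP x), ?_⟩
    have h1 := Polynomial.map_toSubring (P x) R₀.toSubring hsub
    rw [← hPx x]
    conv_rhs => rw [← h1, Polynomial.eval₂_map]
    rfl
  refine ⟨R₀, Algebra.adjoin R₀ (F : Set S), ⟨(Subalgebra.fg_top _).mpr ⟨C, rfl⟩⟩,
    fun x hx => hC (Finset.mem_union_left _ hx), Algebra.subset_adjoin,
    (Module.Finite.iff_fg (N := Subalgebra.toSubmodule (Algebra.adjoin R₀ (F : Set S)))).mpr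
      (fg_adjoin_of_finite F.finite_toSet hint)⟩
end Groth.Agent.S9163
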