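import Groth.Statements.S9164
import Mathlib
import Groth.Agent.S9134

set_option autoImplicit false
universe u
open CAlg

namespace Groth.Agent.S9164

/-- Let R be a one-dimensional Noetherian local domain with fraction field K and V a finite-dimensional
K-vector space; a lattice is a finitely generated R-submodule of V spanning V over K. (1) For a
lattice M and an R-submodule M' ⊇ M: M' is a lattice iff M'/M has finite length over R iff M' is
finitely generated. (2) For a lattice M and M' ⊆ M: M' is a lattice iff M/M' has finite length. (3)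
The intersection of two lattices is a lattice. (The published statement also asserts that the sum M
+ M' of two lattices is a lattice and two identities between lengths of quotients of nested
lattices; this row states (1), (2) and the intersection half of (3).) -/
theorem result (R K V : Type u) [CommRing R] [IsDomain R]
    [IsNoetherianRing R] [IsLocalRing R] (hdim : ringKrullDim R = 1) [Field K] [Algebra R K]
    [IsFractionRing R K] [AddCommGroup V] [Module K V] [Module R V] [IsScalarTower R K V]
    [FiniteDimensional K V] (M : Submodule R V) [Submodule.IsLattice K M] :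
    (∀ M' : Submodule R V, M ≤ M' →
        (Submodule.IsLattice K M' ↔ Module.length R (M' ⧸ Submodule.comap M'.subtype M) ≠ ⊤) ∧
          (Submodule.IsLattice K M' ↔ M'.FG)) ∧
      (∀ M' : Submodule R V, M' ≤ M →
        (Submodule.IsLattice K M' ↔ Module.length R (M ⧸ Submodule.comap M.subtype M') ≠ ⊤)) ∧
      ∀ M' : Submodule R V, Submodule.IsLattice K M' → Submodule.IsLattice K (M ⊓ M') := by
  classical
  have hclear : ∀ (L : Submodule R V), Submodule.span K (L : Set V) = ⊤ → ∀ v : V, ∃ r : R, r ≠ 0 ∧ r • v ∈ L := by
    intro L hL v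
    have hv : v ∈ Submodule.span K (L : Set V) := hL ▸ trivial
    induction hv using Submodule.span_induction with
    | mem w hw => exact ⟨1, one_ne_zero, by simpa using hw⟩
    | zero => exact ⟨1, one_ne_zero, by simp⟩
    | add u w _ _ hu hw =>
      obtain ⟨r, hr, hru⟩ := hu; obtain ⟨s, hs, hsw⟩ := hw
      refine ⟨r * s, mul_ne_zero hr hs, ?_⟩
      rw [smul_add]
      exact add_mem (by rw [mul_comm, mul_smul]; exact L.smul_mem s hru) (by rw [mul_smul]; exact L.smul_mem r hsw)
    | smul c u _ hu =>
      obtain ⟨r, hr, hru⟩ := hu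
      obtain ⟨a, b, hb, rfl⟩ := IsFractionRing.div_surjective (A := R) c
      refine ⟨r * b, mul_ne_zero hr (nonZeroDivisors.ne_zero hb), ?_⟩
      rw [← algebraMap_smul K (r * b), smul_smul]
      rw [show algebraMap R K (r * b) * (algebraMap R K a / algebraMap R K b) = algebraMap R K (a * r) by
        rw [map_mul, map_mul, mul_assoc, mul_div_cancel₀ _ (IsFractionRing.to_map_ne_zero_of_mem_nonZeroDivisors hb), mul_comm]]
      rw [algebraMap_smul, mul_smul]
      exact L.smul_mem a hru
  have hclear' : ∀ (L L' : Submodule R V), Submodule.span K (L : Set V) = ⊤ → L'.FG → ∃ r : R, r ≠ 0 ∧ ∀ v ∈ L', r • v ∈ L := by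
    intro L L' hL hL'
    obtain ⟨s, rfl⟩ := hL'
    choose r hr hrv using hclear L hL
    refine ⟨∏ v ∈ s, r v, Finset.prod_ne_zero_iff.mpr fun v _ => hr v, fun v hv => ?_⟩
    refine (Submodule.span_le (p := L.comap (LinearMap.lsmul R V (∏ v ∈ s, r v)))).mpr (fun w hw => ?_) hv
    show (∏ v ∈ s, r v) • w ∈ L
    rw [← Finset.prod_erase_mul _ _ hw, mul_smul]
    exact L.smul_mem _ (hrv w)
  -- finite length of quotients killed by a nonzero scalar
  have hfl : ∀ (L L' : Submodule R V) (r : R), r ≠ 0 → (∀ v ∈ L', r • v ∈ L) →
      Module.length R (L' ⧸ L.comap L'.subtype) ≠ ⊤ := by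
    intro L L' r hr hle
    let e := (Module.finBasis K V).equivFun.restrictScalars R
    let E := Submodule.equivMapOfInjective (e : V →ₗ[R] (Fin (Module.finrank K V) → K)) e.injective L'
    have h1 := Groth.Agent.S9134.result R hdim K (Module.finrank K V) (L'.map (e : V →ₗ[R] _)) r hr
    let J := Ideal.span ({r} : Set R)
    have hJ : (J • ⊤ : Submodule R L').map (E : L' →ₗ[R] L'.map (e : V →ₗ[R] (Fin (Module.finrank K V) → K))) = J • ⊤ := by
      rw [Submodule.map_smul'', Submodule.map_top, LinearEquiv.range]
    rw [← (Submodule.Quotient.equiv _ _ E hJ).length_eq] at h1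
    refine ne_top_of_le_ne_top h1 (Module.length_le_of_surjective (Submodule.factor ?_) (Submodule.factor_surjective _))
    refine Submodule.smul_le.mpr fun s hs v _ => ?_
    obtain ⟨t, rfl⟩ := Ideal.mem_span_singleton'.mp hs
    show (t * r) • (v : V) ∈ L
    rw [mul_smul]
    exact L.smul_mem t (hle _ v.2)
  have hMfg : M.FG := ‹Submodule.IsLattice K M›.fg
  have hMspan : Submodule.span K (M : Set V) = ⊤ := Submodule.IsLattice.span_eq_top
  refine ⟨fun M' hle => ?_, fun M' hle => ?_, fun M' hM' => ?_⟩
  · have hspan : Submodule.span K (M' : Set V) = ⊤ := top_le_iff.mp (hMspan.symm.le.trans (Submodule.span_mono hle))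
    have hiff : Submodule.IsLattice K M' ↔ M'.FG := ⟨fun h => h.fg, fun h => ⟨h, hspan⟩⟩
    refine ⟨hiff.trans ⟨fun h => ?_, fun h => ?_⟩, hiff⟩
    · obtain ⟨r, hr, hrv⟩ := hclear' M M' hMspan h
      exact hfl M M' r hr hrv
    · haveI : IsNoetherian R (M' ⧸ M.comap M'.subtype) :=
        (isFiniteLength_iff_isNoetherian_isArtinian.mp (Module.length_ne_top_iff.mp h)).1
      haveI : Module.Finite R (M.comap M'.subtype) := Module.Finite.of_fg (Submodule.fg_of_fg_map_injective M'.subtype M'.injective_subtype
        (by rw [Submodule.map_comap_eq, Submodule.range_subtype, inf_eq_right.mpr hle]; exact hMfg))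
      exact Module.Finite.iff_fg.mp (Module.Finite.of_submodule_quotient (M.comap M'.subtype))
  · refine ⟨fun h => ?_, fun h => ?_⟩
    · obtain ⟨r, hr, hrv⟩ := hclear' M' M h.span_eq_top hMfg
      exact hfl M' M r hr hrv
    · haveI : IsNoetherian R M := isNoetherian_of_fg_of_noetherian M hMfg
      obtain ⟨hnoeth, hart⟩ := isFiniteLength_iff_isNoetherian_isArtinian.mp (Module.length_ne_top_iff.mp h)
      refine ⟨?_, ?_⟩
      · have := (IsNoetherian.noetherian (M'.comap M.subtype)).map M.subtype
        rwa [Submodule.map_comap_eq, Submodule.range_subtype, inf_eq_right.mpr hle] at this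
      · obtain ⟨x, hxm, hx0⟩ : ∃ x ∈ IsLocalRing.maximalIdeal R, x ≠ 0 := by
          by_contra hc
          push Not at hc
          have hF : IsField R := IsLocalRing.isField_iff_maximalIdeal_eq.mpr ((Submodule.eq_bot_iff _).mpr hc)
          rw [ringKrullDim_eq_zero_of_isField hF] at hdim
          exact zero_ne_one hdim
        rw [eq_top_iff, ← hMspan, Submodule.span_le]
        intro v hv
        let Q := M ⧸ M'.comap M.subtype
        let q : Q := Submodule.Quotient.mk ⟨v, hv⟩
        obtain ⟨n, hn⟩ := monotone_stabilizes_iff_artinian.mpr hart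
          ⟨fun n => OrderDual.toDual (Submodule.span R {x ^ n • q}), fun a b hab => by
            show Submodule.span R {x ^ b • q} ≤ Submodule.span R {x ^ a • q}
            rw [Submodule.span_singleton_le_iff_mem, ← Nat.sub_add_cancel hab, pow_add, mul_smul]
            exact Submodule.smul_mem _ _ (Submodule.mem_span_singleton_self _)⟩
        have h2 : x ^ n • q ∈ Submodule.span R {x ^ (n + 1) • q} := by
          have := hn (n + 1) n.le_succ
          exact (OrderDual.toDual.injective this).le (Submodule.mem_span_singleton_self _)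
        obtain ⟨s, hs⟩ := Submodule.mem_span_singleton.mp h2
        have h3 : (x ^ n * (1 - s * x)) • q = 0 := by
          rw [show x ^ n * (1 - s * x) = x ^ n - s * x ^ (n + 1) by ring, sub_smul, mul_smul, hs, sub_self]
        have hu : x ^ n * (1 - s * x) ≠ 0 := by
          refine mul_ne_zero (pow_ne_zero n hx0) fun h0 => ?_
          exact hxm (IsUnit.of_mul_eq_one_right s (sub_eq_zero.mp h0).symm)
        have h4 : (x ^ n * (1 - s * x)) • v ∈ M' := by
          have := (Submodule.Quotient.mk_eq_zero _).mp ((Submodule.Quotient.mk_smul _ _ _).trans h3)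
          exact this
        have h5 := Submodule.smul_mem (Submodule.span K (M' : Set V)) (algebraMap R K (x ^ n * (1 - s * x)))⁻¹ (Submodule.subset_span h4)
        rwa [← algebraMap_smul K (x ^ n * (1 - s * x)) v, smul_smul, inv_mul_cancel₀ ((map_ne_zero_iff _ (IsFractionRing.injective R K)).mpr hu), one_smul] at h5
  · haveI : IsNoetherian R M := isNoetherian_of_fg_of_noetherian M hMfg
    refine ⟨?_, ?_⟩
    · have := (IsNoetherian.noetherian (M'.comap M.subtype)).map M.subtype
      rwa [Submodule.map_comap_eq, Submodule.range_subtype] at this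
    · rw [eq_top_iff, ← hMspan, Submodule.span_le]
      intro v hv
      obtain ⟨r, hr, hrv⟩ := hclear M' hM'.span_eq_top v
      have h5 := Submodule.smul_mem (Submodule.span K ((M ⊓ M' : Submodule R V) : Set V)) (algebraMap R K r)⁻¹
        (Submodule.subset_span (⟨M.smul_mem r hv, hrv⟩ : r • v ∈ M ⊓ M'))
      rwa [← algebraMap_smul K r v, smul_smul, inv_mul_cancel₀ ((map_ne_zero_iff _ (IsFractionRing.injective R K)).mpr hr), one_smul] at h5
end Groth.Agent.S9164
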