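import Groth.Statements.S9165
import Groth.Agent.CMFlatLib.Locus
import Groth.Agent.DimFormulaLib.LocalDim
-- import your own Groth.Agent.* helpers here

set_option autoImplicit false
universe u
open CAlg

namespace Groth.Agent.S9165

open CategoryTheory AlgebraicGeometry TensorProduct Groth.Agent.DimFormulaLib

variable {R S : Type u} [CommRing R] [CommRing S] [Algebra R S]

/-- The identity chart. -/
noncomputable def idChart [Algebra.FinitePresentation R S] (q : PrimeSpectrum S) :
    Chart (Spec.map (CommRingCat.ofHom (algebraMap R S))) q :=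
  { A := R, B := S, i := 𝟙 _, j := 𝟙 _, w := by rw [Category.comp_id, Category.id_comp], q := q, hq := rfl }

theorem isCMAt_of_hyp [Module.Flat R S] [Algebra.FinitePresentation R S]
    (hCM : ∀ p : PrimeSpectrum R, LocCoh.IsCohenMacaulayRing (p.asIdeal.Fiber S)) (q : PrimeSpectrum S) :
    MoreMor.IsCMAt (Spec.map (CommRingCat.ofHom (algebraMap R S))) q := by
  have key : ∀ (p : PrimeSpectrum R) (Q : PrimeSpectrum (p.asIdeal.Fiber S)),
      LocCoh.IsCohenMacaulayLocalRing (Localization.AtPrime Q.asIdeal) :=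
    fun p Q => (hCM p).isCohenMacaulayLocalRing_localization Q.asIdeal
  refine (CMFlatLib.chart_isCMAt_iff (idChart q)).2 ⟨?_, key _ (idChart q).Q⟩
  show Module.Flat R (Localization.AtPrime q.asIdeal)
  haveI : Module.Flat S (Localization.AtPrime q.asIdeal) := IsLocalization.flat _ q.asIdeal.primeCompl
  exact Module.Flat.trans R S _

theorem piece_flat [Module.Flat R S] {e : S} (he : IsIdempotentElem e) :
    Module.Flat R (S ⧸ Ideal.span {1 - e}) := by
  haveI : IsLocalization.Away e (S ⧸ Ideal.span ({1 - e} : Set S)) :=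
    IsLocalization.Away.quotient_of_isIdempotentElem he
  haveI : Module.Flat S (S ⧸ Ideal.span ({1 - e} : Set S)) := IsLocalization.flat _ (Submonoid.powers e)
  exact Module.Flat.trans R S _

theorem piece_props [Module.Flat R S] [Algebra.FinitePresentation R S]
    (hCM : ∀ p : PrimeSpectrum R, LocCoh.IsCohenMacaulayRing (p.asIdeal.Fiber S))
    {e : S} (he : IsIdempotentElem e) (d : ℕ)
    (hd : ∀ q : PrimeSpectrum S, e ∉ q.asIdeal →
      FlatMor.fibreDimAt (Spec.map (CommRingCat.ofHom (algebraMap R S))) q = (d : WithBot ℕ∞)) :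
    Module.Flat R (S ⧸ Ideal.span {1 - e}) ∧ Algebra.FinitePresentation R (S ⧸ Ideal.span {1 - e}) ∧
      (∀ p : PrimeSpectrum R, LocCoh.IsCohenMacaulayRing (p.asIdeal.Fiber (S ⧸ Ideal.span {1 - e}))) ∧
      ∀ (p : PrimeSpectrum R), ∀ P ∈ minimalPrimes (p.asIdeal.Fiber (S ⧸ Ideal.span {1 - e})),
        ringKrullDim (p.asIdeal.Fiber (S ⧸ Ideal.span {1 - e}) ⧸ P) = (d : WithBot ℕ∞) := by
  let T := S ⧸ Ideal.span ({1 - e} : Set S)
  haveI hfp : Algebra.FinitePresentation R T :=
    Algebra.FinitePresentation.quotient (Submodule.fg_span (Set.finite_singleton _))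
  haveI : IsLocalization.Away e T := IsLocalization.Away.quotient_of_isIdempotentElem he
  haveI : IsOpenImmersion (Spec.map (CommRingCat.ofHom (algebraMap S T))) := IsOpenImmersion.of_isLocalization e
  let f := Spec.map (CommRingCat.ofHom (algebraMap R S))
  let j := Spec.map (CommRingCat.ofHom (algebraMap S T))
  let c : ∀ w : PrimeSpectrum T, Chart f (j w) := fun w =>
    { A := R, B := T, i := 𝟙 _, j := j
      w := by
        rw [Category.comp_id, ← Spec.map_comp, ← CommRingCat.ofHom_comp, ← IsScalarTower.algebraMap_eq]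
      q := w, hq := rfl }
  have hjw : ∀ w : PrimeSpectrum T, e ∉ (j w).asIdeal := fun w hm =>
    w.isPrime.ne_top (w.asIdeal.eq_top_of_isUnit_mem hm (IsLocalization.Away.algebraMap_isUnit e))
  have key : ∀ (p : PrimeSpectrum R) (Q : PrimeSpectrum (p.asIdeal.Fiber T)),
      LocCoh.IsCohenMacaulayLocalRing (Localization.AtPrime Q.asIdeal) ∧
        FlatMor.localDim (PrimeSpectrum (p.asIdeal.Fiber T)) Q = (d : WithBot ℕ∞) := by
    intro p Q
    obtain ⟨⟨w, hw⟩, hwQ⟩ : ∃ z, PrimeSpectrum.preimageEquivFiber R T p z = Q := Equiv.surjective _ Q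
    have hw' : PrimeSpectrum.comap (algebraMap R T) w = p := hw
    subst hw'
    have hQ : Q = (c w).Q := hwQ.symm
    subst hQ
    exact ⟨((CMFlatLib.chart_isCMAt_iff (c w)).1 (isCMAt_of_hyp hCM (j w))).2,
      (c w).fibreDimAt_eq.symm.trans (hd (j w) (hjw w))⟩
  refine ⟨piece_flat he, hfp, fun p => ?_, fun p P hP => ?_⟩
  · haveI : IsNoetherianRing (p.asIdeal.Fiber T) := Algebra.FiniteType.isNoetherianRing p.asIdeal.ResidueField _
    exact { isCohenMacaulayLocalRing_localization := fun P _ => (key p ⟨P, inferInstance⟩).1 }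
  · haveI : P.IsPrime := hP.1.1
    obtain ⟨r, hr⟩ := exists_nat_trdeg_quotient p.asIdeal.ResidueField (p.asIdeal.Fiber T) P
    obtain ⟨a, ha, hloc, -⟩ := localDim_eq_height_add p.asIdeal.ResidueField (p.asIdeal.Fiber T) ⟨P, inferInstance⟩ r hr
    rw [(key p ⟨P, inferInstance⟩).2] at hloc
    have h0 : P.height = 0 := Ideal.height_eq_zero_iff.2 hP
    have ha0 : a = 0 := by
      have : ((a : ℕ) : ℕ∞) = ((0 : ℕ) : ℕ∞) := ha.symm.trans h0
      exact_mod_cast this
    have hdr : d = r := by
      have : d = a + r := by exact_mod_cast hloc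
      omega
    rw [hdr]
    exact ringKrullDim_eq_trdeg p.asIdeal.ResidueField r hr

/-- A flat, finitely presented ring map R → S whose fibre rings κ(p) ⊗ S are Cohen–Macaulay decomposes S
as a finite product of R-algebras S_d (d = 0, …, N), each again flat, finitely presented with
Cohen–Macaulay fibres, and with every irreducible component of every fibre of S_d of dimension d. -/
theorem result (R S : Type u) [CommRing R]
    [CommRing S] [Algebra R S] [Module.Flat R S] [Algebra.FinitePresentation R S]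
    (hCM : ∀ p : PrimeSpectrum R, LocCoh.IsCohenMacaulayRing (p.asIdeal.Fiber S)) :
    ∃ (N : ℕ) (T : Fin (N + 1) → Type u) (_ : ∀ d, CommRing (T d)) (_ : ∀ d, Algebra R (T d)),
      Nonempty (S ≃ₐ[R] ((d : Fin (N + 1)) → T d)) ∧
        ∀ d : Fin (N + 1), Module.Flat R (T d) ∧ Algebra.FinitePresentation R (T d) ∧
          (∀ p : PrimeSpectrum R, LocCoh.IsCohenMacaulayRing (p.asIdeal.Fiber (T d))) ∧
          ∀ (p : PrimeSpectrum R), ∀ P ∈ minimalPrimes (p.asIdeal.Fiber (T d)),
            ringKrullDim (p.asIdeal.Fiber (T d) ⧸ P) = ((d : ℕ) : WithBot ℕ∞) := by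
  classical
  let f := Spec.map (CommRingCat.ofHom (algebraMap R S))
  haveI : LocallyOfFinitePresentation f :=
    (HasRingHomProperty.Spec_iff (P := @LocallyOfFinitePresentation)).2
      (RingHom.finitePresentation_algebraMap.2 ‹_›)
  let F : PrimeSpectrum S → WithBot ℕ∞ := fun q => FlatMor.fibreDimAt f q
  have hlc : IsLocallyConstant F := CMFlatLib.isLocallyConstant_fibreDimAt f (isCMAt_of_hyp hCM)
  choose n hn using fun q : PrimeSpectrum S => CMFlatLib.exists_nat_fibreDimAt f q
  obtain ⟨N, hN⟩ : ∃ N : ℕ, ∀ q, n q ≤ N := by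
    have hfin : (Set.range n).Finite := by
      refine (hlc.range_finite.preimage (f := fun m : ℕ => (m : WithBot ℕ∞))
        (Nat.cast_injective.injOn)).subset ?_
      rintro _ ⟨q, rfl⟩
      exact ⟨q, hn q⟩
    obtain ⟨N, hN⟩ := hfin.bddAbove
    exact ⟨N, fun q => hN ⟨q, rfl⟩⟩
  have hcl : ∀ d : Fin (N + 1), IsClopen {q : PrimeSpectrum S | F q = ((d : ℕ) : WithBot ℕ∞)} :=
    fun d => hlc.isClopen_fiber _
  choose e he hD using fun d => PrimeSpectrum.exists_idempotent_basicOpen_eq_of_isClopen (hcl d)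
  have hmem : ∀ (d : Fin (N + 1)) (q : PrimeSpectrum S), e d ∉ q.asIdeal ↔ n q = (d : ℕ) := fun d q => by
    have h := Set.ext_iff.1 (hD d) q
    rw [Set.mem_ofPred_eq, show F q = (n q : WithBot ℕ∞) from hn q, Nat.cast_inj] at h
    exact h.symm
  have hortho : Pairwise (e · * e · = 0) := fun i j hij => by
    refine PrimeSpectrum.basicOpen_injOn_isIdempotentElem ((he i).mul (he j)) IsIdempotentElem.zero ?_
    ext q
    constructor
    · intro hq
      have hi : n q = i := (hmem i q).1 fun h => hq (q.asIdeal.mul_mem_right _ h)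
      have hj : n q = j := (hmem j q).1 fun h => hq (q.asIdeal.mul_mem_left _ h)
      exact (hij (Fin.ext (hi.symm.trans hj))).elim
    · intro hq
      exact absurd (zero_mem q.asIdeal) hq
  have ho : OrthogonalIdempotents e := ⟨he, hortho⟩
  have hsum : ∑ i, e i = 1 := by
    refine PrimeSpectrum.basicOpen_injOn_isIdempotentElem ho.isIdempotentElem_sum IsIdempotentElem.one ?_
    ext q
    constructor
    · intro _
      exact q.isPrime.ne_top ∘ q.asIdeal.eq_top_iff_one.2
    · intro _ hs
      let d : Fin (N + 1) := ⟨n q, Nat.lt_succ_of_le (hN q)⟩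
      refine (hmem d q).2 rfl ?_
      rw [← ho.mul_sum_of_mem (Finset.mem_univ d)]
      exact q.asIdeal.mul_mem_left _ hs
  have hbij := CompleteOrthogonalIdempotents.bijective_pi ⟨ho, hsum⟩
  refine ⟨N, fun d => S ⧸ Ideal.span {1 - e d}, fun d => inferInstance, fun d => inferInstance,
    ⟨AlgEquiv.ofBijective (AlgHom.pi (fun d => Ideal.Quotient.mkₐ R (Ideal.span {1 - e d}))) hbij⟩, fun d => ?_⟩
  exact piece_props hCM (he d) (d : ℕ) fun q hq => (hn q).trans (congrArg _ ((hmem d q).1 hq))

end Groth.Agent.S9165
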