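import Groth.Statements.S9166
import Mathlib.RingTheory.Nakayama
import Mathlib.RingTheory.Flat.EquationalCriterion
import Mathlib.RingTheory.FinitePresentation
-- import your own Groth.Agent.* helpers here

set_option autoImplicit false
universe u
open CAlg

namespace Groth.Agent.S9166

/-- Let I be an ideal of a ring R, S → S' a surjective homomorphism of R-algebras with S of finite type
and S' of finite presentation over R, and q a prime of S containing IS. Assume S'_q is flat over R
and that S_q/IS_q → S'_q/IS'_q is an isomorphism, which for a surjection says: every element of the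
kernel of S → S' maps into I·S_q. Then for some g ∉ q the localized map S_g → S'_g is bijective. -/
theorem result (R S S' : Type u) [CommRing R] [CommRing S]
    [CommRing S'] [Algebra R S] [Algebra R S'] [Algebra.FiniteType R S] [Algebra.FinitePresentation R S']
    (I : Ideal R) (f : S →ₐ[R] S') (hf : Function.Surjective f) (q : Ideal S) [q.IsPrime]
    (hq : I.map (algebraMap R S) ≤ q)
    (hker : ∀ j : S, f j = 0 →
      algebraMap S (Localization.AtPrime q) j ∈ I.map (algebraMap R (Localization.AtPrime q)))
    (hflat : letI : Module S S' := f.toRingHom.toModule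
      Module.Flat R (LocalizedModule q.primeCompl S')) :
    ∃ g : S, g ∉ q ∧ Function.Bijective (Localization.awayMap f.toRingHom g) := by
  classical
  letI : Module S S' := f.toRingHom.toModule
  haveI hT : IsScalarTower R S S' := ⟨fun r s x => by
    show f (r • s) * x = r • (f s * x)
    rw [map_smul, smul_mul_assoc]⟩
  let M := LocalizedModule q.primeCompl S'
  let Sq := Localization.AtPrime q
  let fl : S →ₗ[S] S' :=
    { toFun := f
      map_add' := map_add f
      map_smul' := fun c x => by show f (c * x) = f c * f x; exact map_mul f c x }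
  let φ : Sq →ₗ[S] M := IsLocalizedModule.map q.primeCompl (Algebra.linearMap S Sq)
    (LocalizedModule.mkLinearMap q.primeCompl S') fl
  have hφs : Function.Surjective φ := IsLocalizedModule.map_surjective q.primeCompl _ _ fl hf
  have hTM : ∀ (r : R) (x : M), algebraMap R S r • x = r • x := fun r x => algebraMap_smul S r x
  have hφR : ∀ (r : R) (x : Sq), φ (algebraMap R Sq r * x) = r • φ x := fun r x => by
    rw [IsScalarTower.algebraMap_apply R S Sq, ← Algebra.smul_def, map_smul, hTM]
  have hfg : (RingHom.ker f.toRingHom).FG := by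
    obtain ⟨m, π, hπ⟩ := Algebra.FiniteType.iff_quotient_mvPolynomial''.1 ‹Algebra.FiniteType R S›
    have := (Algebra.FinitePresentation.ker_fg_of_mvPolynomial (f.comp π) (hf.comp hπ)).map π.toRingHom
    have e : (RingHom.ker (f.comp π).toRingHom).map π.toRingHom = RingHom.ker f.toRingHom := by
      rw [show RingHom.ker (f.comp π).toRingHom = (RingHom.ker f.toRingHom).comap π.toRingHom from rfl,
        Ideal.map_comap_of_surjective π.toRingHom hπ]
    rwa [e] at this
  let K := RingHom.ker f.toRingHom
  let Kq := K.map (algebraMap S Sq)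
  have hKφ : ∀ x : Sq, φ x = 0 → x ∈ Kq := by
    intro x hx
    obtain ⟨⟨s, u⟩, rfl⟩ := IsLocalization.mk'_surjective q.primeCompl x
    have h2 : φ (algebraMap S Sq s) = 0 := by
      rw [← IsLocalization.mk'_spec (M := q.primeCompl) Sq s u, mul_comm, ← Algebra.smul_def, map_smul, hx, smul_zero]
    have h3 : LocalizedModule.mkLinearMap q.primeCompl S' (f s) = 0 := by
      rw [← h2]
      exact (IsLocalizedModule.map_apply q.primeCompl (Algebra.linearMap S Sq)
        (LocalizedModule.mkLinearMap q.primeCompl S') fl s).symm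
    obtain ⟨w, hw⟩ := (IsLocalizedModule.eq_zero_iff q.primeCompl (LocalizedModule.mkLinearMap q.primeCompl S')).1 h3
    refine (IsLocalization.mem_map_algebraMap_iff q.primeCompl Sq).2
      ⟨⟨⟨(w : S) * s, ?_⟩, w * u⟩, ?_⟩
    · rw [RingHom.mem_ker]; exact (map_mul f (w : S) s).trans hw
    · rw [Submonoid.coe_mul, map_mul, map_mul, mul_left_comm, IsLocalization.mk'_spec]
  have hle : Kq ≤ (I.map (algebraMap R Sq)) • Kq := by
    refine Ideal.map_le_iff_le_comap.2 fun j hj => ?_
    have hjI := hker j hj
    rw [Ideal.map, Ideal.span, Finsupp.mem_span_image_iff_linearCombination] at hjI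
    obtain ⟨l, hl, hlj⟩ := hjI
    rw [Finsupp.linearCombination_apply, Finsupp.sum] at hlj
    simp only [smul_eq_mul] at hlj
    have hrel : ∑ i : l.support, (i : R) • φ (l i) = 0 := by
      rw [Finset.sum_coe_sort l.support (fun i => i • φ (l i))]
      simp only [← hφR, ← map_sum, mul_comm (algebraMap R Sq _)]
      rw [hlj]
      refine (IsLocalizedModule.map_apply q.primeCompl (Algebra.linearMap S Sq)
        (LocalizedModule.mkLinearMap q.primeCompl S') fl j).trans ?_
      change LocalizedModule.mkLinearMap q.primeCompl S' (f j) = 0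
      rw [show f j = 0 from hj, map_zero]
    haveI : Module.Flat R M := hflat
    obtain ⟨m, a, y, hy, ha⟩ := Module.Flat.isTrivialRelation_of_sum_smul_eq_zero (R := R) (M := M) hrel
    choose t ht using fun k => hφs (y k)
    rw [Ideal.mem_comap, ← hlj, ← Finset.sum_coe_sort]
    have e : ∑ i : l.support, l i * algebraMap R Sq i =
        ∑ i : l.support, algebraMap R Sq i * (l i - ∑ k, algebraMap R Sq (a i k) * t k) := by
      rw [← sub_eq_zero, ← Finset.sum_sub_distrib]
      simp only [mul_sub, Finset.mul_sum, sub_sub_eq_add_sub, mul_comm (l _), add_sub_cancel_left]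
      refine (Finset.sum_congr rfl fun i _ => Finset.mul_sum _ _ _).trans ?_
      rw [Finset.sum_comm]
      simp only [← mul_assoc, ← map_mul, ← Finset.sum_mul, ← map_sum, ha, map_zero, zero_mul, Finset.sum_const_zero]
    rw [e]
    refine Submodule.sum_mem _ fun i _ => Submodule.smul_mem_smul (Ideal.mem_map_of_mem _ (hl i.2)) (hKφ _ ?_)
    rw [map_sub, map_sum, sub_eq_zero]
    refine (hy i).trans ?_
    exact Finset.sum_congr rfl fun k _ => by rw [hφR, ht]
  have hIq : I.map (algebraMap R Sq) ≤ (⊥ : Ideal Sq).jacobson := by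
    rw [IsLocalRing.jacobson_eq_maximalIdeal ⊥ bot_ne_top, IsScalarTower.algebraMap_eq R S Sq, ← Ideal.map_map,
      ← Localization.AtPrime.map_eq_maximalIdeal]
    exact Ideal.map_mono hq
  have hK0 : Kq = ⊥ := Submodule.eq_bot_of_le_smul_of_le_jacobson_bot _ _ (hfg.map _) hle hIq
  obtain ⟨G, hG⟩ := hfg
  have hk : ∀ x : S, ∃ u : S, u ∉ q ∧ (x ∈ K → u * x = 0) := fun x => by
    by_cases hx : x ∈ K
    · have h0 : algebraMap S Sq x = 0 := Ideal.mem_bot.1 (hK0 ▸ Ideal.mem_map_of_mem _ hx)
      obtain ⟨u, hu⟩ := (IsLocalization.map_eq_zero_iff q.primeCompl Sq x).1 h0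
      exact ⟨u, u.2, fun _ => hu⟩
    · exact ⟨1, fun h => Ideal.IsPrime.ne_top ‹q.IsPrime› ((Ideal.eq_top_iff_one q).2 h), fun h => absurd h hx⟩
  choose u hu hux using hk
  refine ⟨∏ x ∈ G, u x, fun h => ?_, ?_, ?_⟩
  · obtain ⟨x, -, hx⟩ := (Ideal.IsPrime.prod_mem_iff).1 h
    exact hu x hx
  · rw [Localization.awayMap_injective_iff]
    intro a ha
    refine ⟨1, ?_⟩
    rw [pow_one]
    have ha' : a ∈ Submodule.span S (G : Set S) := hG.ge ha
    induction ha' using Submodule.span_induction with
    | mem x hx =>
      rw [← Finset.prod_erase_mul G u hx, mul_assoc, hux x (hG.le (Submodule.subset_span hx)), mul_zero]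
    | zero => rw [mul_zero]
    | add x y hx hy ihx ihy =>
      rw [mul_add, ihx (RingHom.mem_ker.1 (hG.le hx)), ihy (RingHom.mem_ker.1 (hG.le hy)), add_zero]
    | smul r x hx ihx => rw [smul_eq_mul, mul_left_comm, ihx (RingHom.mem_ker.1 (hG.le hx)), mul_zero]
  · rw [Localization.awayMap_surjective_iff]
    intro a
    obtain ⟨b, hb⟩ := hf a
    exact ⟨b, 0, by rw [pow_zero, one_mul]; exact hb⟩

end Groth.Agent.S9166
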