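import Groth.Statements.S9167
import Mathlib


set_option autoImplicit false
universe u
open CAlg

namespace Groth.Agent.S9167

/-- With R' = S⁻¹(R/I), every finitely presented R'-module is of the form S⁻¹(M/IM) for some finitely
presented R-module M. -/
theorem result (R : Type u) [CommRing R] (I : Ideal R)
    (S : Submonoid R) (M' : Type u) [AddCommGroup M']
    [Module (Localization (S.map (Ideal.Quotient.mk I))) M']
    [Module.FinitePresentation (Localization (S.map (Ideal.Quotient.mk I))) M'] :
    ∃ (M : Type u) (_ : AddCommGroup M) (_ : Module R M), Module.FinitePresentation R M ∧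
      Nonempty (LocalizedModule (S.map (Ideal.Quotient.mk I)) (M ⧸ (I • ⊤ : Submodule R M))
        ≃ₗ[Localization (S.map (Ideal.Quotient.mk I))] M') := by
  classical
  letI : Module (R ⧸ I) M' := Module.compHom M' (algebraMap (R ⧸ I) (Localization (S.map (Ideal.Quotient.mk I))))
  haveI : IsScalarTower (R ⧸ I) (Localization (S.map (Ideal.Quotient.mk I))) M' := IsScalarTower.of_compHom _ _ _
  obtain ⟨n, K', e', hK'⟩ := Module.FinitePresentation.exists_fin (Localization (S.map (Ideal.Quotient.mk I))) M'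
  obtain ⟨G, hG⟩ := hK'
  let f : (Fin n → R ⧸ I) →ₗ[R ⧸ I] (Fin n → Localization (S.map (Ideal.Quotient.mk I))) :=
    LinearMap.pi fun i => Algebra.linearMap (R ⧸ I) (Localization (S.map (Ideal.Quotient.mk I))) ∘ₗ LinearMap.proj i
  haveI : IsLocalizedModule (S.map (Ideal.Quotient.mk I)) f := IsLocalizedModule.pi (S.map (Ideal.Quotient.mk I)) _
  have hsurj : ∀ g : G, ∃ w : Fin n → R, ∃ s : (S.map (Ideal.Quotient.mk I)), f (fun i => (Ideal.Quotient.mk I) (w i)) = s • (g : Fin n → Localization (S.map (Ideal.Quotient.mk I))) := by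
    intro g
    obtain ⟨⟨m, s⟩, hms⟩ := IsLocalizedModule.surj (S.map (Ideal.Quotient.mk I)) f (g : Fin n → Localization (S.map (Ideal.Quotient.mk I)))
    have hmk : ∀ i, ∃ w, (Ideal.Quotient.mk I) w = m i := fun i => Ideal.Quotient.mk_surjective (m i)
    choose w hw using hmk
    exact ⟨w, s, by rw [funext hw]; exact hms.symm⟩
  choose w s hws using hsurj
  let K₀ : Submodule R (Fin n → R) := Submodule.span R (Set.range w)
  let K : Submodule (R ⧸ I) (Fin n → R ⧸ I) := Submodule.span (R ⧸ I) (Set.range fun g i => (Ideal.Quotient.mk I) (w g i))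
  have hK : K.localized' (Localization (S.map (Ideal.Quotient.mk I))) (S.map (Ideal.Quotient.mk I)) f = K' := by
    rw [Submodule.localized'_span, ← hG]
    refine le_antisymm (Submodule.span_le.2 ?_) (Submodule.span_le.2 fun g hg => ?_)
    · rintro _ ⟨_, ⟨g, rfl⟩, rfl⟩
      rw [hws, Submonoid.smul_def, ← algebraMap_smul (Localization (S.map (Ideal.Quotient.mk I)))]
      exact Submodule.smul_mem _ _ (Submodule.subset_span g.2)
    · obtain ⟨t, ht⟩ := IsLocalization.map_units (Localization (S.map (Ideal.Quotient.mk I))) (s ⟨g, hg⟩)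
      have h1 := Submodule.smul_mem (Submodule.span (Localization (S.map (Ideal.Quotient.mk I)))
        (f '' Set.range fun g i => (Ideal.Quotient.mk I) (w g i))) (↑t⁻¹ : Localization (S.map (Ideal.Quotient.mk I)))
        (Submodule.subset_span ⟨_, ⟨⟨g, hg⟩, rfl⟩, rfl⟩)
      rw [hws, Submonoid.smul_def, ← algebraMap_smul (Localization (S.map (Ideal.Quotient.mk I))) ((s ⟨g, hg⟩ : R ⧸ I)),
        ← ht, ← mul_smul, Units.inv_mul, one_smul] at h1
      exact h1
  let ρ : (Fin n → R) →ₗ[R] ((Fin n → R ⧸ I) ⧸ K) :=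
    (K.mkQ.restrictScalars R) ∘ₗ LinearMap.pi fun i => (Submodule.mkQ I) ∘ₗ LinearMap.proj i
  have hρ : ∀ x, ρ x = K.mkQ (fun i => (Ideal.Quotient.mk I) (x i)) := fun x => rfl
  have hρ0 : K₀ ≤ LinearMap.ker ρ := by
    rw [Submodule.span_le]
    rintro _ ⟨g, rfl⟩
    exact (Submodule.Quotient.mk_eq_zero K).2 (Submodule.subset_span ⟨g, rfl⟩)
  let p := K₀.liftQ ρ hρ0
  have hI : (I • ⊤ : Submodule R ((Fin n → R) ⧸ K₀)) ≤ LinearMap.ker p := by
    refine Submodule.smul_le.2 fun a ha x _ => ?_
    have h0 : ∀ y : (Fin n → R ⧸ I) ⧸ K, a • y = 0 := fun y => by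
      rw [← algebraMap_smul (R ⧸ I) a y, Ideal.Quotient.algebraMap_eq,
        Ideal.Quotient.eq_zero_iff_mem.2 ha, zero_smul]
    rw [LinearMap.mem_ker, map_smul, h0]
  let q := (I • ⊤ : Submodule R ((Fin n → R) ⧸ K₀)).liftQ p hI
  have hq : Function.Bijective q := by
    constructor
    · rw [injective_iff_map_eq_zero]
      intro y hy
      obtain ⟨y, rfl⟩ := Submodule.mkQ_surjective _ y
      obtain ⟨x, rfl⟩ := Submodule.mkQ_surjective _ y
      have hx : (fun i => (Ideal.Quotient.mk I) (x i)) ∈ K := (Submodule.Quotient.mk_eq_zero K).1 hy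
      obtain ⟨c, hc⟩ := (Submodule.mem_span_range_iff_exists_fun _).1 hx
      have hcl : ∀ g, ∃ d, (Ideal.Quotient.mk I) d = c g := fun g => Ideal.Quotient.mk_surjective (c g)
      choose d hd using hcl
      set z := x - ∑ g, d g • w g
      have hz : ∀ i, z i ∈ I := fun i => by
        refine (Ideal.Quotient.eq_zero_iff_mem (I := I)).1 ?_
        have := congr_fun hc i
        simp only [Finset.sum_apply, Pi.smul_apply, smul_eq_mul] at this
        simp only [z, Pi.sub_apply, Finset.sum_apply, Pi.smul_apply, smul_eq_mul, map_sub, map_sum, map_mul]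
        rw [sub_eq_zero]
        refine this.symm.trans (Finset.sum_congr rfl fun g _ => ?_)
        rw [hd]
      refine (Submodule.Quotient.mk_eq_zero _).2 ?_
      have hsplit : K₀.mkQ x = ∑ i, z i • K₀.mkQ (Pi.single i 1) := by
        have e1 : K₀.mkQ x = K₀.mkQ z := by
          rw [← sub_eq_zero, ← map_sub, sub_sub_cancel]
          exact (Submodule.Quotient.mk_eq_zero _).2
            (Submodule.sum_mem _ fun g _ => Submodule.smul_mem _ _ (Submodule.subset_span ⟨g, rfl⟩))
        rw [e1]
        conv_lhs => rw [pi_eq_sum_univ' z, map_sum]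
        simp only [map_smul]
      rw [hsplit]
      exact Submodule.sum_mem _ fun i _ => Submodule.smul_mem_smul (hz i) Submodule.mem_top
    · intro y
      obtain ⟨x, rfl⟩ := K.mkQ_surjective y
      have hxl : ∀ i, ∃ d, (Ideal.Quotient.mk I) d = x i := fun i => Ideal.Quotient.mk_surjective (x i)
      choose d hd using hxl
      exact ⟨Submodule.mkQ _ (K₀.mkQ d), congrArg K.mkQ (funext hd)⟩
  let E := (LinearEquiv.ofBijective q hq).extendScalarsOfSurjective (S := R ⧸ I)
    Ideal.Quotient.mk_surjective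
  let h := (K.toLocalizedQuotient' (Localization (S.map (Ideal.Quotient.mk I))) (S.map (Ideal.Quotient.mk I)) f) ∘ₗ E.toLinearMap
  haveI : IsLocalizedModule (S.map (Ideal.Quotient.mk I)) h := IsLocalizedModule.of_linearEquiv_right _ _ _
  refine ⟨(Fin n → R) ⧸ K₀, inferInstance, inferInstance,
    Module.finitePresentation_of_surjective K₀.mkQ K₀.mkQ_surjective
      (by rw [Submodule.ker_mkQ]; exact Submodule.fg_span (Set.finite_range w)), ⟨?_⟩⟩
  exact ((IsLocalizedModule.iso (S.map (Ideal.Quotient.mk I)) h).extendScalarsOfIsLocalization (S.map (Ideal.Quotient.mk I)) (Localization (S.map (Ideal.Quotient.mk I)))).trans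
    ((Submodule.quotEquivOfEq _ _ hK).trans e'.symm)

end Groth.Agent.S9167
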