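import Groth.Statements.S9168
import Mathlib.RingTheory.EssentialFiniteness
import Mathlib.RingTheory.RingHom.EssFiniteType
import Mathlib.RingTheory.LocalRing.Basic

set_option autoImplicit false
universe u
open CAlg

namespace Groth.Agent.S9168
/-- Fractions with denominator in `A` invertible in the whole ring. -/
def loc {R : Type*} [CommRing R] (A : Subring R) : Subring R where
  carrier := {x | ∃ s ∈ A, IsUnit s ∧ s * x ∈ A}
  zero_mem' := ⟨1, A.one_mem, isUnit_one, by simp⟩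
  one_mem' := ⟨1, A.one_mem, isUnit_one, by simp⟩
  add_mem' := by
    rintro x y ⟨s, hs, hs', hx⟩ ⟨t, ht, ht', hy⟩
    refine ⟨s * t, A.mul_mem hs ht, hs'.mul ht', ?_⟩
    rw [show s * t * (x + y) = t * (s * x) + s * (t * y) by ring]
    exact A.add_mem (A.mul_mem ht hx) (A.mul_mem hs hy)
  mul_mem' := by
    rintro x y ⟨s, hs, hs', hx⟩ ⟨t, ht, ht', hy⟩
    refine ⟨s * t, A.mul_mem hs ht, hs'.mul ht', ?_⟩
    rw [show s * t * (x * y) = (s * x) * (t * y) by ring]
    exact A.mul_mem hx hy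
  neg_mem' := by
    rintro x ⟨s, hs, hs', hx⟩
    exact ⟨s, hs, hs', by simpa using hx⟩

theorem le_loc {R : Type*} [CommRing R] (A : Subring R) : A ≤ loc A := fun x hx =>
  ⟨1, A.one_mem, isUnit_one, by simpa using hx⟩

theorem isLocalHom_loc {R : Type*} [CommRing R] (A : Subring R) :
    IsLocalHom (loc A).subtype := by
  refine ⟨fun x hx => ?_⟩
  obtain ⟨s, hs, hs', hsx⟩ := x.2
  obtain ⟨u, hu⟩ := hx
  have hxu : (x : R) * ↑u⁻¹ = 1 := (congrArg (· * (↑u⁻¹ : R)) (show (x : R) = u from hu.symm)).trans u.mul_inv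
  refine IsUnit.of_mul_eq_one ⟨(↑u⁻¹ : R), s * (x : R), hsx, hs'.mul ⟨u, hu⟩, ?_⟩ ?_
  · rw [mul_assoc, hxu, mul_one]
    exact hs
  · exact Subtype.ext hxu

theorem mem_adjoin_of_mem_closure {R : Type*} [CommRing R] {L : Subring R} {B : Type*}
    [CommRing B] [Algebra B L] (T : Set L) {Y : Set R}
    (hY : ∀ y ∈ Y, ∃ l ∈ Algebra.adjoin B T, (l : R) = y) {x : R} (hx : x ∈ Subring.closure Y) :
    ∃ l ∈ Algebra.adjoin B T, (l : R) = x := by
  induction hx using Subring.closure_induction with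
  | mem y hy => exact hY y hy
  | zero => exact ⟨0, zero_mem _, rfl⟩
  | one => exact ⟨1, one_mem _, rfl⟩
  | add a b _ _ iha ihb =>
    obtain ⟨p, hp, rfl⟩ := iha
    obtain ⟨q, hq, rfl⟩ := ihb
    exact ⟨p + q, add_mem hp hq, rfl⟩
  | neg a _ iha =>
    obtain ⟨p, hp, rfl⟩ := iha
    exact ⟨-p, neg_mem hp, rfl⟩
  | mul a b _ _ iha ihb =>
    obtain ⟨p, hp, rfl⟩ := iha
    obtain ⟨q, hq, rfl⟩ := ihb
    exact ⟨p * q, mul_mem hp hq, rfl⟩

theorem essFiniteType_loc {R : Type*} [CommRing R] {B : Type*} [CommRing B] (Y : Set R)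
    [Algebra B (loc (Subring.closure Y))] (T : Finset (loc (Subring.closure Y)))
    (hY : ∀ y ∈ Y, ∃ l ∈ Algebra.adjoin B (T : Set (loc (Subring.closure Y))), (l : R) = y) :
    Algebra.EssFiniteType B (loc (Subring.closure Y)) := by
  refine (Algebra.essFiniteType_iff _ _).mpr ⟨T, fun x => ?_⟩
  obtain ⟨s, hs, hs', hsx⟩ := x.2
  obtain ⟨l, hl, rfl⟩ := mem_adjoin_of_mem_closure _ hY hs
  obtain ⟨k, hk, hk'⟩ := mem_adjoin_of_mem_closure _ hY hsx
  refine ⟨l, hl, (isLocalHom_loc _).map_nonunit l hs', ?_⟩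
  have : x * l = k := Subtype.ext (by rw [hk']; exact mul_comm _ _)
  rwa [this]


/-- For a local homomorphism of local rings R → S and finite subsets E ⊆ R, F ⊆ S there are local
subrings R₀ ⊆ R and S₀ ⊆ S containing E and F, with R → S mapping R₀ into S₀, such that the
inclusions and the induced map R₀ → S₀ are local homomorphisms, R₀ is essentially of finite type
over ℤ and S₀ is essentially of finite type over R₀. (So R → S is the directed colimit of such R₀ →
S₀.) -/
theorem result (R S : Type u) [CommRing R] [CommRing S] [IsLocalRing R]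
    [IsLocalRing S] [Algebra R S] [IsLocalHom (algebraMap R S)] (E : Finset R) (F : Finset S) :
    ∃ (R₀ : Subring R) (S₀ : Subring S) (h : ∀ x ∈ R₀, algebraMap R S x ∈ S₀),
      (E : Set R) ⊆ R₀ ∧ (F : Set S) ⊆ S₀ ∧ ∃ (_ : IsLocalRing R₀) (_ : IsLocalRing S₀),
        IsLocalHom R₀.subtype ∧ IsLocalHom S₀.subtype ∧
          IsLocalHom ((algebraMap R S).restrict R₀ S₀ h) ∧
          (algebraMap ℤ R₀).EssFiniteType ∧ ((algebraMap R S).restrict R₀ S₀ h).EssFiniteType := by
  classical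
  let R₀ := loc (Subring.closure (E : Set R))
  let Y : Set S := algebraMap R S '' (R₀ : Set R) ∪ (F : Set S)
  let S₀ := loc (Subring.closure Y)
  have h : ∀ x ∈ R₀, algebraMap R S x ∈ S₀ := fun x hx =>
    le_loc _ (Subring.subset_closure (Or.inl ⟨x, hx, rfl⟩))
  haveI h₁ : IsLocalHom R₀.subtype := isLocalHom_loc _
  haveI h₂ : IsLocalHom S₀.subtype := isLocalHom_loc _
  haveI : IsLocalRing R₀ := RingHom.domain_isLocalRing R₀.subtype
  haveI : IsLocalRing S₀ := RingHom.domain_isLocalRing S₀.subtype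
  refine ⟨R₀, S₀, h, fun x hx => le_loc _ (Subring.subset_closure hx),
    fun x hx => le_loc _ (Subring.subset_closure (Or.inr hx)), inferInstance, inferInstance, h₁, h₂,
    ⟨fun x hx => h₁.map_nonunit x (IsLocalHom.map_nonunit (f := algebraMap R S) _ (hx.map S₀.subtype))⟩,
    ?_, ?_⟩
  · rw [RingHom.essFiniteType_algebraMap]
    refine essFiniteType_loc (B := ℤ) (E : Set R)
      (E.attach.image fun e => (⟨e.1, le_loc _ (Subring.subset_closure e.2)⟩ : R₀)) fun y hy => ?_
    exact ⟨_, Algebra.subset_adjoin (Finset.mem_image_of_mem _ (Finset.mem_attach E ⟨y, hy⟩)), rfl⟩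
  · letI := ((algebraMap R S).restrict R₀ S₀ h).toAlgebra
    show Algebra.EssFiniteType R₀ S₀
    refine essFiniteType_loc (B := R₀) Y
      (F.attach.image fun e => (⟨e.1, le_loc _ (Subring.subset_closure (Or.inr e.2))⟩ : S₀)) ?_
    rintro y (⟨x, hx, rfl⟩ | hy)
    · exact ⟨algebraMap R₀ S₀ ⟨x, hx⟩, Subalgebra.algebraMap_mem _ _, rfl⟩
    · exact ⟨_, Algebra.subset_adjoin (Finset.mem_image_of_mem _ (Finset.mem_attach F ⟨y, hy⟩)), rfl⟩

end Groth.Agent.S9168
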