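import Groth.Statements.S9171
import Groth.Agent.CILib.LCIPoint

set_option autoImplicit false
universe u
open Synt

namespace Groth.Agent.S9171

theorem main {R S : Type u} [CommRing R] [CommRing S] [IsRegularLocalRing R] [Nontrivial S] (f₀ : R →+* S)
    (hf₀ : Function.Surjective f₀) {J : Ideal R} (hk : RingHom.ker f₀ = J) {a b c : ℕ}
    (hdR : ringKrullDim R = ((b : ℕ) : WithBot ℕ∞)) (hdS : ringKrullDim S = ((a : ℕ) : WithBot ℕ∞)) (hcab : c + a = b) :
    (Groth.Agent.CILib.CutBy f₀ ↔ ∃ s : Finset R, s.card = c ∧ Ideal.span (s : Set R) = J) ∧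
      (Groth.Agent.CILib.CutBy f₀ ↔
        ∃ rs : List R, RingTheory.Sequence.IsRegular R rs ∧ Ideal.ofList rs = J) := by
  classical
  refine ⟨⟨?_, ?_⟩, ⟨?_, ?_⟩⟩
  · rintro ⟨c', ⟨f, hf⟩, hd⟩
    rw [hdR, hdS] at hd
    have hcc : b = a + c' := by exact_mod_cast hd
    refine ⟨Finset.univ.image f, ?_, ?_⟩
    · have hle : (Finset.univ.image f).card ≤ c := by
        refine Finset.card_image_le.trans ?_
        rw [Finset.card_univ, Fintype.card_fin]; omega
      refine le_antisymm hle ?_
      have h := ringKrullDim_le_ringKrullDim_quotient_add_spanFinrank (RingHom.ker f₀)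
        ((IsLocalRing.le_maximalIdeal (RingHom.ker_ne_top f₀)).trans_eq (IsLocalRing.ringJacobson_eq_maximalIdeal R).symm)
      rw [ringKrullDim_eq_of_ringEquiv (RingHom.quotientKerEquivOfSurjective hf₀), hdR, hdS] at h
      have h' : b ≤ a + (RingHom.ker f₀).spanFinrank := by exact_mod_cast h
      have h'' : (RingHom.ker f₀).spanFinrank ≤ (Finset.univ.image f).card := by
        rw [hf, ← Set.ncard_coe_finset, Finset.coe_image, Finset.coe_univ, Set.image_univ]
        exact Submodule.spanFinrank_span_le_ncard_of_finite (Set.finite_range f)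
      omega
    · rw [← hk, hf, Finset.coe_image, Finset.coe_univ, Set.image_univ]
  · rintro ⟨s, hs, hspan⟩
    refine ⟨c, ⟨fun i => ((s.equivFinOfCardEq hs).symm i : R), ?_⟩, ?_⟩
    · rw [hk, ← hspan]
      congr 1
      ext x
      exact ⟨fun hx => ⟨s.equivFinOfCardEq hs ⟨x, hx⟩, by simp⟩, by rintro ⟨i, rfl⟩; exact ((s.equivFinOfCardEq hs).symm i).2⟩
    · rw [hdR, hdS]; exact_mod_cast (by omega : b = a + c)
  · intro h
    obtain ⟨rs, hreg, hrs⟩ := Groth.Agent.CILib.isRegular_of_cutBy f₀ hf₀ h
    exact ⟨rs, hreg, hrs.symm.trans hk⟩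
  · rintro ⟨rs, hreg, hrs⟩
    exact Groth.Agent.CILib.cutBy_of_isRegular f₀ hf₀ rs hreg (hk.trans hrs.symm)


/-- Let S = k[x_1, …, x_n]/I over a field k, q a prime of S, q' the corresponding prime of the
polynomial ring and c the integer with c + ht(q) = ht(q'). Equivalent: (1) S_g is a global complete
intersection over k for some g ∉ q; (2) the extension of I to the local ring k[x]_{q'} is generated
by c elements; (5) that extension is generated by a regular sequence. Stated as (1) ↔ (2) and (1) ↔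
(5). -/
theorem result (k : Type u) [Field k] (n : ℕ)
    (I : Ideal (MvPolynomial (Fin n) k)) (q : Ideal (MvPolynomial (Fin n) k ⧸ I)) [q.IsPrime] (c : ℕ)
    (hc : (c : ℕ∞) + q.height = (q.comap (Ideal.Quotient.mk I)).height) :
    ((∃ g : MvPolynomial (Fin n) k ⧸ I, g ∉ q ∧ Synt.IsGlobalCI k (Localization.Away g)) ↔
        ∃ s : Finset (Localization.AtPrime (q.comap (Ideal.Quotient.mk I))), s.card = c ∧
          Ideal.span (s : Set _) =
            I.map (algebraMap _ (Localization.AtPrime (q.comap (Ideal.Quotient.mk I))))) ∧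
      ((∃ g : MvPolynomial (Fin n) k ⧸ I, g ∉ q ∧ Synt.IsGlobalCI k (Localization.Away g)) ↔
        ∃ rs : List (Localization.AtPrime (q.comap (Ideal.Quotient.mk I))),
          RingTheory.Sequence.IsRegular (Localization.AtPrime (q.comap (Ideal.Quotient.mk I))) rs ∧
          Ideal.ofList rs =
            I.map (algebraMap _ (Localization.AtPrime (q.comap (Ideal.Quotient.mk I))))) := by
  classical
  let φ : MvPolynomial (Fin n) k →ₐ[k] MvPolynomial (Fin n) k ⧸ I := Ideal.Quotient.mkₐ k I
  have hφ : Function.Surjective φ := Ideal.Quotient.mk_surjective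
  let Q := q.comap φ.toRingHom
  haveI : Q.IsPrime := Ideal.IsPrime.comap _
  let R := Localization.AtPrime Q
  let π : R →+* Localization.AtPrime q := Localization.localRingHom Q q φ.toRingHom rfl
  have hπ : Function.Surjective π := Groth.Agent.CMGraded.localRingHom_surjective hφ Q q rfl
  have hk : RingHom.ker π = I.map (algebraMap _ R) := by
    rw [Groth.Agent.CMGraded.ker_localRingHom hφ Q q rfl]
    show Ideal.map _ (RingHom.ker (Ideal.Quotient.mk I)) = _
    rw [Ideal.mk_ker]
  haveI := Groth.Agent.CILib.regularLocal_mvPolynomial Q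
  have h1 : (∃ g : MvPolynomial (Fin n) k ⧸ I, g ∉ q ∧ Synt.IsGlobalCI k (Localization.Away g)) ↔
      Groth.Agent.CILib.CutBy (R := R) (S := Localization.AtPrime q) π := by
    rw [← (Groth.Agent.CILib.isCIOver_atPrime_iff_away q).2]
    exact Groth.Agent.CILib.isCIOver_atPrime_iff φ hφ q
  obtain ⟨b, hb⟩ := ENat.ne_top_iff_exists.mp (Ideal.height_ne_top (I := Q) (Ideal.IsPrime.ne_top inferInstance))
  obtain ⟨a, ha⟩ := ENat.ne_top_iff_exists.mp (Ideal.height_ne_top (I := q) (Ideal.IsPrime.ne_top inferInstance))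
  rw [← ha, show (q.comap (Ideal.Quotient.mk I)).height = _ from hb.symm] at hc
  have hcab : c + a = b := by exact_mod_cast hc
  have hdR : ringKrullDim R = ((b : ℕ) : WithBot ℕ∞) := by
    rw [IsLocalization.AtPrime.ringKrullDim_eq_height Q R, ← hb]; rfl
  have hdS : ringKrullDim (Localization.AtPrime q) = ((a : ℕ) : WithBot ℕ∞) := by
    rw [IsLocalization.AtPrime.ringKrullDim_eq_height q (Localization.AtPrime q), ← ha]; rfl
  obtain ⟨m1, m2⟩ := @main R (Localization.AtPrime q) _ _ _ _ π hπ _ hk a b c hdR hdS hcab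
  exact ⟨h1.trans m1, h1.trans m2⟩

end Groth.Agent.S9171
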