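import Groth.Statements.S9172
import Groth.Agent.CILib.RelGCINhd

set_option autoImplicit false
universe u
open Synt

set_option backward.isDefEq.respectTransparency false

namespace Groth.Agent.S9172

open MvPolynomial Groth.Agent.CILib TensorProduct

theorem mem_smallLocus_of_isRelGCI_mod {R : Type u} [CommRing R] {n c : ℕ} (F : Fin c → MvPolynomial (Fin n) R) (I : Ideal R)
    (hI : Synt.IsRelGCI (R ⧸ I) n c (fun i => MvPolynomial.map (Ideal.Quotient.mk I) (F i)))
    (q : PrimeSpectrum (Synt.RelGCIRing R n c F)) (hq : I.map (algebraMap R (Synt.RelGCIRing R n c F)) ≤ q.asIdeal) :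
    c ≤ n ∧ q ∈ smallLocus R (n - c) := by
  let p : PrimeSpectrum R := PrimeSpectrum.comap (algebraMap R _) q
  let L := p.asIdeal.ResidueField
  have hk : ∀ a ∈ I, algebraMap R L a = 0 := fun a ha =>
    (Ideal.algebraMap_residueField_eq_zero).2 (hq (Ideal.mem_map_of_mem _ ha))
  letI : Algebra (R ⧸ I) L := (Ideal.Quotient.lift I (algebraMap R L) hk).toAlgebra
  haveI : IsScalarTower R (R ⧸ I) L := .of_algebraMap_eq fun _ => rfl
  have h := dimOK_of_field (F := mapF (R ⧸ I) F) hI L
  rw [mapF_mapF, ← ringKrullDim_baseChange_eq] at h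
  haveI : Nontrivial (p.asIdeal.Fiber (Synt.RelGCIRing R n c F)) := by
    let Q := Groth.Agent.FibreDepth.point R q
    by_contra hnt
    rw [not_nontrivial_iff_subsingleton] at hnt
    haveI : Subsingleton ((Groth.Agent.FibreDepth.basePrime R q).Fiber (Synt.RelGCIRing R n c F)) := hnt
    exact Q.2.ne_top ((Ideal.eq_top_iff_one _).2 ((Subsingleton.elim 0 1 : (0 : (Groth.Agent.FibreDepth.basePrime R q).Fiber (Synt.RelGCIRing R n c F)) = 1) ▸ Q.asIdeal.zero_mem))
  obtain ⟨hcn, hd⟩ := (dimOK_iff (A := p.asIdeal.Fiber (Synt.RelGCIRing R n c F))).1 h ‹_›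
  exact ⟨hcn, mem_smallLocus_of_ringKrullDim_le p hd.le q rfl⟩


open MvPolynomial in
/-- Let S = R[x_1, …, x_n]/(F_1, …, F_c) over a ring R. Let I be an ideal of R such that the reduction
R/I[x]/(F mod I) = S/IS is a relative global complete intersection over R/I (its nonempty fibres
have dimension n − c). Then some h in the polynomial ring, with image g in S, satisfies: g maps to 1
in S/IS, and the presentation S_g = R[x_1, …, x_{n+1}]/(F_1, …, F_c, h·x_{n+1} − 1) is a relative
global complete intersection over R (with S_g isomorphic to it over R). -/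
theorem result (R : Type u) [CommRing R] (n c : ℕ) (F : Fin c → MvPolynomial (Fin n) R)
    (I : Ideal R)
    (hI : Synt.IsRelGCI (R ⧸ I) n c (fun i => MvPolynomial.map (Ideal.Quotient.mk I) (F i))) :
    ∃ h : MvPolynomial (Fin n) R,
      Ideal.Quotient.mk (I.map (algebraMap R (Synt.RelGCIRing R n c F)))
        (Ideal.Quotient.mk (Ideal.span (Set.range F)) h) = 1 ∧
      Synt.IsRelGCI R (n + 1) (c + 1)
        (Fin.snoc (fun i => rename Fin.castSucc (F i)) (rename Fin.castSucc h * X (Fin.last n) - 1)) ∧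
      Nonempty (Localization.Away (Ideal.Quotient.mk (Ideal.span (Set.range F)) h) ≃ₐ[R]
        Synt.RelGCIRing R (n + 1) (c + 1)
          (Fin.snoc (fun i => rename Fin.castSucc (F i)) (rename Fin.castSucc h * X (Fin.last n) - 1))) := by
  let S := Synt.RelGCIRing R n c F
  let IS : Ideal S := I.map (algebraMap R S)
  obtain ⟨J, hJ, hJ'⟩ := exists_ideal_smallLocus (R := R) (S := S) (n - c)
  by_cases htop : IS = ⊤
  · refine ⟨0, ?_, isRelGCI_awayPres_of_nilpotent F 0 (by rw [map_zero]; exact IsNilpotent.zero), exists_away_equiv F 0⟩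
    rw [map_zero, map_zero, ← map_one (Ideal.Quotient.mk _), eq_comm, Ideal.Quotient.eq_zero_iff_mem]
    show (1 : S) ∈ IS
    rw [htop]
    trivial
  obtain ⟨m, hm, hle⟩ := Ideal.exists_le_maximal _ htop
  have hcn := (mem_smallLocus_of_isRelGCI_mod F I hI ⟨m, hm.isPrime⟩ hle).1
  have hsup : J ⊔ IS = ⊤ := by
    by_contra hne
    obtain ⟨M, hM, hle⟩ := Ideal.exists_le_maximal _ hne
    exact hJ ⟨M, hM.isPrime⟩ (mem_smallLocus_of_isRelGCI_mod F I hI ⟨M, hM.isPrime⟩ (le_sup_right.trans hle)).2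
      (le_sup_left.trans hle)
  obtain ⟨g, hg, y, hy, hgy⟩ := Submodule.mem_sup.1 (show (1 : S) ∈ J ⊔ IS by rw [hsup]; trivial)
  obtain ⟨h, rfl⟩ := Ideal.Quotient.mk_surjective g
  refine ⟨h, ?_, isRelGCI_awayPres F h hcn (hJ' _ hg), exists_away_equiv F h⟩
  rw [← map_one (Ideal.Quotient.mk _), Ideal.Quotient.eq]
  rw [show Ideal.Quotient.mk (Ideal.span (Set.range F)) h - 1 = -y by rw [← hgy]; ring]
  exact neg_mem hy

end Groth.Agent.S9172
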