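import Groth.Statements.S9173
import Groth.Agent.CILib.RelGCINhd

set_option autoImplicit false
universe u
open Synt

set_option backward.isDefEq.respectTransparency false

namespace Groth.Agent.S9173

open MvPolynomial Groth.Agent.CILib TensorProduct

theorem exists_isUnit_tmul {R S : Type u} [CommRing R] [CommRing S] [Algebra R S] (p : Ideal R) [p.IsPrime] (J : Ideal S)
    (h : J.map (Algebra.TensorProduct.includeRight : S →ₐ[R] p.Fiber S).toRingHom = ⊤) :
    ∃ j ∈ J, IsUnit ((1 : p.ResidueField) ⊗ₜ[R] j : p.Fiber S) := by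
  have key : ∀ x ∈ J.map (Algebra.TensorProduct.includeRight : S →ₐ[R] p.Fiber S).toRingHom,
      ∃ r ∉ p, ∃ j ∈ J, r • x = (1 : p.ResidueField) ⊗ₜ[R] j := by
    intro x hx
    induction hx using Submodule.span_induction with
    | mem x hx =>
      obtain ⟨j, hj, rfl⟩ := hx
      exact ⟨1, fun h1 => (‹p.IsPrime›).ne_top ((Ideal.eq_top_iff_one p).2 h1), j, hj, one_smul _ _⟩
    | zero => exact ⟨1, fun h1 => (‹p.IsPrime›).ne_top ((Ideal.eq_top_iff_one p).2 h1), 0, J.zero_mem, by simp⟩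
    | add a b _ _ ha hb =>
      obtain ⟨r, hr, j, hj, e⟩ := ha
      obtain ⟨r', hr', j', hj', e'⟩ := hb
      refine ⟨r * r', fun hm => ((‹p.IsPrime›).mem_or_mem hm).elim hr hr', r' • j + r • j',
        J.add_mem (Submodule.smul_of_tower_mem J r' hj) (Submodule.smul_of_tower_mem J r hj'), ?_⟩
      rw [smul_add, tmul_add, tmul_smul, tmul_smul, ← e, ← e', smul_smul, smul_smul, mul_comm r' r]
    | smul t a _ ha =>
      obtain ⟨r, hr, j, hj, e⟩ := ha
      obtain ⟨r', hr', s, e'⟩ := Ideal.Fiber.exists_smul_eq_one_tmul p t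
      refine ⟨r' * r, fun hm => ((‹p.IsPrime›).mem_or_mem hm).elim hr' hr, s * j, J.mul_mem_left _ hj, ?_⟩
      rw [show ((1 : p.ResidueField) ⊗ₜ[R] (s * j) : p.Fiber S) = ((1 : p.ResidueField) ⊗ₜ[R] s) * ((1 : p.ResidueField) ⊗ₜ[R] j) by
        rw [Algebra.TensorProduct.tmul_mul_tmul, one_mul], ← e, ← e', smul_eq_mul, smul_mul_smul_comm]
  obtain ⟨r, hr, j, hj, e⟩ := key 1 (by rw [h]; trivial)
  refine ⟨j, hj, ?_⟩
  rw [← e, Algebra.smul_def, mul_one, IsScalarTower.algebraMap_apply R p.ResidueField (p.Fiber S)]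
  exact (isUnit_iff_ne_zero.2 fun h0 => hr ((Ideal.algebraMap_residueField_eq_zero).1 h0)).map _


open MvPolynomial TensorProduct in
/-- Let S = R[x_1, …, x_n]/(F_1, …, F_c) over a ring R. Let p be a prime of R whose fibre ring κ(p) ⊗ S
has Krull dimension n − c (with c ≤ n). Then some h in the polynomial ring, with image g in S,
satisfies: g maps to a unit of κ(p) ⊗ S, and the presentation S_g = R[x_1, …, x_{n+1}]/(F_1, …, F_c,
h·x_{n+1} − 1) is a relative global complete intersection over R (with S_g isomorphic to it over R). -/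
theorem result (R : Type u) [CommRing R] (n c : ℕ) (F : Fin c → MvPolynomial (Fin n) R)
    (p : Ideal R) [p.IsPrime]
    (hp : c ≤ n ∧ ringKrullDim (p.Fiber (Synt.RelGCIRing R n c F)) = ((n - c : ℕ) : WithBot ℕ∞)) :
    ∃ h : MvPolynomial (Fin n) R,
      IsUnit ((1 : p.ResidueField) ⊗ₜ[R] (Ideal.Quotient.mk (Ideal.span (Set.range F)) h) :
        p.Fiber (Synt.RelGCIRing R n c F)) ∧
      Synt.IsRelGCI R (n + 1) (c + 1)
        (Fin.snoc (fun i => rename Fin.castSucc (F i)) (rename Fin.castSucc h * X (Fin.last n) - 1)) ∧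
      Nonempty (Localization.Away (Ideal.Quotient.mk (Ideal.span (Set.range F)) h) ≃ₐ[R]
        Synt.RelGCIRing R (n + 1) (c + 1)
          (Fin.snoc (fun i => rename Fin.castSucc (F i)) (rename Fin.castSucc h * X (Fin.last n) - 1))) := by
  let S := Synt.RelGCIRing R n c F
  obtain ⟨J, hJ, hJ'⟩ := exists_ideal_smallLocus (R := R) (S := S) (n - c)
  have htop : J.map (Algebra.TensorProduct.includeRight : S →ₐ[R] p.Fiber S).toRingHom = ⊤ := by
    by_contra hne
    obtain ⟨M, hM, hle⟩ := Ideal.exists_le_maximal (α := p.Fiber S) _ hne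
    haveI : M.IsPrime := @Ideal.IsMaximal.isPrime' (p.Fiber S) _ M hM
    let z := (PrimeSpectrum.preimageEquivFiber R S ⟨p, inferInstance⟩).symm ⟨M, ‹M.IsPrime›⟩
    refine hJ z.1 (mem_smallLocus_of_ringKrullDim_le ⟨p, inferInstance⟩ hp.2.le z.1 z.2) fun x hx => ?_
    exact hle (Ideal.mem_map_of_mem _ hx)
  obtain ⟨g, hg, hu⟩ := exists_isUnit_tmul p J htop
  obtain ⟨h, rfl⟩ := Ideal.Quotient.mk_surjective g
  exact ⟨h, hu, isRelGCI_awayPres F h hp.1 (hJ' _ hg), exists_away_equiv F h⟩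

end Groth.Agent.S9173
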