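import Groth.Statements.S9174
import Groth.Agent.CILib.Regular
import Groth.Agent.FibreDepth.Codim
import Groth.Agent.DimFormulaLib.LocalDim
import Groth.Agent.DimFormulaLib.Converse
-- import your own Groth.Agent.* helpers here

set_option autoImplicit false
universe u
open CAlg

namespace Groth.Agent.S9174

set_option backward.isDefEq.respectTransparency false
open TensorProduct IsLocalRing Groth.Agent.FibreDepth Groth.Agent.DimFormulaLib RingTheory.Sequence

attribute [local instance] Algebra.TensorProduct.rightAlgebra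

variable {R S : Type u} [CommRing R] [CommRing S] [Algebra R S]

theorem localDim_point_eq [Algebra.FiniteType R S] (d : ℕ)
    (heq : ∀ p : PrimeSpectrum R, ∀ P ∈ minimalPrimes (p.asIdeal.Fiber S),
      ringKrullDim (p.asIdeal.Fiber S ⧸ P) = (d : WithBot ℕ∞)) (q : PrimeSpectrum S) :
    FlatMor.localDim (PrimeSpectrum ((basePrime R q).Fiber S)) (point R q) = (d : WithBot ℕ∞) := by
  let p := basePrime R q
  let Q := point R q
  haveI : IsNoetherianRing (p.Fiber S) := Algebra.FiniteType.isNoetherianRing p.ResidueField _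
  obtain ⟨r, hr⟩ := exists_nat_trdeg_quotient p.ResidueField (p.Fiber S) Q.asIdeal
  obtain ⟨a, ha, hloc, -⟩ := localDim_eq_height_add p.ResidueField (p.Fiber S) Q r hr
  obtain ⟨P, hPmin, hle, hrel⟩ := exists_isMin_relHeight_eq_height Q
  obtain ⟨n, hn⟩ := exists_nat_trdeg_quotient p.ResidueField (p.Fiber S) P.asIdeal
  obtain ⟨b, hb, hnb⟩ := trdeg_eq_relHeight_add p.ResidueField (p.Fiber S) hle n r hn hr
  have hba : b = a := by exact_mod_cast hb.symm.trans (hrel.trans ha)
  have hd : ringKrullDim (p.Fiber S ⧸ P.asIdeal) = (d : WithBot ℕ∞) :=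
    heq ⟨p, inferInstance⟩ P.asIdeal (PrimeSpectrum.isMin_iff.1 hPmin)
  rw [ringKrullDim_eq_trdeg p.ResidueField n hn, Nat.cast_inj] at hd
  exact hloc.trans (by rw [show a + r = d by omega])

theorem trdeg_quot_eq (J : Ideal S) (q : PrimeSpectrum S) (c : PrimeSpectrum (S ⧸ J))
    (hc : q.asIdeal = c.asIdeal.comap (Ideal.Quotient.mk J)) :
    Algebra.trdeg (R ⧸ basePrime R q) (S ⧸ q.asIdeal) =
      Algebra.trdeg (R ⧸ basePrime R c) ((S ⧸ J) ⧸ c.asIdeal) := by
  have hp : basePrime R q = basePrime R c := by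
    ext a
    exact SetLike.ext_iff.1 hc (algebraMap R S a)
  let e : (S ⧸ q.asIdeal) ≃+* (S ⧸ J) ⧸ c.asIdeal :=
    RingEquiv.ofBijective (Ideal.quotientMap c.asIdeal (Ideal.Quotient.mk J) hc.le)
      ⟨Ideal.quotientMap_injective' hc.ge, Ideal.quotientMap_surjective Ideal.Quotient.mk_surjective⟩
  haveI : c.asIdeal.LiesOver (basePrime R c) := ⟨rfl⟩
  haveI : q.asIdeal.LiesOver (basePrime R q) := ⟨rfl⟩
  exact trdeg_eq_of_ringEquiv (R := R ⧸ basePrime R q) (R' := R ⧸ basePrime R c)
    (A := S ⧸ q.asIdeal) (A' := (S ⧸ J) ⧸ c.asIdeal) (Ideal.quotEquivOfEq hp) e fun x => by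
      obtain ⟨x, rfl⟩ := Ideal.Quotient.mk_surjective x
      rfl

/-- Transport of the dimension inequality of a quotient along an isomorphism. -/
theorem quot_dim_iff {S A B : Type u} [CommRing S] [CommRing A] [CommRing B] [Algebra S A] [Algebra S B]
    (e : A ≃+* B) (he : ∀ s, e (algebraMap S A s) = algebraMap S B s) (f : List S) :
    ringKrullDim (A ⧸ Ideal.ofList (f.map (algebraMap S A))) + f.length ≤ ringKrullDim A ↔
      CodimAt B (Ideal.ofList f) f.length := by
  have h : ringKrullDim (A ⧸ Ideal.ofList (f.map (algebraMap S A))) =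
      ringKrullDim (B ⧸ (Ideal.ofList f).map (algebraMap S B)) := by
    refine ringKrullDim_eq_of_ringEquiv (Ideal.quotientEquiv _ _ e ?_)
    rw [← Ideal.map_ofList, Ideal.map_map]
    congr 1
    exact RingHom.ext fun s => (he s).symm
  rw [CodimAt, h, ringKrullDim_eq_of_ringEquiv e]

theorem regular_iff [Algebra.FiniteType R S] (d : ℕ)
    (hCM : ∀ p : PrimeSpectrum R, LocCoh.IsCohenMacaulayRing (p.asIdeal.Fiber S))
    (heq : ∀ p : PrimeSpectrum R, ∀ P ∈ minimalPrimes (p.asIdeal.Fiber S),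
      ringKrullDim (p.asIdeal.Fiber S ⧸ P) = (d : WithBot ℕ∞))
    (f : List S) (q : PrimeSpectrum S) (hq : Ideal.ofList f ≤ q.asIdeal) (c : PrimeSpectrum (S ⧸ Ideal.ofList f))
    (hc : q.asIdeal = c.asIdeal.comap (Ideal.Quotient.mk (Ideal.ofList f))) :
    IsRegular (EGA4.FibLocRing R S q.asIdeal) (f.map (algebraMap S (EGA4.FibLocRing R S q.asIdeal))) ↔
      ∃ m : ℕ, m + f.length ≤ d ∧ FlatMor.localDim (PrimeSpectrum ((basePrime R c).Fiber (S ⧸ Ideal.ofList f)))
        (point R c) ≤ (m : WithBot ℕ∞) := by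
  have key : ∀ (p : PrimeSpectrum R) (Q : PrimeSpectrum (p.asIdeal.Fiber S)),
      LocCoh.IsCohenMacaulayLocalRing (Localization.AtPrime Q.asIdeal) :=
    fun p Q => (hCM p).isCohenMacaulayLocalRing_localization Q.asIdeal
  haveI hF : LocCoh.IsCohenMacaulayLocalRing (FibRing R q) := key ⟨basePrime R q, inferInstance⟩ (point R q)
  obtain ⟨φ, hφ, hker⟩ := exists_surjective_fibRing (A := R) q
  let e : EGA4.FibLocRing R S q.asIdeal ≃+* FibRing R q :=
    (Ideal.quotEquivOfEq hker.symm).trans (RingHom.quotientKerEquivOfSurjective hφ)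
  have he : ∀ s : S, e (algebraMap S _ s) = algebraMap S (FibRing R q) s := fun s => φ.commutes s
  haveI hA : LocCoh.IsCohenMacaulayLocalRing (EGA4.FibLocRing R S q.asIdeal) :=
    CMCat.isCohenMacaulayLocalRing_of_ringEquiv (A := FibRing R q) e.symm
  obtain ⟨a, r, ha, hr, hloc⟩ := fibRing_localDim (A := R) c
  obtain ⟨a', r', ha', hr', hloc'⟩ := fibRing_localDim (A := R) q
  have hrr : r' = r := by
    have h := trdeg_quot_eq (R := R) (Ideal.ofList f) q c hc
    rw [hr, hr'] at h
    exact_mod_cast h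
  have hd : d = a' + r' := by
    rw [localDim_point_eq d heq q] at hloc'
    exact_mod_cast hloc'
  have h1 : IsRegular (EGA4.FibLocRing R S q.asIdeal) (f.map (algebraMap S (EGA4.FibLocRing R S q.asIdeal))) ↔
      CodimGE R (Ideal.ofList f) q f.length := by
    refine Iff.trans ?_ (quot_dim_iff (B := FibRing R q) e he f)
    constructor
    · intro h
      have := ringKrullDim_add_length_eq_ringKrullDim_of_isRegular _ h
      rw [List.length_map] at this
      exact this.le
    · intro h
      refine (CILib.isRegular_of_ringKrullDim_quotient_add_le _ ?_ (by rw [List.length_map]; exact h)).1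
      intro x hx
      obtain ⟨s, hs, rfl⟩ := List.mem_map.1 hx
      rw [mem_maximalIdeal, mem_nonunits_iff]
      intro hu
      have hu' : IsUnit (algebraMap S (FibRing R q) s) := he s ▸ hu.map e
      rw [IsScalarTower.algebraMap_apply S ((basePrime R q).Fiber S) (FibRing R q),
        IsLocalization.AtPrime.isUnit_to_map_iff (FibRing R q) (point R q).asIdeal] at hu'
      exact hu' ((SetLike.ext_iff.1 (comap_point (A := R) q) s).2 (hq (Ideal.subset_span hs)))
  rw [h1, codimGE_quot_iff (Ideal.ofList f) q c hc, ha, ha', hloc]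
  constructor
  · intro h
    have h' : a + f.length ≤ a' := by exact_mod_cast h
    exact ⟨a + r, by omega, le_rfl⟩
  · rintro ⟨m, hm, hle⟩
    have hle' : a + r ≤ m := by exact_mod_cast hle
    exact_mod_cast (by omega : a + f.length ≤ a')

/-- Let R → S be of finite type with every fibre ring κ(p) ⊗ S Cohen–Macaulay and equidimensional of
dimension d, and let f_1, …, f_i ∈ S. The primes q ⊇ (f_1, …, f_i) at which the f_j form a regular
sequence in the fibre local ring S_q/pS_q (p = q ∩ R) form an open subset of V(f_1, …, f_i): there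
is an open U of Spec S whose trace on V(f_1, …, f_i) is exactly this set. -/
theorem result (R S : Type u) [CommRing R] [CommRing S]
    [Algebra R S] [Algebra.FiniteType R S] (d : ℕ)
    (hCM : ∀ p : PrimeSpectrum R, LocCoh.IsCohenMacaulayRing (p.asIdeal.Fiber S))
    (heq : ∀ p : PrimeSpectrum R, ∀ P ∈ minimalPrimes (p.asIdeal.Fiber S),
      ringKrullDim (p.asIdeal.Fiber S ⧸ P) = (d : WithBot ℕ∞))
    (f : List S) :
    ∃ U : Set (PrimeSpectrum S), IsOpen U ∧ ∀ q : PrimeSpectrum S, Ideal.ofList f ≤ q.asIdeal →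
      (q ∈ U ↔ RingTheory.Sequence.IsRegular (EGA4.FibLocRing R S q.asIdeal)
        (f.map (algebraMap S (EGA4.FibLocRing R S q.asIdeal)))) := by
  classical
  let C := S ⧸ Ideal.ofList f
  let π : PrimeSpectrum C → PrimeSpectrum S := PrimeSpectrum.comap (Ideal.Quotient.mk (Ideal.ofList f))
  have hcl : Topology.IsClosedEmbedding π :=
    PrimeSpectrum.isClosedEmbedding_comap_of_surjective C _ Ideal.Quotient.mk_surjective
  let V : Set (PrimeSpectrum C) := ⋃ m ∈ {m : ℕ | m + f.length ≤ d}, {c : PrimeSpectrum C |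
    FlatMor.localDim (PrimeSpectrum ((basePrime R c).Fiber C)) (point R c) ≤ (m : WithBot ℕ∞)}
  have hV : IsOpen V := isOpen_biUnion fun m _ => isOpen_localDim_le (A := R) (P := C) m
  refine ⟨(π '' Vᶜ)ᶜ, (hcl.isClosedMap _ hV.isClosed_compl).isOpen_compl, fun q hq => ?_⟩
  obtain ⟨c, rfl⟩ : q ∈ Set.range π := by
    rw [show Set.range π = PrimeSpectrum.zeroLocus (Ideal.ofList f : Set S) from
      (range_comap_of_surjective _ (Ideal.Quotient.mk _) Ideal.Quotient.mk_surjective).trans (by rw [Ideal.mk_ker])]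
    exact hq
  rw [regular_iff d hCM heq f (π c) hq c rfl]
  constructor
  · intro h
    have hc : c ∈ V := by_contra fun hn => h ⟨c, hn, rfl⟩
    obtain ⟨m, hm, hcm⟩ := Set.mem_iUnion₂.1 hc
    exact ⟨m, hm, hcm⟩
  · rintro ⟨m, hm, hcm⟩ ⟨c', hc', he⟩
    rw [hcl.injective he] at hc'
    exact hc' (Set.mem_iUnion₂.2 ⟨m, hm, hcm⟩)

end Groth.Agent.S9174
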