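import Groth.Statements.S9176
import Groth.Agent.FibreDepth.Retro
import Groth.Agent.FibreDepth.FibreDim
-- import your own Groth.Agent.* helpers here

set_option autoImplicit false
universe u
open CAlg

namespace Groth.Agent.S9176

open AlgebraicGeometry CategoryTheory

/-- For a ring map R → S of finite presentation and n ≥ 0, the set of primes q of S whose fibre
Spec(κ(p) ⊗ S), p = q ∩ R, has local dimension at most n at the point over q is open and
quasi-compact in Spec S. -/
theorem result (R S : Type u) [CommRing R]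
    [CommRing S] [Algebra R S] [Algebra.FinitePresentation R S] (n : ℕ) :
    IsOpen {q : PrimeSpectrum S | ∀ Q : PrimeSpectrum ((q.asIdeal.under R).Fiber S),
        Q.asIdeal.comap (Algebra.TensorProduct.includeRight.toRingHom) = q.asIdeal →
          FlatMor.localDim (PrimeSpectrum ((q.asIdeal.under R).Fiber S)) Q ≤ (n : WithBot ℕ∞)} ∧
      IsCompact {q : PrimeSpectrum S | ∀ Q : PrimeSpectrum ((q.asIdeal.under R).Fiber S),
        Q.asIdeal.comap (Algebra.TensorProduct.includeRight.toRingHom) = q.asIdeal →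
          FlatMor.localDim (PrimeSpectrum ((q.asIdeal.under R).Fiber S)) Q ≤ (n : WithBot ℕ∞)} := by
  classical
  let f : Spec (.of S) ⟶ Spec (.of R) := Spec.map (CommRingCat.ofHom (algebraMap R S))
  haveI : LocallyOfFinitePresentation f :=
    (HasRingHomProperty.Spec_iff (P := @LocallyOfFinitePresentation)).2
      (RingHom.finitePresentation_algebraMap.2 ‹_›)
  have hset : {q : PrimeSpectrum S | ∀ Q : PrimeSpectrum ((q.asIdeal.under R).Fiber S),
      Q.asIdeal.comap (Algebra.TensorProduct.includeRight.toRingHom) = q.asIdeal →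
        FlatMor.localDim (PrimeSpectrum ((q.asIdeal.under R).Fiber S)) Q ≤ (n : WithBot ℕ∞)} =
      {x : ↥(Spec (.of S)) | FlatMor.fibreDimAt f x ≤ (n : WithBot ℕ∞)} := by
    ext q
    let c : Groth.Agent.DimFormulaLib.Chart f q :=
      { A := R, B := S, i := 𝟙 _, j := 𝟙 _, w := by rw [Category.comp_id, Category.id_comp], q := q, hq := rfl }
    have hQ : ∀ Q : PrimeSpectrum (c.p.asIdeal.Fiber S),
        Q.asIdeal.comap (Algebra.TensorProduct.includeRight.toRingHom) = q.asIdeal → Q = c.Q := fun Q h =>
      (PrimeSpectrum.preimageEquivFiber R S c.p).symm.injective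
        (Subtype.ext (PrimeSpectrum.ext (h.trans c.comap_Q.symm)))
    constructor
    · intro h
      exact c.fibreDimAt_eq.trans_le (h c.Q c.comap_Q)
    · intro h Q hQq
      exact (congrArg (FlatMor.localDim _) (hQ Q hQq)).trans_le (c.fibreDimAt_eq.symm.trans_le h)
  rw [hset]
  have hret : IsRetrocompact {x : ↥(Spec (.of S)) | FlatMor.fibreDimAt f x ≤ (n : WithBot ℕ∞)} := by
    refine Groth.Agent.FibreDepth.isRetrocompact_of_embeddings _ fun x => ?_
    obtain ⟨𝔐, hx⟩ := Groth.Agent.FibreDepth.exists_model_self f x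
    exact ⟨𝔐.B, 𝔐.commB, 𝔐.emb, 𝔐.isOpenEmbedding, hx, 𝔐.isConstructible_fibreDimAt_le n⟩
  exact ⟨Groth.Agent.FibreDepth.isOpen_fibreDimAt_le f _, hret.isCompact⟩

end Groth.Agent.S9176
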