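import Groth.Statements.S9177
import Mathlib
import Groth.Agent.AlgSysLib.Basic

set_option autoImplicit false
universe u
open CAlg

namespace Groth.Agent.S9177

open TensorProduct in
/-- Let R = colim R_i be a directed colimit of A-algebras (compatible transition maps), B and C
A-algebras. (1) If B is of finite type over A, two A-algebra maps B → C whose base changes to R
coincide already have equal base changes to some R_i. (2) If C is of finite type over A and u : B →
C has surjective base change to R, then its base change to some R_i is surjective. (The A-algebra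
structure on R is through any stage R_l; it does not depend on l.) -/
theorem result {ι : Type u} [Preorder ι]
    [Nonempty ι] [IsDirectedOrder ι] (G : ι → Type u) [∀ i, CommRing (G i)]
    (f : ∀ i j, i ≤ j → G i →+* G j) [DirectedSystem G (fun i j h => f i j h)]
    (A : Type u) [CommRing A] [∀ i, Algebra A (G i)]
    (hf : ∀ i j (h : i ≤ j), (f i j h).comp (algebraMap A (G i)) = algebraMap A (G j)) (l : ι)
    (B C : Type u) [CommRing B] [CommRing C] [Algebra A B] [Algebra A C] :
    letI : Algebra A (Ring.DirectLimit G (fun i j h => f i j h)) :=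
      ((Ring.DirectLimit.of G (fun i j h => f i j h) l).comp (algebraMap A (G l))).toAlgebra
    (Algebra.FiniteType A B → ∀ u u' : B →ₐ[A] C,
        Algebra.TensorProduct.map (AlgHom.id A (Ring.DirectLimit G (fun i j h => f i j h))) u =
            Algebra.TensorProduct.map (AlgHom.id A (Ring.DirectLimit G (fun i j h => f i j h))) u' →
          ∃ i : ι, Algebra.TensorProduct.map (AlgHom.id A (G i)) u =
            Algebra.TensorProduct.map (AlgHom.id A (G i)) u') ∧
      (Algebra.FiniteType A C → ∀ u : B →ₐ[A] C,
        Function.Surjective
            (Algebra.TensorProduct.map (AlgHom.id A (Ring.DirectLimit G (fun i j h => f i j h))) u) →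
          ∃ i : ι, Function.Surjective (Algebra.TensorProduct.map (AlgHom.id A (G i)) u)) := by
  classical
  letI : Algebra A (Ring.DirectLimit G (fun i j h => f i j h)) :=
    ((Ring.DirectLimit.of G (fun i j h => f i j h) l).comp (algebraMap A (G l))).toAlgebra
  let R := Ring.DirectLimit G (fun i j h => f i j h)
  let g : ∀ i, G i →ₐ[A] R := fun i =>
    { Ring.DirectLimit.of G (fun i j h => f i j h) i with
      commutes' := fun a => by
        obtain ⟨k, hik, hlk⟩ := directed_of (· ≤ ·) i l
        show Ring.DirectLimit.of G (fun i j h => f i j h) i (algebraMap A (G i) a) = Ring.DirectLimit.of G (fun i j h => f i j h) l (algebraMap A (G l) a)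
        rw [← Ring.DirectLimit.of_f hik, ← Ring.DirectLimit.of_f hlk]
        congr 1
        exact (RingHom.congr_fun (hf i k hik) a).trans (RingHom.congr_fun (hf l k hlk) a).symm }
  have hS : Groth.Agent.AlgSysLib.IsAlgSys g := by
    refine Groth.Agent.AlgSysLib.isAlgSys_of_preorder (f := fun i j h => { f i j h with commutes' := fun a => RingHom.congr_fun (hf i j h) a })
      (fun i j h => AlgHom.ext fun x => Ring.DirectLimit.of_f h x) (fun a => ?_) fun i x hx => ?_
    · obtain ⟨i, x, hx⟩ := Ring.DirectLimit.exists_of a
      exact ⟨i, x, hx⟩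
    · obtain ⟨j, hij, hj⟩ := Ring.DirectLimit.of.zero_exact hx
      exact ⟨j, hij, hj⟩
  refine ⟨fun hB u u' huu => ?_, fun hC u hu => ?_⟩
  · obtain ⟨s, hs⟩ := hB.out
    let i₀ := Classical.arbitrary ι
    obtain ⟨j, φ, -, hj⟩ := hS.exists_kill_finset_rTensor (X := C) i₀
      (s.image fun b => (1 : G i₀) ⊗ₜ[A] (u b - u' b)) (fun z hz => by
        obtain ⟨b, -, rfl⟩ := Finset.mem_image.mp hz
        rw [LinearMap.rTensor_tmul, AlgHom.toLinearMap_apply, map_one, TensorProduct.tmul_sub, sub_eq_zero]
        have := AlgHom.congr_fun huu ((1 : R) ⊗ₜ[A] b)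
        simpa using this)
    refine ⟨j, Algebra.TensorProduct.ext (AlgHom.ext fun x => by simp) ?_⟩
    let l₁ := (Algebra.TensorProduct.map (AlgHom.id A (G j)) u).comp (Algebra.TensorProduct.includeRight : B →ₐ[A] G j ⊗[A] B)
    let l₂ := (Algebra.TensorProduct.map (AlgHom.id A (G j)) u').comp (Algebra.TensorProduct.includeRight : B →ₐ[A] G j ⊗[A] B)
    show l₁ = l₂
    refine AlgHom.ext_of_adjoin_eq_top hs fun b hb => ?_
    have h0 := hj _ (Finset.mem_image_of_mem _ hb)
    rw [LinearMap.rTensor_tmul, AlgHom.toLinearMap_apply, map_one, TensorProduct.tmul_sub, sub_eq_zero] at h0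
    simpa [l₁, l₂] using h0
  · obtain ⟨s, hs⟩ := hC.out
    have hstage : ∀ T : Finset C, ∃ i, ∀ c ∈ T, ∃ w, Algebra.TensorProduct.map (AlgHom.id A (G i)) u w = (1 : G i) ⊗ₜ c := by
      intro T
      induction T using Finset.induction_on with
      | empty => exact ⟨Classical.arbitrary ι, by simp⟩
      | @insert c T _ ih =>
        obtain ⟨i, hi⟩ := ih
        obtain ⟨w, hw⟩ := hu ((1 : R) ⊗ₜ[A] c)
        obtain ⟨j, v, hv⟩ := hS.exists_lTensor (TensorProduct.comm A R B w)
        let v' : G j ⊗[A] B := (TensorProduct.comm A B (G j)) v
        have hnat : ∀ {k : ι} (ψ : G j →ₐ[A] G k) (x : G j ⊗[A] B),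
            Algebra.TensorProduct.map ψ (AlgHom.id A C) (Algebra.TensorProduct.map (AlgHom.id A (G j)) u x) =
              Algebra.TensorProduct.map (AlgHom.id A (G k)) u (Algebra.TensorProduct.map ψ (AlgHom.id A B) x) := fun ψ x => by
          induction x using TensorProduct.induction_on with
          | zero => simp
          | tmul a b => simp
          | add a b ha hb => simp only [map_add, ha, hb]
        have hv' : Algebra.TensorProduct.map (g j) (AlgHom.id A C) (Algebra.TensorProduct.map (AlgHom.id A (G j)) u v') = (1 : R) ⊗ₜ c := by
          rw [← hw]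
          have h2 : Algebra.TensorProduct.map (g j) (AlgHom.id A B) v' = w := by
            apply (TensorProduct.comm A R B).injective
            rw [← hv]
            simp only [v']
            clear hv hw
            induction v using TensorProduct.induction_on with
            | zero => simp
            | tmul a b => simp
            | add a b ha hb => simp only [map_add, ha, hb]
          rw [← h2]
          clear h2 hv hw
          generalize v' = x
          induction x using TensorProduct.induction_on with
          | zero => simp
          | tmul a b => simp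
          | add a b ha hb => simp only [map_add, ha, hb]
        obtain ⟨k, φ, ψ, hφ, hψ⟩ := hS.dir i j
        obtain ⟨m, θ, hθ, h0⟩ := hS.exists_kill_rTensor (X := C) k
          (Algebra.TensorProduct.map ψ (AlgHom.id A C) (Algebra.TensorProduct.map (AlgHom.id A (G j)) u v') - (1 : G k) ⊗ₜ c) (by
            rw [map_sub, LinearMap.rTensor_tmul, AlgHom.toLinearMap_apply, map_one, sub_eq_zero, ← hv', ← hψ]
            generalize Algebra.TensorProduct.map (AlgHom.id A (G j)) u v' = x
            induction x using TensorProduct.induction_on with
            | zero => simp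
            | tmul a b => simp
            | add a b ha hb => simp only [map_add, ha, hb])
        refine ⟨m, fun d hd => ?_⟩
        rcases Finset.mem_insert.mp hd with rfl | hd
        · refine ⟨Algebra.TensorProduct.map (θ.comp ψ) (AlgHom.id A B) v', ?_⟩
          rw [map_sub, LinearMap.rTensor_tmul, AlgHom.toLinearMap_apply, map_one, sub_eq_zero] at h0
          rw [← hnat, ← h0]
          generalize Algebra.TensorProduct.map (AlgHom.id A (G j)) u v' = x
          induction x using TensorProduct.induction_on with
          | zero => simp
          | tmul a b => simp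
          | add a b ha hb => simp only [map_add, ha, hb]
        · obtain ⟨e, he⟩ := hi d hd
          refine ⟨Algebra.TensorProduct.map (θ.comp φ) (AlgHom.id A B) e, ?_⟩
          have h1 := congrArg (Algebra.TensorProduct.map (θ.comp φ) (AlgHom.id A C)) he
          rw [Algebra.TensorProduct.map_tmul, map_one] at h1
          refine Eq.trans ?_ h1
          clear he h1
          induction e using TensorProduct.induction_on with
          | zero => simp
          | tmul a b => simp
          | add a b ha hb => simp only [map_add, ha, hb]
    obtain ⟨i, hi⟩ := hstage s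
    refine ⟨i, fun z => ?_⟩
    let M : G i ⊗[A] B →ₐ[A] G i ⊗[A] C := Algebra.TensorProduct.map (AlgHom.id A (G i)) u
    have hle : Algebra.adjoin A (s : Set C) ≤ M.range.comap (Algebra.TensorProduct.includeRight : C →ₐ[A] G i ⊗[A] C) :=
      Algebra.adjoin_le fun c hc => by obtain ⟨w, hw⟩ := hi c hc; exact ⟨w, hw⟩
    induction z using TensorProduct.induction_on with
    | zero => exact ⟨0, map_zero _⟩
    | tmul x c =>
      obtain ⟨w, hw⟩ := hle (hs ▸ Algebra.mem_top : c ∈ Algebra.adjoin A (s : Set C))
      refine ⟨(x ⊗ₜ[A] (1 : B)) * w, ?_⟩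
      rw [map_mul, show Algebra.TensorProduct.map (AlgHom.id A (G i)) u w = (1 : G i) ⊗ₜ c from hw,
        Algebra.TensorProduct.map_tmul, map_one, Algebra.TensorProduct.tmul_mul_tmul, mul_one, one_mul]
      rfl
    | add a b ha hb =>
      obtain ⟨p, rfl⟩ := ha; obtain ⟨q, rfl⟩ := hb
      exact ⟨p + q, map_add _ p q⟩
end Groth.Agent.S9177
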