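import Groth.Statements.S9178

set_option autoImplicit false
universe u
open CAlg

namespace Groth.Agent.S9178

/-- For ring maps A → B → C with A → C surjective, writing I = ker(A → C) and J = ker(B → C), the
sequence I/I² → J/J² → C ⊗_B Ω_{B/A} → 0 is exact. Stated: the image of I/I² in J/J² is exactly the
kernel of J/J² → C ⊗_B Ω_{B/A} (surjectivity of the latter map is the standard conormal sequence for
the surjection B → C). -/
theorem result (A B C : Type u) [CommRing A] [CommRing B]
    [CommRing C] [Algebra A B] [Algebra B C] [Algebra A C] [IsScalarTower A B C]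
    (hAC : Function.Surjective (algebraMap A C))
    (h : RingHom.ker (algebraMap A C) ≤ (RingHom.ker (algebraMap B C)).comap (Algebra.ofId A B)) :
    Function.Exact
      (Ideal.mapCotangent (RingHom.ker (algebraMap A C)) (RingHom.ker (algebraMap B C)) (Algebra.ofId A B) h)
      (KaehlerDifferential.kerCotangentToTensor A B C) := by
  classical
  set I := RingHom.ker (algebraMap A C)
  set J := RingHom.ker (algebraMap B C)
  have hI : ∀ x ∈ I, algebraMap A B x ∈ J := fun x hx => h hx
  choose σ hσ using hAC
  let d : B → J := fun b => ⟨b - algebraMap A B (σ (algebraMap B C b)), by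
    simp only [J, RingHom.mem_ker, map_sub, ← IsScalarTower.algebraMap_apply, hσ, sub_self]⟩
  let Rg : Submodule B J.Cotangent :=
    { carrier := Set.range (Ideal.mapCotangent I J (Algebra.ofId A B) h)
      add_mem' := by rintro _ _ ⟨a, rfl⟩ ⟨b, rfl⟩; exact ⟨a + b, map_add _ _ _⟩
      zero_mem' := ⟨0, map_zero _⟩
      smul_mem' := by
        rintro b _ ⟨a, rfl⟩
        refine ⟨σ (algebraMap B C b) • a, ?_⟩
        rw [map_smul, ← algebraMap_smul B, eq_comm, ← sub_eq_zero, ← sub_smul]
        exact Ideal.Cotangent.smul_eq_zero_of_mem (d b).2 _ }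
  let N := J.Cotangent ⧸ Rg
  let q : J →ₗ[B] N := Rg.mkQ ∘ₗ J.toCotangent
  have hqI : ∀ (a : A) (ha : algebraMap A B a ∈ J), q ⟨algebraMap A B a, ha⟩ = 0 := by
    intro a ha
    refine (Submodule.Quotient.mk_eq_zero _).mpr ⟨I.toCotangent ⟨a, ?_⟩, ?_⟩
    · simp only [J, RingHom.mem_ker, ← IsScalarTower.algebraMap_apply] at ha
      exact ha
    · rw [Ideal.mapCotangent_toCotangent]; rfl
  have hqd : ∀ (j : J) (a : A), ((j : B) + algebraMap A B a) - algebraMap A B (σ (algebraMap A C a)) ∈ J := fun j a => by
    simp [J, RingHom.mem_ker, ← IsScalarTower.algebraMap_apply, hσ, RingHom.mem_ker.mp j.2]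
  have key : ∀ (j : J) (a : A), q (d ((j : B) + algebraMap A B a)) = q j := by
    intro j a
    have ha : algebraMap A B (a - σ (algebraMap A C a)) ∈ J := hI _ (by simp [I, RingHom.mem_ker, hσ])
    have : d ((j : B) + algebraMap A B a) = j + ⟨_, ha⟩ := Subtype.ext (by
      simp [d, RingHom.mem_ker.mp j.2, ← IsScalarTower.algebraMap_apply]; abel)
    rw [this, map_add, hqI, add_zero]
  have split : ∀ b, ∃ (j : J) (a : A), b = (j : B) + algebraMap A B a := fun b =>
    ⟨d b, σ (algebraMap B C b), by simp [d]⟩
  have hJN : ∀ (j : B), j ∈ J → ∀ x : N, j • x = 0 := by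
    intro j hj x
    obtain ⟨x, rfl⟩ := Submodule.Quotient.mk_surjective _ x
    rw [← Submodule.Quotient.mk_smul, Ideal.Cotangent.smul_eq_zero_of_mem hj, Submodule.Quotient.mk_zero]
  let D : Derivation A B N := Derivation.mk'
    { toFun := fun b => q (d b)
      map_add' := fun b b' => by
        obtain ⟨j, a, rfl⟩ := split b
        obtain ⟨j', a', rfl⟩ := split b'
        rw [show (j : B) + algebraMap A B a + ((j' : B) + algebraMap A B a') =
          ((j + j' : J) : B) + algebraMap A B (a + a') by push_cast [map_add]; abel, key, key, key, map_add]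
      map_smul' := fun c b => by
        obtain ⟨j, a, rfl⟩ := split b
        rw [show c • ((j : B) + algebraMap A B a) = ((algebraMap A B c • j : J) : B) + algebraMap A B (c * a) by
          simp [Algebra.smul_def, mul_add, map_mul], key, key, map_smul, RingHom.id_apply, algebraMap_smul] }
    (fun b b' => by
      obtain ⟨j, a, rfl⟩ := split b
      obtain ⟨j', a', rfl⟩ := split b'
      simp only [LinearMap.coe_mk, AddHom.coe_mk]
      rw [show ((j : B) + algebraMap A B a) * ((j' : B) + algebraMap A B a') =
        (((j : B) • j' + algebraMap A B a • j' + algebraMap A B a' • j : J) : B) + algebraMap A B (a * a') by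
          simp [map_mul, Algebra.smul_def]; ring, key, key, key]
      simp only [map_add, map_smul, add_smul, hJN _ j.2, hJN _ j'.2, zero_add])
  intro y
  constructor
  · intro hy
    obtain ⟨⟨x, hx⟩, rfl⟩ := J.toCotangent_surjective y
    rw [KaehlerDifferential.kerCotangentToTensor_toCotangent] at hy
    have hex : Function.Exact J.subtype (Algebra.linearMap B C) := fun b => by
      simp [J, RingHom.mem_ker]
    have hsurj : Function.Surjective (Algebra.linearMap B C) := fun c =>
      ⟨algebraMap A B (σ c), by
        rw [Algebra.linearMap_apply, ← IsScalarTower.algebraMap_apply, hσ]⟩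
    have h1 : (Algebra.linearMap B C).rTensor Ω[B⁄A] ((1 : B) ⊗ₜ KaehlerDifferential.D A B x) = 0 := by
      simpa using hy
    obtain ⟨t, ht⟩ := (_root_.rTensor_exact Ω[B⁄A] hex hsurj _).mp h1
    have h2 : ∀ t, D.liftKaehlerDifferential (TensorProduct.lid B _ (J.subtype.rTensor Ω[B⁄A] t)) = 0 := by
      intro t
      induction t with
      | zero => simp
      | tmul j w => simp [hJN _ j.2]
      | add a b ha hb => simp [ha, hb]
    have h3 := h2 t
    rw [ht, TensorProduct.lid_tmul, one_smul, Derivation.liftKaehlerDifferential_comp_D] at h3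
    have h4 : q ⟨x, hx⟩ = 0 := by
      have := key ⟨x, hx⟩ 0
      simp only [map_zero, add_zero] at this
      rw [← this]; exact h3
    exact (Submodule.Quotient.mk_eq_zero Rg).mp h4
  · rintro ⟨a, rfl⟩
    obtain ⟨⟨a, ha⟩, rfl⟩ := I.toCotangent_surjective a
    rw [Ideal.mapCotangent_toCotangent, KaehlerDifferential.kerCotangentToTensor_toCotangent]
    simp

end Groth.Agent.S9178
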