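import Groth.Statements.S9179
import Mathlib
import Groth.Agent.FPSysLib.Algebra

set_option autoImplicit false
universe u
open CategoryTheory CategoryTheory.Limits
open CAlg

namespace Groth.Agent.S9179

/-- An R-algebra of finite type is the colimit of a filtered system of finitely presented R-algebras
whose transition maps are all surjective. -/
theorem result (R A : Type u) [CommRing R] [CommRing A]
    [Algebra R A] [Algebra.FiniteType R A] :
    ∃ (I : Type u) (_ : SmallCategory I) (_ : IsFiltered I) (D : I ⥤ Under (CommRingCat.of R))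
      (c : Cocone D) (_ : IsColimit c),
      (∀ i, (D.obj i).hom.hom.FinitePresentation) ∧
      (∀ (i j : I) (φ : i ⟶ j), Function.Surjective (D.map φ).right.hom) ∧
      Nonempty (c.pt ≅ Under.mk (CommRingCat.ofHom (algebraMap R A))) := by
  classical
  obtain ⟨s, hs⟩ := (Algebra.FiniteType.out : (⊤ : Subalgebra R A).FG)
  let J := {p : Groth.Agent.FPSysLib.Alg.Idx R A // p.1.1 = s}
  haveI : Nonempty J := ⟨⟨⟨(s, ∅), by simp⟩, rfl⟩⟩
  haveI : IsDirected J (· ≤ ·) := ⟨fun p q => ⟨⟨⟨(s, p.1.1.2 ∪ q.1.1.2),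
      fun z hz => (Finset.mem_union.mp hz).elim (p.1.2 z) (q.1.2 z)⟩, rfl⟩,
    ⟨p.2.le, Finset.subset_union_left⟩, ⟨q.2.le, Finset.subset_union_right⟩⟩⟩
  let D : J ⥤ Under (CommRingCat.of R) :=
    { obj := fun p => Under.mk (CommRingCat.ofHom (algebraMap R (Groth.Agent.FPSysLib.Alg.Stage p.1)))
      map := fun {p q} h => Under.homMk (CommRingCat.ofHom (Groth.Agent.FPSysLib.Alg.trans p.1 q.1 h.le).toRingHom)
        (CommRingCat.hom_ext (Groth.Agent.FPSysLib.Alg.trans p.1 q.1 h.le).comp_algebraMap)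
      map_id := fun p => Under.UnderMorphism.ext (CommRingCat.hom_ext (congrArg AlgHom.toRingHom (Groth.Agent.FPSysLib.Alg.trans_self p.1)))
      map_comp := fun {p q r} h h' => Under.UnderMorphism.ext (CommRingCat.hom_ext
        (congrArg AlgHom.toRingHom (Groth.Agent.FPSysLib.Alg.trans_trans (A := A) h.le h'.le)).symm) }
  let c : Cocone D :=
    { pt := Under.mk (CommRingCat.ofHom (algebraMap R A))
      ι :=
        { app := fun p => Under.homMk (CommRingCat.ofHom (Groth.Agent.FPSysLib.Alg.toLim p.1).toRingHom)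
            (CommRingCat.hom_ext (Groth.Agent.FPSysLib.Alg.toLim p.1).comp_algebraMap)
          naturality := fun p q h => Under.UnderMorphism.ext (CommRingCat.hom_ext
            (congrArg AlgHom.toRingHom (Groth.Agent.FPSysLib.Alg.toLim_trans p.1 q.1 h.le))) } }
  obtain ⟨hc⟩ := Groth.Agent.FPSysLib.Alg.nonempty_isColimit c
    (fun a => by
      let p₀ : J := Classical.arbitrary J
      have ha : a ∈ Algebra.adjoin R (Set.range (Subtype.val : {x // x ∈ p₀.1.1.1} → A)) := by
        rw [show Set.range (Subtype.val : {x // x ∈ p₀.1.1.1} → A) = (p₀.1.1.1 : Set A) from Subtype.range_coe,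
          p₀.2, hs]
        trivial
      rw [Algebra.adjoin_range_eq_range_aeval] at ha
      obtain ⟨w, hw⟩ := ha
      exact ⟨p₀, Ideal.Quotient.mk _ w, hw⟩)
    (fun p x y hxy => by
      obtain ⟨q, h, hq1, hq⟩ := Groth.Agent.FPSysLib.Alg.exists_trans_eq_zero p.1 (x - y) ((map_sub _ x y).trans (sub_eq_zero.mpr hxy))
      exact ⟨⟨q, hq1.trans p.2⟩, h, sub_eq_zero.mp ((map_sub (Groth.Agent.FPSysLib.Alg.trans p.1 q h) x y).symm.trans hq)⟩)
  refine ⟨J, inferInstance, inferInstance, D, c, hc, fun p => ?_, fun p q h z => ?_, ⟨Iso.refl _⟩⟩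
  · exact RingHom.finitePresentation_algebraMap.mpr (Groth.Agent.FPSysLib.Alg.finitePresentation_stage p.1)
  · obtain ⟨w, rfl⟩ := Ideal.Quotient.mk_surjective z
    obtain ⟨v, rfl⟩ := MvPolynomial.rename_surjective
      (fun x : {x // x ∈ p.1.1.1} => (⟨x.1, h.le.1 x.2⟩ : {x // x ∈ q.1.1.1}))
      (fun x => ⟨⟨x.1, p.2.ge (q.2.le x.2)⟩, rfl⟩) w
    exact ⟨Ideal.Quotient.mk _ v, rfl⟩

end Groth.Agent.S9179
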