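import Groth.Statements.S9180
import Groth.Agent.LocDimBC.Alg
import Groth.Agent.DimFormulaLib.LocalDim
-- import your own Groth.Agent.* helpers here

set_option autoImplicit false
universe u
open CAlg

namespace Groth.Agent.S9180

open TensorProduct

attribute [local instance] Algebra.TensorProduct.rightAlgebra

theorem fib_formula {S B : Type u} [CommRing S] [IsNoetherianRing S] [CommRing B] [IsNoetherianRing B] [Algebra S B]
    [Module.Flat S B] (q : Ideal S) [q.IsPrime] (P : Ideal B) [P.IsPrime] [P.LiesOver q] :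
    ringKrullDim (EGA4.FibLocRing S B P) + ringKrullDim (Localization.AtPrime q) =
      ringKrullDim (Localization.AtPrime P) := by
  let L := Localization.AtPrime P
  haveI : Module.Flat B L := IsLocalization.flat L P.primeCompl
  haveI : Module.Flat S L := Module.Flat.trans S B L
  haveI : (IsLocalRing.maximalIdeal L).LiesOver q := ⟨by
    rw [Ideal.under_def, IsScalarTower.algebraMap_eq S B L, ← Ideal.comap_comap]
    rw [show (IsLocalRing.maximalIdeal L).comap (algebraMap B L) = P from IsLocalization.AtPrime.under_maximalIdeal L P]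
    exact Ideal.LiesOver.over⟩
  haveI : IsNoetherianRing L := IsLocalization.isNoetherianRing P.primeCompl L inferInstance
  have h := Ideal.height_eq_height_add_of_liesOver_of_hasGoingDown q (IsLocalRing.maximalIdeal L)
  have hne : q.map (algebraMap S L) ≠ ⊤ := by
    refine ne_top_of_le_ne_top (IsLocalRing.maximalIdeal.isMaximal L).ne_top (Ideal.map_le_iff_le_comap.2 ?_)
    exact (Ideal.LiesOver.over (p := q) (P := IsLocalRing.maximalIdeal L)).le
  haveI : Nontrivial (L ⧸ q.map (algebraMap S L)) := Ideal.Quotient.nontrivial_iff.2 hne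
  haveI : IsLocalRing (L ⧸ q.map (algebraMap S L)) :=
    .of_surjective' (Ideal.Quotient.mk _) Ideal.Quotient.mk_surjective
  rw [IsLocalRing.map_maximalIdeal_of_surjective _ Ideal.Quotient.mk_surjective] at h
  have hd := congrArg (fun a : ℕ∞ => (a : WithBot ℕ∞)) h
  simp only [WithBot.coe_add, IsLocalRing.maximalIdeal_height_eq_ringKrullDim] at hd
  have hq : q = P.comap (algebraMap S B) := Ideal.LiesOver.over
  have h3 : ringKrullDim (EGA4.FibLocRing S B P) = ringKrullDim (L ⧸ q.map (algebraMap S L)) :=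
    ringKrullDim_eq_of_ringEquiv (Ideal.quotEquivOfEq (show (P.comap (algebraMap S B)).map (algebraMap S L) =
      q.map (algebraMap S L) by rw [← hq]))
  rw [h3, IsLocalization.AtPrime.ringKrullDim_eq_height q (Localization.AtPrime q), hd, add_comm]

theorem exists_dim_zero {S B : Type u} [CommRing S] [IsNoetherianRing S] [CommRing B] [IsNoetherianRing B]
    [Algebra S B] [Module.Flat S B] (q : Ideal S) [q.IsPrime] (P : Ideal B) [P.IsPrime] [P.LiesOver q] :
    ∃ (q' : Ideal B) (_ : q'.IsPrime), q'.LiesOver q ∧ ringKrullDim (EGA4.FibLocRing S B q') = 0 := by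
  obtain ⟨q', hq', hle⟩ := Ideal.exists_minimalPrimes_le (I := q.map (algebraMap S B)) (J := P)
    (Ideal.map_le_iff_le_comap.2 (Ideal.LiesOver.over (p := q) (P := P)).le)
  haveI := hq'.1.1
  haveI : q'.LiesOver q := ⟨le_antisymm (Ideal.map_le_iff_le_comap.1 hq'.1.2)
    ((Ideal.comap_mono hle).trans (Ideal.LiesOver.over (p := q) (P := P)).ge)⟩
  refine ⟨q', inferInstance, inferInstance, ?_⟩
  have h1 := Ideal.height_eq_height_add_of_liesOver_of_hasGoingDown q q'
  haveI : (q'.map (Ideal.Quotient.mk (q.map (algebraMap S B)))).IsPrime :=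
    Ideal.map_isPrime_of_surjective Ideal.Quotient.mk_surjective (by rw [Ideal.mk_ker]; exact hq'.1.2)
  have h0 : (q'.map (Ideal.Quotient.mk (q.map (algebraMap S B)))).height = 0 := by
    refine Ideal.height_eq_zero_iff.2 ⟨⟨inferInstance, bot_le⟩, fun J hJ hJle => ?_⟩
    haveI := hJ.1
    rw [← Ideal.map_comap_of_surjective _ Ideal.Quotient.mk_surjective J]
    refine Ideal.map_mono (hq'.2 ⟨inferInstance, ?_⟩ ?_)
    · intro a ha
      show Ideal.Quotient.mk _ a ∈ J
      rw [Ideal.Quotient.eq_zero_iff_mem.2 ha]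
      exact zero_mem _
    · refine (Ideal.comap_mono hJle).trans ?_
      rw [Ideal.comap_map_of_surjective _ Ideal.Quotient.mk_surjective, ← RingHom.ker_eq_comap_bot, Ideal.mk_ker]
      exact sup_le le_rfl hq'.1.2
  rw [h0, add_zero] at h1
  have h2 := fib_formula q q'
  rw [IsLocalization.AtPrime.ringKrullDim_eq_height q (Localization.AtPrime q),
    IsLocalization.AtPrime.ringKrullDim_eq_height q' (Localization.AtPrime q'), h1] at h2
  obtain ⟨n, hn⟩ := ENat.ne_top_iff_exists.1 (Ideal.height_ne_top_of_isPrime (I := q))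
  rw [← hn] at h2
  cases hd : ringKrullDim (EGA4.FibLocRing S B q') with
  | bot => rw [hd] at h2; exact absurd h2.symm WithBot.coe_ne_bot
  | coe d =>
    rw [hd, ← WithBot.coe_add, WithBot.coe_inj] at h2
    obtain ⟨d, rfl⟩ := ENat.ne_top_iff_exists.1 (fun e : d = ⊤ => by rw [e, top_add] at h2; exact ENat.natCast_ne_top n h2.symm)
    norm_cast at h2 ⊢
    omega

variable {k S K : Type u} [Field k] [CommRing S] [Algebra k S] [Algebra.FiniteType k S] [Field K] [Algebra k K]

theorem height_add (qK : Ideal (S ⊗[k] K)) [qK.IsPrime] (q : Ideal S) [q.IsPrime] [qK.LiesOver q] (r rK : ℕ)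
    (hr : Algebra.trdeg k q.ResidueField = r) (hrK : Algebra.trdeg K qK.ResidueField = rK) :
    ∃ a b : ℕ, qK.height = a ∧ q.height = b ∧ a + rK = b + r := by
  let e : K ⊗[k] S ≃ₐ[K] S ⊗[k] K := Algebra.TensorProduct.commRight k K S
  let P : PrimeSpectrum (K ⊗[k] S) := ⟨qK.comap e.toRingEquiv.toRingHom, inferInstance⟩
  have hPq : PrimeSpectrum.comap (Algebra.TensorProduct.includeRight : S →ₐ[k] K ⊗[k] S).toRingHom P =
      ⟨q, inferInstance⟩ := by
    refine PrimeSpectrum.ext ?_
    show (qK.comap e.toRingEquiv.toRingHom).comap _ = q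
    rw [Ideal.comap_comap, Ideal.LiesOver.over (p := q) (P := qK)]
    congr 1
  have hloc := LocDimBC.localDim_tensor (k := k) (K := K) (S := S) P
  rw [hPq] at hloc
  obtain ⟨b, hb, hlb, -⟩ := DimFormulaLib.localDim_eq_height_add k S ⟨q, inferInstance⟩ r
    ((DimFormulaLib.trdeg_residueField k q).trans hr)
  have hP : Algebra.trdeg K ((K ⊗[k] S) ⧸ P.asIdeal) = rK := by
    rw [← hrK, ← DimFormulaLib.trdeg_residueField K qK]
    exact (Ideal.quotientEquivAlg P.asIdeal qK e
      (Ideal.map_comap_of_surjective _ e.surjective qK).symm).trdeg_eq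
  obtain ⟨a, ha, hla, -⟩ := DimFormulaLib.localDim_eq_height_add K (K ⊗[k] S) P rK hP
  refine ⟨a, b, ?_, hb, ?_⟩
  · rw [← ha]
    exact (e.toRingEquiv.height_comap qK).symm
  · rw [hla, hlb] at hloc
    exact_mod_cast hloc

open TensorProduct in
/-- Let S be of finite type over a field k, K an extension field of k, S_K = S ⊗_k K, q a prime of S
whose residue field has transcendence degree r over k, and q_K a prime of S_K lying over q whose
residue field has transcendence degree r_K over K. Then the local ring at q_K of the fibre of S →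
S_K over q has dimension dim (S_K)_{q_K} − dim S_q = r − r_K (stated additively), and there is a
prime of S_K over q for which this dimension is zero. -/
theorem result (k S K : Type u) [Field k] [CommRing S] [Algebra k S]
    [Algebra.FiniteType k S] [Field K] [Algebra k K] (q : Ideal S) [q.IsPrime] (r : ℕ)
    (hr : Algebra.trdeg k q.ResidueField = r) (qK : Ideal (S ⊗[k] K)) [qK.IsPrime] [qK.LiesOver q]
    (rK : ℕ)
    (hrK : letI : Algebra K (S ⊗[k] K) := Algebra.TensorProduct.rightAlgebra
      Algebra.trdeg K qK.ResidueField = rK) :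
    ringKrullDim (EGA4.FibLocRing S (S ⊗[k] K) qK) + ringKrullDim (Localization.AtPrime q) =
        ringKrullDim (Localization.AtPrime qK) ∧
      ringKrullDim (EGA4.FibLocRing S (S ⊗[k] K) qK) + (rK : WithBot ℕ∞) = (r : WithBot ℕ∞) ∧
      ∃ (q' : Ideal (S ⊗[k] K)) (_ : q'.IsPrime), q'.LiesOver q ∧
        ringKrullDim (EGA4.FibLocRing S (S ⊗[k] K) q') = 0 := by
  haveI : IsNoetherianRing S := Algebra.FiniteType.isNoetherianRing k S
  haveI : Algebra.FiniteType K (S ⊗[k] K) :=
    Algebra.FiniteType.equiv (inferInstanceAs (Algebra.FiniteType K (K ⊗[k] S))) (Algebra.TensorProduct.commRight k K S)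
  haveI : IsNoetherianRing (S ⊗[k] K) := Algebra.FiniteType.isNoetherianRing K _
  have h1 := fib_formula q qK
  refine ⟨h1, ?_, exists_dim_zero q qK⟩
  obtain ⟨a, b, ha, hb, hab⟩ := height_add qK q r rK hr hrK
  rw [IsLocalization.AtPrime.ringKrullDim_eq_height q (Localization.AtPrime q),
    IsLocalization.AtPrime.ringKrullDim_eq_height qK (Localization.AtPrime qK), ha, hb] at h1
  cases hd : ringKrullDim (EGA4.FibLocRing S (S ⊗[k] K) qK) with
  | bot => rw [hd] at h1; exact absurd h1.symm WithBot.coe_ne_bot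
  | coe d =>
    rw [hd, ← WithBot.coe_add, WithBot.coe_inj] at h1
    obtain ⟨d, rfl⟩ := ENat.ne_top_iff_exists.1 (fun e : d = ⊤ => by rw [e, top_add] at h1; exact ENat.natCast_ne_top a h1.symm)
    norm_cast at h1 ⊢
    omega

end Groth.Agent.S9180
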