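import Groth.Statements.S9181
import Groth.Agent.QFNormLib.Main
-- import your own Groth.Agent.* helpers here

set_option autoImplicit false
universe u
open CAlg

namespace Groth.Agent.S9181

section

open TensorProduct

/-- The transcendence degree of a point of the fibre. -/
theorem trdeg_fibre {R S : Type u} [CommRing R] [CommRing S] [Algebra R S] [Algebra.FiniteType R S] (p : Ideal R) [p.IsPrime]
    (q : Ideal S) [q.IsPrime] (P : Ideal (p.Fiber S)) [P.IsPrime]
    (hP : P.comap (Algebra.TensorProduct.includeRight.toRingHom) = q)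
    [Algebra p.ResidueField q.ResidueField] [IsScalarTower R p.ResidueField q.ResidueField] :
    Algebra.trdeg p.ResidueField (p.Fiber S ⧸ P) = Algebra.trdeg p.ResidueField q.ResidueField := by
  let φ : p.Fiber S →ₐ[p.ResidueField] q.ResidueField :=
    Algebra.TensorProduct.lift (Algebra.ofId p.ResidueField q.ResidueField)
      (IsScalarTower.toAlgHom R S q.ResidueField) (fun _ _ => Commute.all _ _)
  have hφs : ∀ s : S, φ ((1 : p.ResidueField) ⊗ₜ[R] s) = algebraMap S q.ResidueField s := fun s => by
    simp [φ]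
  have hk : (RingHom.ker φ.toRingHom).comap (Algebra.TensorProduct.includeRight.toRingHom) = q := by
    ext s
    rw [Ideal.mem_comap, RingHom.mem_ker]
    change φ ((1 : p.ResidueField) ⊗ₜ[R] s) = 0 ↔ _
    rw [hφs, Ideal.algebraMap_residueField_eq_zero]
  haveI : (RingHom.ker φ.toRingHom).IsPrime := RingHom.ker_isPrime _
  have hker : RingHom.ker φ.toRingHom = P :=
    Groth.Agent.QFNormLib.fibre_prime_ext p (hk.trans hP.symm)
  let ψ : (p.Fiber S ⧸ P) →ₐ[p.ResidueField] q.ResidueField :=
    Ideal.Quotient.liftₐ P φ fun x hx => by rw [← hker] at hx; exact hx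
  have hψi : Function.Injective ψ := by
    rw [injective_iff_map_eq_zero]
    intro x hx
    obtain ⟨x, rfl⟩ := Ideal.Quotient.mk_surjective x
    refine Ideal.Quotient.eq_zero_iff_mem.mpr ?_
    rw [← hker]
    exact hx
  letI : Algebra (p.Fiber S ⧸ P) q.ResidueField := ψ.toRingHom.toAlgebra
  haveI : IsScalarTower p.ResidueField (p.Fiber S ⧸ P) q.ResidueField := ⟨fun c x z => by
    change ψ (c • x) * z = c • (ψ x * z)
    rw [map_smul, smul_mul_assoc]⟩
  haveI : FaithfulSMul (p.Fiber S ⧸ P) q.ResidueField :=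
    (faithfulSMul_iff_algebraMap_injective _ _).mpr hψi
  haveI : IsFractionRing (p.Fiber S ⧸ P) q.ResidueField := by
    refine IsFractionRing.of_field (p.Fiber S ⧸ P) q.ResidueField fun z => ?_
    obtain ⟨a, b, hb, rfl⟩ := IsFractionRing.div_surjective (A := S ⧸ q) z
    obtain ⟨a, rfl⟩ := Ideal.Quotient.mk_surjective a
    obtain ⟨b, rfl⟩ := Ideal.Quotient.mk_surjective b
    refine ⟨Ideal.Quotient.mk P (1 ⊗ₜ a), Ideal.Quotient.mk P (1 ⊗ₜ b), ?_⟩
    have h : ∀ s : S, ψ (Ideal.Quotient.mk P ((1 : p.ResidueField) ⊗ₜ[R] s)) =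
        algebraMap S q.ResidueField s := fun s => hφs s
    exact (congrArg₂ (· / ·) (h a) (h b)).symm
  exact Groth.Agent.DimFormulaLib.trdeg_eq_of_isFractionRing

/-- Quasi-finite at a prime gives a quasi-finite basic open. -/
theorem exists_quasiFinite_away {A S : Type u} [CommRing A] [CommRing S] [Algebra A S]
    [Algebra.FiniteType A S] (q : Ideal S) [q.IsPrime] [Algebra.QuasiFiniteAt A q] :
    ∃ g : S, g ∉ q ∧ Algebra.QuasiFinite A (Localization.Away g) := by
  obtain ⟨S', hS', r, hrp, H⟩ :=
    Algebra.QuasiFiniteAt.exists_fg_and_exists_notMem_and_awayMap_bijective (R := A) q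
  haveI : Module.Finite A S' := ⟨(Submodule.fg_top _).mpr hS'⟩
  haveI : Algebra.QuasiFinite A (Localization.Away r) := .trans _ S' _
  exact ⟨r.1, hrp, .of_surjective_algHom (Localization.awayMapₐ S'.val r) H.2⟩

end

/-- Let R → S be of finite type, q a prime of S over p, Q the prime of κ(p) ⊗ S over q, with the fibre
of local dimension n at Q and κ(q) of transcendence degree r over κ(p). Then for some f ∉ p and g ∉
q there is an R-algebra map φ : R_f[x_1, …, x_n] → S_g, of finite type and quasi-finite, such that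
the inverse image of q S_g under φ is the ideal generated by p and the variables x_{r+1}, …, x_n. -/
theorem result (R S : Type u) [CommRing R] [CommRing S]
    [Algebra R S] [Algebra.FiniteType R S] (p : Ideal R) [p.IsPrime] (q : Ideal S) [q.IsPrime] [q.LiesOver p]
    [Algebra (Localization.AtPrime p) (Localization.AtPrime q)]
    [Localization.AtPrime.IsLiesOverAlgebra p q] (Q : PrimeSpectrum (p.Fiber S))
    (hQ : Q.asIdeal.comap (Algebra.TensorProduct.includeRight.toRingHom) = q) (n r : ℕ)
    (hdim : FlatMor.localDim (PrimeSpectrum (p.Fiber S)) Q = (n : WithBot ℕ∞))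
    (hr : Algebra.trdeg p.ResidueField q.ResidueField = r) :
    ∃ (f : R) (g : S), f ∉ p ∧ g ∉ q ∧
      ∃ φ : MvPolynomial (Fin n) (Localization.Away f) →ₐ[R] Localization.Away g,
        φ.toRingHom.FiniteType ∧ φ.toRingHom.QuasiFinite ∧
        (q.map (algebraMap S (Localization.Away g))).comap φ =
          p.map (algebraMap R (MvPolynomial (Fin n) (Localization.Away f))) ⊔
            Ideal.span (Set.range fun i : {i : Fin n // r ≤ (i : ℕ)} =>
              (MvPolynomial.X (i : Fin n) : MvPolynomial (Fin n) (Localization.Away f))) := by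
  let P := Q.asIdeal
  haveI hPp : P.IsPrime := Q.isPrime
  haveI : IsScalarTower R p.ResidueField q.ResidueField := inferInstance
  have hrP : Algebra.trdeg p.ResidueField (p.Fiber S ⧸ P) = r := (trdeg_fibre p q P hQ).trans hr
  obtain ⟨h, hh, hloc, -⟩ :=
    Groth.Agent.DimFormulaLib.localDim_eq_height_add p.ResidueField (p.Fiber S) Q r hrP
  have hn : n = h + r := by
    rw [hdim] at hloc
    exact_mod_cast hloc
  obtain ⟨y₀, z, hb, hz, hmin⟩ := Groth.Agent.QFNormLib.exists_coords p P h r hh hrP
  let y : Fin n → S := fun j => if hj : (j : ℕ) < r then y₀ ⟨j, hj⟩ else z ⟨j - r, by omega⟩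
  have hrn : r ≤ n := by omega
  have hy₀ : ∀ i : Fin r, y (Fin.castLE hrn i) = y₀ i := fun i => by
    simp [y, i.isLt]
  have hyz : ∀ j : Fin n, r ≤ (j : ℕ) → (1 : p.ResidueField) ⊗ₜ[R] y j ∈ P := fun j hj => by
    simp only [y, dif_neg (not_lt.mpr hj)]
    exact hz _
  have hb' : IsTranscendenceBasis p.ResidueField
      (fun i : Fin r => Ideal.Quotient.mk P ((1 : p.ResidueField) ⊗ₜ[R] y (Fin.castLE hrn i))) := by
    simp only [hy₀]
    exact hb
  have hmin' : ∀ P' : Ideal (p.Fiber S), P'.IsPrime → P' ≤ P →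
      (∀ j : Fin n, r ≤ (j : ℕ) → (1 : p.ResidueField) ⊗ₜ[R] y j ∈ P') → P' = P := by
    intro P' hP' hle hall
    refine hmin P' hP' hle fun k => ?_
    have h1 := hall ⟨r + k, by omega⟩ (Nat.le_add_right _ _)
    simp only [y, dif_neg (show ¬ r + (k : ℕ) < r by omega)] at h1
    simpa using h1
  letI algS : Algebra (MvPolynomial (Fin n) R) S :=
    (MvPolynomial.aeval y : MvPolynomial (Fin n) R →ₐ[R] S).toRingHom.toAlgebra
  haveI : IsScalarTower R (MvPolynomial (Fin n) R) S :=
    .of_algebraMap_eq fun a => ((MvPolynomial.aeval y : MvPolynomial (Fin n) R →ₐ[R] S).commutes a).symm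
  haveI : Algebra.FiniteType (MvPolynomial (Fin n) R) S :=
    Algebra.FiniteType.of_restrictScalars_finiteType R _ S
  haveI : Algebra.QuasiFiniteAt (MvPolynomial (Fin n) R) q :=
    Groth.Agent.QFNormLib.quasiFiniteAt_aeval p q y P hQ hrn hb' hyz hmin'
  obtain ⟨g, hgq, hqf⟩ := exists_quasiFinite_away (A := MvPolynomial (Fin n) R) q
  let e₁ : R ≃ₐ[R] Localization.Away (1 : R) :=
    IsLocalization.atUnit R (Localization.Away (1 : R)) 1 isUnit_one
  let ε : MvPolynomial (Fin n) R ≃ₐ[R] MvPolynomial (Fin n) (Localization.Away (1 : R)) :=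
    MvPolynomial.mapAlgEquiv _ e₁
  let ψ : MvPolynomial (Fin n) R →ₐ[R] Localization.Away g :=
    (IsScalarTower.toAlgHom R S (Localization.Away g)).comp (MvPolynomial.aeval y)
  refine ⟨1, g, fun h1 => ‹p.IsPrime›.ne_top ((Ideal.eq_top_iff_one _).mpr h1), hgq,
    ψ.comp ε.symm.toAlgHom, ?_, ?_, ?_⟩
  · have hft : (algebraMap R (Localization.Away g)).FiniteType :=
      RingHom.finiteType_algebraMap.mpr (Algebra.FiniteType.trans (S := S) inferInstance inferInstance)
    rw [← (ψ.comp ε.symm.toAlgHom).comp_algebraMap] at hft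
    exact RingHom.FiniteType.of_comp_finiteType hft
  · have h1 : (algebraMap (MvPolynomial (Fin n) R) (Localization.Away g)).QuasiFinite :=
      RingHom.quasiFinite_algebraMap.mpr hqf
    exact RingHom.QuasiFinite.comp (f := algebraMap (MvPolynomial (Fin n) R) (Localization.Away g))
      h1 (RingHom.QuasiFinite.of_finite (RingHom.Finite.of_surjective _ ε.symm.surjective))
  · have hd : Disjoint (Submonoid.powers g : Set S) q := by
      rwa [Ideal.disjoint_powers_iff_notMem_of_isPrime]
    have h2 : (q.map (algebraMap S (Localization.Away g))).comap ψ.toRingHom =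
        p.map (algebraMap R (MvPolynomial (Fin n) R)) ⊔
          Ideal.span (Set.range fun i : {i : Fin n // r ≤ (i : ℕ)} =>
            (MvPolynomial.X (i : Fin n) : MvPolynomial (Fin n) R)) := by
      have h4 := Groth.Agent.QFNormLib.comap_aeval p q y P hQ hrn hb' hyz
      have h5 : (q.map (algebraMap S (Localization.Away g))).comap (algebraMap S (Localization.Away g)) = q :=
        IsLocalization.under_map_of_isPrime_disjoint (Submonoid.powers g) (Localization.Away g) ‹_› hd
      rw [← h4, ← congrArg (Ideal.comap (MvPolynomial.aeval y : MvPolynomial (Fin n) R →ₐ[R] S).toRingHom) h5,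
        Ideal.comap_comap]
      rfl
    change ((q.map (algebraMap S (Localization.Away g))).comap ψ.toRingHom).comap
      (ε.symm.toRingEquiv : MvPolynomial (Fin n) (Localization.Away (1 : R)) →+* _) = _
    refine (Ideal.comap_symm ε.toRingEquiv).trans ?_
    rw [h2, Ideal.map_sup, Ideal.map_span, ← Set.range_comp]
    change Ideal.map (ε.toRingEquiv : MvPolynomial (Fin n) R →+* MvPolynomial (Fin n) (Localization.Away (1 : R)))
      (Ideal.map (algebraMap R (MvPolynomial (Fin n) R)) p) ⊔ _ = _
    rw [Ideal.map_map]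
    have h6 : (ε.toRingEquiv : MvPolynomial (Fin n) R →+* MvPolynomial (Fin n) (Localization.Away (1 : R))).comp
        (algebraMap R (MvPolynomial (Fin n) R)) = algebraMap R _ := RingHom.ext fun a => ε.commutes a
    refine congrArg₂ (· ⊔ ·) (congrArg (Ideal.map · p) h6) (congrArg (fun f => Ideal.span (Set.range f)) (funext fun i => ?_))
    exact MvPolynomial.map_X _ _

end Groth.Agent.S9181
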