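import Groth.Statements.S9182
import Groth.Agent.CotLocLib.Basic

set_option autoImplicit false
universe u
open CAlg

namespace Groth.Agent.S9182

/-- For presentations α : R[x_1, …, x_n] → S and β : R[y_1, …, y_m] → S_g (g ∈ S) with kernels I and J,
the S_g-modules (I/I²)_g ⊕ S_g^m and J/J² ⊕ S_g^n are isomorphic. -/
theorem result (R S : Type u) [CommRing R] [CommRing S] [Algebra R S]
    (g : S) (n m : ℕ) (α : MvPolynomial (Fin n) R →ₐ[R] S) (hα : Function.Surjective α)
    (β : MvPolynomial (Fin m) R →ₐ[R] Localization.Away g) (hβ : Function.Surjective β) :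
    Nonempty ((LocalizedModule (Submonoid.powers g) (Algebra.Extension.ofSurjective α hα).Cotangent ×
        (Fin m → Localization.Away g)) ≃ₗ[Localization.Away g]
      ((Algebra.Extension.ofSurjective β hβ).Cotangent × (Fin n → Localization.Away g))) := by
  let P := Algebra.Extension.ofSurjective α hα
  let Q := Algebra.Extension.ofSurjective β hβ
  haveI : Algebra.FormallySmooth R P.Ring := inferInstanceAs (Algebra.FormallySmooth R (MvPolynomial (Fin n) R))
  haveI : Algebra.FormallySmooth R Q.Ring := inferInstanceAs (Algebra.FormallySmooth R (MvPolynomial (Fin m) R))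
  obtain ⟨P', hP', ⟨eC⟩, ⟨eS⟩⟩ := CotLocLib.exists_localization (T := Localization.Away g) P (Submonoid.powers g)
  obtain ⟨e⟩ := CotLocLib.nonempty_schanuel P' Q
  let bP : Module.Basis (Fin n) P.Ring Ω[P.Ring⁄R] := KaehlerDifferential.mvPolynomialBasis R (Fin n)
  let eP : P'.CotangentSpace ≃ₗ[Localization.Away g] (Fin n → Localization.Away g) :=
    eS.symm.trans ((bP.baseChange S).baseChange (Localization.Away g)).equivFun
  let bQ : Module.Basis (Fin m) Q.Ring Ω[Q.Ring⁄R] := KaehlerDifferential.mvPolynomialBasis R (Fin m)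
  let eQ : Q.CotangentSpace ≃ₗ[Localization.Away g] (Fin m → Localization.Away g) := (bQ.baseChange _).equivFun
  let eL : LocalizedModule (Submonoid.powers g) P.Cotangent ≃ₗ[Localization.Away g] P'.Cotangent :=
    (LocalizedModule.equivTensorProduct (Submonoid.powers g) P.Cotangent).trans eC
  exact ⟨(eL.prodCongr eQ.symm).trans (e.trans ((LinearEquiv.refl _ _).prodCongr eP))⟩

end Groth.Agent.S9182
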