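import Groth.Statements.S9184
import Groth.Agent.LocFlat.Fibre
import Groth.Agent.FlatLocus.Main
-- import your own Groth.Agent.* helpers here

set_option autoImplicit false
universe u
open CAlg

namespace Groth.Agent.S9184

open TensorProduct IsLocalRing

theorem map_mulVecLin {S T : Type u} [CommRing S] [CommRing T] (g : S →+* T) {a b : ℕ}
    (M : Matrix (Fin a) (Fin b) S) (x : Fin b → S) :
    Matrix.mulVecLin (M.map g) (fun j => g (x j)) = fun j => g (Matrix.mulVecLin M x j) := by
  ext j
  exact (RingHom.map_mulVec g M x j).symm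

theorem range_le_ker {S T : Type u} [CommRing S] [CommRing T] (g : S →+* T) {a b c : ℕ}
    (M : Matrix (Fin a) (Fin b) S) (N : Matrix (Fin b) (Fin c) S) (h : M * N = 0) :
    LinearMap.range (Matrix.mulVecLin (N.map g)) ≤ LinearMap.ker (Matrix.mulVecLin (M.map g)) := by
  rw [LinearMap.range_le_ker_iff, ← Matrix.mulVecLin_mul, ← Matrix.map_mul, h, Matrix.map_zero _ (map_zero g),
    Matrix.mulVecLin_zero]

theorem mem_ideal_pi {L : Type u} [CommRing L] (I : Ideal L) {b : ℕ} (x : Fin b → L) :
    x ∈ (I • ⊤ : Submodule L (Fin b → L)) ↔ ∀ j, x j ∈ I := by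
  classical
  refine ⟨fun hx j => ?_, fun hx => ?_⟩
  · induction hx using Submodule.smul_induction_on' with
    | smul r hr y _ => exact I.mul_mem_right _ hr
    | add y _ z _ hy hz => exact add_mem hy hz
  · rw [← Finset.univ_sum_single x]
    refine Submodule.sum_mem _ fun i _ => ?_
    rw [show Pi.single i (x i) = x i • (Pi.single i 1 : Fin b → L) by rw [← Pi.single_smul, smul_eq_mul, mul_one]]
    exact Submodule.smul_mem_smul (hx i) Submodule.mem_top

/-- The local criterion for exactness on the closed fibre. -/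
theorem crit {R L : Type u} [CommRing R] [CommRing L] [Algebra R L] [IsLocalRing R] [IsLocalRing L]
    [IsNoetherianRing L] [IsLocalHom (algebraMap R L)] [Module.Flat R L] {a b : ℕ}
    (ψ : (Fin b → L) →ₗ[L] (Fin a → L)) (N : Submodule L (Fin b → L)) (hN : N ≤ LinearMap.ker ψ) :
    (∀ x, (∀ j, ψ x j ∈ (maximalIdeal R).map (algebraMap R L)) →
      ∃ y ∈ N, ∀ j, (x - y) j ∈ (maximalIdeal R).map (algebraMap R L)) ↔
      (LinearMap.ker ψ = N ∧ Module.Flat R ((Fin a → L) ⧸ LinearMap.range ψ)) := by
  haveI : Module.Flat R (Fin a → L) := Module.Flat.trans R L _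
  let u : ((Fin b → L) ⧸ N) →ₗ[R] (Fin a → L) := (N.liftQ ψ hN).restrictScalars R
  have hrange : LinearMap.range u = (LinearMap.range ψ).restrictScalars R := by
    rw [← Submodule.range_liftQ N ψ hN]
    rfl
  let e : ((Fin a → L) ⧸ LinearMap.range u) ≃ₗ[R] (Fin a → L) ⧸ LinearMap.range ψ :=
    (Submodule.quotEquivOfEq _ _ hrange).trans (Submodule.Quotient.restrictScalarsEquiv R _)
  have hmemR : ∀ {M : Type u} [AddCommGroup M] [Module R M] [Module L M] [IsScalarTower R L M] (z : M),
      z ∈ (maximalIdeal R • ⊤ : Submodule R M) ↔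
        z ∈ ((maximalIdeal R).map (algebraMap R L) • ⊤ : Submodule L M) := by
    intro M _ _ _ _ z
    rw [← Submodule.restrictScalars_mem R ((maximalIdeal R).map (algebraMap R L) • ⊤ : Submodule L M),
      Submodule.restrictScalars_map_smul_eq, Submodule.restrictScalars_top]
  constructor
  · intro H
    obtain ⟨hinj, hflat⟩ := LocFlat.injective_and_flat_of_residue (S := L) u
      (LocFlat.lTensor_residue_injective u fun z hz => by
        obtain ⟨x, rfl⟩ := Submodule.Quotient.mk_surjective N z
        rw [hmemR, mem_ideal_pi] at hz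
        obtain ⟨y, hy, hxy⟩ := H x hz
        rw [hmemR]
        have h1 : (Submodule.Quotient.mk x : (Fin b → L) ⧸ N) = N.mkQ (x - y) := by
          rw [Submodule.mkQ_apply, Submodule.Quotient.eq, sub_sub_cancel]
          exact hy
        rw [h1]
        have h2 := Submodule.mem_map_of_mem (f := N.mkQ) ((mem_ideal_pi _ _).2 hxy)
        rw [Submodule.map_smul''] at h2
        exact Submodule.smul_mono le_rfl le_top h2)
    refine ⟨le_antisymm (fun x hx => ?_) hN, Module.Flat.of_linearEquiv e.symm⟩
    have h0 : u (Submodule.Quotient.mk x) = u 0 := by rw [map_zero]; exact hx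
    exact (Submodule.Quotient.mk_eq_zero N).1 (hinj h0)
  · rintro ⟨hker, hflat⟩ x hx
    have hinj : Function.Injective u := by
      show Function.Injective (N.liftQ ψ hN)
      rw [← LinearMap.ker_eq_bot, Submodule.ker_liftQ, hker]
      exact Submodule.mkQ_map_self N
    haveI : Module.Flat R ((Fin a → L) ⧸ LinearMap.range u) := Module.Flat.of_linearEquiv e
    have huniv := CAlgBasics.universallyInjective_of_flat_coker hinj (LinearMap.exact_map_mkQ_range u)
      (Submodule.mkQ_surjective _)
    have hm : u (Submodule.Quotient.mk x) ∈ (maximalIdeal R • ⊤ : Submodule R (Fin a → L)) :=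
      (hmemR _).2 ((mem_ideal_pi _ _).2 hx)
    have hz : (Submodule.Quotient.mk x : (Fin b → L) ⧸ N) ∈ (maximalIdeal R • ⊤ : Submodule R _) := by
      rw [← Submodule.Quotient.mk_eq_zero]
      apply (TensorProduct.tensorQuotEquivQuotSMul ((Fin b → L) ⧸ N) (maximalIdeal R)).symm.injective
      rw [map_zero]
      apply huniv (R ⧸ maximalIdeal R)
      rw [map_zero, TensorProduct.tensorQuotEquivQuotSMul_symm_mk, LinearMap.rTensor_tmul,
        ← TensorProduct.tensorQuotEquivQuotSMul_symm_mk (M := Fin a → L), (Submodule.Quotient.mk_eq_zero _).mpr hm,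
        map_zero]
    rw [hmemR] at hz
    have hmap : ((maximalIdeal R).map (algebraMap R L) • ⊤ : Submodule L ((Fin b → L) ⧸ N)) =
        (((maximalIdeal R).map (algebraMap R L) • ⊤ : Submodule L (Fin b → L))).map N.mkQ := by
      rw [Submodule.map_smul'', Submodule.map_top, Submodule.range_mkQ]
    rw [hmap] at hz
    obtain ⟨w, hw, hwx⟩ := hz
    refine ⟨x - w, (Submodule.Quotient.eq N).1 hwx.symm, ?_⟩
    rw [sub_sub_cancel]
    exact (mem_ideal_pi _ _).1 hw

variable {R S : Type u} [CommRing R] [CommRing S] [Algebra R S]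

theorem exact_mod_iff {L : Type u} [CommRing L] (I : Ideal L) {a b c : ℕ}
    (M : Matrix (Fin a) (Fin b) L) (N : Matrix (Fin b) (Fin c) L) (h : M * N = 0) :
    LinearMap.ker (Matrix.mulVecLin (M.map (Ideal.Quotient.mk I))) =
        LinearMap.range (Matrix.mulVecLin (N.map (Ideal.Quotient.mk I))) ↔
      ∀ x, (∀ j, Matrix.mulVecLin M x j ∈ I) → ∃ y ∈ LinearMap.range (Matrix.mulVecLin N), ∀ j, (x - y) j ∈ I := by
  constructor
  · intro H x hx
    have hk : (fun j => Ideal.Quotient.mk I (x j)) ∈ LinearMap.ker (Matrix.mulVecLin (M.map (Ideal.Quotient.mk I))) := by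
      rw [LinearMap.mem_ker, map_mulVecLin]
      exact funext fun j => Ideal.Quotient.eq_zero_iff_mem.2 (hx j)
    rw [H] at hk
    obtain ⟨z, hz⟩ := hk
    choose z' hz' using fun k => Ideal.Quotient.mk_surjective (z k)
    refine ⟨Matrix.mulVecLin N z', ⟨z', rfl⟩, fun j => ?_⟩
    rw [← funext hz', map_mulVecLin] at hz
    rw [← Ideal.Quotient.eq_zero_iff_mem, Pi.sub_apply, map_sub, sub_eq_zero]
    exact (congrFun hz j).symm
  · intro H
    refine le_antisymm (fun x hx => ?_) (range_le_ker _ M N h)
    choose x' hx' using fun k => Ideal.Quotient.mk_surjective (x k)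
    rw [LinearMap.mem_ker, ← funext hx', map_mulVecLin] at hx
    obtain ⟨_, ⟨z, rfl⟩, hy⟩ := H x' fun j => Ideal.Quotient.eq_zero_iff_mem.1 (congrFun hx j)
    refine ⟨fun k => Ideal.Quotient.mk I (z k), ?_⟩
    rw [map_mulVecLin, ← funext hx']
    funext j
    have := Ideal.Quotient.eq_zero_iff_mem.2 (hy j)
    rw [Pi.sub_apply, map_sub, sub_eq_zero] at this
    exact this.symm

/-- Exactness on the fibre local ring is exactness with flat cokernel. -/
theorem fib_iff [Module.Flat R S] [IsNoetherianRing S] {a b c : ℕ} (Φ : Matrix (Fin a) (Fin b) S)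
    (Ψ : Matrix (Fin b) (Fin c) S) (h : Φ * Ψ = 0) (q : PrimeSpectrum S) :
    LinearMap.ker (Matrix.mulVecLin (Φ.map (algebraMap S (EGA4.FibLocRing R S q.asIdeal)))) =
        LinearMap.range (Matrix.mulVecLin (Ψ.map (algebraMap S (EGA4.FibLocRing R S q.asIdeal)))) ↔
      (LinearMap.ker (Matrix.mulVecLin (Φ.map (algebraMap S (Localization.AtPrime q.asIdeal)))) =
          LinearMap.range (Matrix.mulVecLin (Ψ.map (algebraMap S (Localization.AtPrime q.asIdeal)))) ∧
        Module.Flat R ((Fin a → Localization.AtPrime q.asIdeal) ⧸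
          LinearMap.range (Matrix.mulVecLin (Φ.map (algebraMap S (Localization.AtPrime q.asIdeal)))))) := by
  let L := Localization.AtPrime q.asIdeal
  let p := q.asIdeal.comap (algebraMap R S)
  haveI : q.asIdeal.LiesOver p := ⟨rfl⟩
  let Rp := Localization.AtPrime p
  letI := Localization.AtPrime.algebraOfLiesOver p q.asIdeal
  haveI : Module.Flat S L := IsLocalization.flat L q.asIdeal.primeCompl
  haveI : Module.Flat R L := Module.Flat.trans R S L
  haveI : Module.Flat Rp L := (Module.flat_iff_of_isLocalization Rp p.primeCompl L).2 inferInstance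
  haveI : IsNoetherianRing L := IsLocalization.isNoetherianRing q.asIdeal.primeCompl L inferInstance
  have hI : (maximalIdeal Rp).map (algebraMap Rp L) = p.map (algebraMap R L) := by
    rw [← Localization.AtPrime.map_eq_maximalIdeal, Ideal.map_map, ← IsScalarTower.algebraMap_eq]
  have hmap : ∀ {m n : ℕ} (M : Matrix (Fin m) (Fin n) S), M.map (algebraMap S (EGA4.FibLocRing R S q.asIdeal)) =
      (M.map (algebraMap S L)).map (Ideal.Quotient.mk (p.map (algebraMap R L))) := fun M => by
    rw [Matrix.map_map]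
    rfl
  have hz : Φ.map (algebraMap S L) * Ψ.map (algebraMap S L) = 0 := by
    rw [← Matrix.map_mul, h, Matrix.map_zero _ (map_zero _)]
  rw [hmap, hmap, exact_mod_iff _ _ _ hz, ← hI,
    crit (R := Rp) (L := L) _ _ (range_le_ker (algebraMap S L) Φ Ψ h)]
  exact and_congr_right fun _ => Module.flat_iff_of_isLocalization Rp p.primeCompl _

omit [Algebra R S] in
theorem exact_local_iff {a b c : ℕ} (Φ : Matrix (Fin a) (Fin b) S) (Ψ : Matrix (Fin b) (Fin c) S) (h : Φ * Ψ = 0)
    (q : PrimeSpectrum S) :
    LinearMap.ker (Matrix.mulVecLin (Φ.map (algebraMap S (Localization.AtPrime q.asIdeal)))) =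
        LinearMap.range (Matrix.mulVecLin (Ψ.map (algebraMap S (Localization.AtPrime q.asIdeal)))) ↔
      ∀ s ∈ LinearMap.ker (Matrix.mulVecLin Φ), ∃ r ∉ q.asIdeal, r • s ∈ LinearMap.range (Matrix.mulVecLin Ψ) := by
  let L := Localization.AtPrime q.asIdeal
  let ι := algebraMap S L
  constructor
  · intro H s hs
    have hk : (fun j => ι (s j)) ∈ LinearMap.ker (Matrix.mulVecLin (Φ.map ι)) := by
      rw [LinearMap.mem_ker, map_mulVecLin, LinearMap.mem_ker.1 hs]
      exact funext fun _ => map_zero ι
    rw [H] at hk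
    obtain ⟨y, hy⟩ := hk
    obtain ⟨⟨r, hr⟩, hb⟩ := IsLocalization.exist_integer_multiples_of_finite q.asIdeal.primeCompl y
    choose y' hy' using hb
    have h1 : ∀ j, ι (Matrix.mulVecLin Ψ y' j) = ι (r * s j) := fun j => by
      have h2 := congrFun (map_mulVecLin ι Ψ y') j
      rw [← h2, show (fun k => ι (y' k)) = r • y from funext hy', ← algebraMap_smul L r y, map_smul, hy,
        Pi.smul_apply, smul_eq_mul, map_mul]
    choose e he using fun j => (IsLocalization.eq_iff_exists q.asIdeal.primeCompl L).1 (h1 j)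
    refine ⟨(∏ j, (e j : S)) * r, q.asIdeal.primeCompl.mul_mem
      (Submonoid.prod_mem _ fun j _ => (e j).2) hr, (∏ j, (e j : S)) • y', ?_⟩
    rw [map_smul]
    funext j
    rw [Pi.smul_apply, Pi.smul_apply, smul_eq_mul, smul_eq_mul, mul_assoc,
      ← Finset.mul_prod_erase Finset.univ (fun j => (e j : S)) (Finset.mem_univ j)]
    have := he j
    calc _ = (∏ k ∈ Finset.univ.erase j, (e k : S)) * ((e j : S) * Matrix.mulVecLin Ψ y' j) := by ring
      _ = (∏ k ∈ Finset.univ.erase j, (e k : S)) * ((e j : S) * (r * s j)) := by rw [this]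
      _ = _ := by ring
  · intro H
    refine le_antisymm (fun x hx => ?_) (range_le_ker ι Φ Ψ h)
    obtain ⟨⟨r, hr⟩, hb⟩ := IsLocalization.exist_integer_multiples_of_finite q.asIdeal.primeCompl x
    choose x' hx' using hb
    have h1 : ∀ j, ι (Matrix.mulVecLin Φ x' j) = ι 0 := fun j => by
      have h2 := congrFun (map_mulVecLin ι Φ x') j
      rw [← h2, show (fun k => ι (x' k)) = r • x from funext hx', ← algebraMap_smul L r x, map_smul,
        LinearMap.mem_ker.1 hx, smul_zero, Pi.zero_apply, map_zero]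
    choose e he using fun j => (IsLocalization.eq_iff_exists q.asIdeal.primeCompl L).1 (h1 j)
    let E : S := ∏ j, (e j : S)
    have hE : E ∉ q.asIdeal := Submonoid.prod_mem q.asIdeal.primeCompl fun j _ => (e j).2
    have hker : E • x' ∈ LinearMap.ker (Matrix.mulVecLin Φ) := by
      rw [LinearMap.mem_ker, map_smul]
      funext j
      rw [Pi.smul_apply, smul_eq_mul, Pi.zero_apply,
        show E = (e j : S) * ∏ k ∈ Finset.univ.erase j, (e k : S) from
          (Finset.mul_prod_erase Finset.univ (fun j => (e j : S)) (Finset.mem_univ j)).symm,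
        mul_comm (e j : S), mul_assoc, he j, mul_zero, mul_zero]
    obtain ⟨t, ht, z, hz⟩ := H _ hker
    obtain ⟨u, hu⟩ := IsLocalization.map_units L
      (⟨t * (E * r), q.asIdeal.primeCompl.mul_mem ht (q.asIdeal.primeCompl.mul_mem hE hr)⟩ : q.asIdeal.primeCompl)
    have h2 : Matrix.mulVecLin (Ψ.map ι) (fun k => ι (z k)) = (u : L) • x := by
      rw [map_mulVecLin, hz, hu]
      funext j
      have h3 := congrFun (show (fun k => ι (x' k)) = r • x from funext hx') j
      rw [Pi.smul_apply, Algebra.smul_def] at h3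
      rw [Pi.smul_apply, Pi.smul_apply, Pi.smul_apply, smul_eq_mul, smul_eq_mul, smul_eq_mul, map_mul, map_mul]
      show ι t * (ι E * ι (x' j)) = ι (t * (E * r)) * x j
      rw [h3, map_mul, map_mul]
      ring
    refine ⟨(↑u⁻¹ : L) • (fun k => ι (z k)), ?_⟩
    rw [map_smul, h2, smul_smul, Units.inv_mul, one_smul]

omit [Algebra R S] in
theorem isOpen_exact [IsNoetherianRing S] {a b c : ℕ} (Φ : Matrix (Fin a) (Fin b) S) (Ψ : Matrix (Fin b) (Fin c) S)
    (h : Φ * Ψ = 0) :
    IsOpen {q : PrimeSpectrum S |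
      LinearMap.ker (Matrix.mulVecLin (Φ.map (algebraMap S (Localization.AtPrime q.asIdeal)))) =
        LinearMap.range (Matrix.mulVecLin (Ψ.map (algebraMap S (Localization.AtPrime q.asIdeal))))} := by
  simp_rw [exact_local_iff Φ Ψ h]
  obtain ⟨G, hG⟩ := IsNoetherian.noetherian (LinearMap.ker (Matrix.mulVecLin Φ))
  let I : (Fin b → S) → Ideal S := fun g => (LinearMap.range (Matrix.mulVecLin Ψ)).colon {g}
  rw [show {q : PrimeSpectrum S | ∀ s ∈ LinearMap.ker (Matrix.mulVecLin Φ), ∃ r ∉ q.asIdeal,
      r • s ∈ LinearMap.range (Matrix.mulVecLin Ψ)} = ⋂ g ∈ (G : Set (Fin b → S)), (PrimeSpectrum.zeroLocus (I g : Set S))ᶜ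
      from ?_]
  · exact G.finite_toSet.isOpen_biInter fun g _ => (PrimeSpectrum.isClosed_zeroLocus _).isOpen_compl
  ext q
  simp only [Set.mem_ofPred_eq, Set.mem_iInter₂, Set.mem_compl_iff, PrimeSpectrum.mem_zeroLocus]
  constructor
  · intro H g hg hle
    obtain ⟨r, hr, hrg⟩ := H g (hG ▸ Submodule.subset_span hg)
    exact hr (hle (Submodule.mem_colon_singleton.2 hrg))
  · intro H s hs
    rw [← hG] at hs
    induction hs using Submodule.span_induction with
    | mem g hg =>
      obtain ⟨r, hr, hrq⟩ := Set.not_subset.1 (H g hg)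
      exact ⟨r, hrq, Submodule.mem_colon_singleton.1 hr⟩
    | zero => exact ⟨1, q.isPrime.ne_top ∘ q.asIdeal.eq_top_iff_one.2, by rw [smul_zero]; exact zero_mem _⟩
    | add x y _ _ hx hy =>
      obtain ⟨r, hr, hrx⟩ := hx
      obtain ⟨r', hr', hry⟩ := hy
      refine ⟨r' * r, q.asIdeal.primeCompl.mul_mem hr' hr, ?_⟩
      rw [smul_add]
      refine add_mem ?_ ?_
      · rw [mul_smul]; exact Submodule.smul_mem _ _ hrx
      · rw [mul_comm, mul_smul]; exact Submodule.smul_mem _ _ hry
    | smul t x _ hx =>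
      obtain ⟨r, hr, hrx⟩ := hx
      exact ⟨r, hr, by rw [smul_comm]; exact Submodule.smul_mem _ _ hrx⟩

theorem isOpen_flat_coker [IsNoetherianRing R] [Algebra.FiniteType R S] {a b : ℕ} (Φ : Matrix (Fin a) (Fin b) S) :
    IsOpen {q : PrimeSpectrum S | Module.Flat R ((Fin a → Localization.AtPrime q.asIdeal) ⧸
      LinearMap.range (Matrix.mulVecLin (Φ.map (algebraMap S (Localization.AtPrime q.asIdeal)))))} := by
  haveI : IsNoetherianRing S := Algebra.FiniteType.isNoetherianRing R S
  haveI : Algebra.FinitePresentation R S := Algebra.FinitePresentation.of_finiteType.1 ‹_›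
  let M := (Fin a → S) ⧸ LinearMap.range (Matrix.mulVecLin Φ)
  haveI : Module.FinitePresentation S M := Module.finitePresentation_of_finite S M
  convert FlatLocus.isOpen_flat_locus (R := R) (S := S) (M := M) using 1
  ext q
  rw [Set.mem_ofPred_eq, Set.mem_ofPred_eq]
  let L := Localization.AtPrime q.asIdeal
  let F : (Fin a → S) →ₗ[S] (Fin a → L) := .pi fun i => Algebra.linearMap S L ∘ₗ .proj i
  haveI : IsLocalizedModule q.asIdeal.primeCompl (Algebra.linearMap S L) := inferInstance
  haveI : IsLocalizedModule q.asIdeal.primeCompl F := IsLocalizedModule.pi _ fun _ => Algebra.linearMap S L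
  have hloc : (LinearMap.range (Matrix.mulVecLin Φ)).localized' L q.asIdeal.primeCompl F =
      LinearMap.range (Matrix.mulVecLin (Φ.map (algebraMap S L))) := by
    rw [Matrix.range_mulVecLin, Submodule.localized'_span, Matrix.range_mulVecLin, ← Set.range_comp]
    rfl
  let e := (Submodule.quotEquivOfEq _ _ hloc).restrictScalars S
  haveI : IsLocalizedModule q.asIdeal.primeCompl
      (e.toLinearMap ∘ₗ (LinearMap.range (Matrix.mulVecLin Φ)).toLocalizedQuotient' L q.asIdeal.primeCompl F) :=
    IsLocalizedModule.of_linearEquiv _ _ e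
  exact Module.Flat.equiv_iff ((IsLocalizedModule.iso q.asIdeal.primeCompl
    (e.toLinearMap ∘ₗ (LinearMap.range (Matrix.mulVecLin Φ)).toLocalizedQuotient' L q.asIdeal.primeCompl F)).restrictScalars R).symm

theorem isOpen_fib_exact [IsNoetherianRing R] [Algebra.FiniteType R S] [Module.Flat R S] {a b c : ℕ}
    (Φ : Matrix (Fin a) (Fin b) S) (Ψ : Matrix (Fin b) (Fin c) S) (h : Φ * Ψ = 0) :
    IsOpen {q : PrimeSpectrum S |
      LinearMap.ker (Matrix.mulVecLin (Φ.map (algebraMap S (EGA4.FibLocRing R S q.asIdeal)))) =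
        LinearMap.range (Matrix.mulVecLin (Ψ.map (algebraMap S (EGA4.FibLocRing R S q.asIdeal))))} := by
  haveI : IsNoetherianRing S := Algebra.FiniteType.isNoetherianRing R S
  simp_rw [fib_iff Φ Ψ h]
  exact (isOpen_exact Φ Ψ h).inter (isOpen_flat_coker Φ)

/-- Let R be Noetherian, R → S flat of finite type whose fibre rings are Cohen–Macaulay and
equidimensional of dimension d, and let 0 → S^{n_e} → ⋯ → S^{n_1} → S^{n_0} be a complex of finite
free S-modules, the map S^{n_{i+1}} → S^{n_i} being given by the matrix φ_i. Then the set of primes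
q of S such that the complex is exact (exact at each S^{n_i} with 0 < i < e and injective at
S^{n_e}) after base change to the fibre local ring S_q/pS_q, p = q ∩ R, is open in Spec S. (The
published statement asks only that the fibres be Cohen–Macaulay of dimension d; this row assumes
them equidimensional of dimension d, the hypothesis the printed argument uses.) -/
theorem result (R S : Type u) [CommRing R] [IsNoetherianRing R] [CommRing S]
    [Algebra R S] [Algebra.FiniteType R S] [Module.Flat R S] (d : ℕ)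
    (hCM : ∀ p : PrimeSpectrum R, LocCoh.IsCohenMacaulayRing (p.asIdeal.Fiber S))
    (heq : ∀ p : PrimeSpectrum R, ∀ P ∈ minimalPrimes (p.asIdeal.Fiber S),
      ringKrullDim (p.asIdeal.Fiber S ⧸ P) = (d : WithBot ℕ∞))
    (e : ℕ) (n : ℕ → ℕ) (φ : (i : ℕ) → Matrix (Fin (n i)) (Fin (n (i + 1))) S)
    (hφ : ∀ i, i + 2 ≤ e → φ i * φ (i + 1) = 0) :
    IsOpen {q : PrimeSpectrum S |
      (∀ i, i + 2 ≤ e →
        LinearMap.ker (Matrix.mulVecLin ((φ i).map (algebraMap S (EGA4.FibLocRing R S q.asIdeal)))) =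
          LinearMap.range (Matrix.mulVecLin ((φ (i + 1)).map (algebraMap S (EGA4.FibLocRing R S q.asIdeal))))) ∧
      (1 ≤ e → Function.Injective
        (Matrix.mulVecLin ((φ (e - 1)).map (algebraMap S (EGA4.FibLocRing R S q.asIdeal)))))} := by
  have h1 : ∀ i, IsOpen {q : PrimeSpectrum S | i + 2 ≤ e →
      LinearMap.ker (Matrix.mulVecLin ((φ i).map (algebraMap S (EGA4.FibLocRing R S q.asIdeal)))) =
        LinearMap.range (Matrix.mulVecLin ((φ (i + 1)).map (algebraMap S (EGA4.FibLocRing R S q.asIdeal))))} := by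
    intro i
    by_cases hi : i + 2 ≤ e
    · simp only [hi, true_imp_iff]
      exact isOpen_fib_exact (φ i) (φ (i + 1)) (hφ i hi)
    · simp only [hi, false_imp_iff, Set.ofPred_true, isOpen_univ]
  have h2 : IsOpen {q : PrimeSpectrum S | 1 ≤ e → Function.Injective
      (Matrix.mulVecLin ((φ (e - 1)).map (algebraMap S (EGA4.FibLocRing R S q.asIdeal))))} := by
    by_cases he : 1 ≤ e
    · simp only [he, true_imp_iff]
      convert isOpen_fib_exact (R := R) (φ (e - 1)) (0 : Matrix (Fin (n (e - 1 + 1))) (Fin 0) S) (Matrix.mul_zero _) using 1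
      ext q
      rw [Set.mem_ofPred_eq, Set.mem_ofPred_eq, ← LinearMap.ker_eq_bot, Matrix.map_zero _ (map_zero _),
        Matrix.mulVecLin_zero, LinearMap.range_zero]
    · simp only [he, false_imp_iff, Set.ofPred_true, isOpen_univ]
  convert ((Set.finite_le_nat e).isOpen_biInter fun i _ => h1 i).inter h2 using 1
  ext q
  simp only [Set.mem_inter_iff, Set.mem_iInter₂, Set.mem_ofPred_eq]
  exact and_congr_left' ⟨fun H i _ => H i, fun H i hi => H i (le_trans (Nat.le_add_right i 2) hi) hi⟩

end Groth.Agent.S9184
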