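import Groth.Statements.S9185
import Groth.Agent.DiffOp.Basic

set_option autoImplicit false
universe u
open TensorProduct
open Diff16

namespace Groth.Agent.S9185

/-- For a ring map R → S, an S-module M and k ≥ 0 there is an S-module P together with a differential
operator D : M → P of order at most k (relative to R → S) such that every differential operator of
order at most k from M to an S-module N is α ∘ D for a unique S-linear map α : P → N; that is,
differential operators of order ≤ k out of M are represented by P. (Target modules N are taken in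
the same universe.) -/
theorem result (R S : Type u) [CommRing R] [CommRing S] [Algebra R S] (M : Type u)
    [AddCommGroup M] [Module S M] [Module R M] [IsScalarTower R S M] (k : ℕ) :
    ∃ (P : Type u) (_ : AddCommGroup P) (_ : Module S P) (_ : Module R P) (_ : IsScalarTower R S P)
      (D : M →ₗ[R] P), Diff16.IsDiffOpLE R S M P k D ∧
        ∀ (N : Type u) [AddCommGroup N] [Module S N] [Module R N] [IsScalarTower R S N] (D' : M →ₗ[R] N),
          Diff16.IsDiffOpLE R S M N k D' → ∃! α : P →ₗ[S] N, α.restrictScalars R ∘ₗ D = D' := by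
  let D₀ : M →ₗ[R] S ⊗[R] M := TensorProduct.mk R S M 1
  let K : Submodule S (S ⊗[R] M) := Submodule.span S
    {y | ∃ x ∈ KaehlerDifferential.ideal R S ^ (k + 1), ∃ m, Groth.Agent.DiffOp.act R S M (S ⊗[R] M) x D₀ m = y}
  refine ⟨(S ⊗[R] M) ⧸ K, inferInstance, inferInstance, inferInstance, inferInstance,
    K.mkQ.restrictScalars R ∘ₗ D₀, ?_, fun N _ _ _ _ D' hD' => ?_⟩
  · rw [Groth.Agent.DiffOp.isDiffOpLE_iff']
    intro x hx
    rw [Groth.Agent.DiffOp.act_comp_linear_left]
    exact LinearMap.ext fun m => (Submodule.Quotient.mk_eq_zero K).2 (Submodule.subset_span ⟨x, hx, m, rfl⟩)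
  · let L : S ⊗[R] M →ₗ[S] N := D'.liftBaseChange S
    have hL : L.restrictScalars R ∘ₗ D₀ = D' := LinearMap.ext fun m => by simp [L, D₀]
    have hK : K ≤ LinearMap.ker L := by
      rw [Submodule.span_le]
      rintro _ ⟨x, hx, m, rfl⟩
      have h1 := Groth.Agent.DiffOp.act_comp_linear_left x L D₀
      rw [hL, (Groth.Agent.DiffOp.isDiffOpLE_iff' k D').1 hD' x hx] at h1
      exact (LinearMap.congr_fun h1 m).symm
    refine ⟨K.liftQ L hK, LinearMap.ext fun m => ?_, fun α hα => ?_⟩
    · show L (D₀ m) = D' m
      exact LinearMap.congr_fun hL m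
    · refine Submodule.linearMap_qext _ (TensorProduct.AlgebraTensorModule.ext fun s m => ?_)
      show α (K.mkQ (s ⊗ₜ m)) = L (s ⊗ₜ m)
      rw [show s ⊗ₜ[R] m = s • ((1 : S) ⊗ₜ[R] m) by simp [TensorProduct.smul_tmul'],
        LinearMap.map_smul, LinearMap.map_smul, LinearMap.map_smul,
        show L ((1 : S) ⊗ₜ[R] m) = D' m from LinearMap.congr_fun hL m,
        show α (K.mkQ ((1 : S) ⊗ₜ[R] m)) = D' m from LinearMap.congr_fun hα m]

end Groth.Agent.S9185
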