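import Groth.Statements.S9195
import Groth.Agent.FlatStage.Main
import Groth.Agent.LocDimBC.Scheme
import Groth.Agent.FibreDepth.FibreDim

set_option backward.isDefEq.respectTransparency false
set_option backward.defeqAttrib.useBackward true
set_option autoImplicit false
universe u
open CategoryTheory AlgebraicGeometry
open Lim

namespace Groth.Agent.S9195

/-- Let S = lim S_i be a cofiltered limit of schemes with affine transition morphisms, S_{i₀} a
quasi-compact quasi-separated stage, f₀ : X₀ → Y₀ a morphism of quasi-compact quasi-separated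
schemes over S_{i₀}, and f : X → Y its base change along S → S_{i₀} (base changes expressed by
pullback squares). Let d be a natural number. If f₀ is locally of finite type and f has relative
dimension at most d (every fibre of f has local dimension at most d at each of its points), then for
some index i over i₀ the base change f_i : X_i → Y_i of f₀ along S_i → S_{i₀} has relative dimension
at most d. -/
theorem result {I : Type u} [SmallCategory I] [IsCofiltered I]
    (D : I ⥤ Scheme.{u}) (c : Limits.Cone D) (hc : Limits.IsLimit c)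
    [∀ (i j : I) (f : i ⟶ j), IsAffineHom (D.map f)] (i₀ : I) [CompactSpace (D.obj i₀)]
    [QuasiSeparatedSpace (D.obj i₀)] {X₀ Y₀ : Scheme.{u}} (f₀ : X₀ ⟶ Y₀) (g₀ : Y₀ ⟶ D.obj i₀)
    [CompactSpace X₀] [QuasiSeparatedSpace X₀] [CompactSpace Y₀] [QuasiSeparatedSpace Y₀]
    [LocallyOfFiniteType f₀] (d : ℕ)
    {X Y : Scheme.{u}} (f : X ⟶ Y) (g : Y ⟶ c.pt) (qY : Y ⟶ Y₀) (qX : X ⟶ X₀)
    (hY : IsPullback qY g g₀ (c.π.app i₀)) (hX : IsPullback qX f f₀ qY) (hd : ∀ x : X, FlatMor.fibreDimAt f x ≤ d) :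
    ∃ (i : I) (φ : i ⟶ i₀) (Xi Yi : Scheme.{u}) (fi : Xi ⟶ Yi) (gi : Yi ⟶ D.obj i) (pY : Yi ⟶ Y₀)
      (pX : Xi ⟶ X₀), IsPullback pY gi g₀ (D.map φ) ∧ IsPullback pX fi f₀ pY ∧ ∀ x : Xi, FlatMor.fibreDimAt fi x ≤ d := by
  obtain ⟨hcX⟩ := Groth.Agent.FlatStage.nonempty_isLimit_vCone D c i₀ (f₀ ≫ g₀) (hX.paste_vert hY) hc
  haveI hD : ∀ {i j : I} (f : i ⟶ j), IsAffineHom (D.map f) := fun f => inferInstance
  let o : Over i₀ := Over.mk (𝟙 i₀)
  haveI hl : ∀ k : Over i₀, LocallyOfFiniteType ((Groth.Agent.AffLim.baseChangeMap D i₀ f₀ g₀).app k) := fun k =>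
    MorphismProperty.of_isPullback (P := @LocallyOfFiniteType)
      (Groth.Agent.AffLim.isPullback_baseChangeMap D i₀ f₀ g₀ k) inferInstance
  haveI : CompactSpace ((Groth.Agent.AffLim.baseChange D i₀ (f₀ ≫ g₀)).obj o) := by
    haveI : IsAffineHom (Limits.pullback.fst (f₀ ≫ g₀) (D.map o.hom)) :=
      MorphismProperty.pullback_fst (P := @IsAffineHom) _ _ inferInstance
    exact QuasiCompact.compactSpace_of_compactSpace (Limits.pullback.fst (f₀ ≫ g₀) (D.map o.hom))
  obtain ⟨k, hk⟩ := Groth.Agent.PullbackMod.exists_all_of_open (Groth.Agent.AffLim.baseChange D i₀ (f₀ ≫ g₀))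
    (Groth.Agent.FlatStage.vCone D c i₀ (f₀ ≫ g₀) (hX.paste_vert hY)) hcX o
    (fun j z => FlatMor.fibreDimAt ((Groth.Agent.AffLim.baseChangeMap D i₀ f₀ g₀).app j.left) z ≤ (d : WithBot ℕ∞))
    (fun j => Groth.Agent.FibreDepth.isOpen_fibreDimAt_le _ _)
    (fun {j k} a z hz => by
      rw [Groth.Agent.LocDimBC.fibreDimAt_baseChange
        (Groth.Agent.AffLim.isPullback_baseChangeMap_map D i₀ f₀ g₀ a.left) z]
      exact hz)
    (fun x => ⟨Over.mk (𝟙 o), (Groth.Agent.LocDimBC.fibreDimAt_baseChange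
      (Groth.Agent.FlatStage.isPullback_vMap D c i₀ f₀ g₀ hY hX o) x).symm.trans_le (hd x)⟩)
  exact ⟨k.left.left, k.left.hom, _, _, (Groth.Agent.AffLim.baseChangeMap D i₀ f₀ g₀).app k.left,
    Limits.pullback.snd g₀ (D.map k.left.hom), Limits.pullback.fst _ _, Limits.pullback.fst _ _,
    IsPullback.of_hasPullback g₀ (D.map k.left.hom), Groth.Agent.AffLim.isPullback_baseChangeMap D i₀ f₀ g₀ k.left, hk⟩

end Groth.Agent.S9195
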