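import Groth.Statements.S9196
import Groth.Agent.RelDimLib.Local
import Groth.Agent.FlatStage.Given
import Groth.Agent.AffLim.Constructible
import Groth.Agent.S9355
import Groth.Agent.FibreDepth.FibreDim
-- import your own Groth.Agent.* helpers here

set_option autoImplicit false
set_option linter.style.haveILetI false
set_option backward.isDefEq.respectTransparency false
set_option backward.defeqAttrib.useBackward true
universe u
open CategoryTheory AlgebraicGeometry
open Lim

namespace Groth.Agent.S9196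

/-- Let S = lim S_i be a cofiltered limit of schemes with affine transition morphisms, S_{i₀} a
quasi-compact quasi-separated stage, f₀ : X₀ → Y₀ a morphism of quasi-compact quasi-separated
schemes over S_{i₀}, and f : X → Y its base change along S → S_{i₀} (base changes expressed by
pullback squares). Let d be a natural number. If f₀ is locally of finite presentation and f has
relative dimension d (every irreducible component of every fibre of f has dimension d), then for
some index i over i₀ the base change f_i : X_i → Y_i of f₀ along S_i → S_{i₀} has relative dimension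
d. -/
theorem result {I : Type u} [SmallCategory I] [IsCofiltered I]
    (D : I ⥤ Scheme.{u}) (c : Limits.Cone D) (hc : Limits.IsLimit c)
    [∀ (i j : I) (f : i ⟶ j), IsAffineHom (D.map f)] (i₀ : I) [CompactSpace (D.obj i₀)]
    [QuasiSeparatedSpace (D.obj i₀)] {X₀ Y₀ : Scheme.{u}} (f₀ : X₀ ⟶ Y₀) (g₀ : Y₀ ⟶ D.obj i₀)
    [CompactSpace X₀] [QuasiSeparatedSpace X₀] [CompactSpace Y₀] [QuasiSeparatedSpace Y₀]
    [LocallyOfFinitePresentation f₀] (d : ℕ)
    {X Y : Scheme.{u}} (f : X ⟶ Y) (g : Y ⟶ c.pt) (qY : Y ⟶ Y₀) (qX : X ⟶ X₀)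
    (hY : IsPullback qY g g₀ (c.π.app i₀)) (hX : IsPullback qX f f₀ qY) (hd : Cyc.HasRelDim f d) :
    ∃ (i : I) (φ : i ⟶ i₀) (Xi Yi : Scheme.{u}) (fi : Xi ⟶ Yi) (gi : Yi ⟶ D.obj i) (pY : Yi ⟶ Y₀)
      (pX : Xi ⟶ X₀), IsPullback pY gi g₀ (D.map φ) ∧ IsPullback pX fi f₀ pY ∧ Cyc.HasRelDim fi d := by
  classical
  obtain ⟨hcX⟩ := Groth.Agent.FlatStage.nonempty_isLimit_vCone D c i₀ (f₀ ≫ g₀) (hX.paste_vert hY) hc
  haveI hD : ∀ {i j : I} (f : i ⟶ j), IsAffineHom (D.map f) := fun f => inferInstance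
  let o : Over i₀ := Over.mk (𝟙 i₀)
  haveI hl : ∀ k : Over i₀, LocallyOfFinitePresentation ((AffLim.baseChangeMap D i₀ f₀ g₀).app k) :=
    fun k => MorphismProperty.of_isPullback (P := @LocallyOfFinitePresentation)
      (AffLim.isPullback_baseChangeMap D i₀ f₀ g₀ k) inferInstance
  haveI : LocallyOfFinitePresentation f := MorphismProperty.of_isPullback hX inferInstance
  let φ := (AffLim.baseChangeMap D i₀ f₀ g₀).app o
  let X₁ := (AffLim.baseChange D i₀ (f₀ ≫ g₀)).obj o
  haveI : IsAffineHom (Limits.pullback.fst (f₀ ≫ g₀) (D.map o.hom)) :=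
    MorphismProperty.pullback_fst (P := @IsAffineHom) _ _ inferInstance
  haveI : CompactSpace X₁ :=
    QuasiCompact.compactSpace_of_compactSpace (Limits.pullback.fst (f₀ ≫ g₀) (D.map o.hom))
  haveI : QuasiSeparatedSpace X₁ :=
    quasiSeparatedSpace_of_quasiSeparated (Limits.pullback.fst (f₀ ≫ g₀) (D.map o.hom))
  let U : ℕ → Set X₁ := fun n => {x | FlatMor.fibreDimAt φ x ≤ (n : WithBot ℕ∞)}
  have hU : ∀ n, Topology.IsConstructible (U n) := fun n =>
    IsRetrocompact.isConstructible (FibreDepth.isOpen_fibreDimAt_le _ _) (S9355.result φ n)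
  let B : Set X₁ := (U d)ᶜ ∪ ⋃ n : Fin d, U n
  have hB : Topology.IsConstructible B :=
    (hU d).compl.union (Topology.IsConstructible.iUnion fun n => hU n)
  have hgood : ∀ x, x ∉ B ↔ FlatMor.fibreDimAt φ x = (d : WithBot ℕ∞) := fun x => by
    obtain ⟨m, hm⟩ := CMFlatLib.exists_nat_fibreDimAt φ x
    simp only [B, U, Set.mem_union, Set.mem_compl_iff, Set.mem_ofPred_eq, Set.mem_iUnion, hm,
      Nat.cast_le]
    constructor
    · intro h
      push Not at h
      by_contra hne
      have h1 : m < d := lt_of_le_of_ne h.1 fun e => hne (by rw [e])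
      exact absurd (h.2 ⟨m, h1⟩) (lt_irrefl _)
    · intro h
      obtain rfl : m = d := by exact_mod_cast h
      rintro (h | ⟨n, hn⟩)
      · exact h le_rfl
      · exact absurd hn (not_le.mpr n.2)
  have hd' := (RelDimLib.hasRelDim_iff f d).mp hd
  obtain ⟨k, a, hk⟩ := AffLim.exists_preimage_eq_empty (AffLim.baseChange D i₀ (f₀ ≫ g₀))
    (FlatStage.vCone D c i₀ (f₀ ≫ g₀) (hX.paste_vert hY)) hcX (i := o) hB (by
      refine Set.eq_empty_iff_forall_notMem.mpr fun x hx => (hgood _).mpr ?_ hx
      exact (LocDimBC.fibreDimAt_baseChange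
        (FlatStage.isPullback_vMap D c i₀ f₀ g₀ hY hX o) x).symm.trans (hd' x))
  refine ⟨k.left, k.hom, _, _, (AffLim.baseChangeMap D i₀ f₀ g₀).app k,
    Limits.pullback.snd g₀ (D.map k.hom), Limits.pullback.fst _ _, Limits.pullback.fst _ _,
    IsPullback.of_hasPullback g₀ (D.map k.hom), AffLim.isPullback_baseChangeMap D i₀ f₀ g₀ k,
    (RelDimLib.hasRelDim_iff _ d).mpr fun z => ?_⟩
  rw [LocDimBC.fibreDimAt_baseChange (AffLim.isPullback_baseChangeMap_map D i₀ f₀ g₀ a) z]
  exact (hgood _).mp fun hz => (Set.ext_iff.mp hk z).mp hz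

end Groth.Agent.S9196
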