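import Groth.Statements.S9197
import Mathlib
import Groth.Agent.FlatStage.Smooth
import Groth.Agent.AffLim.DescendMore

set_option backward.isDefEq.respectTransparency false
set_option backward.defeqAttrib.useBackward true
set_option autoImplicit false
universe u
open CategoryTheory AlgebraicGeometry
open Lim

namespace Groth.Agent.S9197

/-- Let S = lim S_i be a cofiltered limit of schemes with affine transition morphisms, S_{i₀} a
quasi-compact quasi-separated stage, f₀ : X₀ → Y₀ a morphism of quasi-compact quasi-separated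
schemes over S_{i₀}, and f : X → Y its base change along S → S_{i₀} (base changes expressed by
pullback squares). Let d be a natural number. If f₀ is locally of finite presentation and f is
finite locally free of degree d (finite, flat, locally of finite presentation, with rank function
constant equal to d), then for some index i over i₀ the base change f_i : X_i → Y_i of f₀ along S_i
→ S_{i₀} is finite locally free of degree d. -/
theorem result {I : Type u} [SmallCategory I] [IsCofiltered I]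
    (D : I ⥤ Scheme.{u}) (c : Limits.Cone D) (hc : Limits.IsLimit c)
    [∀ (i j : I) (f : i ⟶ j), IsAffineHom (D.map f)] (i₀ : I) [CompactSpace (D.obj i₀)]
    [QuasiSeparatedSpace (D.obj i₀)] {X₀ Y₀ : Scheme.{u}} (f₀ : X₀ ⟶ Y₀) (g₀ : Y₀ ⟶ D.obj i₀)
    [CompactSpace X₀] [QuasiSeparatedSpace X₀] [CompactSpace Y₀] [QuasiSeparatedSpace Y₀]
    [LocallyOfFinitePresentation f₀] (d : ℕ)
    {X Y : Scheme.{u}} (f : X ⟶ Y) (g : Y ⟶ c.pt) (qY : Y ⟶ Y₀) (qX : X ⟶ X₀)
    (hY : IsPullback qY g g₀ (c.π.app i₀)) (hX : IsPullback qX f f₀ qY) (hf : Mor2.IsFinLocFreeOfDeg d f) :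
    ∃ (i : I) (φ : i ⟶ i₀) (Xi Yi : Scheme.{u}) (fi : Xi ⟶ Yi) (gi : Yi ⟶ D.obj i) (pY : Yi ⟶ Y₀)
      (pX : Xi ⟶ X₀), IsPullback pY gi g₀ (D.map φ) ∧ IsPullback pX fi f₀ pY ∧ Mor2.IsFinLocFreeOfDeg d fi := by
  obtain ⟨⟨hfin, hflat, -⟩, hdeg⟩ := hf
  haveI := hfin
  haveI := hflat
  haveI : QuasiCompact f₀ := quasiCompact_of_compactSpace _
  obtain ⟨k₁, hk₁⟩ := Groth.Agent.AffLim.exists_isFinite_baseChange D c hc i₀ f₀ g₀ hY hX
  obtain ⟨k₂, hk₂⟩ := Groth.Agent.FlatStage.exists_flat D c i₀ f₀ g₀ hY hX hc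
  obtain ⟨l, a₁, a₂, -⟩ := IsCofilteredOrEmpty.cone_objs k₁ k₂
  let fl := (Groth.Agent.AffLim.baseChangeMap D i₀ f₀ g₀).app l
  have hl₁ : IsFinite fl := Groth.Agent.AffLim.prop_of_stage_map D i₀ f₀ g₀ @IsFinite a₁ hk₁
  have hl₂ : Flat fl := Groth.Agent.AffLim.prop_of_stage_map D i₀ f₀ g₀ @Flat a₂ hk₂
  have hl₃ : LocallyOfFinitePresentation fl :=
    Groth.Agent.AffLim.prop_baseChangeMap D i₀ f₀ g₀ @LocallyOfFinitePresentation inferInstance l
  let E := Groth.Agent.AffLim.baseChange D i₀ g₀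
  let cE := Groth.Agent.AffLim.baseChangeCone D c i₀ g₀
  obtain ⟨hcE⟩ := Groth.Agent.AffLim.nonempty_isLimit_baseChangeCone D c hc i₀ g₀
  let W : (E.obj l).Opens := ⟨{y | fl.finrank y = d}, (Scheme.Hom.isLocallyConstant_finrank fl).isOpen_fiber d⟩
  let vY : Y ⟶ E.obj l := hY.isoPullback.hom ≫ cE.π.app l
  let vX : X ⟶ Limits.pullback (f₀ ≫ g₀) (D.map l.hom) := Limits.pullback.lift qX (f ≫ g ≫ c.π.app l.left) (by
    rw [Category.assoc, Category.assoc, c.w, ← hY.w, reassoc_of% hX.w])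
  have hv : IsPullback vX f fl vY := by
    refine IsPullback.of_right ?_ ?_ (Groth.Agent.AffLim.isPullback_baseChangeMap D i₀ f₀ g₀ l)
    · rw [show vX ≫ Limits.pullback.fst _ _ = qX from Limits.pullback.lift_fst _ _ _,
        show vY ≫ Limits.pullback.fst _ _ = qY by simp [vY, cE]]
      exact hX
    · apply Limits.pullback.hom_ext <;> simp [vX, vY, cE, fl, Groth.Agent.AffLim.baseChangeMap, hX.w]
  have hW : ∀ z : cE.pt, cE.π.app l z ∈ W := fun z => by
    obtain ⟨y, rfl⟩ : ∃ y, hY.isoPullback.hom y = z := hY.isoPullback.hom.surjective z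
    show fl.finrank (cE.π.app l (hY.isoPullback.hom y)) = d
    rw [show cE.π.app l (hY.isoPullback.hom y) = vY y from rfl, ← Scheme.Hom.finrank_of_isPullback vX f fl vY hv y]
    exact hdeg y
  haveI : CompactSpace (E.obj l) := by
    haveI : IsAffineHom (Limits.pullback.fst g₀ (D.map l.hom)) :=
      MorphismProperty.pullback_fst (P := @IsAffineHom) _ _ inferInstance
    exact QuasiCompact.compactSpace_of_compactSpace (Limits.pullback.fst g₀ (D.map l.hom))
  obtain ⟨j, ψ, hj⟩ := exists_map_preimage_le_map_preimage E cE hcE (i := l) (U := ⊤) (V := W)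
    (by simpa using isCompact_univ) (fun z _ => hW z)
  refine ⟨j.left, j.hom, _, _, (Groth.Agent.AffLim.baseChangeMap D i₀ f₀ g₀).app j,
    Limits.pullback.snd g₀ (D.map j.hom), Limits.pullback.fst _ _, Limits.pullback.fst _ _,
    IsPullback.of_hasPullback g₀ (D.map j.hom), Groth.Agent.AffLim.isPullback_baseChangeMap D i₀ f₀ g₀ j,
    ⟨Groth.Agent.AffLim.prop_of_stage_map D i₀ f₀ g₀ @IsFinite ψ hl₁,
      Groth.Agent.AffLim.prop_of_stage_map D i₀ f₀ g₀ @Flat ψ hl₂,
      Groth.Agent.AffLim.prop_baseChangeMap D i₀ f₀ g₀ @LocallyOfFinitePresentation inferInstance j⟩, fun y => ?_⟩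
  rw [Scheme.Hom.finrank_of_isPullback _ _ _ _ (Groth.Agent.AffLim.isPullback_baseChangeMap_map D i₀ f₀ g₀ ψ) y]
  exact hj (show y ∈ E.map ψ ⁻¹ᵁ (⊤ : (E.obj l).Opens) from trivial)

end Groth.Agent.S9197
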