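import Groth.Statements.S9208
import Groth.Agent.AffLim.Presentation

set_option autoImplicit false
universe u
open CategoryTheory AlgebraicGeometry
open Lim

namespace Groth.Agent.S9208

/-- Let f : X → S be a morphism of schemes. Suppose that for every inverse system (T_j) of affine
schemes over S indexed by a nonempty directed preordered set, with limit T, the canonical map
colim_j Mor_S(T_j, X) → Mor_S(T, X) is surjective: every S-morphism T → X is the composite of the
projection T → T_j with an S-morphism T_j → X for some j. Then f is locally of finite presentation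
(surjectivity alone suffices; bijectivity is not required). -/
theorem result {X S : Scheme.{u}} (f : X ⟶ S)
    (h : ∀ (J : Type u) [Preorder J] [IsDirected J (· ≤ ·)] [Nonempty J] (D : Jᵒᵖ ⥤ Scheme.{u})
      (t : D ⟶ (Functor.const Jᵒᵖ).obj S) (c : Limits.Cone D) (_ : Limits.IsLimit c),
      (∀ j, IsAffine (D.obj j)) → ∀ (j₀ : Jᵒᵖ) (g : c.pt ⟶ X), g ≫ f = c.π.app j₀ ≫ t.app j₀ →
        ∃ (j : Jᵒᵖ) (gj : D.obj j ⟶ X), gj ≫ f = t.app j ∧ c.π.app j ≫ gj = g) :
    LocallyOfFinitePresentation f := by
  refine AffLim.locallyOfFinitePresentation_of_factor f fun U hU J _ _ _ F α c hc g hg => ?_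
  let D : Jᵒᵖ ⥤ Scheme.{u} := F.op ⋙ Scheme.Spec
  let t : D ⟶ (Functor.const Jᵒᵖ).obj S :=
    { app := fun j => Spec.map (α.app j.unop) ≫ hU.fromSpec
      naturality := fun i j a => by
        change Spec.map (F.map a.unop) ≫ Spec.map (α.app j.unop) ≫ hU.fromSpec =
          (Spec.map (α.app i.unop) ≫ hU.fromSpec) ≫ 𝟙 S
        rw [← Spec.map_comp_assoc, ← α.naturality a.unop]
        simp }
  obtain ⟨j⟩ := (inferInstance : Nonempty J)
  obtain ⟨k, gk, h1, h2⟩ := h J D t (Scheme.Spec.mapCone c.op)
    (Limits.isLimitOfPreserves Scheme.Spec hc.op) (fun i => inferInstanceAs (IsAffine (Spec _)))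
    (Opposite.op j) g (by
      rw [hg j, Spec.map_comp, Category.assoc]
      rfl)
  exact ⟨k.unop, gk, h1, h2⟩

end Groth.Agent.S9208
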