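import Groth.Statements.S9209
import Groth.Agent.DVRCrit.Generic

set_option autoImplicit false
set_option linter.style.haveILetI false
universe u
open CategoryTheory CategoryTheory.Limits AlgebraicGeometry
open Lim

namespace Groth.Agent.S9209

/-- Let S be a locally Noetherian scheme, f : X → S a separated morphism of finite type and h : U → X a
morphism of finite type whose image is dense in X. Suppose that for every discrete valuation ring A
with fraction field K and every commutative square formed by a morphism Spec K → U → X and a
morphism Spec A → S, there is a morphism Spec A → X making the resulting diagram commute. Then f is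
proper. -/
theorem result {X S U : Scheme.{u}} [IsLocallyNoetherian S] (f : X ⟶ S)
    [IsSeparated f] [LocallyOfFiniteType f] [QuasiCompact f] (h : U ⟶ X) [LocallyOfFiniteType h] [QuasiCompact h]
    (hd : DenseRange h.base)
    (H : ∀ (A : Type u) [CommRing A] [IsDomain A] [IsDiscreteValuationRing A]
      (u : Spec (CommRingCat.of (FractionRing A)) ⟶ U) (y : Spec (CommRingCat.of A) ⟶ S),
      u ≫ h ≫ f = Spec.map (CommRingCat.ofHom (algebraMap A (FractionRing A))) ≫ y →
        ∃ l : Spec (CommRingCat.of A) ⟶ X, l ≫ f = y ∧ Spec.map (CommRingCat.ofHom (algebraMap A (FractionRing A))) ≫ l = u ≫ h) :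
    IsProper f := by
  refine DVRCrit.isProper_of_generic f fun η hη A hA y w => ?_
  obtain ⟨A', _, _, _, e, k, u, hu, hek, hloc⟩ := DVRCrit.exists_extension h hd η hη A hA
  have hinj : Function.Injective e.hom := fun a b hab => Subtype.ext <| k.hom.injective <| by
    have h3 := congrArg (algebraMap A' (FractionRing A')) hab
    exact (congrArg (fun φ : CommRingCat.of A ⟶ CommRingCat.of (FractionRing A') => φ a) hek).symm.trans
      (h3.trans (congrArg (fun φ : CommRingCat.of A ⟶ CommRingCat.of (FractionRing A') => φ b) hek))
  obtain ⟨g, hg1, hg2⟩ := H A' u (Spec.map e ≫ y) (by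
    rw [← Category.assoc, hu, Category.assoc, ← w, ← Spec.map_comp_assoc, ← hek, Spec.map_comp_assoc])
  obtain ⟨l, hl1, hl2⟩ := DVRCrit.exists_descend A e k hek g (hg2.trans hu)
  refine ⟨l, DVRCrit.eq_of_comp_eq e hinj _ _ ?_, hl2⟩
  rw [reassoc_of% hl1, hg1]

end Groth.Agent.S9209
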