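import Groth.Statements.S9210
import Groth.Agent.DVRCrit.Generic

set_option autoImplicit false
set_option linter.style.haveILetI false
universe u
open CategoryTheory CategoryTheory.Limits AlgebraicGeometry
open Lim

namespace Groth.Agent.S9210

/-- Let S be a locally Noetherian scheme, f : X → S a morphism locally of finite type and h : U → X a
morphism of finite type whose image is dense in X. Suppose that for every discrete valuation ring A
with fraction field K and every commutative square formed by a morphism Spec K → U → X and a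
morphism Spec A → S, there is at most one morphism Spec A → X making the resulting diagram commute.
Then f is separated. -/
theorem result {X S U : Scheme.{u}} [IsLocallyNoetherian S] (f : X ⟶ S)
    [LocallyOfFiniteType f] (h : U ⟶ X) [LocallyOfFiniteType h] [QuasiCompact h] (hd : DenseRange h.base)
    (H : ∀ (A : Type u) [CommRing A] [IsDomain A] [IsDiscreteValuationRing A]
      (u : Spec (CommRingCat.of (FractionRing A)) ⟶ U) (y : Spec (CommRingCat.of A) ⟶ S),
      u ≫ h ≫ f = Spec.map (CommRingCat.ofHom (algebraMap A (FractionRing A))) ≫ y →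
        ∀ l₁ l₂ : Spec (CommRingCat.of A) ⟶ X, l₁ ≫ f = y → Spec.map (CommRingCat.ofHom (algebraMap A (FractionRing A))) ≫ l₁ = u ≫ h →
          l₂ ≫ f = y → Spec.map (CommRingCat.ofHom (algebraMap A (FractionRing A))) ≫ l₂ = u ≫ h → l₁ = l₂) :
    IsSeparated f := by
  refine DVRCrit.isSeparated_of_generic f fun η hη A hA l₁ l₂ e12 h1 h2 => ?_
  obtain ⟨A', _, _, _, e, k, u, hu, hek, hloc⟩ := DVRCrit.exists_extension h hd η hη A hA
  have hgen : ∀ l : Spec (CommRingCat.of A) ⟶ X,
      Spec.map (CommRingCat.ofHom A.subtype) ≫ l = X.fromSpecResidueField η →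
      Spec.map (CommRingCat.ofHom (algebraMap A' (FractionRing A'))) ≫ Spec.map e ≫ l = u ≫ h := by
    intro l hl
    rw [← Spec.map_comp_assoc, hek, Spec.map_comp_assoc, hl, hu]
  have hinj : Function.Injective e.hom := fun a b hab => Subtype.ext <| k.hom.injective <| by
    have h3 := congrArg (algebraMap A' (FractionRing A')) hab
    exact (congrArg (fun φ : CommRingCat.of A ⟶ CommRingCat.of (FractionRing A') => φ a) hek).symm.trans
      (h3.trans (congrArg (fun φ : CommRingCat.of A ⟶ CommRingCat.of (FractionRing A') => φ b) hek))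
  refine DVRCrit.eq_of_comp_eq e hinj l₁ l₂ (H A' u (Spec.map e ≫ l₁ ≫ f) ?_ _ _
    (Category.assoc _ _ _) (hgen l₁ h1) ?_ (hgen l₂ h2))
  · rw [← Category.assoc, ← hgen l₁ h1]
    simp only [Category.assoc]
  · rw [Category.assoc, ← e12]

end Groth.Agent.S9210
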