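import Groth.Statements.S9212
import Groth.Agent.DVRCrit.Generic

set_option autoImplicit false
set_option linter.style.haveILetI false
universe u
open CategoryTheory CategoryTheory.Limits AlgebraicGeometry
open Lim

namespace Groth.Agent.S9212

/-- Let S be a locally Noetherian scheme and f : X → S a morphism of finite type. Then f is proper if
and only if: for every generic point η of an irreducible component of X, every discrete valuation
ring A contained in the residue field κ(η) with fraction field κ(η) (a valuation subring of κ(η)
which is a discrete valuation ring), and every morphism Spec A → S whose restriction to Spec κ(η) is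
the canonical morphism Spec κ(η) → X followed by f, there is exactly one morphism Spec A → X over S
restricting to the canonical morphism on Spec κ(η). -/
theorem result {X S : Scheme.{u}} [IsLocallyNoetherian S] (f : X ⟶ S)
    [LocallyOfFiniteType f] [QuasiCompact f] :
    IsProper f ↔ ∀ (η : X), closure {η} ∈ irreducibleComponents (X : Type u) →
      ∀ (A : ValuationSubring (X.residueField η)), IsDiscreteValuationRing A →
        ∀ y : Spec (CommRingCat.of A) ⟶ S,
          Spec.map (CommRingCat.ofHom A.subtype) ≫ y = X.fromSpecResidueField η ≫ f →
          ∃! l : Spec (CommRingCat.of A) ⟶ X,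
            l ≫ f = y ∧ Spec.map (CommRingCat.ofHom A.subtype) ≫ l = X.fromSpecResidueField η := by
  constructor
  · intro _ η _ A _ y w
    have hE : ValuativeCriterion.Existence f :=
      ((UniversallyClosed.eq_valuativeCriterion.le _ _ f) (inferInstance : UniversallyClosed f)).1
    obtain ⟨l, h1, h2⟩ := (hE (DVRCrit.mkSq f A (X.residueField η) (X.fromSpecResidueField η) y w.symm)).exists_lift
    refine ⟨l, ⟨h2, h1⟩, fun l' hl' => ?_⟩
    haveI := DVRCrit.isDominant_subtype A
    exact ext_of_isDominant_of_isSeparated f (hl'.1.trans h2.symm)
      (Spec.map (CommRingCat.ofHom A.subtype)) (hl'.2.trans h1.symm)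
  · intro H
    haveI : IsSeparated f := DVRCrit.isSeparated_of_generic f fun η hη A hA l₁ l₂ h h1 h2 =>
      (H η hη A hA (l₁ ≫ f) (by rw [reassoc_of% h1])).unique ⟨rfl, h1⟩ ⟨h.symm, h2⟩
    exact DVRCrit.isProper_of_generic f fun η hη A hA y w => (H η hη A hA y w).exists

end Groth.Agent.S9212
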