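import Groth.Statements.S9215
import Groth.Agent.S9216
import Groth.Agent.S9777
import Groth.Agent.AffLim.Points
import Groth.Agent.AffLim.Constructible
import Groth.Agent.AffLim.Props
import Groth.Agent.FPModelLib.Fibre

set_option autoImplicit false
set_option backward.isDefEq.respectTransparency false
set_option maxHeartbeats 1000000
set_option synthInstance.maxHeartbeats 400000
universe u
open CategoryTheory CategoryTheory.Limits AlgebraicGeometry
open Lim

namespace Groth.Agent.S9215

open Topology in
/-- The dimension of a fibre exceeds a bound on a pro-constructible set, for affine schemes. -/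
theorem isProConstructible_dim_gt_affine {V W : Scheme.{u}} [IsAffine V] [IsAffine W] (g : V ⟶ W)
    [LocallyOfFiniteType g] (d : ℕ) :
    ProCons.IsProConstructible {w : W | ¬ topologicalKrullDim ↥(g.fiber w) ≤ d} := by
  have hft : g.appTop.hom.FiniteType := (HasRingHomProperty.iff_of_isAffine (P := @LocallyOfFiniteType)).1 ‹_›
  algebraize [g.appTop.hom]
  obtain ⟨n, q, hq⟩ := Algebra.FiniteType.iff_quotient_mvPolynomial''.1 (‹_› : Algebra.FiniteType Γ(W, ⊤) Γ(V, ⊤))
  let P : Scheme.{u} := Spec (CommRingCat.of (MvPolynomial (Fin n) Γ(W, ⊤)))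
  let C : Γ(W, ⊤) ⟶ CommRingCat.of (MvPolynomial (Fin n) Γ(W, ⊤)) :=
    CommRingCat.ofHom (algebraMap Γ(W, ⊤) (MvPolynomial (Fin n) Γ(W, ⊤)))
  let qq : CommRingCat.of (MvPolynomial (Fin n) Γ(W, ⊤)) ⟶ Γ(V, ⊤) := CommRingCat.ofHom q.toRingHom
  have hC : C ≫ qq = g.appTop := CommRingCat.hom_ext q.comp_algebraMap
  let π : P ⟶ W := Spec.map C ≫ W.isoSpec.inv
  haveI : LocallyOfFinitePresentation (Spec.map C) :=
    (HasRingHomProperty.Spec_iff (P := @LocallyOfFinitePresentation)).2
      (RingHom.finitePresentation_algebraMap.2 inferInstance)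
  haveI : LocallyOfFinitePresentation π := inferInstanceAs (LocallyOfFinitePresentation (Spec.map C ≫ W.isoSpec.inv))
  haveI : QuasiCompact π := inferInstanceAs (QuasiCompact (Spec.map C ≫ W.isoSpec.inv))
  haveI : QuasiSeparated π := inferInstanceAs (QuasiSeparated (Spec.map C ≫ W.isoSpec.inv))
  let ι : V ⟶ P := V.isoSpec.hom ≫ Spec.map qq
  haveI : IsClosedImmersion (Spec.map qq) := IsClosedImmersion.spec_of_surjective qq hq
  haveI : IsClosedImmersion ι := inferInstanceAs (IsClosedImmersion (V.isoSpec.hom ≫ Spec.map qq))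
  have hι : ι ≫ π = g := by
    simp only [ι, π, Category.assoc, ← Spec.map_comp_assoc, hC]
    rw [← Category.assoc, Iso.comp_inv_eq]
    exact Scheme.isoSpec_hom_naturality g
  haveI : IsAffine P := inferInstanceAs (IsAffine (Spec _))
  haveI : CompactSpace P := inferInstanceAs (CompactSpace (Spec _))
  haveI : QuasiSeparatedSpace P := inferInstanceAs (QuasiSeparatedSpace (Spec _))
  have hdg : ∀ w : W, topologicalKrullDim ↥(g.fiber w) = topologicalKrullDim ↥(Set.range ι ∩ π ⁻¹' {w}) := by
    rw [← hι]
    exact fun w => Groth.Agent.S9216.dim_fiber_closed ι π w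
  have hI : (ι.ker.support : Set P) = Set.range ι := by
    rw [Scheme.Hom.support_ker, ι.isClosedEmbedding.isClosed_range.closure_eq]
  let J := {J : P.IdealSheafData // J ≤ ι.ker ∧ ∀ U, (J.ideal U).FG}
  have hsub : ∀ j : J, Set.range ι ⊆ (j.1.support : Set P) := fun j => hI ▸ Scheme.IdealSheafData.support_antitone j.2.1
  have hsep : ∀ x, x ∉ Set.range ι → ∃ j : J, x ∉ (j.1.support : Set P) := by
    intro x hx
    let T : P.affineOpens := ⟨⊤, isAffineOpen_top P⟩
    rw [← hI, SetLike.mem_coe, Scheme.IdealSheafData.mem_support_iff_of_mem (U := T) trivial] at hx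
    simp only [Scheme.mem_zeroLocus_iff, not_forall, not_not] at hx
    obtain ⟨a, ha, hxa⟩ := hx
    obtain ⟨J₀, hle, hfg, haJ⟩ := FTIdealLib.exists_ft_le_mem ι.ker T ha
    refine ⟨⟨J₀, hle, hfg⟩, fun h => ?_⟩
    rw [SetLike.mem_coe, Scheme.IdealSheafData.mem_support_iff_of_mem (U := T) trivial, Scheme.mem_zeroLocus_iff] at h
    exact h a haJ hxa
  haveI : Nonempty J := ⟨⟨⊥, bot_le, fun U => by
    rw [Scheme.IdealSheafData.ideal_bot]; exact Submodule.fg_bot⟩⟩
  haveI : ∀ j : J, LocallyOfFinitePresentation j.1.subschemeι := fun j => Groth.Agent.S9216.lfp_subschemeι _ j.2.2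
  let F : J → Set W := fun j => {w | topologicalKrullDim ↥((j.1.subschemeι ≫ π).fiber w) ≤ d}ᶜ
  have hdim : ∀ (j : J) (w : W), topologicalKrullDim ↥((j.1.subschemeι ≫ π).fiber w) =
      topologicalKrullDim ↥((j.1.support : Set P) ∩ π ⁻¹' {w}) := fun j w => by
    rw [Groth.Agent.S9216.dim_fiber_closed, Scheme.IdealSheafData.range_subschemeι]
  have hB : {w : W | ¬ topologicalKrullDim ↥(g.fiber w) ≤ d} = ⋂ j, F j := by
    ext w
    simp only [Set.mem_iInter, Set.mem_ofPred_eq, F, Set.mem_compl_iff]
    constructor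
    · intro h j hj
      refine h (le_trans ?_ hj)
      rw [hdim, hdg]
      exact (Topology.IsEmbedding.inclusion (Set.inter_subset_inter_left _ (hsub j))).isInducing.topologicalKrullDim_le
    · intro h hle
      haveI : LocallyOfFiniteType (π.fiberToSpecResidueField w) :=
        MorphismProperty.of_isPullback (IsPullback.of_hasPullback π (W.fromSpecResidueField w)) (inferInstance : LocallyOfFiniteType π)
      haveI : IsLocallyNoetherian (π.fiber w) :=
        LocallyOfFiniteType.isLocallyNoetherian (π.fiberToSpecResidueField w)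
      haveI : IsNoetherian (π.fiber w) := {}
      let T : J → TopologicalSpace.Closeds ↥(π.fiber w) := fun j =>
        ⟨π.fiberι w ⁻¹' (j.1.support : Set P), j.1.support.isClosed.preimage (π.fiberι w).continuous⟩
      obtain ⟨_, ⟨j₀, rfl⟩, hmin⟩ := wellFounded_lt.has_min (Set.range T) (Set.range_nonempty T)
      refine h j₀ (le_trans (le_of_eq ?_) hle)
      rw [hdim, hdg]
      refine congrArg (fun T : Set P => topologicalKrullDim ↥T) ?_
      refine (Set.Subset.antisymm ?_ (Set.inter_subset_inter_left _ (hsub j₀)))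
      rintro x ⟨hx, hxs⟩
      refine ⟨?_, hxs⟩
      by_contra hn
      obtain ⟨j, hj⟩ := hsep x hn
      obtain ⟨z, rfl⟩ : x ∈ Set.range (π.fiberι w) := by rw [Scheme.Hom.range_fiberι]; exact hxs
      let j' : J := ⟨j₀.1 ⊔ j.1, sup_le j₀.2.1 j.2.1, fun U => by
        rw [Scheme.IdealSheafData.ideal_sup]; exact Submodule.FG.sup (j₀.2.2 U) (j.2.2 U)⟩
      refine hmin (T j') ⟨_, rfl⟩ (lt_of_le_of_ne
        (fun z hz => Scheme.IdealSheafData.support_antitone (show j₀.1 ≤ j₀.1 ⊔ j.1 from le_sup_left) hz) fun he => ?_)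
      have hz : z ∈ T j' := by rw [he]; exact hx
      exact hj (Scheme.IdealSheafData.support_antitone (show j.1 ≤ j₀.1 ⊔ j.1 from le_sup_right) hz)
  rw [hB, ProConsLib.isProConstructible_iff_isClosed]
  refine @isClosed_iInter W _ (constructibleTopology W) _ fun j => ?_
  rw [← ProConsLib.isProConstructible_iff_isClosed]
  exact ((ProConsLib.isLocallyConstructible_iff_pro_and_ind _).1
    (ProConsLib.isLocallyConstructible_compl (Groth.Agent.S9216.isLocallyConstructible_le (j.1.subschemeι ≫ π) d))).1

open Topology in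
/-- The dimension of a fibre exceeds a bound on a pro-constructible set. -/
theorem isProConstructible_dim_gt {X S : Scheme.{u}} (f : X ⟶ S) [LocallyOfFiniteType f] [QuasiCompact f]
    [CompactSpace S] [QuasiSeparatedSpace S] (d : ℕ) :
    ProCons.IsProConstructible {s : S | ¬ topologicalKrullDim ↥(f.fiber s) ≤ d} := by
  haveI : CompactSpace X := QuasiCompact.compactSpace_of_compactSpace f
  have hex : ∀ x : X, ∃ (W : S.Opens) (V : X.Opens), IsAffineOpen W ∧ IsAffineOpen V ∧ V ≤ f ⁻¹ᵁ W ∧ x ∈ V := by
    intro x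
    obtain ⟨_, ⟨W, hW, rfl⟩, hxW, -⟩ := S.isBasis_affineOpens.exists_subset_of_mem_open (Set.mem_univ (f x)) isOpen_univ
    change S.Opens at W
    obtain ⟨_, ⟨V, hV, rfl⟩, hxV, hle⟩ := X.isBasis_affineOpens.exists_subset_of_mem_open
      (show x ∈ f ⁻¹ᵁ W from hxW) (f ⁻¹ᵁ W).2
    exact ⟨W, V, hW, hV, hle, hxV⟩
  choose W V hW hV hle hxV using hex
  obtain ⟨σ, hσ⟩ := isCompact_univ.elim_finite_subcover (fun x => (V x : Set X)) (fun x => (V x).2)
    fun x _ => Set.mem_iUnion.2 ⟨x, hxV x⟩
  let g : ∀ x, (V x).toScheme ⟶ (W x).toScheme := fun x => f.resLE (W x) (V x) (hle x)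
  have hg : ∀ (x) (w : (W x).toScheme), topologicalKrullDim ↥((g x).fiber w) =
      topologicalKrullDim ↥(f.fiberι ((W x).ι w) ⁻¹' (V x : Set X)) := by
    intro x w
    have he₁ : Topology.IsEmbedding (fun z => (V x).ι ((g x).fiberι w z)) :=
      (V x).ι.isEmbedding.comp ((g x).fiberι w).isEmbedding
    have he₂ : Topology.IsEmbedding (fun z : f.fiberι ((W x).ι w) ⁻¹' (V x : Set X) => f.fiberι ((W x).ι w) z.1) :=
      (f.fiberι _).isEmbedding.comp Topology.IsEmbedding.subtypeVal
    have hr : Set.range (fun z => (V x).ι ((g x).fiberι w z)) =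
        Set.range (fun z : f.fiberι ((W x).ι w) ⁻¹' (V x : Set X) => f.fiberι ((W x).ι w) z.1) := by
      ext y
      have hc : ∀ v : (V x).toScheme, (W x).ι (g x v) = f ((V x).ι v) := fun v =>
        congrArg (fun k : (V x).toScheme ⟶ S => k v) (Scheme.Hom.resLE_comp_ι f (hle x))
      constructor
      · rintro ⟨z, rfl⟩
        obtain ⟨z', hz'⟩ : (V x).ι ((g x).fiberι w z) ∈ Set.range (f.fiberι ((W x).ι w)) := by
          rw [Scheme.Hom.range_fiberι]
          show f _ = _
          rw [← hc]
          have hz0 := Set.mem_range_self (f := (g x).fiberι w) z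
          rw [Scheme.Hom.range_fiberι] at hz0
          exact congrArg (W x).ι hz0
        exact ⟨⟨z', by show f.fiberι _ z' ∈ V x; rw [hz']; exact ((g x).fiberι w z).2⟩, hz'⟩
      · rintro ⟨⟨z, hz⟩, rfl⟩
        obtain ⟨z', hz'⟩ : (⟨f.fiberι _ z, hz⟩ : (V x).toScheme) ∈ Set.range ((g x).fiberι w) := by
          rw [Scheme.Hom.range_fiberι]
          refine (W x).ι.isEmbedding.injective ?_
          rw [hc]
          have hz0 := Set.mem_range_self (f := f.fiberι ((W x).ι w)) z
          rw [Scheme.Hom.range_fiberι] at hz0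
          exact hz0
        exact ⟨z', congrArg (V x).ι hz'⟩
    exact ((he₁.toHomeomorph.trans (Homeomorph.setCongr hr)).trans he₂.toHomeomorph.symm).isHomeomorph.topologicalKrullDim_eq _
  have hB : {s : S | ¬ topologicalKrullDim ↥(f.fiber s) ≤ d} =
      ⋃ x ∈ σ, (W x).ι '' {w | ¬ topologicalKrullDim ↥((g x).fiber w) ≤ d} := by
    ext s
    simp only [Set.mem_iUnion, Set.mem_image, Set.mem_ofPred_eq, exists_prop]
    constructor
    · intro h
      by_contra hn
      apply h
      rw [Groth.Agent.S9777.dim_eq_iSup (fun x : σ => f.fiberι s ⁻¹' (V x.1 : Set X))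
        (fun x => (V x.1).2.preimage (f.fiberι s).continuous) (fun z => by
          obtain ⟨x, hx, hz⟩ := Set.mem_iUnion₂.1 (hσ (Set.mem_univ (f.fiberι s z)))
          exact ⟨⟨x, hx⟩, hz⟩)]
      refine iSup_le fun x => ?_
      by_cases hs : s ∈ W x.1
      · by_contra hd
        refine hn ⟨x.1, x.2, ⟨s, hs⟩, ?_, rfl⟩
        rw [hg]
        exact hd
      · have : IsEmpty ↥(f.fiberι s ⁻¹' (V x.1 : Set X)) := ⟨fun z => hs (by
          have hz0 := Set.mem_range_self (f := f.fiberι s) z.1
          rw [Scheme.Hom.range_fiberι] at hz0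
          rw [← (Set.mem_singleton_iff.1 hz0)]
          exact hle x.1 z.2)⟩
        haveI : IsEmpty (TopologicalSpace.IrreducibleCloseds ↥(f.fiberι s ⁻¹' (V x.1 : Set X))) :=
          ⟨fun Z => this.false Z.isIrreducible.1.some⟩
        exact le_of_eq_of_le Order.krullDim_eq_bot bot_le
    · rintro ⟨x, -, w, hw, rfl⟩ hle'
      exact hw ((hg x w).trans_le ((topologicalKrullDim_subspace_le _ _).trans hle'))
  rw [hB, ProConsLib.isProConstructible_iff_isClosed]
  refine @Set.Finite.isClosed_biUnion _ _ (constructibleTopology S) _ _ σ.finite_toSet fun x _ => ?_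
  rw [← ProConsLib.isProConstructible_iff_isClosed]
  haveI : IsAffine (W x).toScheme := hW x
  haveI : IsAffine (V x).toScheme := hV x
  haveI : QuasiCompact (W x).ι := quasiCompact_of_compactSpace _
  exact ProConsLib.isProConstructible_image (W x).ι (isProConstructible_dim_gt_affine (g x) d)


/-- Consider a system of scheme morphisms (f_i : X_i → S_i) indexed by a cofiltered category: two
diagrams X_•, S_• with a natural transformation between them, such that all transition morphisms
S_{i'} → S_i are affine, all S_i are quasi-compact and quasi-separated, all f_i are of finite type,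
and for every arrow i' → i the induced morphism X_{i'} → X_i ×_{S_i} S_{i'} is a closed immersion.
Let X = lim X_i and S = lim S_i (limit cones) and f : X → S the induced morphism. Let d be a natural
number. Suppose each fibre of f is of dimension at most d; then there is an index i for which all
fibres of f_i are of dimension at most d. -/
theorem result {I : Type u} [SmallCategory I] [IsCofiltered I]
    (DX DS : I ⥤ Scheme.{u}) (φ : DX ⟶ DS) (cX : Limits.Cone DX) (cS : Limits.Cone DS)
    (hX : Limits.IsLimit cX) (hS : Limits.IsLimit cS)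
    [∀ (i j : I) (a : i ⟶ j), IsAffineHom (DS.map a)] [∀ i, CompactSpace (DS.obj i)]
    [∀ i, QuasiSeparatedSpace (DS.obj i)] [∀ i, LocallyOfFiniteType (φ.app i)] [∀ i, QuasiCompact (φ.app i)]
    (hcl : ∀ (i j : I) (a : i ⟶ j), IsClosedImmersion (pullback.lift (DX.map a) (φ.app i) (φ.naturality a)))
    (f : cX.pt ⟶ cS.pt) (hf : ∀ i, f ≫ cS.π.app i = cX.π.app i ≫ φ.app i) (d : ℕ)
    (hd : ∀ s : cS.pt, topologicalKrullDim ↥(f.fiber s) ≤ d) :
    ∃ i : I, ∀ s : DS.obj i, topologicalKrullDim ↥((φ.app i).fiber s) ≤ d := by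
  classical
  haveI : Nonempty I := IsCofiltered.nonempty
  let i₀ : I := Classical.arbitrary I
  haveI : ∀ i, IsAffineHom (cS.π.app i) := fun i => AlgebraicGeometry.isAffineHom_π_app DS cS hS i
  haveI : ∀ k, CompactSpace ↥(((Functor.const I).obj cS.pt).obj k) := fun _ =>
    QuasiCompact.compactSpace_of_compactSpace (cS.π.app i₀)
  haveI : CompactSpace cS.pt := QuasiCompact.compactSpace_of_compactSpace (cS.π.app i₀)
  haveI : QuasiSeparatedSpace cS.pt := quasiSeparatedSpace_of_quasiSeparated (cS.π.app i₀)
  let B : ∀ i, Set (DS.obj i) := fun i => {t | ¬ topologicalKrullDim ↥((φ.app i).fiber t) ≤ d}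
  have hBp : ∀ i, ProCons.IsProConstructible (B i) := fun i => isProConstructible_dim_gt (φ.app i) d
  have hmono : ∀ {j i : I} (a : j ⟶ i) (t : DS.obj j), t ∈ B j → DS.map a t ∈ B i := by
    intro j i a t ht hle
    let c : DX.obj j ⟶ pullback (φ.app i) (DS.map a) := pullback.lift (DX.map a) (φ.app j) (φ.naturality a)
    haveI : IsClosedImmersion c := hcl j i a
    refine ht ?_
    have hc : c ≫ pullback.snd (φ.app i) (DS.map a) = φ.app j := pullback.lift_snd _ _ _
    rw [← hc, Groth.Agent.S9216.dim_fiber_closed]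
    refine le_trans ?_ hle
    rw [← Groth.Agent.S9777.result (φ.app i) (DS.map a) _ _ (IsPullback.of_hasPullback (φ.app i) (DS.map a)) t,
      ((pullback.snd (φ.app i) (DS.map a)).fiberHomeo t).isHomeomorph.topologicalKrullDim_eq _]
    exact (Topology.IsEmbedding.inclusion Set.inter_subset_right).isInducing.topologicalKrullDim_le
  have key : ∀ s : cS.pt, ∃ i, cS.π.app i s ∉ B i := by
    intro s
    by_contra hall
    push Not at hall
    let a := cS.pt.fromSpecResidueField s
    let T : Scheme.{u} := Spec (cS.pt.residueField s)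
    let q : ∀ i, T ⟶ DS.obj i := fun i => a ≫ cS.π.app i
    have hq : ∀ {j i : I} (b : j ⟶ i), q j ≫ DS.map b = q i := fun {j i} b => by
      simp only [q, Category.assoc, cS.w b]
    let Qm : ∀ {j i : I} (b : j ⟶ i), pullback (φ.app j) (q j) ⟶ pullback (φ.app i) (q i) := fun {j i} b =>
      pullback.map _ _ _ _ (DX.map b) (𝟙 T) (DS.map b) (φ.naturality b).symm (by rw [Category.id_comp, hq b])
    let D : I ⥤ Scheme.{u} :=
      { obj := fun i => pullback (φ.app i) (q i)
        map := fun b => Qm b
        map_id := fun i => by apply pullback.hom_ext <;> simp [Qm]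
        map_comp := fun b b' => by apply pullback.hom_ext <;> simp [Qm] }
    have hcl' : ∀ {j i : I} (b : j ⟶ i), IsClosedImmersion (D.map b) := by
      intro j i b
      let c : DX.obj j ⟶ pullback (φ.app i) (DS.map b) := pullback.lift (DX.map b) (φ.app j) (φ.naturality b)
      haveI : IsClosedImmersion c := hcl j i b
      let r : pullback (φ.app i) (q i) ⟶ pullback (φ.app i) (DS.map b) :=
        pullback.lift (pullback.fst _ _) (pullback.snd _ _ ≫ q j) (by rw [Category.assoc, hq b, pullback.condition])
      have sq1 : IsPullback r (pullback.snd (φ.app i) (q i)) (pullback.snd (φ.app i) (DS.map b)) (q j) :=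
        IsPullback.of_right (by
          rw [show r ≫ pullback.fst (φ.app i) (DS.map b) = _ from pullback.lift_fst _ _ _, hq b]
          exact IsPullback.of_hasPullback (φ.app i) (q i)) (pullback.lift_snd _ _ _)
          (IsPullback.of_hasPullback (φ.app i) (DS.map b))
      have sq2 : IsPullback (pullback.fst (φ.app j) (q j)) (Qm b) c r :=
        IsPullback.of_bot (by
          rw [show Qm b ≫ pullback.snd (φ.app i) (q i) = pullback.snd (φ.app j) (q j) by simp [Qm],
            show c ≫ pullback.snd (φ.app i) (DS.map b) = φ.app j from pullback.lift_snd _ _ _]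
          exact IsPullback.of_hasPullback (φ.app j) (q j))
          (by apply pullback.hom_ext <;> simp [Qm, r, c, pullback.condition]) sq1
      exact MorphismProperty.of_isPullback (P := @IsClosedImmersion) sq2 ‹_›
    haveI : ∀ {j i : I} (b : j ⟶ i), IsAffineHom (D.map b) := fun b => by
      haveI := hcl' b
      infer_instance
    let c : Cone D :=
      { pt := pullback f a
        π :=
          { app := fun i => pullback.map _ _ _ _ (cX.π.app i) (𝟙 T) (cS.π.app i) (hf i) (Category.id_comp _).symm
            naturality := fun j i b => by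
              apply pullback.hom_ext <;> simp [D, Qm, cX.w b] } }
    have hpr : ∀ (t : Cone D) (i : I), t.π.app i ≫ pullback.snd (φ.app i) (q i) =
        t.π.app i₀ ≫ pullback.snd (φ.app i₀) (q i₀) := by
      intro t i
      let l := IsCofiltered.min i i₀
      rw [← t.w (IsCofiltered.minToLeft i i₀), ← t.w (IsCofiltered.minToRight i i₀)]
      simp [D, Qm]
    let tX : Cone D → Cone DX := fun t =>
      { pt := t.pt
        π :=
          { app := fun i => t.π.app i ≫ pullback.fst (φ.app i) (q i)
            naturality := fun j i b => by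
              rw [← t.w b]
              simp [D, Qm] } }
    have hc : IsLimit c :=
      { lift := fun t => pullback.lift (hX.lift (tX t)) (t.π.app i₀ ≫ pullback.snd (φ.app i₀) (q i₀))
          (hS.hom_ext fun i => by
            rw [Category.assoc, hf, ← Category.assoc, hX.fac, Category.assoc, Category.assoc]
            show (t.π.app i ≫ pullback.fst _ _) ≫ φ.app i = t.π.app i₀ ≫ pullback.snd _ _ ≫ q i
            rw [← Category.assoc (t.π.app i₀), ← hpr t i, Category.assoc, Category.assoc, pullback.condition])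
        fac := fun t i => by
          apply pullback.hom_ext
          · simp [c, tX]
          · simp [c, hpr t i]
            exact congrArg (t.π.app i₀ ≫ ·) (Category.comp_id _)
        uniq := fun t m hm => by
          apply pullback.hom_ext
          · refine hX.hom_ext fun i => ?_
            rw [pullback.lift_fst, hX.fac]
            show (m ≫ pullback.fst f a) ≫ cX.π.app i = t.π.app i ≫ pullback.fst _ _
            rw [← hm i]
            simp [c]
          · rw [pullback.lift_snd, ← hm i₀]
            simp [c]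
            exact congrArg (m ≫ ·) (Category.comp_id _).symm }
    haveI : LocallyOfFiniteType (pullback.snd (φ.app i₀) (q i₀)) := MorphismProperty.pullback_snd _ _ inferInstance
    haveI : IsLocallyNoetherian (D.obj i₀) :=
      LocallyOfFiniteType.isLocallyNoetherian (pullback.snd (φ.app i₀) (q i₀))
    haveI : CompactSpace (D.obj i₀) :=
      QuasiCompact.compactSpace_of_compactSpace (pullback.snd (φ.app i₀) (q i₀))
    haveI : IsNoetherian (D.obj i₀) := {}
    let R : (Σ k, k ⟶ i₀) → TopologicalSpace.Closeds (D.obj i₀) := fun k =>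
      ⟨Set.range (D.map k.2), (haveI := hcl' k.2; (D.map k.2).isClosedEmbedding.isClosed_range)⟩
    obtain ⟨_, ⟨⟨k₀, a₀⟩, rfl⟩, hmin⟩ := wellFounded_lt.has_min (Set.range R) ⟨_, ⟨i₀, 𝟙 i₀⟩, rfl⟩
    have hsurj : ∀ {k : I} (b : k ⟶ k₀), Function.Surjective (D.map b) := by
      intro k b z
      haveI := hcl' a₀
      have he : R ⟨k, b ≫ a₀⟩ = R ⟨k₀, a₀⟩ := by
        by_contra hne
        refine hmin _ ⟨⟨k, b ≫ a₀⟩, rfl⟩ (lt_of_le_of_ne ?_ hne)
        rintro _ ⟨w, rfl⟩
        refine ⟨D.map b w, ?_⟩
        rw [D.map_comp]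
        rfl
      obtain ⟨w, hw⟩ : D.map a₀ z ∈ R ⟨k, b ≫ a₀⟩ := he ▸ ⟨z, rfl⟩
      refine ⟨w, (D.map a₀).isClosedEmbedding.injective ?_⟩
      rw [← hw, D.map_comp]
      rfl
    have hind : Topology.IsInducing (c.π.app k₀) := by
      refine ⟨le_antisymm (c.π.app k₀).continuous.le_induced ?_⟩
      refine le_of_le_of_eq (le_iInf fun i => ?_) (Groth.Agent.AffLim.eq_induced D c hc).symm
      let l := IsCofiltered.min i k₀
      let b := IsCofiltered.minToRight i k₀
      haveI := hcl' b
      rw [← c.w (IsCofiltered.minToLeft i k₀), ← c.w b, Scheme.Hom.comp_base, Scheme.Hom.comp_base,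
        TopCat.coe_comp, TopCat.coe_comp, ← induced_compose, ← induced_compose,
        ← (D.map b).isClosedEmbedding.isInducing.eq_induced]
      exact induced_mono (continuous_iff_le_induced.1 (D.map _).continuous)
    have hπ : Function.Surjective (c.π.app k₀) := by
      intro z
      show z ∈ Set.range (c.π.app k₀)
      rw [Groth.Agent.AffLim.range_π D c hc k₀]
      exact Set.mem_iInter₂.2 fun k b => hsurj b z
    have he : topologicalKrullDim (D.obj k₀) = topologicalKrullDim ↥(f.fiber s) :=
      ((hind.isEmbedding.toHomeomorphOfSurjective hπ).isHomeomorph.topologicalKrullDim_eq _).symm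
    refine hall k₀ ?_
    let pt : T := IsLocalRing.closedPoint (cS.pt.residueField s)
    have hpt : q k₀ pt = cS.π.app k₀ s := by
      show cS.π.app k₀ (a pt) = _
      rw [show a pt = s from Scheme.fromSpecResidueField_apply _ _]
    rw [← hpt, ← Groth.Agent.S9777.result (φ.app k₀) (q k₀) _ _ (IsPullback.of_hasPullback (φ.app k₀) (q k₀)) pt,
      ((pullback.snd (φ.app k₀) (q k₀)).fiberHomeo pt).isHomeomorph.topologicalKrullDim_eq _]
    refine le_trans (le_of_eq ?_) (hd s)
    rw [← he]
    exact ((Homeomorph.setCongr (Set.eq_univ_of_forall fun z => Subsingleton.elim _ _)).trans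
      (Homeomorph.Set.univ (D.obj k₀))).isHomeomorph.topologicalKrullDim_eq _
  obtain ⟨J, hJ⟩ := ProConsLib.exists_finset_iInter_eq_empty (fun i => cS.π.app i ⁻¹' B i)
    (fun i => ProConsLib.isProConstructible_preimage (cS.π.app i) (hBp i))
    (Set.eq_empty_iff_forall_notMem.2 fun s hs => by
      obtain ⟨i, hi⟩ := key s
      exact hi (Set.mem_iInter.1 hs i))
  obtain ⟨k, hk⟩ := IsCofiltered.inf_objs_exists J
  have hk0 : ∀ s, cS.π.app k s ∉ B k := fun s hs => (Set.eq_empty_iff_forall_notMem.1 hJ s) (Set.mem_iInter₂.2 fun i hi => by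
    obtain ⟨b⟩ := hk hi
    show cS.π.app i s ∈ B i
    rw [← cS.w b]
    exact hmono b _ hs)
  obtain ⟨S', hS', hB⟩ := ProConsLib.exists_sInter_eq ((ProConsLib.isProConstructible_iff_isClosed _).1 (hBp k))
  obtain ⟨K, hK⟩ := ProConsLib.exists_finset_iInter_eq_empty (fun T : S' => cS.π.app k ⁻¹' T.1)
    (fun T => ProConsLib.isProConstructible_preimage (cS.π.app k)
      ((ProConsLib.isLocallyConstructible_iff_pro_and_ind _).1 (hS' T.1 T.2).isLocallyConstructible).1)
    (Set.eq_empty_iff_forall_notMem.2 fun s hs => hk0 s (by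
      rw [hB]
      exact fun T hT => Set.mem_iInter.1 hs ⟨T, hT⟩))
  obtain ⟨j, b, hj⟩ := FPModelLib.exists_stage_forall_mem DS cS hS (i := k)
    (E := (⋂ T ∈ K, (T : S').1)ᶜ)
    (ProConsLib.isLocallyConstructible_compl
      (Topology.IsConstructible.biInter K.finite_toSet fun T _ => hS' T.1 T.2).isLocallyConstructible)
    (fun s hs => (Set.eq_empty_iff_forall_notMem.1 hK s) (Set.mem_iInter₂.2 fun T hT => Set.mem_iInter₂.1 hs T hT))
  refine ⟨j, fun t => ?_⟩
  by_contra ht
  refine hj t (Set.mem_iInter₂.2 fun T _ => ?_)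
  have h := hmono b t ht
  rw [hB] at h
  exact h T.1 T.2

end Groth.Agent.S9215
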