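import Groth.Statements.S9217
import Groth.Agent.SpreadOut.Basic
import Groth.Agent.FlatLocus.ImageClosure

set_option autoImplicit false
set_option backward.isDefEq.respectTransparency false
set_option backward.defeqAttrib.useBackward true
universe u
open CategoryTheory AlgebraicGeometry
open Lim

namespace Groth.Agent.S9217

theorem ext_of_stalks {X Y : Scheme.{u}} (f g : X ⟶ Y)
    (h : ∀ z, X.fromSpecStalk z ≫ f = X.fromSpecStalk z ≫ g) : f = g := by
  have e : ∀ z, f z = g z := fun z => by simpa using congr($(h z) (IsLocalRing.closedPoint _))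
  have H : ∀ z, f.stalkMap z =
      Y.presheaf.stalkSpecializes (Inseparable.of_eq (e z).symm).specializes ≫ g.stalkMap z := fun z => by
    apply Spec.map_injective
    rw [← cancel_mono (Y.fromSpecStalk _)]
    simpa [Scheme.SpecMap_stalkSpecializes_fromSpecStalk] using h z
  refine Scheme.Hom.ext (TopCat.ext e) fun U => CommRingCat.hom_ext (RingHom.ext fun a => ?_)
  refine TopCat.Presheaf.section_ext X.sheaf _ _ _ fun z hz => ?_
  have hz' : f z ∈ U := by rw [e]; exact hz
  have h1 := ConcreteCategory.congr_hom (Scheme.Hom.germ_stalkMap f U z hz') a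
  rw [CommRingCat.comp_apply, CommRingCat.comp_apply, H] at h1
  rw [← CommRingCat.comp_apply, TopCat.Presheaf.germ_stalkSpecializes_assoc, CommRingCat.comp_apply] at h1
  erw [Scheme.Hom.germ_stalkMap_apply] at h1
  exact (X.presheaf.germ_res_apply _ z hz _).trans h1.symm

/-- Let S be a scheme, X and Y schemes over S with Y locally of finite presentation over S, and x a
closed point of X such that the inclusion of U = X - {x} in X is quasi-compact; let V be the
complement of the closed point in Spec O_{X,x}, i.e. the preimage of U under the canonical morphism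
Spec O_{X,x} → X. Then restriction is a bijection from the S-morphisms X → Y to the pairs (a, b) of
S-morphisms a : U → Y, b : Spec O_{X,x} → Y which agree on V: two morphisms X → Y with the same
restrictions to U and to Spec O_{X,x} are equal, and every such compatible pair of S-morphisms is
the pair of restrictions of an S-morphism X → Y. -/
theorem result {X Y S : Scheme.{u}} (p : X ⟶ S) (q : Y ⟶ S) [LocallyOfFinitePresentation q]
    (x : X) (U : X.Opens) (hU : (U : Set X) = {x}ᶜ) [QuasiCompact U.ι] :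
    (∀ g₁ g₂ : X ⟶ Y, U.ι ≫ g₁ = U.ι ≫ g₂ → X.fromSpecStalk x ≫ g₁ = X.fromSpecStalk x ≫ g₂ → g₁ = g₂) ∧
    (∀ (a : (U : Scheme.{u}) ⟶ Y) (b : Spec (X.presheaf.stalk x) ⟶ Y), a ≫ q = U.ι ≫ p →
      b ≫ q = X.fromSpecStalk x ≫ p → ((X.fromSpecStalk x) ⁻¹ᵁ U).ι ≫ b = ((X.fromSpecStalk x) ∣_ U) ≫ a →
        ∃ g : X ⟶ Y, g ≫ q = p ∧ U.ι ≫ g = a ∧ X.fromSpecStalk x ≫ g = b) := by
  have hne : ∀ z : X, z ∉ U → z = x := fun z hz => by
    by_contra h
    exact hz (show z ∈ (U : Set X) from hU ▸ h)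
  constructor
  · intro g₁ g₂ hg hs
    have h𝒰 : ∀ z : X, z ∈ U ∨ z = x := fun z => (Classical.em (z ∈ U)).imp id (hne z)
    -- agreement of the stalk maps at `x` and equality near `x`
    have hloc : ∀ z : X, X.fromSpecStalk z ≫ g₁ = X.fromSpecStalk z ≫ g₂ := fun z => by
      rcases h𝒰 z with hz | rfl
      · rw [← Scheme.Opens.fromSpecStalkOfMem_ι U z hz, Category.assoc, Category.assoc, hg]
      · exact hs
    refine Groth.Agent.S9217.ext_of_stalks g₁ g₂ hloc
  · intro a b ha hb hab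
    obtain ⟨W, hxW, h, hbh, hh⟩ := Groth.Agent.SpreadOut.spread_out' p q b hb
    let j := Limits.pullback.fst W.ι U.ι
    let k := Limits.pullback.snd W.ι U.ι
    have hjk : j ≫ W.ι = k ≫ U.ι := Limits.pullback.condition
    have hq : (k ≫ a) ≫ q = (j ≫ h) ≫ q := by
      rw [Category.assoc, Category.assoc, ha, hh, reassoc_of% hjk]
    let G : Set ↥(Limits.pullback W.ι U.ι) := {t | ∃ O : (Limits.pullback W.ι U.ι).Opens, t ∈ O ∧ O.ι ≫ k ≫ a = O.ι ≫ j ≫ h}
    have hG : IsOpen G := isOpen_iff_forall_mem_open.2 fun t ⟨O, htO, hO⟩ =>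
      ⟨O, fun s hs => ⟨O, hs, hO⟩, O.2, htO⟩
    have hspec : ∀ t, W.ι (j t) ⤳ x → t ∈ G := by
      intro t ht
      let T := Limits.pullback W.ι U.ι
      let m : Spec (T.presheaf.stalk t) ⟶ Spec (X.presheaf.stalk x) :=
        Spec.map ((j ≫ W.ι).stalkMap t) ≫ Spec.map (X.presheaf.stalkSpecializes
          (show (j ≫ W.ι) t ⤳ x from ht))
      have hm : m ≫ X.fromSpecStalk x = T.fromSpecStalk t ≫ j ≫ W.ι := by
        simp only [m, Category.assoc]
        rw [Scheme.SpecMap_stalkSpecializes_fromSpecStalk]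
        exact Scheme.SpecMap_stalkMap_fromSpecStalk _
      have hr : Set.range m ⊆ Set.range (((X.fromSpecStalk x) ⁻¹ᵁ U).ι) := by
        rw [Scheme.Opens.range_ι]
        rintro _ ⟨s, rfl⟩
        show X.fromSpecStalk x (m s) ∈ U
        rw [← Scheme.Hom.comp_apply, hm, hjk, ← Category.assoc, Scheme.Hom.comp_apply]
        exact ((T.fromSpecStalk t ≫ k) s).2
      let l := IsOpenImmersion.lift ((X.fromSpecStalk x) ⁻¹ᵁ U).ι m hr
      have hl : l ≫ ((X.fromSpecStalk x) ⁻¹ᵁ U).ι = m := IsOpenImmersion.lift_fac _ _ _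
      have e1 : l ≫ ((X.fromSpecStalk x) ∣_ U) = T.fromSpecStalk t ≫ k := by
        rw [← cancel_mono U.ι, Category.assoc, morphismRestrict_ι, reassoc_of% hl, hm, hjk, Category.assoc]
      have e2 : m ≫ W.fromSpecStalkOfMem x hxW = T.fromSpecStalk t ≫ j := by
        rw [← cancel_mono W.ι, Category.assoc, Scheme.Opens.fromSpecStalkOfMem_ι, hm, Category.assoc]
      have e : T.fromSpecStalk t ≫ k ≫ a = T.fromSpecStalk t ≫ j ≫ h := by
        rw [← reassoc_of% e1, ← reassoc_of% e2, ← hab, reassoc_of% hl, hbh]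
      obtain ⟨O, htO, hO⟩ := Groth.Agent.RatMapLib.exists_opens_eq_of_fromSpecStalk q (k ≫ a) (j ≫ h) hq e
      exact ⟨O, htO, hO⟩
    let C : Set ↥W.toScheme := closure (j '' Gᶜ)
    have hxC : (⟨x, hxW⟩ : W) ∉ C := fun hx => by
      obtain ⟨t, ht, hspt⟩ := Groth.Agent.FlatLocus.exists_specializes_of_mem_closure_image j hG.isClosed_compl hx
      exact ht (hspec t (hspt.map W.ι.continuous))
    let W₁ : X.Opens := W.ι ''ᵁ ⟨Cᶜ, isClosed_closure.isOpen_compl⟩
    have hW₁ : W₁ ≤ W := fun z ⟨w, _, hwz⟩ => hwz ▸ w.2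
    have hxW₁ : x ∈ W₁ := ⟨⟨x, hxW⟩, hxC, rfl⟩
    let 𝒰 : X.OpenCover := X.openCoverOfIsOpenCover (fun i : Bool => if i then U else W₁) (by
      refine TopologicalSpace.Opens.ext (Set.eq_univ_of_forall fun z => ?_)
      rw [SetLike.mem_coe, TopologicalSpace.Opens.mem_iSup]
      by_cases hz : z ∈ U
      · exact ⟨true, hz⟩
      · exact ⟨false, by rw [hne z hz]; exact hxW₁⟩)
    have compat : Limits.pullback.fst U.ι W₁.ι ≫ a = Limits.pullback.snd U.ι W₁.ι ≫ X.homOfLE hW₁ ≫ h := by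
      let r : Limits.pullback U.ι W₁.ι ⟶ Limits.pullback W.ι U.ι :=
        Limits.pullback.lift (Limits.pullback.snd U.ι W₁.ι ≫ X.homOfLE hW₁) (Limits.pullback.fst U.ι W₁.ι) (by
          rw [Category.assoc, Scheme.homOfLE_ι, Limits.pullback.condition])
      have hr : ∀ z, r z ∈ G := fun z => by
        by_contra hz
        obtain ⟨w, hw, hwz⟩ := ((Limits.pullback.snd U.ι W₁.ι) z).2
        have hjr : j (r z) = w := W.ι.isOpenEmbedding.injective (by
          refine Eq.trans ?_ hwz.symm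
          rw [← Scheme.Hom.comp_apply, ← Scheme.Hom.comp_apply]
          simp [r, j])
        exact hw (subset_closure ⟨r z, hz, hjr⟩)
      choose O hO hOe using hr
      have hrk : r ≫ k = Limits.pullback.fst U.ι W₁.ι := Limits.pullback.lift_snd _ _ _
      have hrj : r ≫ j = Limits.pullback.snd U.ι W₁.ι ≫ X.homOfLE hW₁ := Limits.pullback.lift_fst _ _ _
      rw [← hrk, ← reassoc_of% hrj, Category.assoc]
      refine Scheme.Cover.hom_ext ((Limits.pullback U.ι W₁.ι).openCoverOfIsOpenCover (fun z => r ⁻¹ᵁ O z)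
        (TopologicalSpace.Opens.ext (Set.eq_univ_of_forall fun z => by
          rw [SetLike.mem_coe, TopologicalSpace.Opens.mem_iSup]; exact ⟨z, hO z⟩))) _ _ fun z => ?_
      show (r ⁻¹ᵁ O z).ι ≫ r ≫ k ≫ a = (r ⁻¹ᵁ O z).ι ≫ r ≫ j ≫ h
      rw [← morphismRestrict_ι_assoc, hOe z, ← morphismRestrict_ι_assoc]
    let f : ∀ i, 𝒰.X i ⟶ Y := fun i => match i with
      | true => a
      | false => X.homOfLE hW₁ ≫ h
    let g := 𝒰.glueMorphisms f (by
      rintro (_ | _) (_ | _)
      · show Limits.pullback.fst W₁.ι W₁.ι ≫ _ = Limits.pullback.snd W₁.ι W₁.ι ≫ _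
        rw [Limits.fst_eq_snd_of_mono_eq]
      · show Limits.pullback.fst W₁.ι U.ι ≫ X.homOfLE hW₁ ≫ h = Limits.pullback.snd W₁.ι U.ι ≫ a
        rw [← cancel_epi (Limits.pullbackSymmetry U.ι W₁.ι).hom, Limits.pullbackSymmetry_hom_comp_fst_assoc,
          Limits.pullbackSymmetry_hom_comp_snd_assoc, compat]
      · exact compat
      · show Limits.pullback.fst U.ι U.ι ≫ a = Limits.pullback.snd U.ι U.ι ≫ a
        rw [Limits.fst_eq_snd_of_mono_eq])
    have gU : U.ι ≫ g = a := 𝒰.ι_glueMorphisms f _ true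
    have gW : W₁.ι ≫ g = X.homOfLE hW₁ ≫ h := 𝒰.ι_glueMorphisms f _ false
    refine ⟨g, Scheme.Cover.hom_ext 𝒰 _ _ ?_, gU, ?_⟩
    · rintro (_ | _)
      · show W₁.ι ≫ g ≫ q = W₁.ι ≫ p
        rw [reassoc_of% gW, hh, Scheme.homOfLE_ι_assoc]
      · show U.ι ≫ g ≫ q = U.ι ≫ p
        rw [reassoc_of% gU, ha]
    · rw [← Scheme.Opens.fromSpecStalkOfMem_ι W₁ x hxW₁, Category.assoc, gW, hbh]
      have : W₁.fromSpecStalkOfMem x hxW₁ ≫ X.homOfLE hW₁ = W.fromSpecStalkOfMem x hxW := by
        rw [← cancel_mono W.ι, Category.assoc, Scheme.homOfLE_ι, Scheme.Opens.fromSpecStalkOfMem_ι,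
          Scheme.Opens.fromSpecStalkOfMem_ι]
      rw [reassoc_of% this]

end Groth.Agent.S9217
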