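import Groth.Statements.S9218
import Groth.Agent.AffLim.Points

set_option autoImplicit false
set_option backward.isDefEq.respectTransparency false
set_option backward.defeqAttrib.useBackward true
universe u
open CategoryTheory CategoryTheory.Limits AlgebraicGeometry
open Lim

namespace Groth.Agent.S9218

/-- Let S = lim S_i be a cofiltered limit of schemes with affine transition morphisms (the S_i are not
assumed quasi-compact or quasi-separated), i an index, and X_i → S_i, Y_i → S_i morphisms locally of
finite presentation with X_i, Y_i quasi-compact and quasi-separated; let X, Y be their base changes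
to S (pullback squares). Then every S-morphism f : X → Y comes from some stage: for some index j
over i there is an S_j-morphism f_j : X_i ×_{S_i} S_j → Y_i ×_{S_i} S_j whose base change to S is f,
in the sense that the canonical morphisms X → X_i ×_{S_i} S_j and Y → Y_i ×_{S_i} S_j intertwine f
and f_j. This is the fullness part of the equivalence between the colimit of the categories of
quasi-compact quasi-separated schemes locally of finite presentation over the S_i and the
corresponding category over S. -/
theorem result {I : Type u} [SmallCategory I] [IsCofiltered I]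
    (D : I ⥤ Scheme.{u}) (c : Limits.Cone D) (hc : Limits.IsLimit c)
    [∀ (i j : I) (f : i ⟶ j), IsAffineHom (D.map f)] (i : I)
    {Xi Yi : Scheme.{u}} (xi : Xi ⟶ D.obj i) (yi : Yi ⟶ D.obj i)
    [CompactSpace Xi] [QuasiSeparatedSpace Xi] [LocallyOfFinitePresentation xi]
    [CompactSpace Yi] [QuasiSeparatedSpace Yi] [LocallyOfFinitePresentation yi]
    {X Y : Scheme.{u}} (qX : X ⟶ Xi) (pX : X ⟶ c.pt) (hX : IsPullback qX pX xi (c.π.app i))
    (qY : Y ⟶ Yi) (pY : Y ⟶ c.pt) (hY : IsPullback qY pY yi (c.π.app i))
    (f : X ⟶ Y) (hf : f ≫ pY = pX) :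
    ∃ (j : I) (φ : j ⟶ i) (fj : pullback xi (D.map φ) ⟶ pullback yi (D.map φ))
      (sX : X ⟶ pullback xi (D.map φ)) (sY : Y ⟶ pullback yi (D.map φ)),
      fj ≫ pullback.snd yi (D.map φ) = pullback.snd xi (D.map φ) ∧
      sX ≫ pullback.fst xi (D.map φ) = qX ∧ sX ≫ pullback.snd xi (D.map φ) = pX ≫ c.π.app j ∧
      sY ≫ pullback.fst yi (D.map φ) = qY ∧ sY ≫ pullback.snd yi (D.map φ) = pY ≫ c.π.app j ∧
      sX ≫ fj = f ≫ sY := by
  obtain ⟨hl⟩ := Groth.Agent.AffLim.nonempty_isLimit_baseChangeCone D c hc i xi
  let E := Groth.Agent.AffLim.baseChange D i xi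
  let t : E ⟶ (Functor.const (Over i)).obj (D.obj i) :=
    { app := fun j => pullback.fst xi (D.map j.hom) ≫ xi
      naturality := fun j k a => by simp [E] }
  haveI : ∀ {j k : Over i} (a : j ⟶ k), IsAffineHom (E.map a) := fun a => inferInstanceAs (IsAffineHom ((Groth.Agent.AffLim.baseChange D i xi).map a))
  haveI : ∀ j, CompactSpace (E.obj j) := fun j => inferInstanceAs (CompactSpace ((Groth.Agent.AffLim.baseChange D i xi).obj j))
  haveI : ∀ j, QuasiSeparatedSpace (E.obj j) := fun j =>
    haveI : IsAffineHom (pullback.fst xi (D.map j.hom)) := MorphismProperty.pullback_fst (P := @IsAffineHom) _ _ inferInstance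
    quasiSeparatedSpace_of_quasiSeparated (pullback.fst xi (D.map j.hom))
  let a : (Groth.Agent.AffLim.baseChangeCone D c i xi).pt ⟶ Yi := hX.isoPullback.inv ≫ f ≫ qY
  obtain ⟨j, g, hg, hgy⟩ := Scheme.exists_π_app_comp_eq_of_locallyOfFinitePresentation E t yi
    (Groth.Agent.AffLim.baseChangeCone D c i xi) hl a (by
      ext j
      show (Groth.Agent.AffLim.baseChangeCone D c i xi).π.app j ≫ pullback.fst xi (D.map j.hom) ≫ xi = a ≫ yi
      simp only [a, Category.assoc, hY.w, reassoc_of% hf]
      simp [pullback.map, pullback.condition])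
  refine ⟨j.left, j.hom, pullback.lift g (pullback.snd xi (D.map j.hom)) (hgy.trans pullback.condition),
    hX.isoPullback.hom ≫ (Groth.Agent.AffLim.baseChangeCone D c i xi).π.app j,
    pullback.lift qY (pY ≫ c.π.app j.left) (by rw [hY.w, Category.assoc, c.w]),
    pullback.lift_snd _ _ _, by simp, by simp, pullback.lift_fst _ _ _, pullback.lift_snd _ _ _, ?_⟩
  apply pullback.hom_ext
  · simp only [Category.assoc, pullback.lift_fst]
    rw [hg]
    simp [a]
  · simp only [Category.assoc, pullback.lift_snd, reassoc_of% hf]
    simp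

end Groth.Agent.S9218
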