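import Groth.Statements.S9219
import Mathlib
import Groth.Agent.AffLim.Points

set_option autoImplicit false
set_option backward.isDefEq.respectTransparency false
set_option backward.defeqAttrib.useBackward true
universe u
open CategoryTheory CategoryTheory.Limits AlgebraicGeometry
open Lim CategoryTheory.Limits

namespace Groth.Agent.S9219

/-- Let S = lim S_i be a cofiltered limit of schemes with affine transition morphisms (the S_i are not
assumed quasi-compact or quasi-separated), i an index, and X_i → S_i, Y_i → S_i morphisms locally of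
finite presentation with X_i, Y_i quasi-compact and quasi-separated; let X be the base change of X_i
to S (a pullback square). If two S_i-morphisms f_i, g_i : X_i → Y_i have the same base change to S
(equivalently, the same composite with X → X_i), then for some index j over i their base changes to
S_j agree, i.e. they have the same composite with X_i ×_{S_i} S_j → X_i. This is the faithfulness
part of the equivalence between the colimit of the categories of quasi-compact quasi-separated
schemes locally of finite presentation over the S_i and the corresponding category over S. -/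
theorem result {I : Type u} [SmallCategory I] [IsCofiltered I]
    (D : I ⥤ Scheme.{u}) (c : Limits.Cone D) (hc : Limits.IsLimit c)
    [∀ (i j : I) (f : i ⟶ j), IsAffineHom (D.map f)] (i : I)
    {Xi Yi : Scheme.{u}} (xi : Xi ⟶ D.obj i) (yi : Yi ⟶ D.obj i)
    [CompactSpace Xi] [QuasiSeparatedSpace Xi] [LocallyOfFinitePresentation xi]
    [CompactSpace Yi] [QuasiSeparatedSpace Yi] [LocallyOfFinitePresentation yi]
    {X : Scheme.{u}} (qX : X ⟶ Xi) (pX : X ⟶ c.pt) (hX : IsPullback qX pX xi (c.π.app i))
    (fi gi : Xi ⟶ Yi) (hfi : fi ≫ yi = xi) (hgi : gi ≫ yi = xi) (h : qX ≫ fi = qX ≫ gi) :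
    ∃ (j : I) (φ : j ⟶ i), pullback.fst xi (D.map φ) ≫ fi = pullback.fst xi (D.map φ) ≫ gi := by
  obtain ⟨hl⟩ := Groth.Agent.AffLim.nonempty_isLimit_baseChangeCone D c hc i xi
  let E := Groth.Agent.AffLim.baseChange D i xi
  let t : E ⟶ (Functor.const (Over i)).obj (D.obj i) :=
    { app := fun j => pullback.fst xi (D.map j.hom) ≫ xi
      naturality := fun j k a => by simp [E] }
  haveI : ∀ {j k : Over i} (a : j ⟶ k), IsAffineHom (E.map a) := fun a => inferInstanceAs (IsAffineHom ((Groth.Agent.AffLim.baseChange D i xi).map a))
  haveI : ∀ j, CompactSpace (E.obj j) := fun j => inferInstanceAs (CompactSpace ((Groth.Agent.AffLim.baseChange D i xi).obj j))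
  let j₀ : Over i := Over.mk (𝟙 i)
  have hπ : (Groth.Agent.AffLim.baseChangeCone D c i xi).π.app j₀ ≫ pullback.fst xi (D.map j₀.hom) =
      hX.isoPullback.inv ≫ qX := by
    simp [pullback.map]
  obtain ⟨k, hik, hjk, hk⟩ := Scheme.exists_hom_hom_comp_eq_comp_of_locallyOfFiniteType E t yi
    (Groth.Agent.AffLim.baseChangeCone D c i xi) hl
    (i := j₀) (pullback.fst xi (D.map j₀.hom) ≫ fi) (by simp [t, hfi])
    (j := j₀) (pullback.fst xi (D.map j₀.hom) ≫ gi) (by simp [t, hgi])
    (by rw [reassoc_of% hπ, reassoc_of% hπ, h])
  refine ⟨k.left, k.hom, ?_⟩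
  have key : ∀ (u : k ⟶ j₀), E.map u ≫ pullback.fst xi (D.map j₀.hom) = pullback.fst xi (D.map k.hom) :=
    fun u => by simp [E]
  rw [reassoc_of% key, reassoc_of% key] at hk
  exact hk

end Groth.Agent.S9219
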