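import Groth.Statements.S9221
import Groth.Agent.FPModelLib.Proper
import Groth.Agent.ClSubLib.ProperOver
import Groth.Agent.SuppLib.Basic
import Groth.Agent.PullbackMod.SuppClosed
-- import your own Groth.Agent.* helpers here

set_option autoImplicit false
universe u
open CategoryTheory AlgebraicGeometry
open Lim

namespace Groth.Agent.S9221

/-- Let S = lim S_i be a cofiltered limit of schemes with affine transition morphisms, S_{i₀} a
quasi-compact quasi-separated stage, f₀ : X₀ → Y₀ a morphism of quasi-compact quasi-separated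
schemes over S_{i₀}, and f : X → Y its base change along S → S_{i₀} (base changes expressed by
pullback squares). Let F₀ be a quasi-coherent O_{X₀}-module of finite type, with pullbacks F to X
and F_i to X_i, and assume f₀ is locally of finite type. If the support of F (a closed subset of X,
taken with its reduced structure; equivalently the scheme-theoretic support of F) is proper over Y,
then for some index i over i₀, with f_i : X_i → Y_i the base change of f₀ along S_i → S_{i₀}, the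
support of F_i is proper over Y_i. -/
theorem result {I : Type u} [SmallCategory I] [IsCofiltered I]
    (D : I ⥤ Scheme.{u}) (c : Limits.Cone D) (hc : Limits.IsLimit c)
    [∀ (i j : I) (f : i ⟶ j), IsAffineHom (D.map f)] (i₀ : I) [CompactSpace (D.obj i₀)]
    [QuasiSeparatedSpace (D.obj i₀)] {X₀ Y₀ : Scheme.{u}} (f₀ : X₀ ⟶ Y₀) (g₀ : Y₀ ⟶ D.obj i₀)
    [CompactSpace X₀] [QuasiSeparatedSpace X₀] [CompactSpace Y₀] [QuasiSeparatedSpace Y₀]
    [LocallyOfFiniteType f₀] (F₀ : X₀.Modules) [Coh.IsQCoh F₀] (hF₀ : CohB1.IsFT F₀)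
    {X Y : Scheme.{u}} (f : X ⟶ Y) (g : Y ⟶ c.pt) (qY : Y ⟶ Y₀) (qX : X ⟶ X₀)
    (hY : IsPullback qY g g₀ (c.π.app i₀)) (hX : IsPullback qX f f₀ qY) (hF : ClSub.IsProperOver f (CohB1.support ((Scheme.Modules.pullback qX).obj F₀))) :
    ∃ (i : I) (φ : i ⟶ i₀) (Xi Yi : Scheme.{u}) (fi : Xi ⟶ Yi) (gi : Yi ⟶ D.obj i) (pY : Yi ⟶ Y₀)
      (pX : Xi ⟶ X₀), IsPullback pY gi g₀ (D.map φ) ∧ IsPullback pX fi f₀ pY ∧ ClSub.IsProperOver fi (CohB1.support ((Scheme.Modules.pullback pX).obj F₀)) := by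
  haveI : ∀ {i j : I} (a : i ⟶ j), IsAffineHom (D.map a) := fun {i j} a => inferInstance
  haveI : LocallyOfFiniteType f := MorphismProperty.of_isPullback (P := @LocallyOfFiniteType) hX inferInstance
  let Z₀ := CohB1.support F₀
  have hcl : IsClosed Z₀ := PullbackMod.isClosed_support_of_isFT hF₀
  let V := Scheme.IdealSheafData.vanishingIdeal (⟨Z₀, hcl⟩ : TopologicalSpace.Closeds X₀)
  let ι₀ := V.subschemeι
  have hι₀ : Set.range ι₀ = Z₀ := by
    rw [Scheme.IdealSheafData.range_subschemeι, Scheme.IdealSheafData.coe_support_vanishingIdeal]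
    rfl
  haveI : CompactSpace V.subscheme := QuasiCompact.compactSpace_of_compactSpace ι₀
  haveI : QuasiSeparatedSpace V.subscheme := quasiSeparatedSpace_of_quasiSeparated ι₀
  haveI : IsClosedImmersion (Limits.pullback.snd ι₀ qX) := MorphismProperty.pullback_snd _ _ inferInstance
  have hsq : IsPullback (Limits.pullback.fst ι₀ qX) (Limits.pullback.snd ι₀ qX ≫ f) (ι₀ ≫ f₀) qY :=
    (IsPullback.of_hasPullback ι₀ qX).paste_vert hX
  have hrange : Set.range (Limits.pullback.snd ι₀ qX) = CohB1.support ((Scheme.Modules.pullback qX).obj F₀) := by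
    rw [SuppLib.support_pullback qX F₀ hF₀, Scheme.Pullback.range_snd, hι₀]
  haveI : IsProper (Limits.pullback.snd ι₀ qX ≫ f) := (ClSubLib.isProperOver_iff f _ hrange).1 hF
  obtain ⟨j, φ, hj⟩ := FPModelLib.exists_proper_stage D c hc i₀ (ι₀ ≫ f₀) g₀ hY hsq
  have h0 : IsPullback (Limits.pullback.fst (f₀ ≫ g₀) (D.map φ))
      ((AffLim.baseChangeMap D i₀ f₀ g₀).app (Over.mk φ)) f₀ (Limits.pullback.fst g₀ (D.map φ)) :=
    AffLim.isPullback_baseChangeMap D i₀ f₀ g₀ (Over.mk φ)
  refine ⟨j, φ, _, _, (AffLim.baseChangeMap D i₀ f₀ g₀).app (Over.mk φ), Limits.pullback.snd g₀ (D.map φ),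
    Limits.pullback.fst g₀ (D.map φ), Limits.pullback.fst (f₀ ≫ g₀) (D.map φ), IsPullback.of_hasPullback _ _, h0, ?_⟩
  let Xi := (AffLim.baseChange D i₀ (f₀ ≫ g₀)).obj (Over.mk φ)
  let pX : Xi ⟶ X₀ := Limits.pullback.fst (f₀ ≫ g₀) (D.map φ)
  replace h0 : IsPullback pX ((AffLim.baseChangeMap D i₀ f₀ g₀).app (Over.mk φ)) f₀ (Limits.pullback.fst g₀ (D.map φ)) := h0
  let fi := (AffLim.baseChangeMap D i₀ f₀ g₀).app (Over.mk φ)
  haveI : LocallyOfFiniteType fi := MorphismProperty.of_isPullback (P := @LocallyOfFiniteType) h0 inferInstance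
  haveI : IsClosedImmersion (Limits.pullback.snd ι₀ pX) := MorphismProperty.pullback_snd _ _ inferInstance
  have h2 : IsPullback (Limits.pullback.fst ι₀ pX) (Limits.pullback.snd ι₀ pX ≫ fi) (ι₀ ≫ f₀)
      (Limits.pullback.fst g₀ (D.map φ)) := (IsPullback.of_hasPullback ι₀ pX).paste_vert h0
  refine (ClSubLib.isProperOver_iff fi (Limits.pullback.snd ι₀ pX) ?_).2 ?_
  · rw [SuppLib.support_pullback pX F₀ hF₀, Scheme.Pullback.range_snd, hι₀]
  · have h1 := AffLim.isPullback_baseChangeMap D i₀ (ι₀ ≫ f₀) g₀ (Over.mk φ)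
    rw [← IsPullback.isoIsPullback_hom_snd _ _ h2 h1]
    exact (MorphismProperty.cancel_left_of_respectsIso @IsProper _ _).2 hj

end Groth.Agent.S9221
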