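import Groth.Statements.S9224
import Groth.Agent.LfpAvoid.Basic
-- import your own Groth.Agent.* helpers here

set_option autoImplicit false
set_option linter.style.haveILetI false
set_option backward.isDefEq.respectTransparency false
set_option backward.defeqAttrib.useBackward true
universe u
open CategoryTheory CategoryTheory.Limits AlgebraicGeometry
open Lim

namespace Groth.Agent.S9224

/-- Let f : X → S be a quasi-compact morphism, g : T → S a morphism, t a point of T and Z a closed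
subset of X_T = X ×_S T which does not meet the fibre of X_T → T over t. Then there exist an affine
open neighbourhood V of t in T, an affine scheme T' with a morphism b : T' → S locally of finite
presentation, a morphism a : V → T' whose composite with b is the restriction of g, and a closed
subset Z' of X_{T'} = X ×_S T' which does not meet the fibre over t' = a(t), such that the induced
morphism X_V → X_{T'} maps every point of X_V lying over Z (under X_V → X_T) into Z'. The morphisms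
X_V → X_T and X_V → X_{T'} are the canonical ones, characterised by their projections. -/
theorem result {X S T : Scheme.{u}} (f : X ⟶ S) [QuasiCompact f] (g : T ⟶ S) (t : T)
    (Z : Set ↥(pullback f g)) (hZ : IsClosed Z) (hZt : ∀ z ∈ Z, (pullback.snd f g).base z ≠ t) :
    ∃ (V : T.Opens) (ht : t ∈ V) (T' : Scheme.{u}) (b : T' ⟶ S) (a : (V : Scheme.{u}) ⟶ T')
      (n : pullback f (V.ι ≫ g) ⟶ pullback f g) (m : pullback f (V.ι ≫ g) ⟶ pullback f b)
      (Z' : Set ↥(pullback f b)),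
      IsAffineOpen V ∧ IsAffine T' ∧ LocallyOfFinitePresentation b ∧ a ≫ b = V.ι ≫ g ∧
      n ≫ pullback.fst f g = pullback.fst f (V.ι ≫ g) ∧ n ≫ pullback.snd f g = pullback.snd f (V.ι ≫ g) ≫ V.ι ∧
      m ≫ pullback.fst f b = pullback.fst f (V.ι ≫ g) ∧ m ≫ pullback.snd f b = pullback.snd f (V.ι ≫ g) ≫ a ∧
      IsClosed Z' ∧ (∀ z' ∈ Z', (pullback.snd f b).base z' ≠ a.base ⟨t, ht⟩) ∧
      ∀ z : ↥(pullback f (V.ι ≫ g)), n.base z ∈ Z → m.base z ∈ Z' := by
  classical
  obtain ⟨_, ⟨U : S.Opens, hU, rfl⟩, htU, -⟩ :=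
    S.isBasis_affineOpens.exists_subset_of_mem_open (Set.mem_univ (g t)) isOpen_univ
  obtain ⟨_, ⟨V : T.Opens, hV, rfl⟩, htV, hVU⟩ :=
    T.isBasis_affineOpens.exists_subset_of_mem_open (show t ∈ g ⁻¹ᵁ U from htU) (g ⁻¹ᵁ U).2
  letI algB : Algebra Γ(S, U) Γ(T, V) := (g.appLE U V hVU).hom.toAlgebra
  let u : Spec (.of Γ(S, U)) ⟶ S := hU.fromSpec
  let e := hV.isoSpec
  let p : Spec (.of Γ(T, V)) := e.hom ⟨t, htV⟩
  have he : e.hom ≫ LfpAvoid.toBase u Γ(T, V) = V.ι ≫ g := by
    show e.hom ≫ Spec.map (g.appLE U V hVU) ≫ hU.fromSpec = _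
    rw [IsAffineOpen.SpecMap_appLE_fromSpec g hU hV hVU, IsAffineOpen.isoSpec_hom_fromSpec_assoc]
  have he' : e.inv ≫ V.ι ≫ g = LfpAvoid.toBase u Γ(T, V) := by rw [← he, Iso.inv_hom_id_assoc]
  -- comparison of the two descriptions of `X_V`
  let n : pullback f (V.ι ≫ g) ⟶ pullback f g :=
    pullback.lift (pullback.fst _ _) (pullback.snd _ _ ≫ V.ι)
      (by rw [Category.assoc, pullback.condition])
  let m₀ : pullback f (V.ι ≫ g) ⟶ pullback f (LfpAvoid.toBase u Γ(T, V)) :=
    pullback.lift (pullback.fst _ _) (pullback.snd _ _ ≫ e.hom)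
      (by rw [Category.assoc, he, pullback.condition])
  let n₀ : pullback f (LfpAvoid.toBase u Γ(T, V)) ⟶ pullback f g :=
    pullback.lift (pullback.fst _ _) (pullback.snd _ _ ≫ e.inv ≫ V.ι)
      (by rw [Category.assoc, Category.assoc, he', pullback.condition])
  have hn : m₀ ≫ n₀ = n := by
    apply pullback.hom_ext <;> simp [m₀, n₀, n]
  let W : Set ↥(pullback f (LfpAvoid.toBase u Γ(T, V))) := n₀ ⁻¹' Z
  have hW : IsClosed W := hZ.preimage n₀.continuous
  have hWp : ∀ w ∈ W, pullback.snd f (LfpAvoid.toBase u Γ(T, V)) w ≠ p := by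
    intro w hw hwp
    refine hZt _ hw ?_
    show pullback.snd f g (n₀ w) = t
    rw [← Scheme.Hom.comp_apply, pullback.lift_snd, Scheme.Hom.comp_apply, hwp,
      Scheme.Hom.comp_apply]
    show V.ι (e.inv (e.hom ⟨t, htV⟩)) = t
    rw [← Scheme.Hom.comp_apply e.hom, Iso.hom_inv_id]
    rfl
  -- finitely many charts
  have hqc : IsCompact ((f ⁻¹ᵁ U : X.Opens) : Set X) := f.isCompact_preimage hU.isCompact
  let 𝒪 := {O : X.Opens // IsAffineOpen O ∧ O ≤ f ⁻¹ᵁ U}
  obtain ⟨F, hF⟩ := hqc.elim_finite_subcover (fun O : 𝒪 => (O.1 : Set X)) (fun O => O.1.2)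
    (fun x hx => by
      obtain ⟨_, ⟨O : X.Opens, hO, rfl⟩, hxO, hOU⟩ :=
        X.isBasis_affineOpens.exists_subset_of_mem_open hx (f ⁻¹ᵁ U).2
      exact Set.mem_iUnion.2 ⟨⟨O, hO, hOU⟩, hxO⟩)
  have key : ∀ O : 𝒪, ∃ E : Finset Γ(T, V), ∀ (B' : Type u) [CommRing B'] [Algebra Γ(S, U) B']
      (ψ : B' →ₐ[Γ(S, U)] Γ(T, V)), (↑E ⊆ Set.range ψ) →
        ∀ z ∈ closure (LfpAvoid.changeMap f u ψ '' W),
          pullback.fst f (LfpAvoid.toBase u B') z ∈ (O.1 : Set X) →
          pullback.snd f (LfpAvoid.toBase u B') z ≠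
            Spec.map (CommRingCat.ofHom ψ.toRingHom) p := fun O => by
    letI algC : Algebra Γ(S, U) Γ(X, O.1) := (f.appLE U O.1 O.2.2).hom.toAlgebra
    obtain ⟨E, hE⟩ := LfpAvoid.exists_finset_chart (C := Γ(X, O.1)) f u O.2.1.fromSpec
      (IsAffineOpen.SpecMap_appLE_fromSpec f hU O.2.1 O.2.2).symm p W hW hWp
    refine ⟨E, fun B' _ _ ψ hψ z hz hzO => hE B' ψ hψ z hz ?_⟩
    rwa [O.2.1.range_fromSpec]
  choose E hE using key
  let E₀ : Finset Γ(T, V) := F.biUnion E
  let B' := MvPolynomial E₀ Γ(S, U)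
  let ψ : B' →ₐ[Γ(S, U)] Γ(T, V) := MvPolynomial.aeval fun x => x.1
  have hψ : ∀ O ∈ F, (E O : Set Γ(T, V)) ⊆ Set.range ψ := fun O hO x hx =>
    ⟨MvPolynomial.X ⟨x, Finset.mem_biUnion.mpr ⟨O, hO, hx⟩⟩, MvPolynomial.aeval_X _ _⟩
  haveI : LocallyOfFinitePresentation
      (Spec.map (CommRingCat.ofHom (algebraMap Γ(S, U) B'))) := by
    rw [HasRingHomProperty.Spec_iff (P := @LocallyOfFinitePresentation), CommRingCat.hom_ofHom,
      RingHom.finitePresentation_algebraMap]
    infer_instance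
  haveI : LocallyOfFinitePresentation (LfpAvoid.toBase u B') := by
    unfold LfpAvoid.toBase; infer_instance
  refine ⟨V, htV, Spec (.of B'), LfpAvoid.toBase u B', e.hom ≫ Spec.map (CommRingCat.ofHom ψ.toRingHom),
    n, m₀ ≫ LfpAvoid.changeMap f u ψ, closure (LfpAvoid.changeMap f u ψ '' W), hV, inferInstance,
    inferInstance, ?_, by simp [n], by simp [n], by simp [m₀], by simp [m₀], isClosed_closure,
    ?_, ?_⟩
  · rw [Category.assoc, LfpAvoid.toBase, ← Spec.map_comp_assoc, ← CommRingCat.ofHom_comp,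
      AlgHom.toRingHom_eq_coe, AlgHom.comp_algebraMap]
    exact he
  · intro z hz hzt
    have hzU : pullback.fst f (LfpAvoid.toBase u B') z ∈ f ⁻¹ᵁ U := by
      show f (pullback.fst f (LfpAvoid.toBase u B') z) ∈ U
      rw [← Scheme.Hom.comp_apply, pullback.condition, Scheme.Hom.comp_apply, Scheme.Hom.comp_apply]
      exact (Set.ext_iff.mp hU.range_fromSpec _).mp ⟨_, rfl⟩
    obtain ⟨O, hOF, hzO⟩ := Set.mem_iUnion₂.1 (hF hzU)
    exact hE O B' ψ (hψ O hOF) z hz hzO hzt
  · intro w hw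
    refine subset_closure ⟨m₀ w, ?_, rfl⟩
    show n₀ (m₀ w) ∈ Z
    rw [← Scheme.Hom.comp_apply, hn]
    exact hw

end Groth.Agent.S9224
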