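import Groth.Statements.S9225
import Mathlib
import Groth.Agent.RegLocalDer.Basic

set_option autoImplicit false
universe u
open CAlg

namespace Groth.Agent.S9225

/-- Let R be a regular ring, f an element of R and D a derivation of R such that the image of D(f) in
R/(f) is a unit. Then R/(f) is a regular ring. -/
theorem result (R : Type u) [CommRing R] [IsRegularRing R]
    (f : R) (D : Derivation ℤ R R)
    (hD : IsUnit (Ideal.Quotient.mk (Ideal.span {f}) (D f))) :
    IsRegularRing (R ⧸ Ideal.span ({f} : Set R)) := by
  refine RegLocalDer.isRegularRing_quot R f D fun p hp hfp hDp => hp.ne_top ?_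
  obtain ⟨b, hb⟩ := hD.exists_right_inv
  obtain ⟨b, rfl⟩ := Ideal.Quotient.mk_surjective b
  rw [← map_mul, ← map_one (Ideal.Quotient.mk (Ideal.span {f})), Ideal.Quotient.eq, Ideal.mem_span_singleton] at hb
  obtain ⟨c, hc⟩ := hb
  rw [Ideal.eq_top_iff_one]
  have : (1 : R) = D f * b - f * c := by rw [← hc]; ring
  rw [this]
  exact sub_mem (Ideal.mul_mem_right _ _ hDp) (Ideal.mul_mem_right _ _ hfp)

end Groth.Agent.S9225
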