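import Groth.Statements.S9227
import Mathlib
import Groth.Agent.RegLocalDer.Basic

set_option autoImplicit false
universe u
open CAlg

namespace Groth.Agent.S9227

/-- Let R be a regular ring, f an element of R and D a derivation of R with D(f) a unit of R. Then for
every polynomial p with integer coefficients the ring R[z]/(p(z) - f) is regular; in particular
R[z]/(z^n - f) is regular for every n ≥ 1. -/
theorem result (R : Type u) [CommRing R]
    [IsRegularRing R] (f : R) (D : Derivation ℤ R R) (hD : IsUnit (D f)) (p : Polynomial ℤ) :
    IsRegularRing (Polynomial R ⧸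
      Ideal.span ({Polynomial.map (Int.castRingHom R) p - Polynomial.C f} : Set (Polynomial R))) := by
  let T : Polynomial R →ₗ[ℤ] Polynomial R :=
    { toFun := fun q => PolynomialModule.equivPolynomialSelf (D.mapCoeffs q)
      map_add' := fun a b => by simp
      map_smul' := fun a b => by simp }
  let D' : Derivation ℤ (Polynomial R) (Polynomial R) := Derivation.mk' T fun a b => by
    show PolynomialModule.equivPolynomialSelf (D.mapCoeffs (a * b)) = _
    rw [Derivation.leibniz, map_add, map_smul, map_smul]
    rfl
  have hc : ∀ (q : Polynomial R) i, (D' q).coeff i = D (q.coeff i) := fun q i => rfl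
  have hDp : D' (Polynomial.map (Int.castRingHom R) p - Polynomial.C f) = Polynomial.C (- D f) := by
    ext i
    rw [hc, Polynomial.coeff_sub, map_sub, Polynomial.coeff_map, eq_intCast, Derivation.map_intCast,
      Polynomial.coeff_C, Polynomial.coeff_C]
    split_ifs <;> simp
  refine RegLocalDer.isRegularRing_quot _ _ D' fun P hP _ h => hP.ne_top (Ideal.eq_top_of_isUnit_mem _ h ?_)
  erw [hDp]
  exact Polynomial.isUnit_C.mpr hD.neg

end Groth.Agent.S9227
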