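import Groth.Statements.S9229
import Groth.Agent.S9235
import Groth.Agent.S9244
import Groth.Agent.RatliffLib.UnivCat
import Mathlib
-- import your own Groth.Agent.* helpers here

set_option autoImplicit false
universe u
open EGA4

namespace Groth.Agent.S9229

/-- A Noetherian local ring A whose formal fibres are geometrically normal and which is unibranch (a
normal local ring, say) is universally catenary. -/
theorem result (A : Type u) [CommRing A]
    [IsLocalRing A] [IsNoetherianRing A] (hA : EGA4.HasGeomNormalFormalFibres A)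
    (hu : CAlg2.IsUnibranch A) : CAlg.IsUniversallyCatenary A := by
  obtain ⟨_, _, _, _, _⟩ := RatliffLib.compl_facts A
  have h1 : Brnch.numBranches (EGA4.Cpl A) = 1 :=
    (S9244.result A hA).1.trans ((S9235.result A).2 hu)
  have hdom : IsDomain (CAlg2.red (EGA4.Cpl A)) := ((S9235.result (EGA4.Cpl A)).1 h1).1
  haveI hP : (nilradical (EGA4.Cpl A)).IsPrime := (Ideal.Quotient.isDomain_iff_prime _).1 hdom
  refine RatliffLib.isUniversallyCatenary_of_formallyEquidim fun p hp => ?_
  have hp' : p = nilradical (EGA4.Cpl A) :=
    le_antisymm (hp.2 ⟨hP, bot_le⟩ (nilradical_le_prime p (H := hp.1.1))) (nilradical_le_prime p (H := hp.1.1))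
  have hz : PrimeSpectrum.zeroLocus ((nilradical (EGA4.Cpl A) : Ideal (EGA4.Cpl A)) : Set (EGA4.Cpl A)) = Set.univ :=
    Set.eq_univ_of_forall fun q => nilradical_le_prime q.asIdeal
  rw [hp', ringKrullDim_quotient, hz]
  exact Order.krullDim_eq_of_orderIso OrderIso.Set.univ

end Groth.Agent.S9229
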