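import Groth.Statements.S9230
import Groth.Agent.S9243
import Groth.Agent.S9244
import Groth.Agent.HensBranch.Completion
import Groth.Agent.RatliffLib.UnivCat
import Groth.Agent.RatliffLib.Converse.Main
import Mathlib
open scoped TensorProduct
-- import your own Groth.Agent.* helpers here

set_option autoImplicit false
universe u
open EGA4

namespace Groth.Agent.S9230

/-- For a Noetherian local ring A whose formal fibres are geometrically normal, every henselization S of
A is universally catenary. -/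
theorem result (A S : Type u) [CommRing A]
    [IsLocalRing A] [IsNoetherianRing A] [CommRing S] [IsLocalRing S] [Algebra A S]
    [IsLocalHom (algebraMap A S)] [Hensel.IsHenselization A S]
    (hA : EGA4.HasGeomNormalFormalFibres A) : CAlg.IsUniversallyCatenary S := by
  obtain ⟨_, _, _, _, _⟩ := RatliffLib.compl_facts A
  obtain ⟨-, -, hnS⟩ := RatliffLib.henselization_facts A S
  haveI := hnS
  haveI : HenselianLocalRing (EGA4.Cpl A) := NormalTensor.henselianLocalRing_completion A
  obtain ⟨ψ, hψ, -⟩ := (‹Hensel.IsHenselization A S›).universal (EGA4.Cpl A) (algebraMap A (EGA4.Cpl A)) ‹_›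
  have hrad := (S9243.result A S ψ hψ).1 (S9244.result A hA).1.symm
  letI := ψ.toAlgebra
  haveI : Module.FaithfullyFlat S (EGA4.Cpl A) := HensBranch.faithfullyFlat_toCompletion A S ψ hψ
  have hmin : ∀ q ∈ minimalPrimes S, ∀ [IsLocalRing (S ⧸ q)], CAlg.IsUniversallyCatenary (S ⧸ q) := by
    intro q hq _
    let K : Ideal (EGA4.Cpl A) := q.map (algebraMap S (EGA4.Cpl A))
    haveI hP : K.radical.IsPrime := hrad q hq
    haveI : Nontrivial (EGA4.Cpl A ⧸ K) := Ideal.Quotient.nontrivial_iff.2 fun h => hP.ne_top (by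
      rw [h, Ideal.radical_top])
    haveI : IsLocalRing (EGA4.Cpl A ⧸ K) := IsLocalRing.of_surjective' _ Ideal.Quotient.mk_surjective
    haveI : Module.FaithfullyFlat (S ⧸ q) (EGA4.Cpl A ⧸ K) :=
      Module.FaithfullyFlat.of_linearEquiv (S ⧸ q) ((S ⧸ q) ⊗[S] EGA4.Cpl A)
        (Algebra.TensorProduct.quotIdealMapEquivQuotTensor (EGA4.Cpl A) q).toLinearEquiv
    haveI : IsLocalHom (algebraMap (S ⧸ q) (EGA4.Cpl A ⧸ K)) := by
      refine ⟨fun x hx => ?_⟩
      by_contra hns
      have h1 : algebraMap (S ⧸ q) (EGA4.Cpl A ⧸ K) x ∈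
          (IsLocalRing.maximalIdeal (S ⧸ q)).map (algebraMap (S ⧸ q) (EGA4.Cpl A ⧸ K)) :=
        Ideal.mem_map_of_mem _ ((IsLocalRing.mem_maximalIdeal x).mpr hns)
      have h2 := Ideal.comap_map_eq_self_of_faithfullyFlat (B := EGA4.Cpl A ⧸ K) (IsLocalRing.maximalIdeal (S ⧸ q))
      rw [Ideal.eq_top_of_isUnit_mem _ h1 hx, Ideal.comap_top] at h2
      exact (IsLocalRing.maximalIdeal.isMaximal (S ⧸ q)).ne_top h2.symm
    refine RatliffLib.isUniversallyCatenary_of_flat (A' := EGA4.Cpl A ⧸ K) (fun p hp => ?_)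
      (RatliffLib.isUniversallyCatenary_of_surjective _ Ideal.Quotient.mk_surjective
        (RatliffLib.isUniversallyCatenary_completion A))
    haveI hN : (nilradical (EGA4.Cpl A ⧸ K)).IsPrime := by
      have h1 : K.radical.map (Ideal.Quotient.mk K) = nilradical (EGA4.Cpl A ⧸ K) := by
        rw [nilradical, Ideal.map_radical_of_surjective Ideal.Quotient.mk_surjective (le_of_eq Ideal.mk_ker),
          Ideal.map_quotient_self]
        rfl
      rw [← h1]
      exact Ideal.map_isPrime_of_surjective Ideal.Quotient.mk_surjective (Ideal.mk_ker.trans_le Ideal.le_radical)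
    have hp' : p = nilradical (EGA4.Cpl A ⧸ K) :=
      le_antisymm (hp.2 ⟨hN, bot_le⟩ (nilradical_le_prime p (H := hp.1.1))) (nilradical_le_prime p (H := hp.1.1))
    have hz : PrimeSpectrum.zeroLocus ((nilradical (EGA4.Cpl A ⧸ K) : Ideal (EGA4.Cpl A ⧸ K)) : Set (EGA4.Cpl A ⧸ K)) = Set.univ :=
      Set.eq_univ_of_forall fun q => nilradical_le_prime q.asIdeal
    rw [hp', ringKrullDim_quotient, hz]
    exact Order.krullDim_eq_of_orderIso OrderIso.Set.univ
  refine RatliffLib.isUniversallyCatenary_of_formallyCatenary fun p _ => ?_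
  obtain ⟨q, hq, hqp⟩ := Ideal.exists_minimalPrimes_le (J := p) (bot_le : ⊥ ≤ p)
  haveI := hq.1.1
  haveI : IsLocalRing (S ⧸ q) := IsLocalRing.of_surjective' _ Ideal.Quotient.mk_surjective
  haveI : IsLocalRing (S ⧸ p) := IsLocalRing.of_surjective' _ Ideal.Quotient.mk_surjective
  exact RatliffLib.isFormallyEquidim_of_universallyCatenary
    (RatliffLib.isUniversallyCatenary_of_surjective (Ideal.Quotient.factor hqp) (Ideal.Quotient.factor_surjective hqp) (hmin q hq))

end Groth.Agent.S9230
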