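import Groth.Statements.S9242
import Groth.Agent.HensPunctLib.Basic

set_option autoImplicit false
set_option linter.style.haveILetI false
universe u
open Brnch

namespace Groth.Agent.S9242

/-- Let A be a Noetherian local ring with henselization S and completion A^, let ψ : S → A^ be the ring
map compatible with the structure maps from A, and let q be a minimal prime of A^ with dim(A^/q) =
1. Then q is the radical of the extension along ψ of some minimal prime of S. -/
theorem result (A S : Type u) [CommRing A]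
    [IsLocalRing A] [IsNoetherianRing A] [CommRing S] [IsLocalRing S] [Algebra A S]
    [IsLocalHom (algebraMap A S)] [Hensel.IsHenselization A S]
    (ψ : S →+* AdicCompletion (IsLocalRing.maximalIdeal A) A)
    (hψ : ψ.comp (algebraMap A S) = algebraMap A (AdicCompletion (IsLocalRing.maximalIdeal A) A))
    (q : Ideal (AdicCompletion (IsLocalRing.maximalIdeal A) A))
    (hq : q ∈ minimalPrimes (AdicCompletion (IsLocalRing.maximalIdeal A) A))
    (hdim : ringKrullDim (AdicCompletion (IsLocalRing.maximalIdeal A) A ⧸ q) = 1) :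
    ∃ q' ∈ minimalPrimes S, (Ideal.map ψ q').radical = q := by
  let C := AdicCompletion (IsLocalRing.maximalIdeal A) A
  letI := ψ.toAlgebra
  haveI : Module.FaithfullyFlat S C := HensBranch.faithfullyFlat_toCompletion A S ψ hψ
  haveI : IsNoetherianRing C := inferInstanceAs (IsNoetherianRing (AdicCompletion (IsLocalRing.maximalIdeal A) A))
  have hsurj : Function.Surjective (PrimeSpectrum.comap ψ) := PrimeSpectrum.comap_surjective_of_faithfullyFlat
  have hpre := HensPunctLib.preimage_punctured A S ψ hψ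
  haveI := hq.1.1
  let x : PrimeSpectrum C := ⟨q, inferInstance⟩
  -- only the closed point lies strictly above `q`
  have habove : ∀ P : PrimeSpectrum C, q < P.asIdeal → P = IsLocalRing.closedPoint C := by
    intro P hP
    haveI : Ring.KrullDimLE 1 (C ⧸ q) := (Ring.krullDimLE_iff).2 hdim.le
    haveI : (P.asIdeal.map (Ideal.Quotient.mk q)).IsPrime :=
      Ideal.map_isPrime_of_surjective Ideal.Quotient.mk_surjective (by rw [Ideal.mk_ker]; exact hP.le)
    have hcm : (P.asIdeal.map (Ideal.Quotient.mk q)).comap (Ideal.Quotient.mk q) = P.asIdeal := by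
      rw [Ideal.comap_map_of_surjective _ Ideal.Quotient.mk_surjective, ← RingHom.ker_eq_comap_bot, Ideal.mk_ker,
        sup_of_le_left hP.le]
    have hne : P.asIdeal.map (Ideal.Quotient.mk q) ≠ ⊥ := fun h => hP.ne (by
      rw [← hcm, h, ← RingHom.ker_eq_comap_bot, Ideal.mk_ker])
    haveI := Ideal.IsPrime.isMaximal_of_ne_bot ‹(P.asIdeal.map (Ideal.Quotient.mk q)).IsPrime› hne
    have : P.asIdeal.IsMaximal := hcm ▸ Ideal.comap_isMaximal_of_surjective _ Ideal.Quotient.mk_surjective
    exact PrimeSpectrum.ext (IsLocalRing.eq_maximalIdeal this)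
  have hqm : x ≠ IsLocalRing.closedPoint C := by
    intro h
    have hmax : q.IsMaximal := by
      rw [show q = IsLocalRing.maximalIdeal C from congrArg PrimeSpectrum.asIdeal h]
      exact IsLocalRing.maximalIdeal.isMaximal C
    haveI := hmax
    have : ringKrullDim (C ⧸ q) = 0 := ringKrullDim_eq_zero_of_isField ((Ideal.Quotient.maximal_ideal_iff_isField_quotient q).1 hmax)
    rw [hdim] at this
    exact one_ne_zero this
  let W : Set ↥(PrimeSpectrum.comap ψ ⁻¹' {IsLocalRing.closedPoint S}ᶜ) := {c | c.1 = x}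
  have hW : IsClopen W := by
    have hfin := (minimalPrimes.finite_of_isNoetherianRing C).sdiff (t := {q})
    refine ⟨?_, ?_⟩
    · have : W = Subtype.val ⁻¹' (PrimeSpectrum.zeroLocus (q : Set C)) := by
        ext c
        refine ⟨fun hc => ?_, fun hc => ?_⟩
        · show (q : Set C) ⊆ c.1.asIdeal
          rw [show c.1 = x from hc]
        · rcases eq_or_lt_of_le (show q ≤ c.1.asIdeal from hc) with h | h
          · exact PrimeSpectrum.ext h.symm
          · exact absurd (habove _ h) (Set.ext_iff.1 hpre c.1 |>.1 c.2)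
      rw [this]
      exact (PrimeSpectrum.isClosed_zeroLocus _).preimage continuous_subtype_val
    · have : W = Subtype.val ⁻¹' (⋃ p ∈ (minimalPrimes C \ {q}), PrimeSpectrum.zeroLocus (p : Set C))ᶜ := by
        ext c
        simp only [Set.mem_preimage, Set.mem_compl_iff, Set.mem_iUnion, exists_prop, not_exists, not_and]
        refine ⟨fun hc p hp hle => ?_, fun hc => ?_⟩
        · have hpc : p ≤ c.1.asIdeal := hle
          rw [show c.1 = x from hc] at hpc
          exact hp.2 (le_antisymm hpc (hq.2 hp.1.1 hpc))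
        · obtain ⟨p, hp, hpc⟩ := Ideal.exists_minimalPrimes_le (J := c.1.asIdeal) (bot_le : ⊥ ≤ c.1.asIdeal)
          by_cases hpq : p = q
          · rcases eq_or_lt_of_le (hpq ▸ hpc) with h | h
            · exact PrimeSpectrum.ext h.symm
            · exact absurd (habove _ h) (Set.ext_iff.1 hpre c.1 |>.1 c.2)
          · exact absurd hpc (hc p ⟨hp, hpq⟩)
      rw [this]
      exact ((hfin.isClosed_biUnion fun p _ => PrimeSpectrum.isClosed_zeroLocus _).isOpen_compl).preimage
        continuous_subtype_val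
  obtain ⟨V, hV, hVW⟩ := HensPunctLib.exists_clopen_completion A S ψ hψ W hW
  have hxU : x ∈ PrimeSpectrum.comap ψ ⁻¹' {IsLocalRing.closedPoint S}ᶜ := (Set.ext_iff.1 hpre x).2 hqm
  let p₀ : ↥({IsLocalRing.closedPoint S}ᶜ : Set (PrimeSpectrum S)) := ⟨PrimeSpectrum.comap ψ x, hxU⟩
  have hp₀ : p₀ ∈ V := (Set.ext_iff.1 hVW ⟨x, hxU⟩).2 rfl
  refine ⟨q.comap ψ, (HensBranch.mapsTo_surjOn A S ψ hψ).1 hq, le_antisymm ?_ ?_⟩
  · exact (hq.1.1.isRadical.radical_le_iff).2 Ideal.map_comap_le
  · rw [Ideal.radical_eq_sInf]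
    refine le_sInf fun P hP => ?_
    haveI := hP.2
    by_cases hPm : (⟨P, hP.2⟩ : PrimeSpectrum C) = IsLocalRing.closedPoint C
    · rw [show P = IsLocalRing.maximalIdeal C from congrArg PrimeSpectrum.asIdeal hPm]
      exact IsLocalRing.le_maximalIdeal hq.1.1.ne_top
    · have hPU : (⟨P, hP.2⟩ : PrimeSpectrum C) ∈ PrimeSpectrum.comap ψ ⁻¹' {IsLocalRing.closedPoint S}ᶜ :=
        (Set.ext_iff.1 hpre _).2 hPm
      let p₁ : ↥({IsLocalRing.closedPoint S}ᶜ : Set (PrimeSpectrum S)) := ⟨PrimeSpectrum.comap ψ ⟨P, hP.2⟩, hPU⟩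
      have hs : p₀ ⤳ p₁ := subtype_specializes_iff _ _ |>.2 ((PrimeSpectrum.le_iff_specializes _ _).1
        (Ideal.map_le_iff_le_comap.1 hP.1))
      have hp₁ : p₁ ∈ V := hs.mem_closed hV.1 hp₀
      exact (congrArg PrimeSpectrum.asIdeal ((Set.ext_iff.1 hVW ⟨_, hPU⟩).1 hp₁)).ge

end Groth.Agent.S9242
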