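import Groth.Statements.S9245
import Groth.Agent.FpqcDesc.Noeth
import Mathlib.RingTheory.Etale.QuasiFinite
-- import your own Groth.Agent.* helpers here

set_option autoImplicit false
universe u
open CAlg

namespace Groth.Agent.S9245

theorem key {R S : Type u} [CommRing R] [CommRing S] [Algebra R S] [Algebra.Etale R S]
    (q : Ideal S) [q.IsPrime] :
    letI := Localization.AtPrime.algebraOfLiesOver (q.comap (algebraMap R S)) q
    Algebra.EssFiniteType (Localization.AtPrime (q.comap (algebraMap R S))) (Localization.AtPrime q) ∧
    Module.FaithfullyFlat (Localization.AtPrime (q.comap (algebraMap R S))) (Localization.AtPrime q) ∧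
    (IsLocalRing.maximalIdeal (Localization.AtPrime (q.comap (algebraMap R S)))).map (algebraMap _ (Localization.AtPrime q))
      = IsLocalRing.maximalIdeal (Localization.AtPrime q) := by
  haveI : q.LiesOver (q.comap (algebraMap R S)) := ⟨rfl⟩
  letI := Localization.AtPrime.algebraOfLiesOver (q.comap (algebraMap R S)) q
  set p := q.comap (algebraMap R S)
  haveI hE : Algebra.EssFiniteType (Localization.AtPrime p) (Localization.AtPrime q) :=
    haveI := Algebra.EssFiniteType.of_isLocalization (R := S) (Localization.AtPrime q) q.primeCompl
    haveI := Algebra.EssFiniteType.comp R S (Localization.AtPrime q)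
    Algebra.EssFiniteType.of_comp R (Localization.AtPrime p) _
  haveI : IsLocalHom (algebraMap (Localization.AtPrime p) (Localization.AtPrime q)) :=
    Localization.isLocalHom_localRingHom p q (algebraMap R S) Ideal.LiesOver.over
  haveI : Algebra.FormallyEtale S (Localization.AtPrime q) := Algebra.FormallyEtale.of_isLocalization q.primeCompl
  haveI : Algebra.IsUnramifiedAt R q := Algebra.FormallyUnramified.comp R S _
  haveI : Module.Flat S (Localization.AtPrime q) := IsLocalization.flat _ q.primeCompl
  haveI : Module.Flat R (Localization.AtPrime q) := Module.Flat.trans R S _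
  haveI : Module.Flat (Localization.AtPrime p) (Localization.AtPrime q) :=
    (Module.flat_iff_of_isLocalization (Localization.AtPrime p) p.primeCompl (Localization.AtPrime q)).2 inferInstance
  exact ⟨hE, Module.FaithfullyFlat.of_flat_of_isLocalHom, Algebra.FormallyUnramified.map_maximalIdeal⟩


/-- For an étale ring map A → B and a prime q of B with contraction p in A, the localization A_p is a
Noetherian ring exactly when the localization B_q is. -/
theorem result (A B : Type u) [CommRing A] [CommRing B]
    [Algebra A B] [Algebra.Etale A B] (q : Ideal B) [q.IsPrime] :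
    IsNoetherianRing (Localization.AtPrime (Ideal.comap (algebraMap A B) q)) ↔
      IsNoetherianRing (Localization.AtPrime q) := by
  haveI : q.LiesOver (q.comap (algebraMap A B)) := ⟨rfl⟩
  letI := Localization.AtPrime.algebraOfLiesOver (q.comap (algebraMap A B)) q
  obtain ⟨h1, h2, -⟩ := key (R := A) q
  refine ⟨fun h => ?_, fun h => ?_⟩
  · exact Algebra.EssFiniteType.isNoetherianRing (Localization.AtPrime (q.comap (algebraMap A B))) _
  · exact Groth.Agent.NoethDesc.isNoetherianRing_of_faithfullyFlat _ (Localization.AtPrime q)

end Groth.Agent.S9245
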