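import Groth.Statements.S9246
import Groth.Agent.S9245
import Groth.Agent.Depth.FlatLocal
-- import your own Groth.Agent.* helpers here

set_option autoImplicit false
universe u
open CAlg

namespace Groth.Agent.S9246

/-- Let A → B be an étale ring map and q a prime of B lying over the prime p of A. Then A_p is a regular
local ring if and only if B_q is a regular local ring. -/
theorem result (A B : Type u) [CommRing A] [CommRing B]
    [Algebra A B] [Algebra.Etale A B] (q : Ideal B) [q.IsPrime] :
    IsRegularLocalRing (Localization.AtPrime (Ideal.comap (algebraMap A B) q)) ↔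
      IsRegularLocalRing (Localization.AtPrime q) := by
  haveI : q.LiesOver (q.comap (algebraMap A B)) := ⟨rfl⟩
  letI := Localization.AtPrime.algebraOfLiesOver (q.comap (algebraMap A B)) q
  obtain ⟨h1, h2, h3⟩ := Groth.Agent.S9245.key (R := A) q
  haveI : IsLocalHom (algebraMap (Localization.AtPrime (q.comap (algebraMap A B))) (Localization.AtPrime q)) :=
    Localization.isLocalHom_localRingHom _ q (algebraMap A B) rfl
  have aux : IsNoetherianRing (Localization.AtPrime (q.comap (algebraMap A B))) →
      (IsRegularLocalRing (Localization.AtPrime q) ↔
        IsRegularLocalRing (Localization.AtPrime (q.comap (algebraMap A B)))) := fun h => by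
    haveI := (Groth.Agent.S9245.result A B q).1 h
    exact Groth.Agent.Depth.isRegularLocalRing_iff_of_map_maximalIdeal _ _ h3
  exact ⟨fun h => (aux inferInstance).2 h, fun h => (aux ((Groth.Agent.S9245.result A B q).2 inferInstance)).1 h⟩

end Groth.Agent.S9246
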