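import Groth.Statements.S9247
import Mathlib
import Groth.Agent.RegLocal.UFD
-- import your own Groth.Agent.* helpers here

set_option autoImplicit false
universe u
open CAlg

namespace Groth.Agent.S9247

/-- For a regular local ring R and an element f of R, the Picard group of R_f is trivial. -/
theorem result (R : Type u) [CommRing R]
    [IsRegularLocalRing R] (f : R) : Subsingleton (CommRing.Pic (Localization.Away f)) := by
  by_cases hf : f = 0
  · subst hf
    have : Subsingleton (Localization.Away (0 : R)) :=
      IsLocalization.subsingleton (M := Submonoid.powers (0 : R)) ⟨1, pow_one 0⟩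
    have : IsEmpty (MaximalSpectrum (Localization.Away (0 : R))) :=
      ⟨fun m => m.isMaximal.ne_top (Subsingleton.elim _ _)⟩
    infer_instance
  · haveI : IsDomain R := Groth.Agent.RegLocal.isDomain R
    haveI : UniqueFactorizationMonoid R := Groth.Agent.RegLocal.ufd R
    have hle : Submonoid.powers f ≤ nonZeroDivisors R :=
      powers_le_nonZeroDivisors_of_noZeroDivisors hf
    haveI : IsDomain (Localization.Away f) := IsLocalization.isDomain_localization hle
    haveI : UniqueFactorizationMonoid (Localization.Away f) := by
      refine UniqueFactorizationMonoid.iff_exists_prime_mem_of_isPrime.2 fun Q hQ0 hQ => ?_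
      haveI := hQ
      have hc : Q.comap (algebraMap R (Localization.Away f)) ≠ ⊥ := fun h0 => hQ0 (by
        rw [← IsLocalization.map_comap (Submonoid.powers f) (Localization.Away f) Q]
        simp [Ideal.under_def, h0])
      obtain ⟨q, hqQ, hq⟩ := UniqueFactorizationMonoid.iff_exists_prime_mem_of_isPrime.1
        (inferInstance : UniqueFactorizationMonoid R) _ hc (Ideal.IsPrime.comap _)
      refine ⟨algebraMap R _ q, hqQ, ?_⟩
      have hq0 : algebraMap R (Localization.Away f) q ≠ 0 := fun h =>
        hq.ne_zero (IsLocalization.injective (Localization.Away f) hle (h.trans (map_zero _).symm))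
      rw [← Ideal.span_singleton_prime hq0, ← Set.image_singleton, ← Ideal.map_span]
      refine IsLocalization.isPrime_of_isPrime_disjoint (Submonoid.powers f) _ _
        ((Ideal.span_singleton_prime hq.ne_zero).2 hq) (Set.disjoint_left.2 fun z hz hzq => ?_)
      obtain ⟨n, rfl⟩ := hz
      obtain ⟨d, hd⟩ := Ideal.mem_span_singleton'.1 hzq
      refine hQ.ne_top (Q.eq_top_of_isUnit_mem (x := algebraMap R _ (f ^ n)) ?_
        (IsLocalization.map_units _ (⟨f ^ n, n, rfl⟩ : Submonoid.powers f)))
      show algebraMap R _ (f ^ n) ∈ Q
      rw [show f ^ n = d * q from hd.symm, map_mul]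
      exact Q.mul_mem_left _ hqQ
    infer_instance

end Groth.Agent.S9247
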