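import Groth.Statements.S9248
import Groth.Agent.PicValLib.Main
open scoped TensorProduct

set_option autoImplicit false
universe u
open CAlg

namespace Groth.Agent.S9248

/-- Let R be a valuation ring, K its field of fractions and κ its residue field, and let A be a local
ring with a flat, local homomorphism R → A essentially of finite type such that κ ⊗_R A is a regular
ring. Then K ⊗_R A has trivial Picard group. -/
theorem result (R A : Type u) [CommRing R] [IsDomain R]
    [ValuationRing R] [CommRing A] [IsLocalRing A] [Algebra R A] [IsLocalHom (algebraMap R A)]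
    [Module.Flat R A] [Algebra.EssFiniteType R A]
    (hreg : IsRegularRing (TensorProduct R (IsLocalRing.ResidueField R) A)) :
    Subsingleton (CommRing.Pic (TensorProduct R (FractionRing R) A)) := by
  haveI := hreg
  let κ := IsLocalRing.ResidueField R
  let I := Groth.Agent.FlatValPD.fibIdeal R A
  haveI : Nontrivial (A ⧸ I) := Ideal.Quotient.nontrivial_iff.mpr fun h =>
    (IsLocalRing.maximalIdeal.isMaximal A).ne_top (top_le_iff.mp (h ▸ Groth.Agent.FlatValPD.fibIdeal_le R))
  haveI : IsLocalRing (A ⧸ I) := .of_surjective' (Ideal.Quotient.mk I) Ideal.Quotient.mk_surjective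
  let e : (κ ⊗[R] A) ≃+* (A ⧸ I) :=
    ((Algebra.TensorProduct.comm R κ A).toRingEquiv).trans
      (Algebra.TensorProduct.quotIdealMapEquivTensorQuot (A := R) A (IsLocalRing.maximalIdeal R)).symm.toRingEquiv
  haveI : IsRegularRing (A ⧸ I) := IsRegularRing.of_ringEquiv e
  haveI : IsRegularLocalRing (A ⧸ I) := IsRegularLocalRing.of_isRegularRing_of_isLocalRing _
  obtain ⟨n, hn⟩ := Groth.Agent.RegLocal.exists_nat_ringKrullDim (A ⧸ I)
  letI : Algebra A (TensorProduct R (FractionRing R) A) := Algebra.TensorProduct.rightAlgebra
  haveI : IsLocalization (Algebra.algebraMapSubmonoid A (nonZeroDivisors R)) (TensorProduct R (FractionRing R) A) :=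
    (Algebra.isLocalization_iff_isPushout (nonZeroDivisors R) (FractionRing R)).mpr inferInstance
  refine ⟨fun x y => ?_⟩
  have key : ∀ z : CommRing.Pic (TensorProduct R (FractionRing R) A), z = 1 := fun z => by
    have h := Groth.Agent.PicValLib.free_of_invertible R n hn (TensorProduct R (FractionRing R) A) z.AsModule
    rw [← CommRing.Pic.mk_eq_self (M := z)]
    exact CommRing.Pic.mk_eq_one_iff_free.mpr h
  rw [key x, key y]

end Groth.Agent.S9248
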