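import Groth.Statements.S9256
import Mathlib
import Groth.Agent.FieldExtLib.Separable

set_option autoImplicit false
universe u
open CAlg

namespace Groth.Agent.S9256
open scoped TensorProduct

/-- For a field extension K of k, the ring map k → K is regular exactly when K is separable over k, that
is, geometrically reduced over k. -/
theorem result (k K : Type u) [Field k] [Field K]
    [Algebra k K] : CAlg.IsRegularHom k K ↔ Algebra.IsGeometricallyReduced k K := by
  let e : (⊥ : Ideal k).ResidueField ≃ₐ[k] k := ((⊥ : Ideal k).algEquivResidueFieldOfField).symm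
  have hfree : Module.Flat k K := inferInstance
  have regiff : ∀ (F : Type u) [Field F] [Algebra k F] (k' : Type u) [Field k'] [Algebra k k'] [Module.Finite k k'],
      IsRegularRing (k' ⊗[k] K) ↔ IsReduced (k' ⊗[k] K) := fun F _ _ k' _ _ _ => by
    haveI : Module.Finite K (K ⊗[k] k') := inferInstance
    haveI : IsArtinianRing (K ⊗[k] k') := IsArtinianRing.of_finite K _
    haveI : IsArtinianRing (k' ⊗[k] K) :=
      (Algebra.TensorProduct.comm k K k').toRingEquiv.surjective.isArtinianRing
    constructor
    · intro h
      refine isReduced_ofLocalizationMaximal _ fun P hP => ?_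
      haveI := hP
      haveI := h.isRegularLocalRing_localization P
      have hdim : ringKrullDim (Localization.AtPrime P) = 0 := ringKrullDimZero_iff_ringKrullDim_eq_zero.1 inferInstance
      have hbot : IsLocalRing.maximalIdeal (Localization.AtPrime P) = ⊥ := by
        refine (Submodule.spanFinrank_eq_zero_iff_eq_bot (IsNoetherian.noetherian _)).1 ?_
        have := IsRegularLocalRing.spanFinrank_maximalIdeal (R := Localization.AtPrime P)
        rw [hdim] at this
        exact_mod_cast this
      have := (IsLocalRing.isField_iff_maximalIdeal_eq).2 hbot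
      exact @isReduced_of_noZeroDivisors _ _ this.isDomain.to_noZeroDivisors
    · intro h
      refine isRegularRing_iff.2 fun P hP => ?_
      haveI := hP
      haveI : IsReduced (Localization.AtPrime P) := inferInstance
      have hfield := IsArtinianRing.isField_of_isReduced_of_isLocalRing (Localization.AtPrime P)
      let := hfield.toField
      exact (inferInstance : IsRegularLocalRing (Localization.AtPrime P))
  constructor
  · rintro ⟨-, h⟩
    rw [Algebra.isGeometricallyReduced_field_iff]
    have key : IsReduced (K ⊗[k] AlgebraicClosure k) := by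
      refine IsReduced.tensorProduct_of_flat_of_forall_fg fun B hB => ?_
      obtain ⟨s, rfl⟩ := hB
      let L := IntermediateField.adjoin k (s : Set (AlgebraicClosure k))
      haveI : FiniteDimensional k L :=
        IntermediateField.finiteDimensional_adjoin fun x _ => Algebra.IsIntegral.isIntegral x
      let : Algebra (⊥ : Ideal k).ResidueField L := ((algebraMap k L).comp e.toRingHom).toAlgebra
      haveI : IsScalarTower k (⊥ : Ideal k).ResidueField L := IsScalarTower.of_algebraMap_eq fun a => by
        show algebraMap k L a = algebraMap k L (e (algebraMap k _ a))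
        rw [AlgEquiv.commutes]; rfl
      haveI : Module.Finite (⊥ : Ideal k).ResidueField L := Module.Finite.of_restrictScalars_finite k _ _
      have hreg := (h ⊥).2 L inferInstance
      let c : L ⊗[(⊥ : Ideal k).ResidueField] ((⊥ : Ideal k).Fiber K) ≃ₐ[L] L ⊗[k] K :=
        Algebra.TensorProduct.cancelBaseChange k (⊥ : Ideal k).ResidueField L L K
      haveI hred : IsReduced (L ⊗[k] K) := (regiff k L).1 (IsRegularRing.of_ringEquiv (R := L ⊗[(⊥ : Ideal k).ResidueField] ((⊥ : Ideal k).Fiber K)) c.toRingEquiv)
      haveI : IsReduced (K ⊗[k] L) := isReduced_of_injective (Algebra.TensorProduct.comm k K L) (AlgEquiv.injective _)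
      exact isReduced_of_injective (Algebra.TensorProduct.map (AlgHom.id k K) (Subalgebra.inclusion
          (IntermediateField.algebra_adjoin_le_adjoin k _)))
        (Module.Flat.lTensor_preserves_injective_linearMap _ (Subalgebra.inclusion_injective (IntermediateField.algebra_adjoin_le_adjoin k _)))
    exact isReduced_of_injective (Algebra.TensorProduct.comm k _ _) (AlgEquiv.injective _)
  · intro hgr
    refine ⟨hfree, fun p hp => ?_⟩
    obtain rfl : p = ⊥ := (Ideal.eq_bot_or_top p).resolve_right hp.ne_top
    refine ⟨?_, fun k' _ _ hk' => ?_⟩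
    · haveI : IsNoetherianRing (k ⊗[k] K) := isNoetherianRing_of_ringEquiv K (Algebra.TensorProduct.lid k K).toRingEquiv.symm
      exact isNoetherianRing_of_ringEquiv (k ⊗[k] K) (Algebra.TensorProduct.congr e.symm AlgEquiv.refl).toRingEquiv
    · let : Algebra k k' := ((algebraMap (⊥ : Ideal k).ResidueField k').comp (algebraMap k _)).toAlgebra
      haveI : IsScalarTower k (⊥ : Ideal k).ResidueField k' := IsScalarTower.of_algebraMap_eq fun _ => rfl
      haveI : Module.Finite k (⊥ : Ideal k).ResidueField := Module.Finite.equiv e.symm.toLinearEquiv
      haveI : Module.Finite k k' := Module.Finite.trans (⊥ : Ideal k).ResidueField _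
      let c : k' ⊗[(⊥ : Ideal k).ResidueField] ((⊥ : Ideal k).Fiber K) ≃ₐ[k'] k' ⊗[k] K :=
        Algebra.TensorProduct.cancelBaseChange k (⊥ : Ideal k).ResidueField k' k' K
      haveI : IsReduced (k' ⊗[k] K) := inferInstance
      haveI := (regiff k k').2 inferInstance
      exact IsRegularRing.of_ringEquiv (R' := k' ⊗[(⊥ : Ideal k).ResidueField] ((⊥ : Ideal k).Fiber K)) c.symm.toRingEquiv

end Groth.Agent.S9256
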