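import Groth.Statements.S9257
import Groth.Agent.GRingCompleteLib.Descend
-- import your own Groth.Agent.* helpers here

set_option autoImplicit false
universe u
open scoped TensorProduct
open CAlg

namespace Groth.Agent.S9257

/-- A Noetherian ring R is a G-ring exactly when, for all primes q ⊆ p of R, the completion of the local
domain (R/q)_p tensored with its fraction field κ(q) is geometrically regular over κ(q). Here the
pairs q ⊆ p are enumerated as primes P of R/q. -/
theorem result (R : Type u) [CommRing R] [IsNoetherianRing R] :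
    CAlg.IsGRing R ↔
      ∀ (q : Ideal R) [q.IsPrime] (P : Ideal (R ⧸ q)) [P.IsPrime],
        CAlg.IsGeometricallyRegular (⊥ : Ideal (Localization.AtPrime P)).ResidueField
          (EGA4.formalFibre (Localization.AtPrime P) (⊥ : Ideal (Localization.AtPrime P))) := by
  classical
  constructor
  · intro h q _ P _
    have h1 : CAlg.IsGRing (R ⧸ q) := GRingCompleteLib.isGRing_of_finiteType R h (R ⧸ q)
    exact ((h1.2 P).2 ⊥).2
  intro h
  refine ⟨inferInstance, fun p hp => ?_⟩
  let L := Localization.AtPrime p
  let E := EGA4.Cpl L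
  haveI : IsNoetherianRing L := IsLocalization.isNoetherianRing p.primeCompl _ inferInstance
  haveI : IsNoetherianRing E := RegLocal.isNoetherianRing_completion L _
  haveI : Module.Flat L E := AdicCompletion.flat_of_isNoetherian _
  refine RegHomLib.isRegularHom_of_fields (fun q _ => RegDesc.isNoetherianRing_tensor_essFiniteType L _ _)
    fun K _ _ hqf hN => ?_
  letI : Algebra R K := ((algebraMap L K).comp (algebraMap R L)).toAlgebra
  haveI : IsScalarTower R L K := IsScalarTower.of_algebraMap_eq fun _ => rfl
  let q := RingHom.ker (algebraMap R K)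
  haveI : q.IsPrime := RingHom.ker_isPrime _
  have hqp : q ≤ p := fun x hx => by
    by_contra hxp
    have hu := (IsLocalization.map_units L (⟨x, hxp⟩ : p.primeCompl)).map (algebraMap L K)
    rw [← IsScalarTower.algebraMap_apply, RingHom.mem_ker.1 hx] at hu
    exact not_isUnit_zero hu
  let P := p.map (Ideal.Quotient.mk q)
  haveI : P.IsPrime := Ideal.map_isPrime_of_surjective Ideal.Quotient.mk_surjective (by rwa [Ideal.mk_ker])
  have hPp : p = P.comap (algebraMap R (R ⧸ q)) := by
    show p = P.comap (Ideal.Quotient.mk q)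
    rw [Ideal.comap_map_of_surjective _ Ideal.Quotient.mk_surjective, ← RingHom.ker_eq_comap_bot, Ideal.mk_ker,
      sup_eq_left.2 hqp]
  obtain ⟨e⟩ : Nonempty ((R ⧸ q) ⊗[R] E ≃ₐ[R ⧸ q] EGA4.Cpl (Localization.AtPrime P)) :=
    (show ∀ (I : Ideal R) (_ : I.IsPrime), I = P.comap (algebraMap R (R ⧸ q)) →
        Nonempty ((R ⧸ q) ⊗[R] EGA4.Cpl (Localization.AtPrime I) ≃ₐ[R ⧸ q] EGA4.Cpl (Localization.AtPrime P)) from
      fun I _ hI => by
        subst hI
        exact GRingCompleteLib.exists_quotCompl R (R ⧸ q) Ideal.Quotient.mk_surjective P) p hp hPp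
  let D := Localization.AtPrime P
  letI : Algebra (R ⧸ q) K := (RingHom.kerLift (algebraMap R K)).toAlgebra
  haveI : IsScalarTower R (R ⧸ q) K := IsScalarTower.of_algebraMap_eq fun _ => rfl
  have hinj : Function.Injective (algebraMap (R ⧸ q) K) := RingHom.kerLift_injective _
  have hunit : ∀ y : P.primeCompl, IsUnit (algebraMap (R ⧸ q) K y) := fun y =>
    isUnit_iff_ne_zero.2 fun h0 => y.2 (by rw [show (y : R ⧸ q) = 0 from hinj (h0.trans (map_zero _).symm)]; exact zero_mem _)
  letI : Algebra D K := (IsLocalization.lift (M := P.primeCompl) (S := D) hunit).toAlgebra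
  haveI : IsScalarTower (R ⧸ q) D K := IsScalarTower.of_algebraMap_eq fun a => (IsLocalization.lift_eq hunit a).symm
  haveI : IsScalarTower R D K := IsScalarTower.of_algebraMap_eq fun a => by
    rw [IsScalarTower.algebraMap_apply R (R ⧸ q) D, ← IsScalarTower.algebraMap_apply (R ⧸ q) D K,
      ← IsScalarTower.algebraMap_apply R (R ⧸ q) K]
  have hbot : RingHom.ker (algebraMap D K) = ⊥ := by
    refine (RingHom.injective_iff_ker_eq_bot _).1 ?_
    exact (IsLocalization.lift_injective_iff hunit).2 fun a b => ⟨fun hab => congrArg _ (by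
      have hle : P.primeCompl ≤ nonZeroDivisors (R ⧸ q) := fun y hy => mem_nonZeroDivisors_of_ne_zero fun h0 => hy (h0 ▸ zero_mem _)
      exact IsLocalization.injective D hle hab), fun hab => congrArg _ (hinj hab)⟩
  let kD := (⊥ : Ideal D).ResidueField
  letI : Algebra kD K := (Ideal.ResidueField.lift ⊥ (algebraMap D K) hbot.ge (fun x hx => by
    show IsUnit (algebraMap D K x)
    exact isUnit_iff_ne_zero.2 fun h0 => hx (by rw [← hbot]; exact h0))).toAlgebra
  haveI : IsScalarTower D kD K := IsScalarTower.of_algebraMap_eq fun r =>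
    (Ideal.ResidueField.lift_algebraMap ⊥ (algebraMap D K) _ _ r).symm
  haveI : IsScalarTower R kD K := IsScalarTower.of_algebraMap_eq fun r => by
    rw [IsScalarTower.algebraMap_apply R D kD, ← IsScalarTower.algebraMap_apply D kD K,
      ← IsScalarTower.algebraMap_apply R D K]
  haveI : Algebra.QuasiFinite R L := Algebra.QuasiFinite.of_isLocalization p.primeCompl
  haveI : Algebra.QuasiFinite R K := Algebra.QuasiFinite.trans R L K
  haveI : Algebra.QuasiFinite kD K := Algebra.QuasiFinite.of_restrictScalars R kD K
  haveI : Module.Finite kD K := Module.Finite.of_quasiFinite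
  haveI := h q P K inferInstance
  haveI := IsLocalization.tensorProduct_compatibleSMul p.primeCompl L K E
  haveI := IsLocalization.tensorProduct_compatibleSMul P.primeCompl D K (EGA4.Cpl D)
  exact IsRegularRing.of_ringEquiv (R := K ⊗[kD] ((⊥ : Ideal D).Fiber (EGA4.Cpl D)))
    ((Algebra.TensorProduct.cancelBaseChange D kD K K (EGA4.Cpl D)).toRingEquiv.trans
      ((Algebra.TensorProduct.equivOfCompatibleSMul D (R ⧸ q) K K (EGA4.Cpl D)).symm.toRingEquiv.trans
        (((Algebra.TensorProduct.congr (AlgEquiv.refl : K ≃ₐ[K] K) e.symm).toRingEquiv.trans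
          (Algebra.TensorProduct.cancelBaseChange R (R ⧸ q) K K E).toRingEquiv).trans
            (Algebra.TensorProduct.equivOfCompatibleSMul L R K K E).toRingEquiv)))

end Groth.Agent.S9257
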