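import Groth.Statements.S9258
import Mathlib
import Groth.Agent.FSmoothAdicLib.Lift
import Groth.Agent.SymGrLib.Extension
import Groth.Agent.FiniteCompleteLib.Basic

set_option autoImplicit false
universe u
open CAlg

namespace Groth.Agent.S9258
theorem lift_id {A B C : Type u} [CommRing A] [CommRing B] [CommRing C] [Algebra A B] [Algebra A C]
    [IsNoetherianRing B] [IsLocalRing B] (hfs : CAlgX.IsAdicFormallySmooth A B (IsLocalRing.maximalIdeal B))
    (π : C →ₐ[A] B) (hπ : Function.Surjective π) (c : Ideal C) [IsAdicComplete c C]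
    (hJ : (RingHom.ker π) ^ 2 ≤ c) (hle : c.map π.toRingHom ≤ IsLocalRing.maximalIdeal B)
    (hge : ∀ x ∈ IsLocalRing.maximalIdeal B, ∃ y ∈ c, π y = x) :
    ∃ v : B →ₐ[A] C, ∀ b, π (v b) = b := by
  let e := Ideal.quotientKerAlgEquivOfSurjective (f := π) hπ
  haveI : IsNoetherianRing (C ⧸ RingHom.ker π) := isNoetherianRing_of_ringEquiv B e.symm.toRingEquiv
  haveI : IsLocalRing (C ⧸ RingHom.ker π) := e.symm.toRingEquiv.isLocalRing
  haveI : IsHausdorff (c.map (Ideal.Quotient.mk (RingHom.ker π))) (C ⧸ RingHom.ker π) :=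
    IsHausdorff.of_isLocalRing _ _ fun htop => (IsLocalRing.maximalIdeal.isMaximal B).ne_top (top_le_iff.1 (by
      have h2 := congrArg (Ideal.map e.toRingEquiv.toRingHom) htop
      rw [Ideal.map_map, Ideal.map_top] at h2
      exact h2.symm.trans_le hle))
  obtain ⟨v, -, hv⟩ := Groth.Agent.FSmoothAdicLib.exists_lift_complete ⊥ (IsLocalRing.maximalIdeal B) c
    (Groth.Agent.SymGrLib.isFormallySmoothAdic_bot hfs) ⟨1, by simp⟩ (RingHom.ker π) ⟨2, hJ⟩
    e.symm.toAlgHom ⟨1, by
      rw [pow_one, Ideal.map_le_iff_le_comap]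
      intro x hx
      obtain ⟨y, hy, rfl⟩ := hge x hx
      rw [Ideal.mem_comap, show e.symm.toAlgHom.toRingHom (π y) = Ideal.Quotient.mk _ y from e.symm_apply_apply (Ideal.Quotient.mk _ y)]
      exact Ideal.mem_map_of_mem _ hy⟩
  refine ⟨v, fun b => ?_⟩
  have h := congrArg e (AlgHom.congr_fun hv b)
  change e (Ideal.Quotient.mk _ (v b)) = e (e.symm b) at h
  rw [AlgEquiv.apply_symm_apply] at h
  exact h



/-- Suppose A → B is a local map of Noetherian local rings, B is complete, and A → B is formally smooth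
for the adic topology of the maximal ideal of B. Then each derivation D of A extends to a derivation
D' of B, in the sense that D' restricted along A → B equals D followed by A → B. -/
theorem result (A B : Type u) [CommRing A]
    [CommRing B] [IsLocalRing A] [IsLocalRing B] [IsNoetherianRing A] [IsNoetherianRing B]
    [Algebra A B] [IsLocalHom (algebraMap A B)]
    [IsAdicComplete (IsLocalRing.maximalIdeal B) B]
    (hfs : CAlgX.IsAdicFormallySmooth A B (IsLocalRing.maximalIdeal B)) (D : Derivation ℤ A A) :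
    ∃ D' : Derivation ℤ B B, ∀ a : A, D' (algebraMap A B a) = algebraMap A B (D a) := by
  let φ := algebraMap A B
  let ρ : A →+* (TrivSqZeroExt B B) :=
    { toFun := fun a => TrivSqZeroExt.inl (φ a) + TrivSqZeroExt.inr (φ (D a))
      map_one' := TrivSqZeroExt.ext (by simp [-DualNumber.inr_eq_smul_eps]) (by simp [-DualNumber.inr_eq_smul_eps])
      map_mul' := fun x y => TrivSqZeroExt.ext (by simp) (by simp [-DualNumber.inr_eq_smul_eps, mul_comm, add_comm])
      map_zero' := TrivSqZeroExt.ext (by simp [-DualNumber.inr_eq_smul_eps]) (by simp [-DualNumber.inr_eq_smul_eps])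
      map_add' := fun x y => TrivSqZeroExt.ext (by simp [-DualNumber.inr_eq_smul_eps]) (by simp [-DualNumber.inr_eq_smul_eps]) }
  letI algC : Algebra A (TrivSqZeroExt B B) := ρ.toAlgebra
  let π : (TrivSqZeroExt B B) →ₐ[A] B :=
    { (TrivSqZeroExt.fstHom B B B).toRingHom with
      commutes' := fun a => by
        show (ρ a).fst = φ a
        simp [-DualNumber.inr_eq_smul_eps, ρ, φ] }
  have hπ : Function.Surjective π := fun b => ⟨TrivSqZeroExt.inl b, rfl⟩
  let 𝔫 := IsLocalRing.maximalIdeal B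
  let 𝔠 : Ideal (TrivSqZeroExt B B) := 𝔫.map (algebraMap B (TrivSqZeroExt B B))
  have : Module.Finite B (TrivSqZeroExt B B) :=
    Module.Finite.of_surjective (M := B × B)
      (⟨⟨fun p => TrivSqZeroExt.inl p.1 + TrivSqZeroExt.inr p.2,
        fun p q => TrivSqZeroExt.ext (by simp [-DualNumber.inr_eq_smul_eps]) (by simp [-DualNumber.inr_eq_smul_eps])⟩,
        fun b p => TrivSqZeroExt.ext (by simp [-DualNumber.inr_eq_smul_eps]) (by simp [-DualNumber.inr_eq_smul_eps])⟩ : B × B →ₗ[B] (TrivSqZeroExt B B))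
      fun z => ⟨(z.fst, z.snd), TrivSqZeroExt.ext (by simp [-DualNumber.inr_eq_smul_eps]) (by simp [-DualNumber.inr_eq_smul_eps])⟩
  have : IsAdicComplete 𝔫 (TrivSqZeroExt B B) := FiniteCompleteLib.isAdicComplete_of_finite 𝔫 (TrivSqZeroExt B B)
  have : IsAdicComplete 𝔠 (TrivSqZeroExt B B) := (IsAdicComplete.map_algebraMap_iff _ _).mpr inferInstance
  obtain ⟨v, hv0⟩ := lift_id hfs π hπ 𝔠
    (by
      rw [pow_two, Ideal.mul_le]
      intro r hr s hs
      have h1 : r.fst = 0 := RingHom.mem_ker.1 hr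
      have h2 : s.fst = 0 := RingHom.mem_ker.1 hs
      rw [show r * s = 0 from TrivSqZeroExt.ext (by simp [h1]) (by simp [h1, h2])]
      exact 𝔠.zero_mem)
    (by rw [Ideal.map_le_iff_le_comap, Ideal.map_le_iff_le_comap]; exact fun x hx => hx)
    (fun x hx => ⟨algebraMap B (TrivSqZeroExt B B) x, Ideal.mem_map_of_mem _ hx, rfl⟩)
  have hfst : ∀ b, (v b).fst = b := hv0
  let d : B →+ B := AddMonoidHom.mk' (fun b => (v b).snd) fun x y => by simp
  refine ⟨Derivation.mk' d.toIntLinearMap fun x y => ?_, fun a => ?_⟩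
  · show (v (x * y)).snd = x • (v y).snd + y • (v x).snd
    rw [map_mul, TrivSqZeroExt.snd_mul, hfst, hfst, op_smul_eq_smul]
  · show (v (algebraMap A B a)).snd = _
    rw [v.commutes]
    show (ρ a).snd = _
    simp [-DualNumber.inr_eq_smul_eps, ρ, φ]

end Groth.Agent.S9258
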