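import Groth.Statements.S9260
import Mathlib

set_option autoImplicit false
universe u
open CAlg

namespace Groth.Agent.S9260

/-- Suppose a finite group G with n elements acts on a ring R by ring automorphisms, A → R is a ring map
compatible with the action whose image contains the invariants (so that A maps onto R^G), J is an
ideal of A, and x lies in JR. Then ∏_σ (T - σ(x)) is the image of a monic polynomial over A of
degree at most n whose coefficients below degree n all lie in J. (The published statement takes A =
R^G and a polynomial of degree n; this row allows any such A mapping onto R^G and asks degree at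
most n, which is the same when A is nonzero.) -/
theorem result (A R G : Type u) [CommRing A]
    [CommRing R] [Algebra A R] [Group G] [Fintype G] [MulSemiringAction G R] [SMulCommClass G A R]
    [Algebra.IsInvariant A R G] (J : Ideal A) (x : R) (hx : x ∈ Ideal.map (algebraMap A R) J) :
    ∃ P : Polynomial A, P.Monic ∧ P.natDegree ≤ Fintype.card G ∧
      (∀ i : ℕ, i < Fintype.card G → P.coeff i ∈ J) ∧
      Polynomial.map (algebraMap A R) P = ∏ σ : G, (Polynomial.X - Polynomial.C (σ • x)) := by
  classical
  let φ : A →+* R := algebraMap A R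
  have hx' : x ∈ Submodule.span R (φ '' (J : Set A)) := hx
  obtain ⟨m, r, g, rfl⟩ := Submodule.mem_span_set'.mp hx'
  choose a ha hag using fun i : Fin m => (g i).2
  let act : G → MvPolynomial (Fin m) R →+* MvPolynomial (Fin m) R := fun σ => MvPolynomial.map (MulSemiringAction.toRingHom G R σ)
  let xY : MvPolynomial (Fin m) R := ∑ i, MvPolynomial.C (r i) * MvPolynomial.X i
  let Q : Polynomial (MvPolynomial (Fin m) R) := ∏ σ : G, (Polynomial.X - Polynomial.C (act σ xY))
  set n := Fintype.card G with hn
  have hact : ∀ σ τ, act σ (act τ xY) = act (σ * τ) xY := fun σ τ => by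
    ext d
    simp [act, MvPolynomial.coeff_map, mul_smul]
  have hinv : ∀ τ, Q.map (act τ) = Q := fun τ => by
    simp only [Q, Polynomial.map_prod, Polynomial.map_sub, Polynomial.map_X, Polynomial.map_C, hact]
    exact Fintype.prod_equiv (Equiv.mulLeft τ) _ _ fun σ => rfl
  have hdeg : Q.natDegree ≤ n := by
    refine (Polynomial.natDegree_prod_le _ _).trans ?_
    refine (Finset.sum_le_sum fun σ _ => Polynomial.natDegree_X_sub_C_le _).trans ?_
    simp [hn]
  have hlift : ∀ i, ∃ q : MvPolynomial (Fin m) A, MvPolynomial.map φ q = Q.coeff i ∧ (i < n → MvPolynomial.constantCoeff q = 0) := by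
    intro i
    have hc : ∀ d, ∃ c : A, φ c = (Q.coeff i).coeff d := fun d => by
      refine Algebra.IsInvariant.isInvariant (A := A) (B := R) (G := G) _ fun τ => ?_
      conv_rhs => rw [← hinv τ, Polynomial.coeff_map, MvPolynomial.coeff_map]
      rfl
    choose c hc using hc
    refine ⟨∑ d ∈ (Q.coeff i).support, MvPolynomial.monomial d (if i < n ∧ d = 0 then 0 else c d), ?_, fun hi => ?_⟩
    · ext d
      rw [MvPolynomial.coeff_map, MvPolynomial.coeff_sum]
      simp only [MvPolynomial.coeff_monomial, Finset.sum_ite_eq', MvPolynomial.mem_support_iff]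
      by_cases hd : (Q.coeff i).coeff d = 0
      · simp [hd]
      · rw [if_pos hd]
        have hz : i < n → d = 0 → (Q.coeff i).coeff d = 0 := fun hi h0 => by
          subst h0
          rw [← MvPolynomial.constantCoeff_eq, ← Polynomial.coeff_map]
          simp only [Q, Polynomial.map_prod, Polynomial.map_sub, Polynomial.map_X, Polynomial.map_C]
          have h0 : ∀ σ, MvPolynomial.constantCoeff (act σ xY) = 0 := fun σ => by simp [act, xY]
          simp only [h0, map_zero, sub_zero, Finset.prod_const, Finset.card_univ, Polynomial.coeff_X_pow]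
          rw [if_neg]
          omega
        rw [if_neg fun h => hd (hz h.1 h.2)]
        exact hc d
    · rw [MvPolynomial.constantCoeff_eq, MvPolynomial.coeff_sum]
      refine Finset.sum_eq_zero fun d _ => ?_
      rw [MvPolynomial.coeff_monomial]
      split_ifs with h1 h2
      · rfl
      · exact absurd ⟨hi, h1⟩ h2
      · rfl
  choose q hq hq0 using hlift
  let P : Polynomial A := Polynomial.X ^ n + ∑ i : Fin n, Polynomial.C (MvPolynomial.aeval a (q i)) * Polynomial.X ^ (i : ℕ)
  have hdlt : (∑ i : Fin n, Polynomial.C (MvPolynomial.aeval a (q i)) * Polynomial.X ^ (i : ℕ)).degree < (n : WithBot ℕ) := by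
    refine lt_of_le_of_lt (Polynomial.degree_sum_le _ _) ((Finset.sup_lt_iff (WithBot.bot_lt_coe n)).mpr fun i _ => ?_)
    exact lt_of_le_of_lt (Polynomial.degree_C_mul_X_pow_le _ _) (WithBot.coe_lt_coe.mpr i.2)
  have hPc : ∀ i, i < n → P.coeff i = MvPolynomial.aeval a (q i) := fun i hi => by
    simp only [P, Polynomial.coeff_add, Polynomial.coeff_X_pow, hi.ne, if_false, zero_add, Polynomial.finsetSum_coeff,
      Polynomial.coeff_C_mul, mul_ite, mul_one, mul_zero]
    exact (Finset.sum_eq_single (⟨i, hi⟩ : Fin n) (fun b _ hb => if_neg fun h => hb (Fin.ext h.symm)) (by simp)).trans (by simp)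
  have hPmonic : P.Monic := Polynomial.monic_X_pow_add hdlt
  have hPdeg : P.natDegree ≤ n := Polynomial.natDegree_le_iff_degree_le.mpr ((Polynomial.degree_add_le _ _).trans (max_le (Polynomial.degree_X_pow_le n) hdlt.le))
  refine ⟨P, hPmonic, hPdeg, fun i hi => ?_, ?_⟩
  · rw [hPc i hi, (q i).as_sum, map_sum]
    refine J.sum_mem fun d hd => ?_
    rw [MvPolynomial.aeval_monomial]
    refine J.mul_mem_left _ ?_
    have hd0 : d ≠ 0 := fun h => (MvPolynomial.mem_support_iff.mp hd) (h ▸ hq0 i hi)
    obtain ⟨k, hk⟩ := Finsupp.support_nonempty_iff.mpr hd0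
    rw [Finsupp.prod, ← Finset.mul_prod_erase _ _ hk]
    exact J.mul_mem_right _ (J.pow_mem_of_mem (ha k) _ (Nat.pos_of_ne_zero (Finsupp.mem_support_iff.mp hk)))
  · -- compare after specialising the variables
    let ev : MvPolynomial (Fin m) R →+* R := (MvPolynomial.aeval (R := R) (fun i => φ (a i))).toRingHom
    have hev : ∀ i, ev (Q.coeff i) = φ (MvPolynomial.aeval a (q i)) := fun i => by
      rw [← hq i]
      show MvPolynomial.aeval (fun i => φ (a i)) (MvPolynomial.map φ (q i)) = φ _
      induction q i using MvPolynomial.induction_on with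
      | C c => simp [φ]
      | add u v hu hv => simp only [map_add, hu, hv]
      | mul_X u v hu => simp only [map_mul, hu, MvPolynomial.map_X, MvPolynomial.aeval_X]
    have hQx : Q.map ev = ∏ σ : G, (Polynomial.X - Polynomial.C (σ • ∑ i, r i • (g i : R))) := by
      simp only [Q, Polynomial.map_prod, Polynomial.map_sub, Polynomial.map_X, Polynomial.map_C]
      refine Finset.prod_congr rfl fun σ _ => ?_
      congr 2
      simp only [ev, act, xY, map_sum, map_mul, MvPolynomial.map_C, MvPolynomial.map_X, Finset.smul_sum, smul_eq_mul, smul_mul']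
      refine Finset.sum_congr rfl fun i _ => ?_
      simp [φ, ← hag i, smul_algebraMap]
    rw [← hQx]
    ext i
    rw [Polynomial.coeff_map, Polynomial.coeff_map]
    rcases lt_trichotomy i n with hi | rfl | hi
    · rw [hPc i hi, hev]
    · have h1 : P.coeff n = 1 := by
        rcases subsingleton_or_nontrivial A with hA | hA
        · exact Subsingleton.elim _ _
        have : P.natDegree = n := Polynomial.natDegree_eq_of_degree_eq_some (by
          rw [Polynomial.degree_add_eq_left_of_degree_lt (by rwa [Polynomial.degree_X_pow]), Polynomial.degree_X_pow])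
        simpa [this] using hPmonic.coeff_natDegree
      have h2 : (Q.map ev).coeff n = 1 := by
        rw [hQx]
        rcases subsingleton_or_nontrivial R with hR | hR
        · exact Subsingleton.elim _ _
        have := (Polynomial.monic_prod_of_monic (Finset.univ : Finset G) (fun σ : G => Polynomial.X - Polynomial.C (σ • ∑ i, r i • (g i : R))) (fun σ _ => Polynomial.monic_X_sub_C _)).coeff_natDegree
        rwa [Polynomial.natDegree_prod_of_monic (Finset.univ : Finset G) (fun σ : G => Polynomial.X - Polynomial.C (σ • ∑ i, r i • (g i : R))) (fun σ _ => Polynomial.monic_X_sub_C _), Finset.sum_congr rfl (fun σ _ => Polynomial.natDegree_X_sub_C _),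
          Finset.sum_const, Finset.card_univ, smul_eq_mul, mul_one] at this
      rw [Polynomial.coeff_map] at h2
      rw [h1, map_one, h2]
    · rw [Polynomial.coeff_eq_zero_of_natDegree_lt (lt_of_le_of_lt hPdeg hi), Polynomial.coeff_eq_zero_of_natDegree_lt (lt_of_le_of_lt hdeg hi), map_zero, map_zero]
end Groth.Agent.S9260
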