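import Groth.Statements.S9275
import Mathlib
-- import your own Groth.Agent.* helpers here

set_option autoImplicit false
universe u
open EtAlg

namespace Groth.Agent.S9275

/-- Let A → B be a ring map and J an ideal of B such that A → B is étale at every prime of V(J), in the
sense that every prime q ⊇ J has some h ∉ q with A → B_h étale. Then there is g ∈ B mapping to a
unit of B/J such that A → B_g is étale. -/
theorem result (A B : Type u) [CommRing A] [CommRing B]
    [Algebra A B] (J : Ideal B)
    (h : ∀ (q : Ideal B) [q.IsPrime], J ≤ q → ∃ h : B, h ∉ q ∧ Algebra.Etale A (Localization.Away h)) :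
    ∃ g : B, IsUnit (Ideal.Quotient.mk J g) ∧ Algebra.Etale A (Localization.Away g) := by
  classical
  let K : Ideal B := Ideal.span {h | Algebra.Etale A (Localization.Away h)}
  have htop : K ⊔ J = ⊤ := by
    by_contra hne
    obtain ⟨m, hm, hle⟩ := Ideal.exists_le_maximal _ hne
    obtain ⟨x, hx, hxe⟩ := h m (le_sup_right.trans hle)
    exact hx (hle (Ideal.mem_sup_left (Ideal.subset_span hxe)))
  obtain ⟨g, hg, c, hc, hgc⟩ := Submodule.mem_sup.1 ((Ideal.eq_top_iff_one _).1 htop)
  refine ⟨g, ?_, ?_⟩
  · have : Ideal.Quotient.mk J g = 1 := by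
      rw [← map_one (Ideal.Quotient.mk J), Ideal.Quotient.eq, ← hgc]
      simpa using J.neg_mem hc
    rw [this]
    exact isUnit_one
  let Bg := Localization.Away g
  rw [← RingHom.etale_algebraMap]
  refine RingHom.Etale.ofLocalizationSpanTarget (algebraMap A Bg)
    ((algebraMap B Bg) '' {h | Algebra.Etale A (Localization.Away h)}) ?_ ?_
  · rw [← Ideal.map_span]
    exact Ideal.eq_top_of_isUnit_mem _ (Ideal.mem_map_of_mem _ hg)
      (IsLocalization.Away.algebraMap_isUnit g)
  · rintro ⟨_, x, hx, rfl⟩
    haveI : Algebra.Etale A (Localization.Away x) := hx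
    rw [← IsScalarTower.algebraMap_eq, RingHom.etale_algebraMap]
    haveI : IsLocalization.Away (g * x) (Localization.Away (algebraMap B Bg x)) :=
      IsLocalization.Away.mul' Bg (Localization.Away (algebraMap B Bg x)) g x
    haveI : IsLocalization.Away (g * x) (Localization.Away (algebraMap B (Localization.Away x) g)) :=
      IsLocalization.Away.mul (Localization.Away x) (Localization.Away (algebraMap B (Localization.Away x) g)) x g
    let e : Localization.Away (algebraMap B (Localization.Away x) g) ≃ₐ[B]
        Localization.Away (algebraMap B Bg x) := IsLocalization.algEquiv (Submonoid.powers (g * x)) _ _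
    exact Algebra.Etale.of_equiv (e.restrictScalars A)

end Groth.Agent.S9275
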