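import Groth.Statements.S9279
import Groth.Agent.HensPunctLib.Basic

set_option autoImplicit false
set_option linter.style.haveILetI false
universe u
open Brnch

namespace Groth.Agent.S9279

/-- For a Noetherian local ring A with henselization S and completion A^ at its maximal ideal, the
spectrum of A^ with its closed point removed is preconnected exactly when the spectrum of S with its
closed point removed is (the two sets are empty together, namely when A has dimension zero). Stated
as: the complement of the closed point in Spec A^ is preconnected iff the complement of the closed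
point in Spec S is. -/
theorem result (A S : Type u) [CommRing A]
    [IsLocalRing A] [IsNoetherianRing A] [CommRing S] [IsLocalRing S] [Algebra A S]
    [IsLocalHom (algebraMap A S)] [Hensel.IsHenselization A S] :
    IsPreconnected
        ({IsLocalRing.closedPoint (AdicCompletion (IsLocalRing.maximalIdeal A) A)}ᶜ :
          Set (PrimeSpectrum (AdicCompletion (IsLocalRing.maximalIdeal A) A))) ↔
      IsPreconnected ({IsLocalRing.closedPoint S}ᶜ : Set (PrimeSpectrum S)) := by
  obtain ⟨ψ, hψ⟩ := HensPunctLib.exists_toCompletion A S
  have hpre := HensPunctLib.preimage_punctured A S ψ hψ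
  letI := ψ.toAlgebra
  haveI : Module.FaithfullyFlat S (AdicCompletion (IsLocalRing.maximalIdeal A) A) :=
    HensBranch.faithfullyFlat_toCompletion A S ψ hψ
  have hsurj : Function.Surjective (PrimeSpectrum.comap ψ) :=
    PrimeSpectrum.comap_surjective_of_faithfullyFlat
  rw [← hpre]
  refine ⟨fun h => ?_, fun h => ?_⟩
  · have := h.image (PrimeSpectrum.comap ψ) (PrimeSpectrum.continuous_comap ψ).continuousOn
    rwa [Set.image_preimage_eq _ hsurj] at this
  · rw [isPreconnected_iff_preconnectedSpace, preconnectedSpace_iff_clopen] at h ⊢
    intro W hW
    obtain ⟨V, hV, hVW⟩ := HensPunctLib.exists_clopen_completion A S ψ hψ W hW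
    rcases h V hV with rfl | rfl
    · exact Or.inl (by rw [← hVW, Set.preimage_empty])
    · exact Or.inr (by rw [← hVW, Set.preimage_univ])

end Groth.Agent.S9279
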