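import Groth.Statements.S9280
import Groth.Agent.RegLocLib.Dim1
-- import your own Groth.Agent.* helpers here

set_option autoImplicit false
universe u
open EGA4

namespace Groth.Agent.S9280

/-- A Nagata ring of dimension 1 is J-2, that is, every finite type algebra over it has open regular
locus. -/
theorem result (R : Type u) [CommRing R] (hR : CAlg.IsNagata R)
    (hdim : ringKrullDim R = 1) : EGA4.IsJ2 R := by
  haveI := hR.1
  refine RegLocLib.isJ2_of_finite_domains fun A' _ _ _ hfin => ?_
  haveI := hfin
  let p := RingHom.ker (algebraMap R A')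
  haveI : p.IsPrime := RingHom.ker_isPrime _
  let A1 := R ⧸ p
  letI : Algebra A1 A' := (RingHom.kerLift (algebraMap R A')).toAlgebra
  haveI : IsScalarTower R A1 A' := .of_algebraMap_eq fun _ => rfl
  haveI : Module.Finite A1 A' := Module.Finite.of_restrictScalars_finite R A1 A'
  have hinj : Function.Injective (algebraMap A1 A') := RingHom.kerLift_injective _
  let K := FractionRing A1
  let L := FractionRing A'
  haveI : FaithfulSMul A1 A' := (faithfulSMul_iff_algebraMap_injective _ _).2 hinj
  haveI : FaithfulSMul A1 L := (faithfulSMul_iff_algebraMap_injective A1 L).2 (by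
    rw [IsScalarTower.algebraMap_eq A1 A' L, RingHom.coe_comp]
    exact (IsFractionRing.injective A' L).comp hinj)
  letI : Algebra K L := FractionRing.liftAlgebra A1 L
  haveI : FiniteDimensional K L :=
    Module.Finite.of_isLocalization A1 A' (nonZeroDivisors A1) (Rₚ := K) (Sₚ := L)
  haveI hC : Module.Finite A1 (integralClosure A1 L) := hR.2 p L inferInstance
  let C := integralClosure A1 L
  have hmem : ∀ x : A', algebraMap A' L x ∈ C := fun x =>
    (Algebra.IsIntegral.isIntegral (R := A1) x).algebraMap
  letI : Algebra A' C := ((algebraMap A' L).codRestrict C hmem).toAlgebra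
  haveI : IsScalarTower A1 A' C := .of_algebraMap_eq fun x => Subtype.ext
    (IsScalarTower.algebraMap_apply A1 A' L x)
  haveI : Module.Finite A' C := Module.Finite.of_restrictScalars_finite A1 A' C
  haveI : IsNoetherianRing C := Algebra.FiniteType.isNoetherianRing A1 C
  haveI : IsNoetherianRing A' := Algebra.FiniteType.isNoetherianRing R A'
  haveI : IsIntegrallyClosed C := integralClosure.isIntegrallyClosedOfFiniteExtension K
  letI : Algebra R C := ((algebraMap A1 C).comp (Ideal.Quotient.mk p)).toAlgebra
  haveI : IsScalarTower R A1 C := .of_algebraMap_eq fun _ => rfl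
  haveI : Module.Finite R C := Module.Finite.trans A1 C
  haveI : Ring.DimensionLEOne C :=
    ⟨fun {Q} hQ0 hQ => RegLocLib.isMaximal_of_ne_bot (A := R) hdim.le Q hQ0⟩
  haveI : IsDedekindDomain C := { }
  exact RegLocLib.exists_open_of_subring (R := A') (S := C)
    (fun u v huv => IsFractionRing.injective A' L (congrArg (fun w : C => (w : L)) huv))
    ⟨Set.univ, isOpen_univ, Set.univ_nonempty, (RegLocLib.regLocus_eq_univ_of_isRegularRing C).ge⟩

end Groth.Agent.S9280
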