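import Mathlib
import Groth.Agent.AdicFS.H1Inj
import Groth.Statements.S9282

set_option autoImplicit false
universe u
open CAlg

namespace Groth.Agent.S9282

/-- Let A → B be a local ring map between Noetherian local rings that is formally smooth for the adic
topology of the maximal ideal of B, and write K for the residue field of B. In the Jacobi–Zariski
sequence attached to A → B → K, the map from H_1(NL_{K/A}) to H_1(NL_{K/B}), which is m_B/m_B^2, is
injective; the remaining terms are exact in general, so that sequence starts with a zero. -/
theorem result (A B : Type u) [CommRing A]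
    [CommRing B] [IsLocalRing A] [IsLocalRing B] [IsNoetherianRing A] [IsNoetherianRing B]
    [Algebra A B] [IsLocalHom (algebraMap A B)]
    (hfs : CAlgX.IsAdicFormallySmooth A B (IsLocalRing.maximalIdeal B)) :
    Function.Injective
      (Algebra.H1Cotangent.map A B (IsLocalRing.ResidueField B) (IsLocalRing.ResidueField B)) := by
  classical
  intro c₁ c₂ hc
  have key : ∀ c : Algebra.H1Cotangent A (IsLocalRing.ResidueField B),
      Algebra.H1Cotangent.map A B (IsLocalRing.ResidueField B) (IsLocalRing.ResidueField B) c = 0 →
        c = 0 := by
    intro c hc0
    let K := IsLocalRing.ResidueField B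
    let P := (Algebra.Generators.self A K).toExtension
    let Q := (Algebra.Generators.self B K).toExtension
    let f : P.Hom Q :=
      (Algebra.Generators.defaultHom (Algebra.Generators.self A K)
        (Algebra.Generators.self B K)).toExtensionHom
    obtain ⟨x, hx⟩ := Algebra.Extension.Cotangent.mk_surjective (P := P) c.1
    have h1 : Algebra.Extension.Cotangent.map f c.1 = 0 := congrArg Subtype.val hc0
    rw [← hx, Algebra.Extension.Cotangent.map_mk, Algebra.Extension.Cotangent.mk_eq_zero_iff] at h1
    apply Subtype.ext
    rw [Algebra.Extension.H1Cotangent.val_zero, ← hx, Algebra.Extension.Cotangent.mk_eq_zero_iff]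
    exact Groth.Agent.AdicFS.mem_ker_sq_of_map A B hfs x.1 x.2 h1
  exact sub_eq_zero.mp (key _ (by rw [map_sub, hc, sub_self]))

end Groth.Agent.S9282
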