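import Groth.Statements.S9283
import Mathlib

set_option autoImplicit false
universe u
open CAlg

namespace Groth.Agent.S9283

/-- Let R be an auto-associated ring, that is, a local ring whose maximal ideal is weakly associated to
R: some nonzero x ∈ R is killed by a power of every element of the maximal ideal. Then every proper
finitely generated ideal of R has a nonzero annihilator. -/
theorem result (R : Type u) [CommRing R] [IsLocalRing R]
    (h : ∃ x : R, x ≠ 0 ∧ ∀ f ∈ IsLocalRing.maximalIdeal R, ∃ n : ℕ, f ^ n * x = 0)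
    (I : Ideal R) (hI : I.FG) (hI' : I ≠ ⊤) : I.annihilator ≠ ⊥ := by
  obtain ⟨x, hx, hx'⟩ := h
  obtain ⟨s, rfl⟩ := hI
  have key : ∀ t : Finset R, (∀ f ∈ t, f ∈ IsLocalRing.maximalIdeal R) → ∃ y : R, y ≠ 0 ∧ (∀ f ∈ t, f * y = 0) ∧ ∃ c, y = c * x := by
    classical
    intro t ht
    induction t using Finset.induction with
    | empty => exact ⟨x, hx, by simp, 1, (one_mul x).symm⟩
    | insert a t hat ih =>
      obtain ⟨y, hy, hty, c, rfl⟩ := ih (fun f hf => ht f (Finset.mem_insert_of_mem hf))
      obtain ⟨n, hn⟩ := hx' a (ht a (Finset.mem_insert_self a t))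
      have hn' : ∃ k, a ^ k * (c * x) = 0 := ⟨n, by linear_combination c * hn⟩
      have hk := Nat.find_spec hn'
      have hpos : Nat.find hn' ≠ 0 := fun e => hy (by simpa [e] using hk)
      obtain ⟨k, hk'⟩ := Nat.exists_eq_succ_of_ne_zero hpos
      refine ⟨a ^ k * (c * x), Nat.find_min hn' (by omega), ?_, a ^ k * c, (mul_assoc _ _ _).symm⟩
      intro f hf
      rcases Finset.mem_insert.mp hf with rfl | hf
      · rw [hk', pow_succ'] at hk; linear_combination hk
      · linear_combination (a ^ k) * hty f hf
  obtain ⟨y, hy, hty, -⟩ := key s (fun f hf => IsLocalRing.le_maximalIdeal hI' (Ideal.subset_span hf))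
  intro hbot
  apply hy
  rw [← Ideal.mem_bot, ← hbot, Submodule.annihilator_span, Submodule.mem_iInf]
  intro f
  simp [LinearMap.mem_ker, mul_comm y, hty f.1 f.2]

end Groth.Agent.S9283
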