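import Groth.Statements.S9285
import Mathlib

set_option autoImplicit false
universe u
open CAlg

namespace Groth.Agent.S9285

/-- A ring R has the property that every proper finitely generated ideal has a nonzero annihilator if
and only if every injective linear map R → R^n admits a retraction. -/
theorem result (R : Type u) [CommRing R] :
    (∀ I : Ideal R, I.FG → I ≠ ⊤ → I.annihilator ≠ ⊥) ↔
      ∀ (n : ℕ) (u : R →ₗ[R] (Fin n → R)), Function.Injective u →
        ∃ v : (Fin n → R) →ₗ[R] R, v.comp u = LinearMap.id := by
  refine ⟨fun h n u hu => ?_, fun h I hI hne hann => ?_⟩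
  · by_cases htop : Ideal.span (Set.range (u 1)) = ⊤
    · have h1 : (1 : R) ∈ Ideal.span (Set.range (u 1)) := htop ▸ Submodule.mem_top
      obtain ⟨c, hc⟩ := (Submodule.mem_span_range_iff_exists_fun R).mp h1
      refine ⟨Fintype.linearCombination R c, LinearMap.ext_ring ?_⟩
      simp only [LinearMap.comp_apply, Fintype.linearCombination_apply, LinearMap.id_apply]
      refine Eq.trans (Finset.sum_congr rfl fun i _ => ?_) hc
      simp [mul_comm]
    · exfalso
      refine h _ ⟨(Set.finite_range (u 1)).toFinset, by simp⟩ htop ((Submodule.eq_bot_iff _).mpr fun r hr => hu ?_)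
      have hr' : r • u 1 = 0 := funext fun i =>
        Submodule.mem_annihilator.mp hr (u 1 i) (Ideal.subset_span ⟨i, rfl⟩)
      rw [map_zero, ← hr', ← map_smul, smul_eq_mul, mul_one]
  · obtain ⟨n, a, ha⟩ := Submodule.fg_iff_exists_fin_generating_family.mp hI
    obtain ⟨v, hv⟩ := h n (LinearMap.toSpanSingleton R (Fin n → R) a) (by
      rw [injective_iff_map_eq_zero]
      intro r hr
      have hr' : r ∈ I.annihilator := by
        rw [← ha, Submodule.mem_annihilator_span]
        rintro ⟨_, i, rfl⟩
        exact congrFun hr i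
      rwa [hann, Submodule.mem_bot] at hr')
    refine hne ((Ideal.eq_top_iff_one I).mpr ?_)
    have h1 : v a = 1 := by simpa using LinearMap.congr_fun hv 1
    rw [← h1, pi_eq_sum_univ' a, map_sum]
    refine I.sum_mem fun i _ => ?_
    rw [map_smul, smul_eq_mul]
    exact I.mul_mem_right _ (ha ▸ Submodule.subset_span ⟨i, rfl⟩)
end Groth.Agent.S9285
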