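import Groth.Statements.S9286
import Mathlib

set_option autoImplicit false
universe u
open CAlg

namespace Groth.Agent.S9286

/-- Let R be a ring in which every proper finitely generated ideal has a nonzero annihilator. Given an
injective R-linear map u : N → M, where both N and M are finite and projective over R, the quotient
Coker(u) = M/u(N) is again projective as an R-module. -/
theorem result (R : Type u) [CommRing R]
    (hP : (∀ I : Ideal R, I.FG → I ≠ ⊤ → I.annihilator ≠ ⊥))
    (N M : Type u) [AddCommGroup N] [Module R N] [Module.Finite R N] [Module.Projective R N]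
    [AddCommGroup M] [Module R M] [Module.Finite R M] [Module.Projective R M]
    (u : N →ₗ[R] M) (hu : Function.Injective u) :
    Module.Projective R (M ⧸ LinearMap.range u) := by
  classical
  have free : ∀ (n : ℕ) (M : Type u) [AddCommGroup M] [Module R M] [Module.Finite R M] [Module.Projective R M]
      (u : (Fin n → R) →ₗ[R] M), Function.Injective u → Module.Projective R (M ⧸ LinearMap.range u) := by
    intro n
    induction n with
    | zero =>
      intro M _ _ _ _ u _
      have : LinearMap.range u = ⊥ := LinearMap.range_eq_bot.mpr (Subsingleton.elim _ _)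
      exact Module.Projective.of_equiv (Submodule.quotEquivOfEqBot _ this).symm
    | succ n ih =>
      intro M _ _ _ _ u hu
      let v := u (Pi.single 0 1)
      let I : Ideal R := LinearMap.range (LinearMap.applyₗ (R := R) (M₂ := R) v)
      have hI : I.FG := by
        change (LinearMap.range (LinearMap.applyₗ (R := R) (M₂ := R) v)).FG
        rw [LinearMap.range_eq_map]; exact Submodule.FG.map _ Module.Finite.fg_top
      have htop : I = ⊤ := by
        by_contra hne
        obtain ⟨a, ha, ha0⟩ := Submodule.exists_mem_ne_zero_of_ne_bot (hP I hI hne)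
        have hav : a • v = 0 := by
          apply (Module.evalEquiv R M).injective
          rw [map_zero]
          refine LinearMap.ext fun φ => ?_
          simp only [Module.evalEquiv_apply, Module.Dual.eval_apply, map_smul, smul_eq_mul]
          exact Submodule.mem_annihilator.mp ha (φ v) ⟨φ, rfl⟩
        have : a • (Pi.single 0 1 : Fin (n + 1) → R) = 0 := hu (by rw [map_smul, map_zero]; exact hav)
        exact ha0 (by simpa using congrFun this 0)
      obtain ⟨φ, hφ⟩ : (1 : R) ∈ I := htop ▸ Submodule.mem_top
      simp only [LinearMap.applyₗ_apply_apply] at hφ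
      -- split off `v`
      let q : M →ₗ[R] LinearMap.ker φ := (LinearMap.id - φ.smulRight v).codRestrict _ fun x => by
        simp [LinearMap.mem_ker, hφ]
      haveI : Module.Projective R (LinearMap.ker φ) := by
        refine Module.Projective.of_split (LinearMap.ker φ).subtype q (LinearMap.ext fun x => Subtype.ext ?_)
        simp [q, LinearMap.mem_ker.mp x.2]
      haveI : Module.Finite R (LinearMap.ker φ) := Module.Finite.of_surjective q fun x => ⟨x, Subtype.ext (by
        simp [q, LinearMap.mem_ker.mp x.2])⟩
      let emb : (Fin n → R) →ₗ[R] (Fin (n + 1) → R) :=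
        { toFun := fun w => Fin.cases 0 w
          map_add' := fun w w' => funext fun i => by refine Fin.cases ?_ ?_ i <;> simp
          map_smul' := fun c w => funext fun i => by refine Fin.cases ?_ ?_ i <;> simp }
      have hdec : ∀ z : Fin (n + 1) → R, z = z 0 • Pi.single 0 1 + emb (fun i => z i.succ) := fun z =>
        funext fun i => by refine Fin.cases ?_ ?_ i <;> simp [emb, Pi.single_apply, Fin.succ_ne_zero]
      have hu' : Function.Injective (q ∘ₗ u ∘ₗ emb) := by
        refine (injective_iff_map_eq_zero _).mpr fun w hw => ?_
        have h1 := congrArg Subtype.val hw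
        simp only [q, LinearMap.comp_apply, LinearMap.codRestrict_apply, LinearMap.sub_apply,
          LinearMap.id_apply, LinearMap.smulRight_apply, ZeroMemClass.coe_zero] at h1
        have h2 : emb w - φ (u (emb w)) • Pi.single 0 1 = 0 := hu (by rw [map_sub, map_smul, map_zero]; exact h1)
        funext i
        have := congrFun h2 i.succ
        simpa [emb, Pi.single_apply, Fin.succ_ne_zero] using this
      haveI := ih (LinearMap.ker φ) (q ∘ₗ u ∘ₗ emb) hu'
      let Q := (LinearMap.range (q ∘ₗ u ∘ₗ emb)).mkQ ∘ₗ q
      have hQ : LinearMap.ker Q = LinearMap.range u := by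
        refine le_antisymm (fun x hx => ?_) ?_
        · simp only [Q, LinearMap.mem_ker, LinearMap.comp_apply, Submodule.mkQ_apply, Submodule.Quotient.mk_eq_zero] at hx
          obtain ⟨w, hw⟩ := hx
          have h1 := congrArg Subtype.val hw
          simp only [q, LinearMap.comp_apply, LinearMap.codRestrict_apply, LinearMap.sub_apply,
            LinearMap.id_apply, LinearMap.smulRight_apply] at h1
          refine ⟨emb w + (φ x - φ (u (emb w))) • Pi.single 0 1, ?_⟩
          rw [map_add, map_smul, sub_smul]
          linear_combination (norm := abel) h1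
        · rintro _ ⟨z, rfl⟩
          simp only [Q, LinearMap.mem_ker, LinearMap.comp_apply, Submodule.mkQ_apply, Submodule.Quotient.mk_eq_zero]
          refine ⟨fun i => z i.succ, ?_⟩
          conv_rhs => rw [hdec z]
          have hqv : q v = 0 := Subtype.ext (by simp [q, hφ])
          simp only [LinearMap.comp_apply, map_add, map_smul]
          change _ = z 0 • q v + _
          rw [hqv, smul_zero, zero_add]
      have hQs : Function.Surjective Q := (Submodule.mkQ_surjective _).comp fun x => ⟨x, Subtype.ext (by
        simp [q, LinearMap.mem_ker.mp x.2])⟩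
      exact Module.Projective.of_equiv ((Submodule.quotEquivOfEq _ _ hQ.symm) ≪≫ₗ Q.quotKerEquivOfSurjective hQs).symm
  obtain ⟨n, π, hπ⟩ := Module.Finite.exists_fin' R N
  obtain ⟨s, hs⟩ := Module.projective_lifting_property π LinearMap.id hπ
  have hsπ : ∀ y, π (s y) = y := fun y => LinearMap.congr_fun hs y
  let r : (Fin n → R) →ₗ[R] LinearMap.ker π := (LinearMap.id - s ∘ₗ π).codRestrict _ fun v => by
    simp [LinearMap.mem_ker, hsπ]
  haveI : Module.Projective R (LinearMap.ker π) := Module.Projective.of_split (LinearMap.ker π).subtype r
    (LinearMap.ext fun x => Subtype.ext (by simp [r, LinearMap.mem_ker.mp x.2]))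
  haveI : Module.Finite R (LinearMap.ker π) := Module.Finite.of_surjective r fun x =>
    ⟨x, Subtype.ext (by simp [r, LinearMap.mem_ker.mp x.2])⟩
  let U : (Fin n → R) →ₗ[R] M × LinearMap.ker π := (u ∘ₗ π).prod r
  have hU : Function.Injective U := by
    refine (injective_iff_map_eq_zero _).mpr fun v hv => ?_
    have h1 : π v = 0 := hu ((Prod.ext_iff.mp hv).1.trans (map_zero u).symm)
    have h2 := congrArg Subtype.val (Prod.ext_iff.mp hv).2
    simpa [U, r, h1] using h2
  haveI := free n (M × LinearMap.ker π) U hU
  let J : (M ⧸ LinearMap.range u) →ₗ[R] (M × LinearMap.ker π) ⧸ LinearMap.range U :=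
    (LinearMap.range u).liftQ ((LinearMap.range U).mkQ ∘ₗ LinearMap.inl R M _) (by
      rintro _ ⟨y, rfl⟩
      simp only [LinearMap.mem_ker, LinearMap.comp_apply, Submodule.mkQ_apply, Submodule.Quotient.mk_eq_zero]
      exact ⟨s y, Prod.ext (by simp [U, hsπ]) (Subtype.ext (by simp [U, r, hsπ]))⟩)
  let P : ((M × LinearMap.ker π) ⧸ LinearMap.range U) →ₗ[R] (M ⧸ LinearMap.range u) :=
    (LinearMap.range U).liftQ ((LinearMap.range u).mkQ ∘ₗ LinearMap.fst R M _) (by
      rintro _ ⟨v, rfl⟩
      simp only [LinearMap.mem_ker, LinearMap.comp_apply, Submodule.mkQ_apply, Submodule.Quotient.mk_eq_zero]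
      exact ⟨π v, rfl⟩)
  refine Module.Projective.of_split J P (Submodule.linearMap_qext _ (LinearMap.ext fun x => ?_))
  simp [J, P]

end Groth.Agent.S9286
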