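import Mathlib
import Groth.Agent.GeomRegFlat.Cotangent
import Groth.Statements.S9288

set_option autoImplicit false
universe u
open CAlg IsLocalRing Groth.Agent

namespace Groth.Agent.S9288

/-- Independence of the images of the parameters. -/
theorem independent_image (p : ℕ) [Fact p.Prime] (k : Type u) [Field k] (A : Type u) [CommRing A] [IsLocalRing A]
    [IsNoetherianRing A] [Algebra k A] (hA : CAlg.IsGeometricallyRegular k A)
    (F : IntermediateField k (ResidueField A)) (m : ℕ) (φ : MvPolynomial (Fin m) k →ₐ[k] A)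
    (hφ : ∀ i : Fin m, residue A (φ (MvPolynomial.X i)) ∈ F)
    (hb : LinearIndependent F (fun i : Fin m => KaehlerDifferential.D k F ⟨residue A (φ (MvPolynomial.X i)), hφ i⟩) ∧
      Submodule.span F (Set.range
        (fun i : Fin m => KaehlerDifferential.D k F ⟨residue A (φ (MvPolynomial.X i)), hφ i⟩)) = ⊤)
    (B : Type u) [CommRing B] [IsLocalRing B] [CharP B p] [Algebra k B] [Algebra (MvPolynomial (Fin m) k) B]
    [IsScalarTower k (MvPolynomial (Fin m) k) B] [Algebra B A] [IsScalarTower k B A] [IsLocalHom (algebraMap B A)]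
    (hcomp : ∀ q, algebraMap B A (algebraMap (MvPolynomial (Fin m) k) B q) = φ q)
    (𝔭 : Ideal (MvPolynomial (Fin m) k)) [𝔭.IsPrime] (h𝔭 : 𝔭 = Ideal.comap φ.toRingHom (maximalIdeal A))
    [IsLocalization.AtPrime B 𝔭] {d : ℕ} (x : Fin d → B) (hxm : ∀ i, x i ∈ maximalIdeal B)
    (hxA : ∀ i, algebraMap B A (x i) ∈ maximalIdeal A)
    (hxli : LinearIndependent (ResidueField B) fun i => (maximalIdeal B).toCotangent ⟨x i, hxm i⟩) :
    LinearIndependent (ResidueField A) fun i => (maximalIdeal A).toCotangent ⟨algebraMap B A (x i), hxA i⟩ := by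
  classical
  rw [Fintype.linearIndependent_iff]
  intro c hc j
  choose a ha using fun i => residue_surjective (c i)
  obtain ⟨δ, hδ⟩ := GeomRegFlat.exists_dual_derivations p B (ResidueField A)
    (fun i => ⟨x i, hxm i⟩) hxli j
  obtain ⟨Δ, hΔ⟩ := GeomRegFlat.exists_extend_derivation A hA (δ.compAlgebraMap k)
  let ε : Derivation ℤ B (ResidueField A) := δ - Δ.compAlgebraMap B
  have hεk : ∀ a : k, ε (algebraMap k B a) = 0 := fun a => by
    show δ (algebraMap k B a) -
      Δ (algebraMap B A (algebraMap k B a)) = 0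
    rw [← IsScalarTower.algebraMap_apply, hΔ]
    exact sub_self _
  let ybar : Fin m → F := fun i => ⟨residue A (φ (MvPolynomial.X i)), hφ i⟩
  let b : Module.Basis (Fin m) F Ω[F⁄k] := Module.Basis.mk hb.1 hb.2.ge
  let η : Ω[F⁄k] →ₗ[F] ResidueField A :=
    b.constr F fun i => ε (algebraMap (MvPolynomial (Fin m) k) _ (MvPolynomial.X i))
  let φb : MvPolynomial (Fin m) k →ₐ[k] F := MvPolynomial.aeval ybar
  have hφb : ∀ q, ((φb q : F) : ResidueField A) = residue A (φ q) := fun q =>
    DFunLike.congr_fun (MvPolynomial.algHom_ext (f := F.val.comp φb)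
      (g := (IsScalarTower.toAlgHom k A (ResidueField A)).comp φ) fun i => by
        simp only [AlgHom.comp_apply, φb, MvPolynomial.aeval_X]
        rfl) q
  have hsmul : ∀ (q : MvPolynomial (Fin m) k) (z : ResidueField A),
      algebraMap _ B q • z = (φb q : ResidueField A) * z := fun q z => by
    rw [hφb, Algebra.smul_def, IsScalarTower.algebraMap_apply B A (ResidueField A), hcomp]
    rfl
  have hεP : ∀ q : MvPolynomial (Fin m) k,
      ε (algebraMap _ B q) = η (KaehlerDifferential.D k F (φb q)) := by
    intro q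
    induction q using MvPolynomial.induction_on with
    | C a =>
      have h1 : φb (MvPolynomial.C a) = algebraMap k F a := φb.commutes a
      rw [h1, Derivation.map_algebraMap, map_zero, ← MvPolynomial.algebraMap_eq, ← IsScalarTower.algebraMap_apply]
      exact hεk a
    | add q r hq hr => rw [map_add, map_add, hq, hr, map_add, map_add, map_add]
    | mul_X q i hq =>
      have h1 : φb (MvPolynomial.X i) = ybar i := MvPolynomial.aeval_X _ _
      have h2 : η (KaehlerDifferential.D k F (ybar i)) =
          ε (algebraMap (MvPolynomial (Fin m) k) _ (MvPolynomial.X i)) := by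
        have hbi : b i = KaehlerDifferential.D k F (ybar i) := Module.Basis.mk_apply _ _ i
        rw [← hbi, Module.Basis.constr_basis]
      rw [map_mul, Derivation.leibniz, hsmul, hsmul, hq, map_mul, Derivation.leibniz, map_add, map_smul, map_smul,
        h1, h2, IntermediateField.smul_def, IntermediateField.smul_def, smul_eq_mul, smul_eq_mul]
  have hres0 : ∀ z ∈ maximalIdeal A, ∀ w : ResidueField A, z • w = 0 := fun z hz w => by
    rw [Algebra.smul_def, ResidueField.algebraMap_eq, (residue_eq_zero_iff z).2 hz, zero_mul]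
  have hεx : ∀ i, ε (x i) = 0 := by
    intro i
    obtain ⟨⟨q, s⟩, hqs⟩ := IsLocalization.surj 𝔭.primeCompl (x i)
    have hqs' : x i * algebraMap _ B (s : MvPolynomial (Fin m) k) =
        algebraMap _ B q := hqs
    have hq : φb q = 0 := by
      have h1 : q ∈ 𝔭 := (IsLocalization.AtPrime.to_map_mem_maximal_iff B 𝔭 q).1
        (hqs' ▸ Ideal.mul_mem_right _ _ (hxm i))
      apply Subtype.ext
      rw [hφb, ZeroMemClass.coe_zero]
      exact (residue_eq_zero_iff _).2 (h𝔭.le h1)
    have h2 := congrArg ε hqs'
    rw [hεP, hq, map_zero, map_zero, Derivation.leibniz, ← algebraMap_smul A (x i), hres0 _ (hxA i), zero_add,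
      hsmul, mul_eq_zero] at h2
    refine h2.resolve_left fun h0 => s.2 (h𝔭.ge ?_)
    rw [hφb] at h0
    exact (residue_eq_zero_iff _).1 h0
  have hsq : ∀ z ∈ (maximalIdeal A) ^ 2, Δ z = 0 := by
    intro z hz
    rw [pow_two] at hz
    refine Submodule.mul_induction_on hz (fun u hu v hv => ?_) (fun u v hu hv => by rw [map_add, hu, hv, add_zero])
    rw [Derivation.leibniz, hres0 _ hu, hres0 _ hv, add_zero]
  have hsum : (∑ i, a i • (⟨algebraMap B A (x i), hxA i⟩ : maximalIdeal A) : A) ∈
      (maximalIdeal A) ^ 2 := by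
    have h0 : (maximalIdeal A).toCotangent
        (∑ i, a i • ⟨algebraMap B A (x i), hxA i⟩) = 0 := by
      rw [map_sum, ← hc]
      refine Finset.sum_congr rfl fun i _ => ?_
      rw [map_smul, ← ha i, ← algebraMap_smul (ResidueField A) (a i)]
      rfl
    have h1 := (Ideal.toCotangent_eq_zero _ _).1 h0
    simpa using h1
  have h3 := hsq _ hsum
  rw [map_sum] at h3
  have hΔx : ∀ i, Δ (algebraMap B A (x i)) = if i = j then 1 else 0 := fun i => by
    have := hεx i
    rw [show ε (x i) = δ (x i) - Δ (algebraMap B A (x i)) from rfl, sub_eq_zero] at this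
    rw [← this]
    exact hδ i
  rw [← h3]
  simp only [SetLike.val_smul, smul_eq_mul, Derivation.leibniz, hres0 _ (hxA _), add_zero, hΔx]
  rw [Finset.sum_eq_single j (fun i _ hij => by rw [if_neg hij, smul_zero]) (by simp), if_pos rfl,
    Algebra.smul_def, mul_one, ResidueField.algebraMap_eq, ha]

/-- Let k be a field of positive characteristic p and (A, m, K) a Noetherian local k-algebra which is
geometrically regular over k. Let F ⊆ K be a subfield containing k, finitely generated over k, and φ
: k[y_1, ..., y_m] → A a k-algebra map such that each y_i maps into F (modulo m) and such that the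
differentials of the images of y_1, ..., y_m form a basis of Ω_{F/k}. Let 𝔭 be the inverse image of
m in k[y_1, ..., y_m]. Then A is flat over k[y_1, ..., y_m] (equivalently over its localization at
𝔭, since A is local) and A/𝔭A is a regular local ring. -/
theorem result (p : ℕ)
    [Fact p.Prime] (k : Type u) [Field k] [CharP k p] (A : Type u) [CommRing A] [IsLocalRing A]
    [IsNoetherianRing A] [Algebra k A] (hA : CAlg.IsGeometricallyRegular k A)
    (F : IntermediateField k (IsLocalRing.ResidueField A)) (hF : F.FG) (m : ℕ)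
    (φ : MvPolynomial (Fin m) k →ₐ[k] A)
    (hφ : ∀ i : Fin m, IsLocalRing.residue A (φ (MvPolynomial.X i)) ∈ F)
    (hb : LinearIndependent F
        (fun i : Fin m => KaehlerDifferential.D k F ⟨IsLocalRing.residue A (φ (MvPolynomial.X i)), hφ i⟩) ∧
      Submodule.span F (Set.range
        (fun i : Fin m => KaehlerDifferential.D k F ⟨IsLocalRing.residue A (φ (MvPolynomial.X i)), hφ i⟩)) = ⊤) :
    letI := φ.toRingHom.toAlgebra
    Module.Flat (MvPolynomial (Fin m) k) A ∧
      IsRegularLocalRing (A ⧸ Ideal.map φ.toRingHom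
        (Ideal.comap φ.toRingHom (IsLocalRing.maximalIdeal A))) := by
  classical
  letI := φ.toRingHom.toAlgebra
  haveI : IsScalarTower k (MvPolynomial (Fin m) k) A := IsScalarTower.of_algebraMap_eq fun c => (φ.commutes c).symm
  let 𝔭 : Ideal (MvPolynomial (Fin m) k) := Ideal.comap φ.toRingHom (maximalIdeal A)
  haveI : 𝔭.IsPrime := Ideal.comap_isPrime _ _
  have hu : ∀ y : 𝔭.primeCompl, IsUnit (algebraMap (MvPolynomial (Fin m) k) A y) := fun y => by
    by_contra h
    exact y.2 h
  letI : Algebra (Localization.AtPrime 𝔭) A := (IsLocalization.lift hu : Localization.AtPrime 𝔭 →+* A).toAlgebra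
  haveI : IsScalarTower (MvPolynomial (Fin m) k) (Localization.AtPrime 𝔭) A :=
    IsScalarTower.of_algebraMap_eq fun x => (IsLocalization.lift_eq hu x).symm
  haveI : IsScalarTower k (Localization.AtPrime 𝔭) A := IsScalarTower.to₁₃₄ k (MvPolynomial (Fin m) k) (Localization.AtPrime 𝔭) A
  haveI : IsLocalHom (algebraMap (Localization.AtPrime 𝔭) A) := by
    refine ((IsLocalRing.local_hom_TFAE _).out 0 2 rfl rfl).mpr ?_
    rw [← IsLocalization.AtPrime.map_eq_maximalIdeal 𝔭 (Localization.AtPrime 𝔭), Ideal.map_map,
      ← IsScalarTower.algebraMap_eq]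
    exact Ideal.map_comap_le
  haveI : IsRegularLocalRing A := (Groth.Agent.S2471.result.1 (AdicFS.adic_iff_geometricallyRegular.2 hA)).1
  haveI : IsRegularLocalRing (Localization.AtPrime 𝔭) := isRegularRing_iff.1 inferInstance 𝔭
  haveI : CharP (Localization.AtPrime 𝔭) p :=
    charP_of_injective_algebraMap (algebraMap k (Localization.AtPrime 𝔭)).injective p
  obtain ⟨d, hd⟩ := RegLocal.exists_nat_ringKrullDim (Localization.AtPrime 𝔭)
  have hn : (maximalIdeal (Localization.AtPrime 𝔭)).spanFinrank = d := by
    have := IsRegularLocalRing.spanFinrank_maximalIdeal (R := Localization.AtPrime 𝔭)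
    rw [hd] at this; exact_mod_cast this
  obtain ⟨x, hx⟩ : ∃ x : Fin d → Localization.AtPrime 𝔭, Ideal.span (Set.range x) = maximalIdeal (Localization.AtPrime 𝔭) :=
    hn ▸ RegLocal.exists_generators (Localization.AtPrime 𝔭)
  have hxm : ∀ i, x i ∈ maximalIdeal (Localization.AtPrime 𝔭) := fun i => hx ▸ Ideal.subset_span ⟨i, rfl⟩
  have hxA : ∀ i, algebraMap (Localization.AtPrime 𝔭) A (x i) ∈ maximalIdeal A := fun i =>
    map_maximalIdeal_le (algebraMap (Localization.AtPrime 𝔭) A) (Ideal.mem_map_of_mem _ (hxm i))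
  have hxli : LinearIndependent (ResidueField (Localization.AtPrime 𝔭))
      fun i => (maximalIdeal (Localization.AtPrime 𝔭)).toCotangent ⟨x i, hxm i⟩ := by
    refine linearIndependent_of_top_le_span_of_card_eq_finrank ?_ ?_
    · let xs : Fin d → maximalIdeal (Localization.AtPrime 𝔭) := fun i => ⟨x i, hxm i⟩
      have h : Submodule.span (Localization.AtPrime 𝔭) (Set.range xs) = ⊤ := by
        refine Submodule.map_injective_of_injective (maximalIdeal (Localization.AtPrime 𝔭)).injective_subtype ?_
        rw [Submodule.map_span, Submodule.map_subtype_top, ← Set.range_comp]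
        exact hx
      have h2 := (CotangentSpace.span_image_eq_top_iff (s := Set.range xs)).2 h
      rw [← Set.range_comp] at h2
      exact h2.ge
    · rw [Fintype.card_fin]
      have := (IsRegularLocalRing.iff_finrank_cotangentSpace (Localization.AtPrime 𝔭)).1 inferInstance
      rw [hd] at this
      exact (by exact_mod_cast this.symm)
  have hind : LinearIndependent (ResidueField A)
      fun i => (maximalIdeal A).toCotangent ⟨algebraMap (Localization.AtPrime 𝔭) A (x i), hxA i⟩ :=
    independent_image p k A hA F m φ hφ hb (Localization.AtPrime 𝔭)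
      (fun q => (IsScalarTower.algebraMap_apply (MvPolynomial (Fin m) k) (Localization.AtPrime 𝔭) A q).symm)
      𝔭 rfl x hxm hxA hxli
  obtain ⟨h1, h2⟩ := GeomRegFlat.flat_and_regular_of_independent (Localization.AtPrime 𝔭) A hd x hx hxA hind
  refine ⟨?_, ?_⟩
  · haveI := h1
    haveI : Module.Flat (MvPolynomial (Fin m) k) (Localization.AtPrime 𝔭) := IsLocalization.flat _ 𝔭.primeCompl
    exact Module.Flat.trans (MvPolynomial (Fin m) k) (Localization.AtPrime 𝔭) A
  · haveI := h2
    refine IsRegularLocalRing.of_ringEquiv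
      (R := A ⧸ (maximalIdeal (Localization.AtPrime 𝔭)).map (algebraMap (Localization.AtPrime 𝔭) A))
      (Ideal.quotEquivOfEq ?_)
    rw [← IsLocalization.AtPrime.map_eq_maximalIdeal 𝔭 (Localization.AtPrime 𝔭), Ideal.map_map,
      ← IsScalarTower.algebraMap_eq]
    rfl

end Groth.Agent.S9288
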