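import Mathlib
import Groth.Agent.GRingCompleteLib.OneFibre
import Groth.Statements.S9290

set_option autoImplicit false
universe u
open CAlg TensorProduct Groth.Agent
set_option backward.isDefEq.respectTransparency false

namespace Groth.Agent.S9290

/-- Let R' be a Noetherian algebra of finite type over the Noetherian ring R, quasi-finite at the prime
p' over p, and let Q' ⊆ R'_{p'} and Q ⊆ R_p be primes with the same contraction to R (that is, a
prime q' ⊆ p' of R' lying over the prime q ⊆ p of R). If the formal fibre of R_p at Q is
geometrically regular over κ(Q), then the formal fibre of R'_{p'} at Q' is geometrically regular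
over κ(Q'). -/
theorem result (R R' : Type u) [CommRing R] [CommRing R']
    [IsNoetherianRing R] [IsNoetherianRing R'] [Algebra R R'] [Algebra.FiniteType R R']
    (p' : Ideal R') [p'.IsPrime] [Algebra.QuasiFiniteAt R p']
    (Q' : Ideal (Localization.AtPrime p')) [Q'.IsPrime]
    (Q : Ideal (Localization.AtPrime (Ideal.comap (algebraMap R R') p'))) [Q.IsPrime]
    (hQ : Ideal.comap (algebraMap R (Localization.AtPrime (Ideal.comap (algebraMap R R') p'))) Q =
      Ideal.comap (algebraMap R (Localization.AtPrime p')) Q')
    (h : CAlg.IsGeometricallyRegular Q.ResidueField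
      (EGA4.formalFibre (Localization.AtPrime (Ideal.comap (algebraMap R R') p')) Q)) :
    CAlg.IsGeometricallyRegular Q'.ResidueField (EGA4.formalFibre (Localization.AtPrime p') Q') := by
  intro L _ _ hfin
  haveI := hfin
  let p := Ideal.comap (algebraMap R R') p'
  haveI : p'.LiesOver p := ⟨rfl⟩
  letI : Algebra (Localization.AtPrime p) (Localization.AtPrime p') := Localization.AtPrime.algebraOfLiesOver p p'
  haveI : IsNoetherianRing (Localization.AtPrime p) := IsLocalization.isNoetherianRing p.primeCompl _ inferInstance
  haveI : IsNoetherianRing (Localization.AtPrime p') := IsLocalization.isNoetherianRing p'.primeCompl _ inferInstance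
  haveI : Algebra.EssFiniteType R' (Localization.AtPrime p') :=
    Algebra.EssFiniteType.of_isLocalization (Localization.AtPrime p') p'.primeCompl
  haveI : Algebra.EssFiniteType R (Localization.AtPrime p') := Algebra.EssFiniteType.comp R R' _
  haveI : Algebra.EssFiniteType (Localization.AtPrime p) (Localization.AtPrime p') :=
    Algebra.EssFiniteType.of_comp R _ _
  letI : Algebra (Localization.AtPrime p') L :=
    ((algebraMap Q'.ResidueField L).comp (algebraMap (Localization.AtPrime p') Q'.ResidueField)).toAlgebra
  haveI : IsScalarTower (Localization.AtPrime p') Q'.ResidueField L := IsScalarTower.of_algebraMap_eq fun _ => rfl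
  letI : Algebra (Localization.AtPrime p) L :=
    ((algebraMap (Localization.AtPrime p') L).comp (algebraMap (Localization.AtPrime p) (Localization.AtPrime p'))).toAlgebra
  haveI : IsScalarTower (Localization.AtPrime p) (Localization.AtPrime p') L := IsScalarTower.of_algebraMap_eq fun _ => rfl
  have hQQ : Q'.comap (algebraMap (Localization.AtPrime p) (Localization.AtPrime p')) = Q := by
    rw [← IsLocalization.map_comap p.primeCompl (Localization.AtPrime p) (Q'.comap _),
      ← IsLocalization.map_comap p.primeCompl (Localization.AtPrime p) Q, Ideal.under_def, Ideal.under_def, hQ, Ideal.comap_comap,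
      ← IsScalarTower.algebraMap_eq]
  have hker : RingHom.ker (algebraMap (Localization.AtPrime p) L) = Q := by
    ext a
    rw [RingHom.mem_ker, ← hQQ, Ideal.mem_comap,
      IsScalarTower.algebraMap_apply (Localization.AtPrime p) (Localization.AtPrime p') L,
      IsScalarTower.algebraMap_apply (Localization.AtPrime p') Q'.ResidueField L,
      map_eq_zero, Ideal.algebraMap_residueField_eq_zero]
  letI : Algebra Q.ResidueField L := (Ideal.ResidueField.lift Q (algebraMap (Localization.AtPrime p) L) hker.ge
    (fun a ha => by
      rw [Submonoid.mem_comap, IsUnit.mem_submonoid_iff]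
      exact isUnit_iff_ne_zero.2 fun h0 => ha (hker.le h0))).toAlgebra
  haveI : IsScalarTower (Localization.AtPrime p) Q.ResidueField L := IsScalarTower.of_algebraMap_eq fun a =>
    (Ideal.ResidueField.lift_algebraMap Q _ _ _ a).symm
  haveI : Algebra.EssFiniteType (Localization.AtPrime p') L :=
    Algebra.EssFiniteType.comp (Localization.AtPrime p') Q'.ResidueField L
  haveI : Algebra.EssFiniteType (Localization.AtPrime p) L :=
    Algebra.EssFiniteType.comp (Localization.AtPrime p) (Localization.AtPrime p') L
  haveI : IsNoetherianRing (EGA4.Cpl (Localization.AtPrime p)) := RegLocal.isNoetherianRing_completion _ _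
  let e := (Algebra.TensorProduct.cancelBaseChange (Localization.AtPrime p) Q.ResidueField L L
    (EGA4.Cpl (Localization.AtPrime p))).toRingEquiv
  haveI : IsNoetherianRing (L ⊗[Localization.AtPrime p] EGA4.Cpl (Localization.AtPrime p)) :=
    RegDesc.isNoetherianRing_tensor_essFiniteType _ _ _
  haveI : IsNoetherianRing (L ⊗[Q.ResidueField] EGA4.formalFibre (Localization.AtPrime p) Q) :=
    isNoetherianRing_of_ringEquiv _ e.symm
  haveI : IsNoetherianRing (EGA4.formalFibre (Localization.AtPrime p) Q) :=
    RegDesc.isNoetherianRing_tensor_essFiniteType _ _ _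
  haveI := RegHomLib.isRegularRing_tensor_of_geometricallyRegular h L
  haveI := GRingCompleteLib.isRegularRing_tensor_cpl (Localization.AtPrime p) (Localization.AtPrime p') L
    (IsRegularRing.of_ringEquiv (R := L ⊗[Q.ResidueField] EGA4.formalFibre (Localization.AtPrime p) Q) e)
  exact IsRegularRing.of_ringEquiv (R := L ⊗[Localization.AtPrime p'] EGA4.Cpl (Localization.AtPrime p'))
    (Algebra.TensorProduct.cancelBaseChange (Localization.AtPrime p') Q'.ResidueField L L
      (EGA4.Cpl (Localization.AtPrime p'))).toRingEquiv.symm

end Groth.Agent.S9290
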