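import Groth.Statements.S9291
import Mathlib
-- import your own Groth.Agent.* helpers here

set_option autoImplicit false
universe u
open EtAlg

namespace Groth.Agent.S9291

/-- Let A be a ring, I an ideal and u a unit of A/I. Then there is an étale ring map A → A' such that
A/I → A'/IA' is an isomorphism, together with a unit of A' mapping to the image of u. -/
theorem result (A : Type u) [CommRing A] (I : Ideal A) (u : (A ⧸ I)ˣ) :
    ∃ (A' : Type u) (_ : CommRing A') (_ : Algebra A A'), Algebra.Etale A A' ∧
      Function.Bijective (Ideal.quotientMap (Ideal.map (algebraMap A A') I) (algebraMap A A')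
        Ideal.le_comap_map) ∧
      ∃ u' : A'ˣ, Ideal.Quotient.mk (Ideal.map (algebraMap A A') I) (u' : A') =
        Ideal.quotientMap (Ideal.map (algebraMap A A') I) (algebraMap A A') Ideal.le_comap_map
          (u : A ⧸ I) := by
  obtain ⟨a, ha⟩ := Ideal.Quotient.mk_surjective (u : A ⧸ I)
  obtain ⟨b, hb⟩ := Ideal.Quotient.mk_surjective ((u⁻¹ : (A ⧸ I)ˣ) : A ⧸ I)
  have hab : a * b - 1 ∈ I := by
    rw [← Ideal.Quotient.eq_zero_iff_mem, map_sub, map_mul, ha, hb, map_one]
    simp
  let A' := Localization.Away a
  refine ⟨A', inferInstance, inferInstance, Algebra.Etale.of_isLocalizationAway a, ?_,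
    (IsLocalization.Away.algebraMap_isUnit a).unit, ?_⟩
  · refine ⟨Ideal.quotientMap_injective' ?_, ?_⟩
    · intro x hx
      rw [Ideal.mem_comap, IsLocalization.algebraMap_mem_map_algebraMap_iff (Submonoid.powers a)] at hx
      obtain ⟨_, ⟨n, rfl⟩, hn⟩ := hx
      clear hb ha
      induction n with
      | zero => simpa using hn
      | succ n ih =>
        refine ih ?_
        have h1 : a ^ n * x = b * (a ^ (n + 1) * x) - (a * b - 1) * (a ^ n * x) := by ring
        rw [h1]
        exact I.sub_mem (I.mul_mem_left _ hn) (I.mul_mem_right _ hab)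
    · intro z
      obtain ⟨z, rfl⟩ := Ideal.Quotient.mk_surjective z
      obtain ⟨n, x, hx⟩ := IsLocalization.Away.surj a z
      refine ⟨Ideal.Quotient.mk I (b ^ n * x), ?_⟩
      rw [Ideal.quotientMap_mk, Ideal.Quotient.eq, map_mul, ← hx]
      have h1 : (a * b) ^ n - 1 ∈ I := by
        obtain ⟨c, hc⟩ := sub_one_dvd_pow_sub_one (a * b) n
        rw [hc]
        exact I.mul_mem_right _ hab
      have h2 := Ideal.mul_mem_right z _ (Ideal.mem_map_of_mem (algebraMap A A') h1)
      rw [map_sub, map_pow, map_mul, map_one] at h2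
      rw [map_pow]
      convert h2 using 1
      ring
  · rw [← ha, Ideal.quotientMap_mk]
    rfl

end Groth.Agent.S9291
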