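import Groth.Statements.S9292
import Mathlib
-- import your own Groth.Agent.* helpers here

set_option autoImplicit false
universe u
open EtAlg

namespace Groth.Agent.S9292

/-- Let A be a ring, I an ideal, and e_1, ..., e_n a complete system of orthogonal idempotents of A/I
(equivalently a finite disjoint open covering of Spec(A/I)). Then one can find an A-algebra A' that
is étale over A, such that the induced map A/I → A'/IA' is bijective, together with a complete
system of orthogonal idempotents of A' lifting the e_j. -/
theorem result (A : Type u) [CommRing A] (I : Ideal A)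
    (n : ℕ) (e : Fin n → A ⧸ I) (he : CompleteOrthogonalIdempotents e) :
    ∃ (A' : Type u) (_ : CommRing A') (_ : Algebra A A'), Algebra.Etale A A' ∧
      Function.Bijective (Ideal.quotientMap (Ideal.map (algebraMap A A') I) (algebraMap A A')
        Ideal.le_comap_map) ∧
      ∃ e' : Fin n → A', CompleteOrthogonalIdempotents e' ∧
        ∀ j, Ideal.Quotient.mk (Ideal.map (algebraMap A A') I) (e' j) =
          Ideal.quotientMap (Ideal.map (algebraMap A A') I) (algebraMap A A') Ideal.le_comap_map
            (e j) := by
  classical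
  choose f hf using fun j => Ideal.Quotient.mk_surjective (e j)
  refine ⟨(∀ j : Fin n, Localization.Away (f j)), inferInstance, inferInstance, ?_, ?_⟩
  · haveI : ∀ j, Algebra.Etale A (Localization.Away (f j)) := fun j =>
      Algebra.Etale.of_isLocalizationAway (f j)
    infer_instance
  set J := I.map (algebraMap A (∀ j : Fin n, Localization.Away (f j))) with hJ
  -- elementwise criterion for membership in J
  have hmemJ : ∀ y : (∀ j : Fin n, Localization.Away (f j)), (∀ j, y j ∈ I.map (algebraMap A (Localization.Away (f j)))) → y ∈ J := by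
    intro y hy
    rw [← Finset.univ_sum_single y]
    refine Ideal.sum_mem _ fun j _ => ?_
    have hj := hy j
    rw [← Submodule.restrictScalars_mem A, ← Ideal.smul_top_eq_map] at hj
    show Pi.single j (y j) ∈ J
    rw [hJ, ← Submodule.restrictScalars_mem A, ← Ideal.smul_top_eq_map]
    refine Submodule.smul_induction_on hj (fun r hr m _ => ?_) (fun a b ha hb => ?_)
    · rw [Pi.single_smul]; exact Submodule.smul_mem_smul hr Submodule.mem_top
    · rw [Pi.single_add]; exact add_mem ha hb
  have hmk : ∀ j, Ideal.Quotient.mk (Ideal.span ({1 - e j} : Set (A ⧸ I))) (e j) = 1 := fun j => by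
    rw [← map_one (Ideal.Quotient.mk (Ideal.span ({1 - e j} : Set (A ⧸ I)))), Ideal.Quotient.eq, show e j - 1 = -(1 - e j) by ring]
    exact neg_mem (Ideal.mem_span_singleton_self _)
  let ψ : ∀ j, Localization.Away (f j) →+* (A ⧸ I) ⧸ Ideal.span ({1 - e j} : Set (A ⧸ I)) := fun j =>
    IsLocalization.Away.lift (f j)
      (g := (Ideal.Quotient.mk (Ideal.span ({1 - e j} : Set (A ⧸ I)))).comp (Ideal.Quotient.mk I))
      (by rw [RingHom.comp_apply, hf, hmk]; exact isUnit_one)
  have hψ : ∀ j a, ψ j (algebraMap A _ a) = Ideal.Quotient.mk _ (Ideal.Quotient.mk I a) :=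
    fun j a => IsLocalization.Away.lift_eq _ _ a
  let Ψ : (∀ j : Fin n, Localization.Away (f j)) →+* ∀ j, (A ⧸ I) ⧸ Ideal.span ({1 - e j} : Set (A ⧸ I)) :=
    RingHom.pi fun j => (ψ j).comp (Pi.evalRingHom (fun i : Fin n => Localization.Away (f i)) j)
  set q := Ideal.quotientMap J (algebraMap A (∀ j : Fin n, Localization.Away (f j))) Ideal.le_comap_map with hq
  have hinj : Function.Injective q := by
    rw [injective_iff_map_eq_zero]
    intro x hx
    obtain ⟨a, rfl⟩ := Ideal.Quotient.mk_surjective x
    rw [hq, Ideal.quotientMap_mk, Ideal.Quotient.eq_zero_iff_mem] at hx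
    have hΨ : J ≤ RingHom.ker Ψ := by
      rw [hJ, Ideal.map_le_iff_le_comap]
      intro r hr
      rw [Ideal.mem_comap, RingHom.mem_ker]
      funext j
      show ψ j (algebraMap A _ r) = 0
      rw [hψ, Ideal.Quotient.eq_zero_iff_mem.mpr hr, map_zero]
    apply he.bijective_pi.1
    rw [map_zero, ← RingHom.mem_ker.mp (hΨ hx)]
    funext j
    exact (hψ j a).symm
  -- the indicators
  let e' : Fin n → (∀ j : Fin n, Localization.Away (f j)) := fun j => Pi.single j 1
  have he'mem : ∀ j, e' j - algebraMap A (∀ j : Fin n, Localization.Away (f j)) (f j) ∈ J := fun j => hmemJ _ fun i => by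
    rw [Pi.sub_apply, Pi.algebraMap_apply]
    have hu := IsLocalization.Away.algebraMap_isUnit (S := Localization.Away (f i)) (f i)
    rw [← Ideal.mul_unit_mem_iff_mem _ hu]
    by_cases hij : i = j
    · subst hij
      simp only [e', Pi.single_eq_same, sub_mul, one_mul, ← map_mul, ← map_sub]
      refine Ideal.mem_map_of_mem _ (Ideal.Quotient.eq_zero_iff_mem.mp ?_)
      rw [map_sub, map_mul, hf, (he.idem i).eq, sub_self]
    · simp only [e', Pi.single_eq_of_ne hij, zero_sub, neg_mul, ← map_mul]
      refine neg_mem (Ideal.mem_map_of_mem _ (Ideal.Quotient.eq_zero_iff_mem.mp ?_))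
      rw [map_mul, hf, hf, he.ortho (Ne.symm hij)]
  have he'q : ∀ j, Ideal.Quotient.mk J (e' j) = q (e j) := fun j => by
    rw [← hf j, hq, Ideal.quotientMap_mk, Ideal.Quotient.eq]
    exact he'mem j
  refine ⟨⟨hinj, fun y => ?_⟩, e', ⟨⟨fun j => ?_, fun i j hij => ?_⟩, ?_⟩, he'q⟩
  · obtain ⟨y, rfl⟩ := Ideal.Quotient.mk_surjective y
    choose N hN using fun j => IsLocalization.surj (Submonoid.powers (f j)) (y j)
    refine ⟨∑ j, e j * Ideal.Quotient.mk I (N j).1, ?_⟩
    rw [map_sum]
    have hsum : y = ∑ j, e' j * y := by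
      rw [← Finset.sum_mul]
      have : ∑ j, e' j = 1 := by
        funext i; simp [e', Finset.sum_apply, Pi.single_apply]
      rw [this, one_mul]
    conv_rhs => rw [hsum, map_sum]
    refine Finset.sum_congr rfl fun j _ => ?_
    rw [map_mul, map_mul, he'q]
    obtain ⟨m, hm⟩ := (N j).2.2
    have hkey : e' j * y * algebraMap A (∀ j : Fin n, Localization.Away (f j)) ((N j).2 : A) = e' j * algebraMap A (∀ j : Fin n, Localization.Away (f j)) (N j).1 := by
      funext i
      by_cases hij : i = j
      · subst hij; simp only [Pi.mul_apply, e', Pi.single_eq_same, one_mul, Pi.algebraMap_apply]; exact hN i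
      · simp [e', Pi.single_eq_of_ne hij]
    have h2 := congrArg (Ideal.Quotient.mk J) hkey
    rw [map_mul, map_mul, map_mul, he'q, ← Ideal.quotientMap_mk (f := algebraMap A (∀ j : Fin n, Localization.Away (f j))) (H := Ideal.le_comap_map),
      ← Ideal.quotientMap_mk (f := algebraMap A (∀ j : Fin n, Localization.Away (f j))) (H := Ideal.le_comap_map), ← hq] at h2
    rw [← h2, mul_right_comm, ← map_mul]
    congr 2
    rw [← hm, map_pow, hf]
    cases m with
    | zero => simp
    | succ m => rw [(he.idem j).pow_succ_eq, (he.idem j).eq]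
  · simp only [IsIdempotentElem, e', ← Pi.single_mul, mul_one]
  · funext i'
    simp only [Pi.mul_apply, e', Pi.zero_apply]
    by_cases h : i' = i
    · subst h; simp [Pi.single_eq_of_ne hij]
    · simp [Pi.single_eq_of_ne h]
  · funext i; simp [e', Finset.sum_apply, Pi.single_apply]

end Groth.Agent.S9292
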