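import Groth.Statements.S9293
import Groth.Agent.RegHomLib.Geometric

set_option autoImplicit false
universe u
open CAlg

namespace Groth.Agent.S9293
open TensorProduct


/-- If R → Λ is a regular ring map and R' is an R-algebra of finite type, then R' → R' ⊗_R Λ is again
regular. -/
theorem result (R Λ R' : Type u) [CommRing R] [CommRing Λ] [CommRing R']
    [Algebra R Λ] [Algebra R R'] [Algebra.FiniteType R R'] (h : CAlg.IsRegularHom R Λ) :
    CAlg.IsRegularHom R' (TensorProduct R R' Λ) := by
  haveI := h.1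
  refine ⟨inferInstance, fun P _ => ?_⟩
  let p := P.under R
  letI := Localization.AtPrime.algebraOfLiesOver p P
  let κ := p.ResidueField
  let κ' := P.ResidueField
  haveI : Algebra.EssFiniteType R κ' := Algebra.EssFiniteType.comp R R' κ'
  haveI : Algebra.EssFiniteType κ κ' := Algebra.EssFiniteType.of_comp R κ κ'
  haveI := (h.2 p).1
  let F := p.Fiber Λ
  have hnoeth : ∀ (K : Type u) [Field K] [Algebra κ K] [Algebra.EssFiniteType κ K], IsNoetherianRing (K ⊗[κ] F) := by
    intro K _ _ _
    haveI : IsNoetherianRing (F ⊗[κ] K) := Algebra.EssFiniteType.isNoetherianRing F (F ⊗[κ] K)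
    exact isNoetherianRing_of_ringEquiv (F ⊗[κ] K) (Algebra.TensorProduct.comm κ F K).toRingEquiv
  have eP : κ' ⊗[R'] (R' ⊗[R] Λ) ≃+* κ' ⊗[κ] F :=
    ((Algebra.TensorProduct.cancelBaseChange R R' κ' κ' Λ).trans
      (Algebra.TensorProduct.cancelBaseChange R κ κ' κ' Λ).symm).toRingEquiv
  haveI := hnoeth κ'
  refine ⟨isNoetherianRing_of_ringEquiv _ eP.symm, fun k' _ _ hfin => ?_⟩
  letI : Algebra κ k' := ((algebraMap κ' k').comp (algebraMap κ κ')).toAlgebra
  haveI : IsScalarTower κ κ' k' := IsScalarTower.of_algebraMap_eq fun _ => rfl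
  haveI : Module.Finite κ' k' := hfin
  haveI : Algebra.EssFiniteType κ k' := Algebra.EssFiniteType.comp κ κ' k'
  haveI := hnoeth k'
  haveI := Groth.Agent.RegHomLib.isRegularRing_tensor_of_geometricallyRegular (h.2 p).2 k'
  letI : Algebra R' k' := ((algebraMap κ' k').comp (algebraMap R' κ')).toAlgebra
  haveI : IsScalarTower R' κ' k' := IsScalarTower.of_algebraMap_eq fun _ => rfl
  letI : Algebra R k' := ((algebraMap R' k').comp (algebraMap R R')).toAlgebra
  haveI : IsScalarTower R R' k' := IsScalarTower.of_algebraMap_eq fun _ => rfl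
  haveI : IsScalarTower R κ k' := IsScalarTower.of_algebraMap_eq fun r => by
    show algebraMap κ' k' (algebraMap R' κ' (algebraMap R R' r)) = algebraMap κ' k' (algebraMap κ κ' (algebraMap R κ r))
    rw [← IsScalarTower.algebraMap_apply R R' κ', ← IsScalarTower.algebraMap_apply R κ κ']
  exact IsRegularRing.of_ringEquiv (R := k' ⊗[κ] F)
    ((Algebra.TensorProduct.cancelBaseChange R κ k' k' Λ).trans
      ((Algebra.TensorProduct.cancelBaseChange R R' k' k' Λ).symm.trans
        (Algebra.TensorProduct.cancelBaseChange R' κ' k' k' (R' ⊗[R] Λ)).symm)).toRingEquiv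

end Groth.Agent.S9293
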