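import Groth.Statements.S9294
import Groth.Agent.RegHomLib.Basic

set_option autoImplicit false
universe u
open CAlg

namespace Groth.Agent.S9294
open TensorProduct


/-- If A → B and B → C are regular ring maps and every fibre ring of the composite A → C is Noetherian,
the composite is regular. -/
theorem result (A B C : Type u) [CommRing A] [CommRing B] [CommRing C]
    [Algebra A B] [Algebra B C] [Algebra A C] [IsScalarTower A B C]
    (hAB : CAlg.IsRegularHom A B) (hBC : CAlg.IsRegularHom B C)
    (hN : ∀ (p : Ideal A) [p.IsPrime], IsNoetherianRing (p.Fiber C)) :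
    CAlg.IsRegularHom A C := by
  haveI := hAB.1
  haveI := hBC.1
  refine ⟨Module.Flat.trans A B C, fun p _ => ⟨hN p, fun k' _ _ hfin => ?_⟩⟩
  let κ := p.ResidueField
  letI : Algebra A k' := ((algebraMap κ k').comp (algebraMap A κ)).toAlgebra
  haveI : IsScalarTower A κ k' := IsScalarTower.of_algebraMap_eq fun _ => rfl
  haveI : Module.Finite κ k' := hfin
  haveI : Algebra.QuasiFinite A k' := Algebra.QuasiFinite.trans A κ k'
  letI : Algebra B (k' ⊗[A] B) := Algebra.TensorProduct.rightAlgebra
  haveI : IsScalarTower A B (k' ⊗[A] B) := IsScalarTower.of_algebraMap_eq fun r => by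
    show algebraMap A (k' ⊗[A] B) r = (1 : k') ⊗ₜ[A] algebraMap A B r
    rw [Algebra.TensorProduct.algebraMap_apply, Algebra.algebraMap_eq_smul_one, Algebra.algebraMap_eq_smul_one,
      TensorProduct.smul_tmul]
  haveI : IsRegularRing (k' ⊗[κ] (p.Fiber B)) := (hAB.2 p).2 k' hfin
  haveI : IsRegularRing (k' ⊗[A] B) :=
    IsRegularRing.of_ringEquiv (R := k' ⊗[κ] (p.Fiber B))
      (Algebra.TensorProduct.cancelBaseChange A κ k' k' B).toRingEquiv
  haveI : Algebra.QuasiFinite B (k' ⊗[A] B) := by
    haveI : Algebra.QuasiFinite B (B ⊗[A] k') := Algebra.QuasiFinite.baseChange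
    exact Algebra.QuasiFinite.of_surjective_algHom (Algebra.TensorProduct.commRight A B k').toAlgHom
      (Algebra.TensorProduct.commRight A B k').surjective
  haveI := hN p
  haveI : IsNoetherianRing (k' ⊗[A] C) := by
    letI : Algebra (p.Fiber C) (k' ⊗[κ] (p.Fiber C)) := Algebra.TensorProduct.rightAlgebra
    haveI : Module.Finite (p.Fiber C) (k' ⊗[κ] (p.Fiber C)) :=
      Module.Finite.equiv (Algebra.TensorProduct.commRight κ (p.Fiber C) k').toLinearEquiv
    haveI : IsNoetherianRing (k' ⊗[κ] (p.Fiber C)) := IsNoetherianRing.of_finite (p.Fiber C) _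
    exact isNoetherianRing_of_ringEquiv (k' ⊗[κ] (p.Fiber C))
      (Algebra.TensorProduct.cancelBaseChange A κ k' k' C).toRingEquiv
  let e : (k' ⊗[A] B) ⊗[B] C ≃+* k' ⊗[A] C :=
    (((Algebra.TensorProduct.congr (Algebra.TensorProduct.commRight A B k').symm AlgEquiv.refl).restrictScalars A).trans
      (((Algebra.TensorProduct.comm B (B ⊗[A] k') C).restrictScalars A).trans
        (((Algebra.TensorProduct.cancelBaseChange A B B C k').restrictScalars A).trans
          (Algebra.TensorProduct.comm A C k')))).toRingEquiv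
  haveI : IsNoetherianRing ((k' ⊗[A] B) ⊗[B] C) := isNoetherianRing_of_ringEquiv _ e.symm
  haveI := Groth.Agent.RegHomLib.isRegularRing_baseChange B C (k' ⊗[A] B) hBC
  haveI : IsRegularRing (k' ⊗[A] C) := IsRegularRing.of_ringEquiv e
  exact IsRegularRing.of_ringEquiv (Algebra.TensorProduct.cancelBaseChange A κ k' k' C).symm.toRingEquiv

end Groth.Agent.S9294
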