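import Groth.Statements.S9295
import Mathlib
import Groth.Agent.RegHomLib.Basic
import Groth.Agent.FpqcDesc.Noeth
import Groth.Agent.FpqcDesc.Stalk
import Groth.Agent.S9406

set_option autoImplicit false
universe u
open CAlg

namespace Groth.Agent.S9295
open TensorProduct


/-- For ring maps A → B → C, if the composite A → C is a regular map and C is flat over B with every
prime of B lying under a prime of C (that is, B → C is faithfully flat), then A → B is a regular
map. -/
theorem result (A B C : Type u) [CommRing A] [CommRing B] [CommRing C]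
    [Algebra A B] [Algebra B C] [Algebra A C] [IsScalarTower A B C]
    (hAC : CAlg.IsRegularHom A C) [Module.Flat B C]
    (hsurj : Function.Surjective (PrimeSpectrum.comap (algebraMap B C))) :
    CAlg.IsRegularHom A B := by
  haveI := hAC.1
  haveI : Module.FaithfullyFlat B C := Module.FaithfullyFlat.of_comap_surjective hsurj
  refine ⟨Groth.Agent.FlatDescStalk.flat_of_comp_faithfullyFlat A B C, fun p _ => ?_⟩
  let κ := p.ResidueField
  have key : ∀ (k' : Type u) [CommRing k'] [Algebra A k'],
      (IsRegularRing (k' ⊗[A] C) → IsRegularRing (k' ⊗[A] B)) ∧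
      (IsNoetherianRing (k' ⊗[A] C) → IsNoetherianRing (k' ⊗[A] B)) := by
    intro k' _ _
    letI : Algebra B (k' ⊗[A] B) := Algebra.TensorProduct.rightAlgebra
    haveI : IsScalarTower A B (k' ⊗[A] B) := IsScalarTower.of_algebraMap_eq fun r => by
      show algebraMap A (k' ⊗[A] B) r = (1 : k') ⊗ₜ[A] algebraMap A B r
      rw [Algebra.TensorProduct.algebraMap_apply, Algebra.algebraMap_eq_smul_one, Algebra.algebraMap_eq_smul_one,
        TensorProduct.smul_tmul]
    let e : (k' ⊗[A] B) ⊗[B] C ≃+* k' ⊗[A] C :=
      (((Algebra.TensorProduct.congr (Algebra.TensorProduct.commRight A B k').symm AlgEquiv.refl).restrictScalars A).trans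
        (((Algebra.TensorProduct.comm B (B ⊗[A] k') C).restrictScalars A).trans
          (((Algebra.TensorProduct.cancelBaseChange A B B C k').restrictScalars A).trans
            (Algebra.TensorProduct.comm A C k')))).toRingEquiv
    refine ⟨fun h => ?_, fun h => ?_⟩
    · haveI := IsRegularRing.of_ringEquiv e.symm
      exact Groth.Agent.S9406.result (k' ⊗[A] B) ((k' ⊗[A] B) ⊗[B] C)
    · haveI := isNoetherianRing_of_ringEquiv _ e.symm
      exact Groth.Agent.NoethDesc.isNoetherianRing_of_faithfullyFlat (k' ⊗[A] B) ((k' ⊗[A] B) ⊗[B] C)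
  refine ⟨(key κ).2 (hAC.2 p).1, fun k' _ _ hfin => ?_⟩
  letI : Algebra A k' := ((algebraMap κ k').comp (algebraMap A κ)).toAlgebra
  haveI : IsScalarTower A κ k' := IsScalarTower.of_algebraMap_eq fun _ => rfl
  haveI : IsRegularRing (k' ⊗[κ] (p.Fiber C)) := (hAC.2 p).2 k' hfin
  haveI : IsRegularRing (k' ⊗[A] C) := IsRegularRing.of_ringEquiv (R := k' ⊗[κ] (p.Fiber C))
    (Algebra.TensorProduct.cancelBaseChange A κ k' k' C).toRingEquiv
  haveI := (key k').1 inferInstance
  exact IsRegularRing.of_ringEquiv (Algebra.TensorProduct.cancelBaseChange A κ k' k' B).symm.toRingEquiv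

end Groth.Agent.S9295
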