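import Groth.Statements.S9296
import Groth.Agent.RegLocLib.Dim1
-- import your own Groth.Agent.* helpers here

set_option autoImplicit false
universe u
open EGA4

namespace Groth.Agent.S9296

/-- For a Noetherian ring R, the set of primes at which R is regular is open in Spec R (R is J-1)
exactly when, for each such prime p, some nonempty open part of the closed set V(p) consists of
primes at which R is regular. Stated with an open U of Spec R whose trace on V(p) is nonempty and
contained in the regular locus. -/
theorem result (R : Type u) [CommRing R] [IsNoetherianRing R] :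
    IsOpen (EGA4.regLocus R) ↔
      ∀ p ∈ EGA4.regLocus R, ∃ U : Set (PrimeSpectrum R), IsOpen U ∧
        (U ∩ PrimeSpectrum.zeroLocus (p.asIdeal : Set R)).Nonempty ∧
        U ∩ PrimeSpectrum.zeroLocus (p.asIdeal : Set R) ⊆ EGA4.regLocus R := by
  constructor
  · intro h p hp
    exact ⟨_, h, ⟨p, hp, by rw [PrimeSpectrum.mem_zeroLocus]⟩, Set.inter_subset_left⟩
  · intro h
    refine RegLocLib.isOpen_of_nhds _ (fun _ _ hle hp => RegLocLib.mem_regLocus_of_le hle hp)
      fun p hp => ?_
    obtain ⟨U, hU, ⟨q, hqU, hq⟩, hsub⟩ := h p hp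
    have hpq : p.asIdeal ≤ q.asIdeal := (PrimeSpectrum.mem_zeroLocus _ _).1 hq
    have hpU : p ∈ U := hU.stableUnderGeneralization
      ((PrimeSpectrum.le_iff_specializes p q).1 hpq) hqU
    obtain ⟨_, ⟨f, rfl⟩, hf, hfU⟩ :=
      PrimeSpectrum.isTopologicalBasis_basic_opens.exists_subset_of_mem_open hpU hU
    exact ⟨f, hf, fun r hr hfr => hsub ⟨hfU hfr, (PrimeSpectrum.mem_zeroLocus _ _).2 hr⟩⟩

end Groth.Agent.S9296
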