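import Groth.Statements.S9298
import Groth.Agent.ComplAlgLib.Equiv

set_option autoImplicit false
universe u
open CAlg

namespace Groth.Agent.S9298

/-- Let A be a Noetherian ring, I an ideal, B a finite type A-algebra and B^ its I-adic completion. Let
π be a surjective ring map from B^ to C, with kernel J, and suppose some power I^c (c ≥ 0) kills the
conormal module J/J^2. Then, compatibly with the maps from A, C is isomorphic to the I-adic
completion of some finite type A-algebra. -/
theorem result (A : Type u) [CommRing A]
    [IsNoetherianRing A] (I : Ideal A) (B : Type u) [CommRing B] [Algebra A B] [Algebra.FiniteType A B]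
    (C : Type u) [CommRing C]
    (π : AdicCompletion (Ideal.map (algebraMap A B) I) B →+* C) (hπ : Function.Surjective π) (c : ℕ)
    (hJ : Ideal.map ((algebraMap B (AdicCompletion (Ideal.map (algebraMap A B) I) B)).comp
        (algebraMap A B)) I ^ c * RingHom.ker π ≤ RingHom.ker π ^ 2) :
    ∃ (D : Type u) (_ : CommRing D) (_ : Algebra A D), Algebra.FiniteType A D ∧
      ∃ e : C ≃+* AdicCompletion (Ideal.map (algebraMap A D) I) D,
        ∀ a : A, e (π (algebraMap B _ (algebraMap A B a))) =
          algebraMap D _ (algebraMap A D a) := by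
  haveI : IsNoetherianRing B := Algebra.FiniteType.isNoetherianRing A B
  let I' : Ideal B := Ideal.map (algebraMap A B) I
  let R := AdicCompletion I' B
  haveI : IsNoetherianRing R := RegLocal.isNoetherianRing_adicCompletion I' I'.fg_of_isNoetherianRing
  haveI : IsAdicComplete (I'.map (algebraMap B R)) R :=
    AdicCompletion.isAdicComplete_self I' I'.fg_of_isNoetherianRing
  letI : Algebra R C := π.toAlgebra
  letI : Algebra B C := (π.comp (algebraMap B R)).toAlgebra
  haveI : IsScalarTower B R C := IsScalarTower.of_algebraMap_eq fun _ => rfl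
  have hjac : I'.map (algebraMap B C) ≤ Ideal.jacobson ⊥ := by
    rw [IsScalarTower.algebraMap_eq B R C, ← Ideal.map_map]
    intro z hz
    obtain ⟨r, hr, rfl⟩ := (Ideal.mem_map_iff_of_surjective _ (show Function.Surjective (algebraMap R C) from hπ)).1 hz
    refine Ideal.mem_jacobson_bot.2 fun w => ?_
    obtain ⟨w', rfl⟩ := hπ w
    have := (Ideal.mem_jacobson_bot.1 (IsAdicComplete.le_jacobson_bot _ hr) w').map π
    rw [map_add, map_mul, map_one] at this
    exact this
  have hJ' : (I' ^ c).map (algebraMap B R) * RingHom.ker (algebraMap R C) ≤ RingHom.ker (algebraMap R C) ^ 2 := by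
    rw [Ideal.map_pow, Ideal.map_map]
    exact hJ
  obtain ⟨D, iD, aD, hft, φ, hφ⟩ :=
    (ComplAlgLib.isComplAlong_adicCompletion I').exists_model (R := R) hπ hjac c hJ'
  obtain ⟨e, he⟩ := hφ.exists_ringEquiv (R := R) I' hπ
  letI : Algebra A D := ((algebraMap B D).comp (algebraMap A B)).toAlgebra
  haveI : IsScalarTower A B D := IsScalarTower.of_algebraMap_eq fun _ => rfl
  refine ⟨D, iD, inferInstance, Algebra.FiniteType.trans (S := B) inferInstance hft, ?_⟩
  have h : Ideal.map (algebraMap A D) I = I'.map (algebraMap B D) := by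
    rw [Ideal.map_map]; rfl
  rw [h]
  refine ⟨e, fun a => ?_⟩
  show e (algebraMap B C (algebraMap A B a)) = _
  rw [← φ.commutes, he]
  rfl

end Groth.Agent.S9298
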