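import Groth.Statements.S9300

set_option autoImplicit false
universe u
open CAlg

namespace Groth.Agent.S9300

/-- Let A and B be domains and A → B a ring map for which the generic point of Spec(A) has a unique
preimage in Spec(B). Then every nonzero ideal of B has nonzero preimage in A. -/
theorem result (A B : Type u) [CommRing A] [IsDomain A]
    [CommRing B] [IsDomain B] (φ : A →+* B)
    (h : ∃! q : PrimeSpectrum B, Ideal.comap φ q.asIdeal = ⊥) (J : Ideal B) (hJ : J ≠ ⊥) :
    Ideal.comap φ J ≠ ⊥ := by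
  obtain ⟨q, hq, huniq⟩ := h
  intro hc
  obtain ⟨p, hp, hle, hdisj⟩ := Ideal.exists_le_prime_disjoint J ((nonZeroDivisors A).map φ) (by
    rw [Set.disjoint_left]
    rintro _ hj ⟨a, ha, rfl⟩
    have : a ∈ Ideal.comap φ J := hj
    rw [hc, Ideal.mem_bot] at this
    exact zero_notMem_nonZeroDivisors (this ▸ ha))
  have h1 : Ideal.comap φ p = ⊥ := by
    rw [eq_bot_iff]; intro a ha
    by_contra h'
    exact Set.disjoint_left.mp hdisj ha ⟨a, mem_nonZeroDivisors_of_ne_zero h', rfl⟩
  have h2 : Ideal.comap φ (⊥ : Ideal B) = ⊥ :=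
    eq_bot_iff.mpr ((Ideal.comap_mono bot_le).trans hc.le)
  have e := (huniq ⟨⊥, Ideal.isPrime_bot⟩ h2).trans (huniq ⟨p, hp⟩ h1).symm
  exact hJ (eq_bot_iff.mpr (hle.trans (congrArg PrimeSpectrum.asIdeal e).ge))

end Groth.Agent.S9300
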