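import Groth.Statements.S9301
import Mathlib

set_option autoImplicit false
universe u
open CAlg

namespace Groth.Agent.S9301
open scoped TensorProduct

/-- Let A and B be domains and A → B a flat ring map which is the localization of a quasi-finite ring
map A → B₀ (of finite type with finite fibres). Then every nonzero ideal of B has nonzero preimage
in A. -/
theorem result (A B₀ B : Type u) [CommRing A] [IsDomain A]
    [CommRing B₀] [CommRing B] [IsDomain B] [Algebra A B₀] [Algebra.FiniteType A B₀]
    [Algebra.QuasiFinite A B₀] (S : Submonoid B₀) [Algebra B₀ B] [IsLocalization S B] [Algebra A B]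
    [IsScalarTower A B₀ B] [Module.Flat A B] (J : Ideal B) (hJ : J ≠ ⊥) :
    Ideal.comap (algebraMap A B) J ≠ ⊥ := by
  classical
  intro hbot
  obtain ⟨b, hb, hb0⟩ := Submodule.exists_mem_ne_zero_of_ne_bot hJ
  have hinj : Function.Injective (algebraMap A B) := by
    rw [injective_iff_map_eq_zero]
    intro a ha
    by_contra hne
    have h1 := Module.Flat.isTorsionFree (R := A) (M := B)
    have h2 : a • (1 : B) = 0 := by rw [Algebra.smul_def, ha, zero_mul]
    exact one_ne_zero ((smul_eq_zero.1 h2).resolve_left hne)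
  let κ := (⊥ : Ideal A).ResidueField
  let K := FractionRing B
  have hAK : Function.Injective (algebraMap A K) := by
    rw [IsScalarTower.algebraMap_eq A B K]; exact (IsFractionRing.injective B K).comp hinj
  let φ : κ →+* K := Ideal.ResidueField.lift _ (algebraMap A K) bot_le
    (fun x hx => isUnit_iff_ne_zero.2 fun hx0 => hx (Ideal.mem_bot.2 (hAK (hx0.trans (map_zero _).symm))))
  let := φ.toAlgebra
  have : IsScalarTower A κ K := IsScalarTower.of_algebraMap_eq fun a => (Ideal.ResidueField.lift_algebraMap _ _ _ _ a).symm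
  have : IsScalarTower A B₀ K := IsScalarTower.of_algebraMap_eq (R := A) (S := B₀) (A := K) fun a => by
    rw [IsScalarTower.algebraMap_apply B₀ B K]
    rw [← IsScalarTower.algebraMap_apply A B₀ B, ← IsScalarTower.algebraMap_apply A B K]
  let Φ : (⊥ : Ideal A).Fiber B₀ →ₐ[κ] K :=
    Algebra.TensorProduct.lift (Algebra.ofId κ K) (IsScalarTower.toAlgHom A B₀ K) fun _ _ => Commute.all _ _
  have halg0 : ∀ c : B₀, IsAlgebraic κ (algebraMap B₀ K c) := fun c => by
    have h1 : IsIntegral κ ((1 : κ) ⊗ₜ[A] c : (⊥ : Ideal A).Fiber B₀) := IsIntegral.of_finite κ _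
    have h2 := h1.map Φ
    rw [show Φ ((1 : κ) ⊗ₜ[A] c) = algebraMap B₀ K c by
      show Algebra.TensorProduct.lift (Algebra.ofId κ K) (IsScalarTower.toAlgHom A B₀ K) _ _ = _
      rw [Algebra.TensorProduct.lift_tmul, map_one, one_mul]
      rfl] at h2
    exact h2.isAlgebraic
  have halgb : IsAlgebraic κ (algebraMap B K b) := by
    obtain ⟨c, s, hcs⟩ := IsLocalization.exists_mk'_eq S b
    have hs : algebraMap B₀ K s ≠ 0 := fun h => by
      have h' : algebraMap B₀ B (s : B₀) = 0 := IsFractionRing.injective B K ((IsScalarTower.algebraMap_apply B₀ B K _).symm.trans (h.trans (map_zero _).symm))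
      exact not_isUnit_zero (h' ▸ IsLocalization.map_units B s)
    have : algebraMap B K b = algebraMap B₀ K c / algebraMap B₀ K s := by
      rw [eq_div_iff hs, IsScalarTower.algebraMap_apply B₀ B K, IsScalarTower.algebraMap_apply B₀ B K, ← map_mul, ← hcs,
        IsLocalization.mk'_spec]
    rw [this, div_eq_mul_inv]
    exact (halg0 c).mul (halg0 s).inv
  have halgA : IsAlgebraic A (algebraMap B K b) := (IsFractionRing.isAlgebraic_iff A κ K).2 halgb
  have hbA : IsAlgebraic A b := (isAlgebraic_algebraMap_iff (IsFractionRing.injective B K)).1 halgA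
  obtain ⟨a, ha, hdvd⟩ := hbA.exists_nonzero_dvd (mem_nonZeroDivisors_of_ne_zero hb0)
  obtain ⟨c, hc⟩ := hdvd
  exact ha ((Submodule.eq_bot_iff _).1 hbot a (show algebraMap A B a ∈ J from hc ▸ J.mul_mem_right c hb))

end Groth.Agent.S9301
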