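import Groth.Statements.S9302
import Mathlib
-- import your own Groth.Agent.* helpers here

set_option autoImplicit false
universe u
open CategoryTheory
open EtAlg

namespace Groth.Agent.S9302

/-- Henselian pairs are preserved under limits: for an inverse system (A_j, I_j) of henselian pairs over
a preordered set J, the limit A = lim A_j with the ideal I = lim I_j (elements all of whose
projections lie in the I_j) is a henselian pair. -/
theorem result (J : Type u) [Preorder J] (F : J ⥤ CommRingCat.{u})
    (I : ∀ j : J, Ideal (F.obj j))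
    (hI : ∀ (i j : J) (φ : i ⟶ j), Ideal.map (F.map φ).hom (I i) ≤ I j)
    (h : ∀ j : J, HenselianRing (F.obj j) (I j)) :
    HenselianRing ((Limits.limit F : CommRingCat.{u}) : Type u)
      (⨅ j : J, Ideal.comap (Limits.limit.π F j).hom (I j)) := by
  let π : ∀ j, (Limits.limit F : CommRingCat.{u}) →+* F.obj j := fun j => (Limits.limit.π F j).hom
  let T : Ideal ((Limits.limit F : CommRingCat.{u}) : Type u) := ⨅ j : J, Ideal.comap (π j) (I j)
  have hext : ∀ a b : ((Limits.limit F : CommRingCat.{u}) : Type u), (∀ j, π j a = π j b) → a = b :=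
    fun a b hab => Limits.Concrete.limit_ext F a b hab
  have hcompat : ∀ {i j : J} (φ : i ⟶ j) (a : ((Limits.limit F : CommRingCat.{u}) : Type u)),
      (F.map φ).hom (π i a) = π j a := fun φ a => by
    exact (ConcreteCategory.congr_hom (Limits.limit.w F φ) a)
  have hmk : ∀ (x : ∀ j, F.obj j), (∀ {i j : J} (φ : i ⟶ j), (F.map φ).hom (x i) = x j) →
      ∃ a, ∀ j, π j a = x j := by
    intro x hx
    let s := (Limits.Types.limitEquivSections (F ⋙ forget CommRingCat)).symm ⟨x, fun φ => hx φ⟩
    let a := (preservesLimitIso (forget CommRingCat) F).inv s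
    refine ⟨a, fun j => ?_⟩
    have h1 := CategoryTheory.congr_fun (preservesLimitIso_inv_π (forget CommRingCat) F j) s
    exact h1.trans (Limits.Types.limitEquivSections_symm_apply _ _ _)
  refine ⟨fun x hx => ?_, fun f hf a₀ ha₀ hder => ?_⟩
  · rw [Ideal.mem_jacobson_bot]
    intro y
    have hu : ∀ j, IsUnit (π j (x * y + 1)) := fun j => by
      have hxj : π j x ∈ (⊥ : Ideal (F.obj j)).jacobson := (h j).jac ((Ideal.mem_iInf.1 hx) j)
      rw [map_add, map_mul, map_one]
      exact Ideal.mem_jacobson_bot.1 hxj _
    choose v hv using fun j => (hu j).exists_right_inv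
    obtain ⟨w, hw⟩ := hmk v fun {i j} φ => by
      have h1 := congrArg (F.map φ).hom (hv i)
      rw [map_mul, map_one, hcompat] at h1
      exact (hu j).mul_left_cancel (h1.trans (hv j).symm)
    exact IsUnit.of_mul_eq_one w (hext _ _ fun j => by rw [map_mul, hw, hv, map_one])
  · have huniq : ∀ (j : J) (p : Polynomial (F.obj j)) (a b : F.obj j), p.IsRoot a → p.IsRoot b →
        b - a ∈ I j → IsUnit (Ideal.Quotient.mk (I j) (p.derivative.eval a)) → a = b := by
      intro j p a b ha hb hab hu
      obtain ⟨k, hk⟩ := Polynomial.evalSubFactor p b a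
      obtain ⟨k, hk⟩ := p.binomExpansion a (b - a)
      rw [add_sub_cancel, ha.eq_zero, hb.eq_zero, zero_add] at hk
      have hu' : IsUnit (p.derivative.eval a + k * (b - a)) := by
        obtain ⟨s, hs⟩ := hu.exists_right_inv
        obtain ⟨s, rfl⟩ := Ideal.Quotient.mk_surjective s
        rw [← map_mul, ← map_one (Ideal.Quotient.mk (I j)), Ideal.Quotient.eq] at hs
        have hz : (p.derivative.eval a + k * (b - a)) * s - 1 ∈ I j := by
          have := add_mem hs (Ideal.mul_mem_left (I j) (k * s) hab)
          convert this using 1; ring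
        have := Ideal.mem_jacobson_bot.1 ((h j).jac hz) 1
        rw [mul_one, sub_add_cancel] at this
        exact isUnit_of_mul_isUnit_left this
      exact (sub_eq_zero.1 (hu'.mul_right_eq_zero.1 (by linear_combination -hk))).symm
    have hder' : ∀ j, IsUnit (Ideal.Quotient.mk (I j) ((f.map (π j)).derivative.eval (π j a₀))) := fun j => by
      rw [Polynomial.derivative_map, Polynomial.eval_map, Polynomial.eval₂_at_apply]
      have := hder.map (Ideal.quotientMap (I j) (π j) (iInf_le _ j))
      rwa [Ideal.quotientMap_mk] at this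
    choose r hr1 hr2 using fun j => (h j).is_henselian (f.map (π j)) (hf.map _) (π j a₀)
      (by rw [Polynomial.eval_map, Polynomial.eval₂_at_apply]; exact Ideal.mem_iInf.1 ha₀ j) (hder' j)
    obtain ⟨a, ha⟩ := hmk r fun {i j} φ => by
      have hπ : (F.map φ).hom.comp (π i) = π j := RingHom.ext (hcompat φ)
      have hm : (F.map φ).hom (r i) - π j a₀ ∈ I j := by
        have := hI i j φ (Ideal.mem_map_of_mem _ (hr2 i))
        rwa [map_sub, hcompat] at this
      refine huniq j (f.map (π j)) _ _ ?_ (hr1 j) ?_ ?_
      · rw [← hπ, ← Polynomial.map_map]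
        exact (hr1 i).map
      · have := sub_mem (hr2 j) hm
        simpa using this
      · have he : Ideal.Quotient.mk (I j) ((F.map φ).hom (r i)) = Ideal.Quotient.mk (I j) (π j a₀) :=
          Ideal.Quotient.eq.2 hm
        rw [← Polynomial.eval₂_at_apply (Ideal.Quotient.mk (I j)), he, Polynomial.eval₂_at_apply]
        exact hder' j
    refine ⟨a, hext _ _ fun j => ?_, Ideal.mem_iInf.2 fun j => ?_⟩
    · rw [map_zero, ← Polynomial.eval₂_at_apply, ← Polynomial.eval_map, ha]
      exact hr1 j
    · rw [Ideal.mem_comap, map_sub]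
      show π j a - π j a₀ ∈ I j
      rw [ha]; exact hr2 j

end Groth.Agent.S9302
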