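import Groth.Statements.S9303
import Mathlib

set_option autoImplicit false
universe u
open CAlg

namespace Groth.Agent.S9303

/-- Let A be a ring, I a finitely generated ideal and A → C a ring map such that for every f ∈ I the map
A_f → C_f is the localization of A_f at an idempotent. Then there is a surjection A → C' (C' = A/K
for an ideal K) such that A_f → (C × C')_f is an isomorphism for every f ∈ I. -/
theorem result (A : Type u) [CommRing A]
    (I : Ideal A) (hI : I.FG) (C : Type u) [CommRing C] [Algebra A C]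
    (h : ∀ f ∈ I, ∃ e : Localization.Away f, IsIdempotentElem e ∧
      IsLocalization.Away e (Localization (Algebra.algebraMapSubmonoid C (Submonoid.powers f)))) :
    ∃ K : Ideal A, ∀ f ∈ I, Function.Bijective
      (algebraMap (Localization.Away f)
        (Localization (Algebra.algebraMapSubmonoid (C × (A ⧸ K)) (Submonoid.powers f)))) := by
  classical
  let N : Ideal A := RingHom.ker (algebraMap A C)
  let K : Ideal A :=
    { carrier := {a | ∀ x ∈ N, ∀ f ∈ I, ∃ m : ℕ, f ^ m * (a * x) = 0}
      add_mem' := fun {a b} ha hb x hx f hf => by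
        obtain ⟨m, hm⟩ := ha x hx f hf
        obtain ⟨l, hl⟩ := hb x hx f hf
        exact ⟨m + l, by linear_combination f ^ l * hm + f ^ m * hl + (pow_add f m l) * ((a + b) * x)⟩
      zero_mem' := fun x _ f _ => ⟨0, by simp⟩
      smul_mem' := fun c a ha x hx f hf => by
        obtain ⟨m, hm⟩ := ha x hx f hf
        exact ⟨m, by rw [smul_eq_mul]; linear_combination c * hm⟩ }
  have hnum : ∀ (f : A) (z : Localization.Away f), ∃ (a : A) (n : ℕ),
      z * algebraMap A (Localization.Away f) (f ^ n) = algebraMap A (Localization.Away f) a := fun f z => by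
    obtain ⟨⟨a, s, n, rfl⟩, h⟩ := IsLocalization.surj (Submonoid.powers f) z
    exact ⟨a, n, h⟩
  have hunit : ∀ (f : A) (n : ℕ), IsUnit (algebraMap A (Localization.Away f) (f ^ n)) := fun f n =>
    IsLocalization.map_units (Localization.Away f) (⟨f ^ n, n, rfl⟩ : Submonoid.powers f)
  have hker : ∀ (f : A) (a : A),
      algebraMap A (Localization (Algebra.algebraMapSubmonoid C (Submonoid.powers f))) a = 0 ↔ ∃ m, f ^ m * a ∈ N := by
    intro f a
    rw [IsScalarTower.algebraMap_apply A C (Localization (Algebra.algebraMapSubmonoid C (Submonoid.powers f))),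
      IsLocalization.map_eq_zero_iff (Algebra.algebraMapSubmonoid C (Submonoid.powers f))]
    constructor
    · rintro ⟨⟨_, _, ⟨m, rfl⟩, rfl⟩, hm⟩
      exact ⟨m, by rw [RingHom.mem_ker, map_mul]; exact hm⟩
    · rintro ⟨m, hm⟩
      exact ⟨⟨_, _, ⟨m, rfl⟩, rfl⟩, by rw [RingHom.mem_ker, map_mul] at hm; exact hm⟩
  choose! e he hloc using h
  have hidem : ∀ f ∈ I, ∀ z : Localization.Away f,
      algebraMap (Localization.Away f) (Localization (Algebra.algebraMapSubmonoid C (Submonoid.powers f))) z = 0 →
        e f * z = 0 := by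
    intro f hf z hz
    haveI := hloc f hf
    obtain ⟨⟨_, k, rfl⟩, hk⟩ := (IsLocalization.map_eq_zero_iff (Submonoid.powers (e f)) _ z).1 hz
    rcases Nat.eq_zero_or_pos k with rfl | hk0
    · simp only [pow_zero, one_mul] at hk; rw [hk, mul_zero]
    · obtain ⟨k', rfl⟩ := Nat.exists_eq_add_of_le hk0
      simp only [(he f hf).pow_succ_eq, add_comm 1 k'] at hk
      exact hk
  have hone : ∀ f ∈ I,
      algebraMap (Localization.Away f) (Localization (Algebra.algebraMapSubmonoid C (Submonoid.powers f))) (e f) = 1 := by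
    intro f hf
    haveI := hloc f hf
    have hu : IsUnit (algebraMap (Localization.Away f)
        (Localization (Algebra.algebraMapSubmonoid C (Submonoid.powers f))) (e f)) :=
      IsLocalization.Away.algebraMap_isUnit (e f)
    exact (IsIdempotentElem.iff_eq_one_of_isUnit hu).1 ((he f hf).map _)
  -- the complementary ideal meets the idempotent
  have hKe : ∀ f ∈ I, ∀ a ∈ K, algebraMap A (Localization.Away f) a * (1 - e f) = 0 := by
    intro f hf a ha
    obtain ⟨y, n, hy⟩ := hnum f (1 - e f)
    have h0 : algebraMap A (Localization (Algebra.algebraMapSubmonoid C (Submonoid.powers f))) y = 0 := by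
      rw [IsScalarTower.algebraMap_apply A (Localization.Away f), ← hy, map_mul, map_sub, map_one, hone f hf,
        sub_self, zero_mul]
    obtain ⟨m, hm⟩ := (hker f y).1 h0
    obtain ⟨l, hl⟩ := ha _ hm f hf
    have h1 := congrArg (algebraMap A (Localization.Away f)) hl
    rw [map_mul, map_mul, map_mul, ← hy, map_zero] at h1
    refine (((hunit f l).mul (hunit f m)).mul (hunit f n)).mul_right_eq_zero.1 ?_
    linear_combination h1
  have heK : ∀ f ∈ I, ∃ a ∈ K, ∃ n : ℕ,
      algebraMap A (Localization.Away f) a = e f * algebraMap A (Localization.Away f) (f ^ n) := by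
    intro f hf
    obtain ⟨a, n, ha⟩ := hnum f (e f)
    obtain ⟨G, hG⟩ := hI
    have hy : ∀ g ∈ G, ∃ y ∈ N, ∃ k : ℕ,
        algebraMap A (Localization.Away g) y = (1 - e g) * algebraMap A (Localization.Away g) (g ^ k) := by
      intro g hg
      have hgI : g ∈ I := hG ▸ Submodule.subset_span hg
      obtain ⟨y, k, hy⟩ := hnum g (1 - e g)
      have h0 : algebraMap A (Localization (Algebra.algebraMapSubmonoid C (Submonoid.powers g))) y = 0 := by
        rw [IsScalarTower.algebraMap_apply A (Localization.Away g), ← hy, map_mul, map_sub, map_one, hone g hgI,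
          sub_self, zero_mul]
      obtain ⟨m, hm⟩ := (hker g y).1 h0
      exact ⟨_, hm, m + k, by rw [map_mul, ← hy, pow_add, map_mul]; ring⟩
    choose! y hyN k hyk using hy
    have hm : ∀ g ∈ G, ∃ m : ℕ, f ^ m * (a * y g) = 0 := by
      intro g hg
      have h1 : algebraMap A (Localization.Away f) (a * y g) = 0 := by
        have h2 := hidem f hf (algebraMap A _ (y g)) (by
          rw [← IsScalarTower.algebraMap_apply, hker]
          exact ⟨0, by rw [pow_zero, one_mul]; exact hyN g hg⟩)
        rw [map_mul, ← ha]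
        linear_combination algebraMap A (Localization.Away f) (f ^ n) * h2
      obtain ⟨⟨_, m, rfl⟩, hm⟩ := (IsLocalization.map_eq_zero_iff (Submonoid.powers f) _ _).1 h1
      exact ⟨m, hm⟩
    choose! m hm using hm
    refine ⟨f ^ G.sup m * a, ?_, G.sup m + n, by rw [map_mul, ← ha, pow_add, map_mul]; ring⟩
    intro x hx h hh
    let L : Ideal A := (Submodule.span A {f ^ G.sup m * a * x}).annihilator
    suffices hL : h ∈ L.radical by
      obtain ⟨p, hp⟩ := hL
      exact ⟨p, (Submodule.mem_annihilator_span_singleton _ _).1 hp⟩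
    rw [← hG] at hh
    refine Submodule.span_le.2 (fun g hg => ?_) hh
    have hgI : g ∈ I := hG ▸ Submodule.subset_span hg
    obtain ⟨d, hd⟩ := Nat.exists_eq_add_of_le (Finset.le_sup (f := m) hg)
    have h3 : algebraMap A (Localization.Away g) (f ^ G.sup m * a) * (1 - e g) = 0 := by
      have h4 : f ^ G.sup m * a * y g = 0 := by rw [hd, pow_add]; linear_combination f ^ d * hm g hg
      have h5 := congrArg (algebraMap A (Localization.Away g)) h4
      rw [map_mul, hyk g hg, map_zero, ← mul_assoc] at h5
      exact (hunit g (k g)).mul_left_eq_zero.1 h5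
    have h6 : algebraMap A (Localization.Away g) (f ^ G.sup m * a * x) = 0 := by
      have h7 := hidem g hgI (algebraMap A _ x) (by
        rw [← IsScalarTower.algebraMap_apply, hker]
        exact ⟨0, by rw [pow_zero, one_mul]; exact hx⟩)
      rw [map_mul]
      linear_combination algebraMap A (Localization.Away g) x * h3 +
        algebraMap A (Localization.Away g) (f ^ G.sup m * a) * h7
    obtain ⟨⟨_, p, rfl⟩, hp⟩ := (IsLocalization.map_eq_zero_iff (Submonoid.powers g) _ _).1 h6
    exact ⟨p, (Submodule.mem_annihilator_span_singleton _ _).2 hp⟩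
  refine ⟨K, fun f hf => ⟨?_, ?_⟩⟩
  · refine (injective_iff_map_eq_zero _).2 fun z hz => ?_
    obtain ⟨a, n, ha⟩ := hnum f z
    have h0 := congrArg (· * algebraMap (Localization.Away f) (Localization (Algebra.algebraMapSubmonoid (C × (A ⧸ K)) (Submonoid.powers f))) (algebraMap A _ (f ^ n))) hz
    simp only [← map_mul, zero_mul, ha] at h0
    rw [← IsScalarTower.algebraMap_apply A (Localization.Away f),
      IsScalarTower.algebraMap_apply A (C × (A ⧸ K)),
      IsLocalization.map_eq_zero_iff (Algebra.algebraMapSubmonoid (C × (A ⧸ K)) (Submonoid.powers f))] at h0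
    obtain ⟨⟨_, _, ⟨m, rfl⟩, rfl⟩, hm⟩ := h0
    rw [← map_mul, Prod.algebraMap_apply, Prod.ext_iff] at hm
    obtain ⟨hm1, hm2⟩ := hm
    have hN : f ^ m * a ∈ N := hm1
    have hK : f ^ m * a ∈ K := Ideal.Quotient.eq_zero_iff_mem.1 hm2
    have h1 := hidem f hf (algebraMap A _ (f ^ m * a)) (by
      rw [← IsScalarTower.algebraMap_apply, hker]; exact ⟨0, by rw [pow_zero, one_mul]; exact hN⟩)
    have h2 := hKe f hf _ hK
    refine (((hunit f m).mul (hunit f n))).mul_right_eq_zero.1 ?_
    rw [map_mul, ← ha] at h1 h2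
    linear_combination h1 + h2
  · intro w
    obtain ⟨⟨⟨c, abar⟩, ⟨_, _, ⟨n, rfl⟩, rfl⟩⟩, hw⟩ :=
      IsLocalization.surj (Algebra.algebraMapSubmonoid (C × (A ⧸ K)) (Submonoid.powers f)) w
    obtain ⟨a, rfl⟩ := Ideal.Quotient.mk_surjective abar
    -- a preimage of c in the localised base
    haveI := hloc f hf
    obtain ⟨⟨rc, _, k, rfl⟩, hrc⟩ := IsLocalization.surj (Submonoid.powers (e f))
      (algebraMap C (Localization (Algebra.algebraMapSubmonoid C (Submonoid.powers f))) c)
    simp only [map_pow, hone f hf, one_pow, mul_one] at hrc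
    obtain ⟨b, hb, l, hbl⟩ := heK f hf
    obtain ⟨α, p, hα⟩ := hnum f (e f * rc + (1 - e f) * algebraMap A _ a)
    obtain ⟨v, hv⟩ := (hunit f (n + p)).exists_right_inv
    refine ⟨algebraMap A _ α * v, ?_⟩
    have hfu : IsUnit (algebraMap (C × (A ⧸ K)) (Localization (Algebra.algebraMapSubmonoid (C × (A ⧸ K)) (Submonoid.powers f))) (algebraMap A _ (f ^ n))) :=
      IsLocalization.map_units (Localization (Algebra.algebraMapSubmonoid (C × (A ⧸ K)) (Submonoid.powers f)))
        (⟨_, _, ⟨n, rfl⟩, rfl⟩ : Algebra.algebraMapSubmonoid (C × (A ⧸ K)) (Submonoid.powers f))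
    refine hfu.mul_left_injective ?_
    show _ * _ = w * _
    rw [hw]
    have hfp : IsUnit (algebraMap (C × (A ⧸ K)) (Localization (Algebra.algebraMapSubmonoid (C × (A ⧸ K)) (Submonoid.powers f))) (algebraMap A _ (f ^ p))) :=
      IsLocalization.map_units (Localization (Algebra.algebraMapSubmonoid (C × (A ⧸ K)) (Submonoid.powers f)))
        (⟨_, _, ⟨p, rfl⟩, rfl⟩ : Algebra.algebraMapSubmonoid (C × (A ⧸ K)) (Submonoid.powers f))
    refine hfp.mul_left_injective ?_
    show _ * _ = _ * _
    have hlhs : algebraMap A (Localization.Away f) α * v * algebraMap A _ (f ^ n) * algebraMap A _ (f ^ p) =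
        algebraMap A (Localization.Away f) α := by
      rw [pow_add, map_mul] at hv
      linear_combination algebraMap A (Localization.Away f) α * hv
    simp only [← IsScalarTower.algebraMap_apply A (C × (A ⧸ K)) (Localization (Algebra.algebraMapSubmonoid (C × (A ⧸ K)) (Submonoid.powers f)))]
    rw [IsScalarTower.algebraMap_apply A (Localization.Away f) _ (f ^ n),
      IsScalarTower.algebraMap_apply A (Localization.Away f) _ (f ^ p), ← map_mul, ← map_mul, hlhs,
      ← IsScalarTower.algebraMap_apply, ← IsScalarTower.algebraMap_apply A (Localization.Away f)]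
    simp only [IsScalarTower.algebraMap_apply A (C × (A ⧸ K)) (Localization (Algebra.algebraMapSubmonoid (C × (A ⧸ K)) (Submonoid.powers f)))]
    rw [← map_mul]
    refine (IsLocalization.eq_iff_exists (Algebra.algebraMapSubmonoid (C × (A ⧸ K)) (Submonoid.powers f)) _).2 ?_
    obtain ⟨q₁, hq₁⟩ : ∃ q, algebraMap A C (f ^ q) * (algebraMap A C α - c * algebraMap A C (f ^ p)) = 0 := by
      have h1 : algebraMap C (Localization (Algebra.algebraMapSubmonoid C (Submonoid.powers f)))
          (algebraMap A C α - c * algebraMap A C (f ^ p)) = 0 := by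
        rw [map_sub, map_mul, ← IsScalarTower.algebraMap_apply, ← IsScalarTower.algebraMap_apply, hrc,
          IsScalarTower.algebraMap_apply A (Localization.Away f), ← hα, map_mul, map_add, map_mul, map_mul,
          map_sub, map_one, hone f hf, ← IsScalarTower.algebraMap_apply A (Localization.Away f) _ (f ^ p)]
        ring
      obtain ⟨⟨_, _, ⟨q, rfl⟩, rfl⟩, hq⟩ :=
        (IsLocalization.map_eq_zero_iff (Algebra.algebraMapSubmonoid C (Submonoid.powers f)) _ _).1 h1
      exact ⟨q, hq⟩
    obtain ⟨q₂, hq₂⟩ : ∃ q, f ^ q * (α - a * f ^ p) ∈ K := by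
      obtain ⟨δ, r, hδ⟩ := hnum f ((rc - algebraMap A _ a) * algebraMap A _ (f ^ p))
      have h1 : algebraMap A (Localization.Away f) ((α - a * f ^ p) * f ^ (l + r)) =
          algebraMap A (Localization.Away f) (b * δ) := by
        rw [map_mul, map_sub, map_mul, map_mul, ← hα, hbl, ← hδ, pow_add, map_mul]
        ring
      obtain ⟨⟨_, q, rfl⟩, hq⟩ := (IsLocalization.eq_iff_exists (Submonoid.powers f) _).1 h1
      refine ⟨q + (l + r), ?_⟩
      rw [show f ^ (q + (l + r)) * (α - a * f ^ p) = f ^ q * ((α - a * f ^ p) * f ^ (l + r)) by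
        rw [pow_add]; ring]
      simp only at hq
      rw [hq]
      exact K.mul_mem_left _ (K.mul_mem_right _ hb)
    refine ⟨⟨_, _, ⟨q₁ + q₂, rfl⟩, rfl⟩, Prod.ext ?_ ?_⟩
    · simp only [Prod.algebraMap_apply, Prod.fst_mul]
      rw [pow_add, map_mul]
      linear_combination algebraMap A C (f ^ q₂) * hq₁
    · simp only [Prod.algebraMap_apply, Prod.snd_mul, Ideal.Quotient.algebraMap_eq, ← map_mul]
      rw [Ideal.Quotient.eq, show f ^ (q₁ + q₂) * α - f ^ (q₁ + q₂) * (a * f ^ p) =
        f ^ q₁ * (f ^ q₂ * (α - a * f ^ p)) by rw [pow_add]; ring]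
      exact K.mul_mem_left _ hq₂

end Groth.Agent.S9303
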