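import Groth.Statements.S9307
import Groth.Agent.WeakUnram.TameAt

set_option autoImplicit false
universe u
open EtRam

namespace Groth.Agent.S9307



open TensorProduct in
/-- Let A → B be an injective local homomorphism of discrete valuation rings with fraction fields K ⊆ L,
and let K' be a finite separable extension of K that is tamely ramified relative to A. Then every
field F onto which K' ⊗_K L surjects is, as an extension of L, tamely ramified relative to B. (The
published statement also records that K' ⊗_K L is a finite product of fields, whose factors are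
these F; this row does not state that part.) -/
theorem result (A B K L K' : Type u) [CommRing A] [IsDomain A]
    [IsDiscreteValuationRing A] [CommRing B] [IsDomain B] [IsDiscreteValuationRing B] [Algebra A B]
    [IsLocalHom (algebraMap A B)] (hinj : Function.Injective (algebraMap A B))
    [Field K] [Field L] [Field K'] [Algebra A K] [IsFractionRing A K] [Algebra B L] [IsFractionRing B L]
    [Algebra K L] [Algebra A L] [IsScalarTower A K L] [IsScalarTower A B L]
    [Algebra K K'] [FiniteDimensional K K'] [Algebra.IsSeparable K K']
    (h : EtRam.IsTamelyRamified A ((algebraMap K K').comp (algebraMap A K)))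
    (F : Type u) [Field F] [Algebra (K' ⊗[K] L) F] (hF : Function.Surjective (algebraMap (K' ⊗[K] L) F)) :
    EtRam.IsTamelyRamified B ((algebraMap (K' ⊗[K] L) F).comp
      ((Algebra.TensorProduct.includeRight : L →ₐ[K] K' ⊗[K] L).toRingHom.comp (algebraMap B L))) := by
  classical
  let T := K' ⊗[K] L
  let iK : K' →+* F := (algebraMap T F).comp (Algebra.TensorProduct.includeLeftRingHom : K' →+* T)
  let iL : L →+* F := (algebraMap T F).comp (Algebra.TensorProduct.includeRight : L →ₐ[K] T).toRingHom
  letI : Algebra K' F := iK.toAlgebra
  letI : Algebra L F := iL.toAlgebra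
  letI : Algebra K F := (iK.comp (algebraMap K K')).toAlgebra
  haveI : IsScalarTower K K' F := IsScalarTower.of_algebraMap_eq' rfl
  haveI : IsScalarTower K L F := IsScalarTower.of_algebraMap_eq fun k => by
    show algebraMap T F ((algebraMap K K' k) ⊗ₜ[K] (1 : L)) = algebraMap T F ((1 : K') ⊗ₜ[K] algebraMap K L k)
    exact congrArg _ ((Algebra.TensorProduct.includeLeft : K' →ₐ[K] T).commutes k |>.trans
      ((Algebra.TensorProduct.includeRight : L →ₐ[K] T).commutes k).symm)
  have hgen : Algebra.adjoin L (Set.range (algebraMap K' F)) = ⊤ := Algebra.eq_top_iff.2 fun z => by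
    obtain ⟨t, rfl⟩ := hF z
    induction t with
    | zero => rw [map_zero]; exact Subalgebra.zero_mem _
    | add x y hx hy => rw [map_add]; exact Subalgebra.add_mem _ hx hy
    | tmul a b =>
      rw [show a ⊗ₜ[K] b = (a ⊗ₜ[K] (1 : L)) * ((1 : K') ⊗ₜ[K] b) by
        rw [Algebra.TensorProduct.tmul_mul_tmul, mul_one, one_mul], map_mul]
      exact Subalgebra.mul_mem _ (Algebra.subset_adjoin ⟨a, rfl⟩) (Subalgebra.algebraMap_mem _ b)
  exact WeakUnram.tame_baseChange A B K L K' F hgen h

end Groth.Agent.S9307
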