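import Groth.Statements.S9311
import Groth.Agent.PowerSeriesInvLib.Basic
import Mathlib
-- import your own Groth.Agent.* helpers here

set_option autoImplicit false
universe u
open CAlg

namespace Groth.Agent.S9311

/-- Let Λ be a Cohen ring (a complete discrete valuation ring whose maximal ideal is generated by a
prime number p), B = Λ[[x_1, ..., x_n]], and y_1, ..., y_n ∈ B with zero constant terms such that p,
y_1, ..., y_n is a regular system of parameters of B (these n + 1 elements generate the maximal
ideal). Then the substitution map Λ[[y_1, ..., y_n]] → B is an isomorphism: f ↦ f(y_1, ..., y_n) is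
a bijection of Λ[[x_1, ..., x_n]] onto itself. (The published statement allows the y_i to have
constant terms in pΛ, the substitution being defined through the (p, x)-adic topology of B; this row
asks the constant terms to vanish, the case in which substitution is defined coefficientwise with no
topology on Λ.) -/
theorem result (Λ : Type u) [CommRing Λ] [IsDomain Λ]
    [IsDiscreteValuationRing Λ] [IsAdicComplete (IsLocalRing.maximalIdeal Λ) Λ] (p : ℕ) (hp : p.Prime)
    (hm : IsLocalRing.maximalIdeal Λ = Ideal.span {(p : Λ)}) (n : ℕ)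
    (y : Fin n → MvPowerSeries (Fin n) Λ) (hy0 : ∀ i, MvPowerSeries.constantCoeff (y i) = 0)
    (hy : Ideal.span (insert (p : MvPowerSeries (Fin n) Λ) (Set.range y)) =
      IsLocalRing.maximalIdeal (MvPowerSeries (Fin n) Λ)) :
    Function.Bijective (MvPowerSeries.subst y : MvPowerSeries (Fin n) Λ → MvPowerSeries (Fin n) Λ) := by
  refine PowerSeriesInvLib.bijective_subst y hy0 ?_
  set I := RingHom.ker (MvPowerSeries.constantCoeff (R := Λ) (σ := Fin n))
  have hp0 : (p : Λ) ≠ 0 := fun h => IsDiscreteValuationRing.not_a_field Λ (by rw [hm, h, Ideal.span_singleton_eq_bot])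
  have hpm : (p : Λ) ∈ IsLocalRing.maximalIdeal Λ := hm ▸ Ideal.mem_span_singleton_self _
  have hp' : (p : MvPowerSeries (Fin n) Λ) ∈ IsLocalRing.maximalIdeal (MvPowerSeries (Fin n) Λ) :=
    hy ▸ Ideal.subset_span (Set.mem_insert _ _)
  refine Submodule.le_of_le_smul_of_le_jacobson_bot (I := Ideal.span {(p : MvPowerSeries (Fin n) Λ)})
    (IsNoetherian.noetherian I) ?_ ?_
  · rw [IsLocalRing.jacobson_eq_maximalIdeal ⊥ bot_ne_top, Ideal.span_le, Set.singleton_subset_iff]
    exact hp'
  · intro x hx
    have hx' : x ∈ IsLocalRing.maximalIdeal (MvPowerSeries (Fin n) Λ) := by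
      rw [IsLocalRing.mem_maximalIdeal, mem_nonunits_iff, MvPowerSeries.isUnit_iff_constantCoeff, RingHom.mem_ker.1 hx]
      exact not_isUnit_zero
    rw [← hy, Ideal.span, Submodule.mem_span_insert] at hx'
    obtain ⟨a, b, hb, e⟩ := hx'
    have ha : a ∈ I := by
      have hb0 : b ∈ I := (Ideal.span_le.2 (by rintro _ ⟨i, rfl⟩; exact hy0 i) : Ideal.span (Set.range y) ≤ I) hb
      rw [RingHom.mem_ker] at hx hb0 ⊢
      rw [e, map_add, hb0, add_zero, smul_eq_mul, map_mul, map_natCast] at hx
      exact (mul_eq_zero.1 hx).resolve_right hp0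
    rw [e, add_comm, smul_eq_mul]
    refine Submodule.add_mem_sup hb ?_
    rw [smul_eq_mul, mul_comm a]
    exact Ideal.mul_mem_mul (Ideal.mem_span_singleton_self _) ha

end Groth.Agent.S9311
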