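import Groth.Statements.S9312
import Mathlib

set_option autoImplicit false
universe u
open CAlg

namespace Groth.Agent.S9312
open scoped TensorProduct

/-- Let a finite group G with n elements act on a ring R by ring automorphisms, with invariant ring R^G,
and let A be an algebra over R^G; G acts on A ⊗ R through the factor R. (1) For every G-invariant b
∈ A ⊗ R there is a monic polynomial over A whose image in (A ⊗ R)[T] is (T - b)^n. (2) For every a
in the kernel of A → A ⊗ R, all coefficients of (T - a)^n below degree n vanish, that is (T - a)^n =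
T^n in A[T]. -/
theorem result (R G A : Type u) [CommRing R] [Group G] [Fintype G]
    [MulSemiringAction G R] [CommRing A] [Algebra (FixedPoints.subring R G) A] :
    (∀ b : TensorProduct (FixedPoints.subring R G) A R,
      (∀ σ : G, Algebra.TensorProduct.map (AlgHom.id (FixedPoints.subring R G) A)
        (MulSemiringAction.toAlgHom (FixedPoints.subring R G) R σ) b = b) →
      ∃ P : Polynomial A, P.Monic ∧
        Polynomial.map (algebraMap A (TensorProduct (FixedPoints.subring R G) A R)) P =
          (Polynomial.X - Polynomial.C b) ^ Fintype.card G) ∧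
    (∀ a : A, algebraMap A (TensorProduct (FixedPoints.subring R G) A R) a = 0 →
      ∀ i : ℕ, i < Fintype.card G → ((Polynomial.X - Polynomial.C a) ^ Fintype.card G).coeff i = 0) := by
  classical
  let R0 := FixedPoints.subring R G
  let ι : ∀ V : Type u, MvPolynomial V R0 →+* MvPolynomial V R := fun V => MvPolynomial.map (algebraMap R0 R)
  have hι : ∀ V : Type u, Function.Injective (Polynomial.map (ι V)) := fun V =>
    Polynomial.map_injective _ (MvPolynomial.map_injective _ Subtype.val_injective)
  let act : ∀ V : Type u, G → (MvPolynomial V R →+* MvPolynomial V R) := fun V σ =>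
    MvPolynomial.map (MulSemiringAction.toRingHom G R σ)
  have hactmul : ∀ (V : Type u) (σ τ : G) (b : MvPolynomial V R), act V σ (act V τ b) = act V (σ * τ) b := fun V σ τ b => by
    exact (MvPolynomial.map_map _ _ b).trans (congrArg (fun f => MvPolynomial.map f b) (RingHom.ext fun r => (mul_smul σ τ r).symm))
  have hN : ∀ (V : Type u) (b : MvPolynomial V R), ∃ N : Polynomial (MvPolynomial V R0),
      N.map (ι V) = ∏ σ : G, (Polynomial.X - Polynomial.C (act V σ b)) := by
    intro V b
    set Q := ∏ σ : G, (Polynomial.X - Polynomial.C (act V σ b))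
    have hQ : ∀ τ : G, Q.map (act V τ) = Q := fun τ => by
      simp only [Q, Polynomial.map_prod, Polynomial.map_sub, Polynomial.map_X, Polynomial.map_C, hactmul]
      exact Fintype.prod_equiv (Equiv.mulLeft τ) _ _ fun σ => rfl
    have hcoef : Q ∈ Polynomial.lifts (ι V) := (Polynomial.lifts_iff_coeff_lifts Q).2 fun n => by
      refine MvPolynomial.mem_range_map_iff_coeffs_subset.2 fun c hc => ?_
      obtain ⟨d, -, rfl⟩ := MvPolynomial.mem_coeffs_iff.1 hc
      refine ⟨⟨_, fun τ => ?_⟩, rfl⟩
      have := congrArg (fun P => MvPolynomial.coeff d (P.coeff n)) (hQ τ)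
      simp only [Polynomial.coeff_map, act, MvPolynomial.coeff_map] at this
      exact this
    obtain ⟨N, hN⟩ := Polynomial.mem_lifts Q |>.1 hcoef
    exact ⟨N, hN⟩
  let iR : R →+* A ⊗[R0] R := (Algebra.TensorProduct.includeRight : R →ₐ[R0] A ⊗[R0] R).toRingHom
  let θ : MvPolynomial A R →+* A ⊗[R0] R := MvPolynomial.eval₂Hom iR (algebraMap A (A ⊗[R0] R))
  let ε : MvPolynomial A R0 →+* A := (MvPolynomial.aeval (id : A → A)).toRingHom
  have hcompat : θ.comp (ι A) = (algebraMap A (A ⊗[R0] R)).comp ε := MvPolynomial.ringHom_ext (fun r => by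
      simp only [θ, ε, ι, RingHom.comp_apply, MvPolynomial.map_C, MvPolynomial.eval₂Hom_C, AlgHom.toRingHom_eq_coe,
        AlgHom.coe_toRingHom, MvPolynomial.aeval_C]
      exact ((Algebra.TensorProduct.includeRight : R →ₐ[R0] A ⊗[R0] R).commutes r).trans
        (IsScalarTower.algebraMap_apply R0 A (A ⊗[R0] R) r))
    (fun a => by simp [θ, ε, ι])
  constructor
  · intro b hb
    obtain ⟨b', rfl⟩ : ∃ b', θ b' = b := by
      induction b using TensorProduct.induction_on with
      | zero => exact ⟨0, map_zero _⟩
      | tmul a r =>
        exact ⟨MvPolynomial.X a * MvPolynomial.C r, by simp [θ, iR, Algebra.TensorProduct.algebraMap_apply]; rfl⟩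
      | add x y hx hy =>
        have hsurj : Function.Surjective θ := fun z => by
          induction z using TensorProduct.induction_on with
          | zero => exact ⟨0, map_zero _⟩
          | tmul a r =>
            exact ⟨MvPolynomial.X a * MvPolynomial.C r, by simp [θ, iR, Algebra.TensorProduct.algebraMap_apply]⟩
          | add u v hu hv =>
            obtain ⟨u', rfl⟩ := hu
            obtain ⟨v', rfl⟩ := hv
            exact ⟨u' + v', map_add _ _ _⟩
        exact hsurj _
    obtain ⟨N, hN⟩ := hN A b'
    have hmonic : N.Monic := Polynomial.monic_of_injective (MvPolynomial.map_injective _ Subtype.val_injective)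
      (hN ▸ Polynomial.monic_prod_of_monic _ _ fun σ _ => Polynomial.monic_X_sub_C _)
    refine ⟨N.map ε, hmonic.map _, ?_⟩
    rw [Polynomial.map_map, ← hcompat, ← Polynomial.map_map, hN, Polynomial.map_prod]
    rw [Finset.prod_eq_pow_card (b := Polynomial.X - Polynomial.C (θ b')) fun σ _ => ?_, Finset.card_univ]
    rw [Polynomial.map_sub, Polynomial.map_X, Polynomial.map_C]
    congr 2
    have hcomm : θ.comp (act A σ) = (Algebra.TensorProduct.map (AlgHom.id R0 A)
        (MulSemiringAction.toAlgHom R0 R σ)).toRingHom.comp θ :=
      MvPolynomial.ringHom_ext (fun r => by simp [θ, act, iR]) (fun a => by simp [θ, act, Algebra.TensorProduct.algebraMap_apply])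
    exact (RingHom.congr_fun hcomm b').trans (hb σ)
  · intro a ha i hi
    let J := RingHom.ker ε
    have hker : RingHom.ker θ ≤ J.map (ι A) := by
      intro z hz
      let q : MvPolynomial A R →+* MvPolynomial A R ⧸ J.map (ι A) := Ideal.Quotient.mk _
      let jA : MvPolynomial A R0 ⧸ J →+* MvPolynomial A R ⧸ J.map (ι A) :=
        Ideal.quotientMap _ (ι A) Ideal.le_comap_map
      have hε : Function.Surjective ε := fun x => ⟨MvPolynomial.X x, by simp [ε]⟩
      let e := RingHom.quotientKerEquivOfSurjective hε
      let gA : A →+* MvPolynomial A R ⧸ J.map (ι A) := jA.comp e.symm.toRingHom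
      have hgA : ∀ p, gA (ε p) = q (ι A p) := fun p => by
        have he : e.symm (ε p) = Ideal.Quotient.mk J p := e.symm_apply_eq.2 rfl
        show jA (e.symm (ε p)) = _
        rw [he]; rfl
      let gA' : A →ₐ[R0] MvPolynomial A R ⧸ J.map (ι A) :=
        { gA with
          commutes' := fun r => by
            show gA (algebraMap R0 A r) = _
            rw [show algebraMap R0 A r = ε (MvPolynomial.C r) by simp [ε], hgA]
            show q (MvPolynomial.map _ (MvPolynomial.C r)) = _
            rw [MvPolynomial.map_C]
            rfl }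
      let gR' : R →ₐ[R0] MvPolynomial A R ⧸ J.map (ι A) := { q.comp MvPolynomial.C with commutes' := fun r => rfl }
      let Ψ : A ⊗[R0] R →ₐ[R0] MvPolynomial A R ⧸ J.map (ι A) :=
        Algebra.TensorProduct.lift gA' gR' fun _ _ => Commute.all _ _
      have hΨ : Ψ.toRingHom.comp θ = q := MvPolynomial.ringHom_ext (fun r => by
          show Ψ (θ (MvPolynomial.C r)) = _
          simp [θ, iR, Ψ, gR'])
        (fun x => by
          show Ψ (θ (MvPolynomial.X x)) = _
          simp only [θ, MvPolynomial.eval₂Hom_X', Algebra.TensorProduct.algebraMap_apply, Ψ,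
            Algebra.TensorProduct.lift_tmul, map_one, mul_one]
          show gA (algebraMap A A x) = _
          rw [show algebraMap A A x = ε (MvPolynomial.X x) by simp [ε], hgA]
          simp [ι])
      refine Ideal.Quotient.eq_zero_iff_mem.1 ?_
      show q z = 0
      rw [← hΨ, RingHom.comp_apply, RingHom.mem_ker.1 hz, map_zero]
    have hXa : MvPolynomial.X a ∈ J.map (ι A) := hker (by
      rw [RingHom.mem_ker]; simpa [θ] using ha)
    obtain ⟨f, hf⟩ := (Finsupp.mem_ideal_span_range_iff_exists_finsupp (v := fun j : J => ι A j.1)).1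
      (show MvPolynomial.X a ∈ Ideal.span (Set.range fun j : J => ι A j.1) by
        rw [Ideal.map, Set.image_eq_range] at hXa; exact hXa)
    let W := A ⊕ J
    let b'' : MvPolynomial W R :=
      f.sum fun j c => MvPolynomial.rename Sum.inl c * MvPolynomial.X (Sum.inr j)
    obtain ⟨N, hN'⟩ := hN W b''
    let η : MvPolynomial W R →+* MvPolynomial A R :=
      MvPolynomial.eval₂Hom MvPolynomial.C (Sum.elim MvPolynomial.X fun j : J => ι A j.1)
    let η₀ : MvPolynomial W R →+* MvPolynomial A R :=
      MvPolynomial.eval₂Hom MvPolynomial.C (Sum.elim MvPolynomial.X fun _ : J => 0)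
    let η' : MvPolynomial W R0 →+* MvPolynomial A R0 :=
      MvPolynomial.eval₂Hom MvPolynomial.C (Sum.elim MvPolynomial.X fun j : J => j.1)
    let η₀' : MvPolynomial W R0 →+* MvPolynomial A R0 :=
      MvPolynomial.eval₂Hom MvPolynomial.C (Sum.elim MvPolynomial.X fun _ : J => 0)
    have hη : η.comp (ι W) = (ι A).comp η' := MvPolynomial.ringHom_ext (fun r => by simp [η, η', ι])
      (fun w => by cases w <;> simp [η, η', ι])
    have hη₀ : η₀.comp (ι W) = (ι A).comp η₀' := MvPolynomial.ringHom_ext (fun r => by simp [η₀, η₀', ι])
      (fun w => by cases w <;> simp [η₀, η₀', ι])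
    have hεη : ε.comp η' = ε.comp η₀' := MvPolynomial.ringHom_ext (fun r => by simp [η', η₀'])
      (fun w => by
        cases w with
        | inl x => simp [η', η₀']
        | inr j => simpa [η', η₀'] using RingHom.mem_ker.1 j.2)
    have hren : ∀ c : MvPolynomial A R, η (MvPolynomial.rename Sum.inl c) = c := fun c => by
      simp [η, MvPolynomial.bind₁_rename, Function.comp_def]
    have hact : ∀ σ : G, η (act W σ b'') = act A σ (η b'') := fun σ => by
      refine RingHom.congr_fun (?_ : η.comp (act W σ) = (act A σ).comp η) b''
      refine MvPolynomial.ringHom_ext (fun r => by simp [η, act]) (fun w => ?_)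
      cases w with
      | inl x => simp [η, act]
      | inr j =>
        simp only [η, act, RingHom.comp_apply, MvPolynomial.map_X, MvPolynomial.eval₂Hom_X', Sum.elim_inr, ι,
          MvPolynomial.map_map]
        exact congrArg (fun f => MvPolynomial.map f (j : MvPolynomial A R0)) (RingHom.ext fun r => ((r.2 σ).symm : _))
    have hb'' : η b'' = MvPolynomial.X a := by
      simp only [b'', map_finsuppSum, map_mul, hren]
      simpa [η] using hf
    have h1 : (N.map η').map (ι A) = ((Polynomial.X - Polynomial.C (MvPolynomial.X a)) ^ Fintype.card G : Polynomial (MvPolynomial A R0)).map (ι A) := by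
      rw [Polynomial.map_map, ← hη, ← Polynomial.map_map, hN', Polynomial.map_prod,
        Finset.prod_eq_pow_card (b := Polynomial.X - Polynomial.C (MvPolynomial.X a)) fun σ _ => by
          rw [Polynomial.map_sub, Polynomial.map_X, Polynomial.map_C, hact, hb'']; simp [act]]
      simp [ι, Finset.card_univ]
    have h2 : (N.map η₀').map (ι A) = (Polynomial.X ^ Fintype.card G : Polynomial (MvPolynomial A R0)).map (ι A) := by
      have h0 : ∀ σ : G, η₀ (act W σ b'') = 0 := fun σ => by
        simp [b'', η₀, act, map_finsuppSum, Finsupp.sum]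
      rw [Polynomial.map_map, ← hη₀, ← Polynomial.map_map, hN', Polynomial.map_prod,
        Finset.prod_eq_pow_card (b := Polynomial.X) fun σ _ => by
          rw [Polynomial.map_sub, Polynomial.map_X, Polynomial.map_C, h0, map_zero, sub_zero]]
      simp [Finset.card_univ]
    have h3 : ((Polynomial.X - Polynomial.C a) ^ Fintype.card G) = (Polynomial.X ^ Fintype.card G : Polynomial A) := by
      have := congrArg (Polynomial.map ε) (hι A h1)
      rw [Polynomial.map_map, hεη, ← Polynomial.map_map, hι A h2] at this
      simpa [ε] using this.symm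
    rw [h3, Polynomial.coeff_X_pow, if_neg hi.ne]

end Groth.Agent.S9312
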