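import Groth.Statements.S9313
import Mathlib.RingTheory.ZariskisMainTheorem
-- import your own Groth.Agent.* helpers here

set_option autoImplicit false
universe u
open CAlg

namespace Groth.Agent.S9313

open Algebra

theorem exists_mem_J {A B : Type u} [CommRing A] [CommRing B] [Algebra A B] [Algebra.FiniteType A B] (I : Ideal A)
    (b : B) (hb : b * b - b ∈ I.map (algebraMap A B))
    (hfin : Module.Finite A (B ⧸ (I.map (algebraMap A B) ⊔ Ideal.span {1 - b})))
    (Q : Ideal B) [Q.IsPrime] (hQ : I.map (algebraMap A B) ⊔ Ideal.span {1 - b} ≤ Q) :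
    ∃ r : B, r ∉ Q ∧ IsIntegral A r ∧ ∀ x, ∃ m, IsIntegral A (r ^ m * x) := by
  let K := I.map (algebraMap A B) ⊔ Ideal.span ({1 - b} : Set B)
  let p := Q.under A
  let L := Localization.AtPrime Q
  let J := p.map (algebraMap A L)
  have hbQ : b ∉ Q := fun hm => ‹Q.IsPrime›.ne_top (Q.eq_top_iff_one.2 (by
    simpa using Q.add_mem (hQ (Ideal.mem_sup_right (Ideal.subset_span rfl))) hm))
  have hIJ : ∀ z ∈ I.map (algebraMap A B), Ideal.Quotient.mk J (algebraMap B L z) = 0 := by
    intro z hz
    have hIp : I ≤ p := Ideal.map_le_iff_le_comap.1 (le_sup_left.trans hQ)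
    rw [Ideal.Quotient.eq_zero_iff_mem]
    have := Ideal.mem_map_of_mem (algebraMap B L) (Ideal.map_mono hIp hz)
    rwa [Ideal.map_map, ← IsScalarTower.algebraMap_eq] at this
  let φ : B →ₐ[A] L ⧸ J := (Ideal.Quotient.mkₐ A J).comp (IsScalarTower.toAlgHom A B L)
  have hub : IsUnit (φ b) := (IsLocalization.map_units L (⟨b, hbQ⟩ : Q.primeCompl)).map (Ideal.Quotient.mk J)
  have hφK : ∀ z ∈ K, φ z = 0 := by
    have h : K ≤ RingHom.ker φ := by
      refine sup_le (fun z hz => hIJ z hz) ((Ideal.span_singleton_le_iff_mem _).2 ?_)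
      have h0 : φ (b * b - b) = 0 := hIJ _ hb
      rw [map_sub, map_mul, sub_eq_zero] at h0
      have h1 : φ b = 1 := hub.mul_right_cancel (h0.trans (one_mul _).symm)
      rw [RingHom.mem_ker, map_sub, map_one, h1, sub_self]
    exact fun z hz => h hz
  let ψ : (B ⧸ K) →ₐ[A] L ⧸ J := Ideal.Quotient.liftₐ K φ hφK
  haveI : Module.Finite A (B ⧸ K) := hfin
  haveI : Algebra.QuasiFinite A (L ⧸ J) := by
    refine .of_forall_exists_mul_mem_range ψ fun x => ?_
    obtain ⟨x, rfl⟩ := Ideal.Quotient.mk_surjective x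
    obtain ⟨z, ⟨s, hs⟩, rfl⟩ := IsLocalization.exists_mk'_eq Q.primeCompl x
    refine ⟨Ideal.Quotient.mk K s, ?_, ?_⟩
    · exact (IsLocalization.map_units L (⟨s, hs⟩ : Q.primeCompl)).map (Ideal.Quotient.mk J)
    · refine ⟨Ideal.Quotient.mk K z, ?_⟩
      show Ideal.Quotient.mk J (algebraMap B L z) = _
      rw [← IsLocalization.mk'_spec L z (⟨s, hs⟩ : Q.primeCompl), map_mul]
      rfl
  haveI : Algebra.WeaklyQuasiFiniteAt A Q := Algebra.weaklyQuasiFiniteAt_iff _ |>.2 ‹_›
  exact zariskisMainProperty_iff.1 (ZariskisMainProperty.of_finiteType_of_weaklyQuasiFiniteAt Q)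

/-- Let A be a ring with an ideal I and A → B a ring map of finite type, and suppose B/IB = C_1 × C_2
(given by an idempotent e of B/IB with C_1 = (B/IB)/(1 - e)) where C_1 is finite over A/I. Writing
B' for the integral closure of A in B, some g ∈ B' has idempotent image in B'/IB' lifting e (so
B'/IB' = C_1' × C_2' compatibly with the decomposition of B/IB), and the map B'_g → B_g is an
isomorphism (whence C_1' = C_1). -/
theorem result (A B : Type u) [CommRing A] [CommRing B]
    [Algebra A B] [Algebra.FiniteType A B] (I : Ideal A) (e : B ⧸ Ideal.map (algebraMap A B) I)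
    (he : IsIdempotentElem e)
    (hfin : Module.Finite (A ⧸ I) ((B ⧸ Ideal.map (algebraMap A B) I) ⧸ Ideal.span {1 - e})) :
    ∃ g : integralClosure A B,
      IsIdempotentElem (Ideal.Quotient.mk (Ideal.map (algebraMap A (integralClosure A B)) I) g) ∧
      Ideal.Quotient.mk (Ideal.map (algebraMap A B) I) (g : B) = e ∧
      Function.Bijective (algebraMap (Localization.Away g)
        (Localization (Algebra.algebraMapSubmonoid B (Submonoid.powers g)))) := by
  classical
  let B' := integralClosure A B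
  let IB := Ideal.map (algebraMap A B) I
  let IB' := Ideal.map (algebraMap A B') I
  obtain ⟨b, rfl⟩ := Ideal.Quotient.mk_surjective e
  have hbb : b * b - b ∈ IB := Ideal.Quotient.eq.1 (by rw [map_mul]; exact he)
  let K := IB ⊔ Ideal.span ({1 - b} : Set B)
  haveI hfinK : Module.Finite A (B ⧸ K) := by
    haveI := hfin
    haveI : Module.Finite A ((B ⧸ IB) ⧸ Ideal.span {1 - Ideal.Quotient.mk IB b}) :=
      Module.Finite.trans (A ⧸ I) _
    have e1 := DoubleQuot.quotQuotEquivQuotSupₐ A IB (Ideal.span ({1 - b} : Set B))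
    have e2 : Ideal.span {1 - Ideal.Quotient.mk IB b} = (Ideal.span ({1 - b} : Set B)).map (Ideal.Quotient.mkₐ A IB) := by
      rw [Ideal.map_span, Set.image_singleton, Ideal.Quotient.mkₐ_eq_mk, map_sub, map_one]
    exact Module.Finite.equiv ((Ideal.quotientEquivAlgOfEq A e2).trans e1).toLinearEquiv
  -- the conductor of `B' ⊆ B`
  let J : Ideal B' := ⨅ x : B, ((Submodule.colon (LinearMap.range (Algebra.linearMap B' B)) {x}).radical)
  have hJ : ∀ r : B', r ∈ J ↔ ∀ x : B, ∃ m, IsIntegral A ((r : B) ^ m * x) := by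
    intro r
    rw [Submodule.mem_iInf]
    refine forall_congr' fun x => exists_congr fun m => ?_
    rw [Submodule.mem_colon_singleton]
    constructor
    · rintro ⟨y, hy⟩
      have : ((r : B) ^ m * x) = (y : B) := by rw [← SubmonoidClass.coe_pow]; exact hy.symm
      rw [this]
      exact y.2
    · intro h
      exact ⟨⟨_, h⟩, rfl⟩
  let K' : Ideal B' := K.comap (algebraMap B' B)
  have hJK : J ⊔ K' = ⊤ := by
    by_contra hne
    obtain ⟨P, hP, hle⟩ := Ideal.exists_le_maximal _ hne
    haveI := hP.isPrime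
    haveI : Algebra.IsIntegral B' (B ⧸ K) := Algebra.IsIntegral.tower_top A
    obtain ⟨Q₁, -, hQ₁p, hQ₁⟩ := Ideal.exists_ideal_over_prime_of_isIntegral P (⊥ : Ideal (B ⧸ K)) (by
      intro z hz
      exact hle (Ideal.mem_sup_right (show (z : B) ∈ K from Ideal.Quotient.eq_zero_iff_mem.1 (Ideal.mem_bot.1 hz))))
    let Q := Q₁.comap (Ideal.Quotient.mk K)
    obtain ⟨r, hrQ, hr, hrx⟩ := exists_mem_J I b hbb hfinK Q (by
      intro z hz
      show Ideal.Quotient.mk K z ∈ Q₁
      rw [Ideal.Quotient.eq_zero_iff_mem.2 hz]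
      exact zero_mem _)
    have hrP : (⟨r, hr⟩ : B') ∈ P := hle (Ideal.mem_sup_left ((hJ _).2 hrx))
    rw [← hQ₁] at hrP
    exact hrQ hrP
  obtain ⟨h, hh, k, hk, hhk⟩ := Submodule.mem_sup.1 (hJK.ge (Submodule.mem_top (x := (1 : B'))))
  -- an element of `B'` lifting `e`
  obtain ⟨n, hn⟩ := (hJ h).1 hh b
  let y : B' := h * ⟨_, hn⟩
  have hyJ : y ∈ J := J.mul_mem_right _ hh
  have hye : Ideal.Quotient.mk IB (y : B) = Ideal.Quotient.mk IB b := by
    obtain ⟨u, hu, v, hv, huv⟩ := Submodule.mem_sup.1 (show (k : B) ∈ IB ⊔ Ideal.span {1 - b} from hk)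
    obtain ⟨c, rfl⟩ := Ideal.mem_span_singleton'.1 hv
    have hb1 : Ideal.Quotient.mk IB b * (1 - Ideal.Quotient.mk IB b) = 0 := by
      rw [mul_sub, mul_one, he.eq, sub_self]
    have hh1 : (h : B) = 1 - k := by
      have := congrArg (fun z : B' => (z : B)) hhk
      simp only [AddMemClass.coe_add, OneMemClass.coe_one] at this
      rw [← this, add_sub_cancel_right]
    have hm : Ideal.Quotient.mk IB (h : B) * Ideal.Quotient.mk IB b = Ideal.Quotient.mk IB b := by
      rw [hh1, ← huv, map_sub, map_one, map_add, Ideal.Quotient.eq_zero_iff_mem.2 hu, zero_add, map_mul, map_sub,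
        map_one, sub_mul, one_mul, mul_assoc, mul_comm (1 - Ideal.Quotient.mk IB b), hb1, mul_zero, sub_zero]
    have hpow : ∀ m : ℕ, Ideal.Quotient.mk IB (h : B) ^ m * Ideal.Quotient.mk IB b = Ideal.Quotient.mk IB b := by
      intro m
      induction m with
      | zero => rw [pow_zero, one_mul]
      | succ m ih => rw [pow_succ, mul_assoc, hm, ih]
    show Ideal.Quotient.mk IB ((h : B) * ((h : B) ^ n * b)) = _
    rw [map_mul, map_mul, map_pow, hpow, hm]
  -- a power of it is idempotent modulo `IB'`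
  have hz : ((y : B) * y - y) ∈ IB := by
    rw [← Ideal.Quotient.eq, map_mul, hye]
    exact he
  have key : ∀ z ∈ IB, ∃ (M : ℕ) (z' : B'), z' ∈ IB' ∧ (z' : B) = (y : B) ^ M * z := by
    intro z hz
    induction hz using Submodule.span_induction with
    | mem z hz =>
      obtain ⟨a, ha, rfl⟩ := hz
      exact ⟨0, algebraMap A B' a, Ideal.mem_map_of_mem _ ha, by rw [pow_zero, one_mul]; rfl⟩
    | zero => exact ⟨0, 0, zero_mem _, by simp⟩
    | add u v _ _ hu hv =>
      obtain ⟨M, u', hu', eu⟩ := hu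
      obtain ⟨M', v', hv', ev⟩ := hv
      refine ⟨M + M', y ^ M' * u' + y ^ M * v', add_mem (IB'.mul_mem_left _ hu') (IB'.mul_mem_left _ hv'), ?_⟩
      simp only [AddMemClass.coe_add, MulMemClass.coe_mul, SubmonoidClass.coe_pow, eu, ev]
      ring
    | smul c u _ hu =>
      obtain ⟨M, u', hu', eu⟩ := hu
      obtain ⟨m, hm⟩ := (hJ y).1 hyJ c
      refine ⟨m + M, ⟨_, hm⟩ * u', IB'.mul_mem_left _ hu', ?_⟩
      simp only [MulMemClass.coe_mul, eu, smul_eq_mul]
      ring
  obtain ⟨M, z', hz', hz'e⟩ := key _ hz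
  have h1 : Ideal.Quotient.mk IB' (y ^ (M + 2)) = Ideal.Quotient.mk IB' (y ^ (M + 1)) := by
    rw [Ideal.Quotient.eq]
    convert hz' using 1
    refine Subtype.ext ?_
    rw [hz'e]
    simp only [AddSubgroupClass.coe_sub, SubmonoidClass.coe_pow]
    ring
  have h2 : ∀ j : ℕ, Ideal.Quotient.mk IB' (y ^ (M + 1 + j)) = Ideal.Quotient.mk IB' (y ^ (M + 1)) := by
    intro j
    induction j with
    | zero => rfl
    | succ j ih =>
      rw [← add_assoc, pow_succ, map_mul, ih, ← map_mul, ← pow_succ]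
      exact h1
  refine ⟨y ^ (M + 1), ?_, ?_, ?_⟩
  · show Ideal.Quotient.mk IB' (y ^ (M + 1)) * Ideal.Quotient.mk IB' (y ^ (M + 1)) = _
    rw [← map_mul, ← pow_add, h2]
  · show Ideal.Quotient.mk IB ((y ^ (M + 1) : B') : B) = _
    rw [SubmonoidClass.coe_pow, map_pow, hye]
    exact he.pow_succ_eq M
  · let g := y ^ (M + 1)
    let S := Algebra.algebraMapSubmonoid B (Submonoid.powers g)
    have hgJ : g ∈ J := J.pow_mem_of_mem hyJ _ M.succ_pos
    haveI : IsLocalization ((Submonoid.powers g).map (algebraMap B' B)) (Localization S) := Localization.isLocalization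
    constructor
    · exact IsLocalization.map_injective_of_injective (Submonoid.powers g) (Localization.Away g) (Localization S)
        (g := algebraMap B' B) Subtype.val_injective
    · intro w
      obtain ⟨x, ⟨_, _, ⟨m, rfl⟩, rfl⟩, rfl⟩ := IsLocalization.exists_mk'_eq S w
      obtain ⟨n', hn'⟩ := (hJ g).1 hgJ x
      refine ⟨IsLocalization.mk' (Localization.Away g) (⟨_, hn'⟩ : B') (⟨g ^ (n' + m), n' + m, rfl⟩ : Submonoid.powers g), ?_⟩
      show IsLocalization.map (Localization S) (algebraMap B' B) (Submonoid.powers g).le_comap_map _ = _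
      rw [IsLocalization.map_mk']
      refine IsLocalization.mk'_eq_of_eq (M := S) ?_
      show ((g ^ (n' + m) : B') : B) * x = ((g ^ m : B') : B) * ((g : B) ^ n' * x)
      simp only [SubmonoidClass.coe_pow]
      ring

end Groth.Agent.S9313
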