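import Groth.Statements.S9320
import Mathlib
import Groth.Agent.FieldExtLib.Square
-- import your own Groth.Agent.* helpers here

set_option autoImplicit false
universe u
open CAlg

namespace Groth.Agent.S9320

theorem index_aux {L A B C D E : Type*} [Field L] [AddCommGroup A] [AddCommGroup B] [AddCommGroup C]
    [AddCommGroup D] [AddCommGroup E] [Module L A] [Module L B] [Module L C] [Module L D] [Module L E]
    (f : A →ₗ[L] B) (g : B →ₗ[L] C) (d : C →ₗ[L] D) (h : D →ₗ[L] E)
    (hfg : Function.Exact f g) (hgd : Function.Exact g d) (hdh : Function.Exact d h) [Module.Finite L C] :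
    Module.Finite L (B ⧸ LinearMap.range f) ∧ Module.Finite L (LinearMap.ker h) ∧
      (Module.finrank L (B ⧸ LinearMap.range f) : ℤ) + Module.finrank L (LinearMap.ker h) = Module.finrank L C := by
  have e1 : (B ⧸ LinearMap.range f) ≃ₗ[L] LinearMap.range g :=
    (Submodule.quotEquivOfEq _ _ hfg.linearMap_ker_eq.symm).trans g.quotKerEquivRange
  have e2 := hdh.linearMap_ker_eq
  have e3 := hgd.linearMap_ker_eq
  haveI : Module.Finite L (B ⧸ LinearMap.range f) := Module.Finite.equiv e1.symm
  haveI : Module.Finite L (LinearMap.ker h) := by rw [e2]; infer_instance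
  refine ⟨inferInstance, inferInstance, ?_⟩
  have := d.finrank_range_add_finrank_ker
  rw [e3, ← e1.finrank_eq] at this
  rw [e2]
  omega

open TensorProduct in
/-- Consider a commutative square of fields with maps `k → K`, `k → k'`, `k' → K'` and `K → K'`, where
`k'` is a finitely generated field extension of `k` and `K'` is a finitely generated field extension
of `K`. Let `α : Ω_{K/k} ⊗_K K' → Ω_{K'/k'}` and `β : H_1(L_{K/k}) ⊗_K K' → H_1(L_{K'/k'})` be the
comparison maps (`H_1(L)` the first homology of the naive cotangent complex). Then the kernels and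
cokernels of `α` and `β` are finite-dimensional `K'`-vector spaces, and the difference of
transcendence degrees trdeg_k(k') − trdeg_K(K') equals (dim Ker α + dim Coker β) − (dim Coker α +
dim Ker β). -/
theorem result {k k' K K' : Type u} [Field k] [Field k']
    [Field K] [Field K'] [Algebra k k'] [Algebra k K] [Algebra k K'] [Algebra k' K'] [Algebra K K']
    [IsScalarTower k k' K'] [IsScalarTower k K K']
    [Algebra.EssFiniteType k k'] [Algebra.EssFiniteType K K'] :
    Module.Finite K' (LinearMap.ker ((KaehlerDifferential.map k k' K K').liftBaseChange K')) ∧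
      Module.Finite K' (Ω[K'⁄k'] ⧸ LinearMap.range ((KaehlerDifferential.map k k' K K').liftBaseChange K')) ∧
      Module.Finite K' (LinearMap.ker ((Algebra.H1Cotangent.map k k' K K').liftBaseChange K')) ∧
      Module.Finite K' (Algebra.H1Cotangent k' K' ⧸ LinearMap.range ((Algebra.H1Cotangent.map k k' K K').liftBaseChange K')) ∧
      ((Module.finrank K' (LinearMap.ker ((KaehlerDifferential.map k k' K K').liftBaseChange K')) : ℤ)
          - Module.finrank K' (Ω[K'⁄k'] ⧸ LinearMap.range ((KaehlerDifferential.map k k' K K').liftBaseChange K'))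
          - Module.finrank K' (LinearMap.ker ((Algebra.H1Cotangent.map k k' K K').liftBaseChange K'))
          + Module.finrank K' (Algebra.H1Cotangent k' K' ⧸ LinearMap.range ((Algebra.H1Cotangent.map k k' K K').liftBaseChange K'))
        = (Cardinal.toNat (Algebra.trdeg k k') : ℤ) - Cardinal.toNat (Algebra.trdeg K K')) := by
  classical
  obtain ⟨hH1, hd1⟩ := FieldExtLib.finrank_kaehler_eq K K'
  obtain ⟨hH2, hd2⟩ := FieldExtLib.finrank_kaehler_eq k k'
  haveI : Algebra.EssFiniteType K K' := inferInstance
  let a := (Algebra.H1Cotangent.map k k K K').liftBaseChange K'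
  let a' := KaehlerDifferential.mapBaseChange k K K'
  let b := Algebra.H1Cotangent.map k k' K' K'
  let c := KaehlerDifferential.map k k' K' K'
  have hα : (KaehlerDifferential.map k k' K K').liftBaseChange K' = c ∘ₗ a' := by
    apply LinearMap.ext
    intro z
    induction z using TensorProduct.induction_on with
    | zero => simp
    | tmul l ω =>
      have hω : ω ∈ Submodule.span K (Set.range (KaehlerDifferential.D k K)) := by
        rw [KaehlerDifferential.span_range_derivation]; trivial
      simp only [LinearMap.liftBaseChange_tmul, LinearMap.coe_comp, Function.comp_apply, a',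
        KaehlerDifferential.mapBaseChange_tmul, map_smul, c]
      congr 1
      induction hω using Submodule.span_induction with
      | mem x hx => obtain ⟨r, rfl⟩ := hx; simp only [KaehlerDifferential.map_D]; rfl
      | zero => simp
      | add x y _ _ hx hy => simp only [map_add, hx, hy]
      | smul r x _ hx => rw [map_smul, hx, map_smul, ← IsScalarTower.algebraMap_smul K' r (KaehlerDifferential.map k k K K' x),
          ← IsScalarTower.algebraMap_smul K' r, map_smul]
    | add x y hx hy => simp only [map_add, hx, hy]
  have hβ : (Algebra.H1Cotangent.map k k' K K').liftBaseChange K' = b.comp a := by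
    apply LinearMap.ext
    intro z
    induction z using TensorProduct.induction_on with
    | zero => simp
    | tmul l x =>
      simp only [LinearMap.liftBaseChange_tmul, LinearMap.coe_comp, Function.comp_apply, a, b, map_smul]
      congr 1
      unfold Algebra.H1Cotangent.map
      rw [← Algebra.Extension.H1Cotangent.map_comp_apply]
      exact LinearMap.congr_fun (Algebra.Extension.H1Cotangent.map_eq _ _) x
    | add x y hx hy => simp only [map_add, hx, hy]
  -- the tower `k → K → K'`
  obtain ⟨f1, f2, n1⟩ := index_aux a (Algebra.H1Cotangent.map k K K' K') (Algebra.H1Cotangent.δ k K K') a'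
    (Algebra.H1Cotangent.exact_liftBaseChange_map_of_flat k K K') (Algebra.H1Cotangent.exact_map_δ k K K')
    (Algebra.H1Cotangent.exact_δ_mapBaseChange k K K')
  have ea' : (Ω[K'⁄k] ⧸ LinearMap.range a') ≃ₗ[K'] Ω[K'⁄K] :=
    (Submodule.quotEquivOfEq _ _ (KaehlerDifferential.exact_mapBaseChange_map k K K').linearMap_ker_eq.symm).trans
      ((KaehlerDifferential.map k K K' K').quotKerEquivOfSurjective (KaehlerDifferential.map_surjective k K K'))
  haveI : Module.Finite K' (Ω[K'⁄k] ⧸ LinearMap.range a') := Module.Finite.equiv ea'.symm
  have hainj : Function.Injective a := FieldExtLib.liftBaseChange_h1_injective k K K'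
  haveI : Module.Finite K' (LinearMap.ker a) := by rw [LinearMap.ker_eq_bot.2 hainj]; infer_instance
  have ia' : a'.index = (Module.finrank K' (LinearMap.ker a') : ℤ) - Module.finrank K' Ω[K'⁄K] := by
    rw [LinearMap.index_eq_finrank_sub, ea'.finrank_eq]
  have ia : a.index = - (Module.finrank K' (_ ⧸ LinearMap.range a) : ℤ) := LinearMap.index_of_injective hainj
  -- the tower `k → k' → K'`
  have hinj' : Function.Injective ((Algebra.H1Cotangent.map k k k' K').liftBaseChange K') :=
    FieldExtLib.liftBaseChange_h1_injective k k' K'
  have ek : LinearMap.ker b = LinearMap.range ((Algebra.H1Cotangent.map k k k' K').liftBaseChange K') :=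
    (Algebra.H1Cotangent.exact_liftBaseChange_map_of_flat k k' K').linearMap_ker_eq
  haveI : Module.Finite K' (LinearMap.ker b) := by rw [ek]; infer_instance
  have hkb : Module.finrank K' (LinearMap.ker b) = Module.finrank k' (Algebra.H1Cotangent k k') := by
    rw [ek, LinearMap.finrank_range_of_inj hinj', Module.finrank_baseChange]
  have hgd := Algebra.H1Cotangent.exact_map_δ k k' K'
  have ed : (Algebra.H1Cotangent k' K' ⧸ LinearMap.range b) ≃ₗ[K'] LinearMap.range (Algebra.H1Cotangent.δ k k' K') :=
    (Submodule.quotEquivOfEq _ _ hgd.linearMap_ker_eq.symm).trans (Algebra.H1Cotangent.δ k k' K').quotKerEquivRange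
  haveI : Module.Finite K' (Algebra.H1Cotangent k' K' ⧸ LinearMap.range b) := Module.Finite.equiv ed.symm
  have ec : LinearMap.ker c = LinearMap.range (KaehlerDifferential.mapBaseChange k k' K') :=
    (KaehlerDifferential.exact_mapBaseChange_map k k' K').linearMap_ker_eq
  haveI : Module.Finite K' (LinearMap.ker c) := by rw [ec]; infer_instance
  have hcs : Function.Surjective c := KaehlerDifferential.map_surjective k k' K'
  haveI : Subsingleton (Ω[K'⁄k'] ⧸ LinearMap.range c) :=
    Submodule.Quotient.subsingleton_iff.2 (LinearMap.range_eq_top.2 hcs)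
  have hkc : Module.finrank K' (LinearMap.ker c) + Module.finrank K' (Algebra.H1Cotangent k' K' ⧸ LinearMap.range b) =
      Module.finrank k' Ω[k'⁄k] := by
    rw [ec, ed.finrank_eq, ← (Algebra.H1Cotangent.exact_δ_mapBaseChange k k' K').linearMap_ker_eq,
      LinearMap.finrank_range_add_finrank_ker, Module.finrank_baseChange]
  rw [hα, hβ]
  haveI := f1
  haveI := f2
  have i1 := LinearMap.index_comp (f := a') c
  have i2 := LinearMap.index_comp (f := a) b
  refine ⟨?_, ?_, ?_, ?_, ?_⟩
  · rw [LinearMap.ker_comp]; infer_instance
  · rw [LinearMap.range_comp]; infer_instance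
  · rw [LinearMap.ker_comp]; infer_instance
  · rw [LinearMap.range_comp]; infer_instance
  · have ic : c.index = Module.finrank K' (LinearMap.ker c) := LinearMap.index_of_surjective hcs
    have ib := LinearMap.index_eq_finrank_sub (f := b)
    have j1 := LinearMap.index_eq_finrank_sub (f := c ∘ₗ a')
    have j2 := LinearMap.index_eq_finrank_sub (f := b ∘ₗ a)
    omega

end Groth.Agent.S9320
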