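import Groth.Statements.S9321
import Mathlib
import Groth.Agent.S2451
import Groth.Agent.FieldExtLib.Separable
import Groth.Agent.PSStructLib.Basic

set_option autoImplicit false
open CAlg

namespace Groth.Agent.S9321
theorem key {k K : Type} [Field k] [PerfectField k] [Field K] [Algebra k K] (n : ℕ) :
    CAlgX.IsAdicFormallySmooth k (MvPowerSeries (Fin n) K) (IsLocalRing.maximalIdeal (MvPowerSeries (Fin n) K)) := by
  intro A _ _ J hJ ψ ⟨N, hN⟩
  haveI : Algebra.IsGeometricallyReduced k K := Groth.Agent.FieldExtLib.isGeometricallyReduced_of_perfectField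
  haveI : Algebra.FormallySmooth k K := Groth.Agent.S2451.result.2 inferInstance
  let ι : K →ₐ[k] MvPowerSeries (Fin n) K := IsScalarTower.toAlgHom k K (MvPowerSeries (Fin n) K)
  let f : K →ₐ[k] A := Algebra.FormallySmooth.lift J ⟨2, hJ⟩ (ψ.comp ι)
  have hf : ∀ c, Ideal.Quotient.mk J (f c) = ψ (ι c) := fun c => Algebra.FormallySmooth.mk_lift J ⟨2, hJ⟩ (ψ.comp ι) c
  choose a ha using fun i => Ideal.Quotient.mk_surjective (ψ (MvPowerSeries.X i))
  let V := MvPolynomial.idealOfVars (Fin n) K
  let e : MvPolynomial (Fin n) K →+* A := MvPolynomial.eval₂Hom f.toRingHom a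
  have he : ∀ P : MvPolynomial (Fin n) K, Ideal.Quotient.mk J (e P) = ψ (P : MvPowerSeries (Fin n) K) := fun P =>
    DFunLike.congr_fun (MvPolynomial.ringHom_ext (f := (Ideal.Quotient.mk J).comp e)
      (g := ψ.toRingHom.comp MvPolynomial.coeToMvPowerSeries.ringHom) (fun c => by
        simp only [RingHom.comp_apply, MvPolynomial.coeToMvPowerSeries.ringHom_apply, MvPolynomial.coe_C, e,
          MvPolynomial.eval₂Hom_C]
        exact hf c) fun i => by
        simp only [RingHom.comp_apply, MvPolynomial.coeToMvPowerSeries.ringHom_apply, MvPolynomial.coe_X, e,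
          MvPolynomial.eval₂Hom_X']
        exact ha i) P
  have hVm : V.map (algebraMap (MvPolynomial (Fin n) K) (MvPowerSeries (Fin n) K)) ≤
      IsLocalRing.maximalIdeal (MvPowerSeries (Fin n) K) := by
    rw [Ideal.map_span, Ideal.span_le]
    rintro _ ⟨_, ⟨i, rfl⟩, rfl⟩
    rw [SetLike.mem_coe, IsLocalRing.mem_maximalIdeal, mem_nonunits_iff]
    intro h
    have h1 := MvPowerSeries.isUnit_constantCoeff _ h
    simp [MvPowerSeries.algebraMap_apply'] at h1
  have hkill : ∀ f' ∈ (V ^ N).map (algebraMap (MvPolynomial (Fin n) K) (MvPowerSeries (Fin n) K)), ψ f' = 0 := fun f' hf' => by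
    rw [Ideal.map_pow] at hf'
    exact hN f' (Ideal.pow_right_mono hVm N hf')
  have heV : V ^ (N * 2) ≤ RingHom.ker e := by
    have h1 : (V ^ N).map e ≤ J := Ideal.map_le_iff_le_comap.2 fun P hP => by
      rw [Ideal.mem_comap, ← Ideal.Quotient.eq_zero_iff_mem, he]
      exact hkill _ (Ideal.mem_map_of_mem _ hP)
    rw [RingHom.ker_eq_comap_bot, ← Ideal.map_le_iff_le_comap, pow_mul, Ideal.map_pow, ← hJ]
    exact Ideal.pow_right_mono h1 2
  let t := MvPowerSeries.truncTotalAlgHom (Fin n) K (N * 2)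
  let χ₀ : MvPowerSeries (Fin n) K →+* A := (Ideal.Quotient.lift _ e fun P hP => heV hP).comp t.toRingHom
  have hχ : ∀ P : MvPolynomial (Fin n) K, χ₀ (P : MvPowerSeries (Fin n) K) = e P := fun P => by
    show Ideal.Quotient.lift _ e (fun P hP => heV hP) (t (P : MvPowerSeries (Fin n) K)) = _
    have h1 := t.commutes P
    rw [MvPowerSeries.algebraMap_apply'] at h1
    simp only [Algebra.algebraMap_self, MvPowerSeries.map_id, RingHom.id_apply] at h1
    rw [h1]
    rfl
  refine ⟨{ χ₀ with commutes' := fun c => ?_ }, AlgHom.ext fun p => ?_⟩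
  · show χ₀ (algebraMap k (MvPowerSeries (Fin n) K) c) = _
    have h1 : algebraMap k (MvPowerSeries (Fin n) K) c = ((MvPolynomial.C (algebraMap k K c) : MvPolynomial (Fin n) K) : MvPowerSeries (Fin n) K) := by
      rw [MvPolynomial.coe_C, IsScalarTower.algebraMap_apply k K (MvPowerSeries (Fin n) K), MvPowerSeries.c_eq_algebraMap]
    rw [h1, hχ]
    simp only [e, MvPolynomial.eval₂Hom_C]
    exact f.commutes c
  · show Ideal.Quotient.mk J (χ₀ p) = ψ p
    show Ideal.Quotient.mk J (e (MvPowerSeries.truncTotal (N * 2) p)) = ψ p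
    rw [he, eq_comm, ← sub_eq_zero, ← map_sub]
    refine hkill _ (Ideal.map_mono (Ideal.pow_le_pow_right (by omega : N ≤ N * 2)) ?_)
    refine Groth.Agent.PSStructLib.mem_pow_of_truncTotal_eq_zero (N * 2) _ ?_
    rw [map_sub]
    ext e'
    rw [MvPolynomial.coeff_sub, MvPolynomial.coeff_zero, sub_eq_zero]
    rcases lt_or_ge e'.degree (N * 2) with hlt | hge
    · rw [MvPowerSeries.coeff_truncTotal _ hlt, MvPowerSeries.coeff_truncTotal _ hlt, MvPolynomial.coeff_coe,
        MvPowerSeries.coeff_truncTotal _ hlt]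
    · rw [MvPowerSeries.coeff_truncTotal_eq_zero _ hge, MvPowerSeries.coeff_truncTotal_eq_zero _ hge]


/-- Let `K` be a field of characteristic zero and `n ≥ 0`. Then `ℚ → K[[x_1, …, x_n]]` is formally
smooth for the adic topology of the maximal ideal of the power series ring. (`K` is taken in the
lowest universe, where `ℚ` lives.) -/
theorem result (K : Type) [Field K] [CharZero K] (n : ℕ) :
    CAlgX.IsAdicFormallySmooth ℚ (MvPowerSeries (Fin n) K)
      (IsLocalRing.maximalIdeal (MvPowerSeries (Fin n) K)) := by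
  exact key n

end Groth.Agent.S9321
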