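import Groth.Statements.S9324
import Mathlib
import Groth.Agent.Hensel.Idempotent
-- import your own Groth.Agent.* helpers here

set_option autoImplicit false
universe u
open Hensel

namespace Groth.Agent.S9324

open TensorProduct in
/-- Let `(A, I) → (B, J)` be a map of pairs, i.e. `I B ⊆ J`, such that `J` and `I B` have the same
radical, and suppose `A → B` is integral. Let `A^h` be a henselization of the pair `(A, I)`, `B^h` a
henselization of the pair `(B, J)`, and `φ : A^h → B^h` an `A`-algebra homomorphism (there is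
exactly one, by the universal property of `A^h`). Then the induced map `A^h ⊗_A B → B^h` is
bijective: henselization commutes with integral base change. -/
theorem result {A B Ah Bh : Type u} [CommRing A]
    [CommRing B] [CommRing Ah] [CommRing Bh] [Algebra A B] (I : Ideal A) (J : Ideal B)
    (hIJ : I.map (algebraMap A B) ≤ J) (hrad : J.radical = (I.map (algebraMap A B)).radical)
    [Algebra.IsIntegral A B] [Algebra A Ah] (hA : Hens2.IsPairHenselization A I Ah)
    [Algebra B Bh] [Algebra A Bh] [IsScalarTower A B Bh] (hB : Hens2.IsPairHenselization B J Bh)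
    (φ : Ah →ₐ[A] Bh) :
    Function.Bijective (Algebra.TensorProduct.productMap φ (IsScalarTower.toAlgHom A B Bh)) := by
  let P := TensorProduct A Ah B
  haveI := hA.1
  let iR : B →+* P := (Algebra.TensorProduct.includeRight : B →ₐ[A] P).toRingHom
  have hcomm : iR.comp (algebraMap A B) = algebraMap A P :=
    RingHom.ext fun a => (Algebra.TensorProduct.includeRight : B →ₐ[A] P).commutes a
  have hPmap : (I.map (algebraMap A B)).map iR = (I.map (algebraMap A Ah)).map (algebraMap Ah P) := by
    rw [Ideal.map_map, hcomm, Ideal.map_map, ← IsScalarTower.algebraMap_eq]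
  haveI hH : HenselianRing P ((I.map (algebraMap A B)).map iR) :=
    hPmap ▸ Groth.Agent.Hensel.of_isIntegral (A := Ah) (I := I.map (algebraMap A Ah)) P
  haveI hHJ : HenselianRing P (J.map iR) := by
    refine Groth.Agent.Hensel.of_le_radical (I := (I.map (algebraMap A B)).map iR) ?_
    exact (Ideal.map_mono (hrad ▸ Ideal.le_radical)).trans (Ideal.map_radical_le _)
  let ψ := Algebra.TensorProduct.productMap φ (IsScalarTower.toAlgHom A B Bh)
  obtain ⟨g, hg, -⟩ := hB.2 P (J.map iR) iR hHJ le_rfl
  have hgB : ∀ b, g (algebraMap B Bh b) = iR b := RingHom.congr_fun hg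
  have hgc : ∀ a, g (algebraMap A Bh a) = algebraMap A P a := fun a => by
    rw [IsScalarTower.algebraMap_apply A B Bh, hgB, ← hcomm]; rfl
  let gA : Bh →ₐ[A] P := { toRingHom := g, commutes' := hgc }
  have h1 : ∀ y, ψ (g y) = y := by
    have hid := (hB.2 Bh (J.map (algebraMap B Bh)) (algebraMap B Bh) hB.1 le_rfl).unique
      (y₁ := ψ.toRingHom.comp g) (y₂ := RingHom.id Bh) (by
        rw [RingHom.comp_assoc, hg]
        ext b
        show ψ ((1 : Ah) ⊗ₜ[A] b) = _
        simp [ψ]) (RingHom.id_comp _)
    exact fun y => RingHom.congr_fun hid y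
  have hφ : gA.comp φ = (Algebra.TensorProduct.includeLeft : Ah →ₐ[A] P) := by
    apply AlgHom.coe_ringHom_injective
    refine (hA.2 P (J.map iR) (algebraMap A P) hHJ ?_).unique
      (RingHom.ext fun a => (gA.comp φ).commutes a)
      (RingHom.ext fun a => (Algebra.TensorProduct.includeLeft : Ah →ₐ[A] P).commutes a)
    rw [← hcomm, ← Ideal.map_map]
    exact Ideal.map_mono hIJ
  have h2 : gA.comp ψ = AlgHom.id A P := by
    refine Algebra.TensorProduct.ext ?_ ?_
    · refine AlgHom.ext fun x => ?_
      show gA (ψ (x ⊗ₜ[A] (1 : B))) = x ⊗ₜ[A] (1 : B)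
      rw [show ψ (x ⊗ₜ[A] (1 : B)) = φ x by simp [ψ]]
      exact AlgHom.congr_fun hφ x
    · refine AlgHom.ext fun b => ?_
      show gA (ψ ((1 : Ah) ⊗ₜ[A] b)) = (1 : Ah) ⊗ₜ[A] b
      rw [show ψ ((1 : Ah) ⊗ₜ[A] b) = algebraMap B Bh b by simp [ψ]]
      exact hgB b
  exact Function.bijective_iff_has_inverse.mpr ⟨g, AlgHom.congr_fun h2, h1⟩

end Groth.Agent.S9324
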