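import Groth.Statements.S9325
import Mathlib

set_option autoImplicit false
universe u
open CAlg

namespace Groth.Agent.S9325

/-- Let `A` be a ring and `I ⊆ J` ideals of `A` such that the ideal `J/I` of `A/I` is `H_1`-regular: for
every prime `𝔮` of `A/I` containing `J/I` there is `g ∉ 𝔮` such that the extension of `J/I` to
`(A/I)_g` is generated by an `H_1`-regular sequence (a finite sequence all of whose linear relations
are combinations of the trivial ones). Then `I ∩ J² = I J`. -/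
theorem result {A : Type u} [CommRing A] (I J : Ideal A)
    (hIJ : I ≤ J)
    (h : ∀ (𝔮 : Ideal (A ⧸ I)) [𝔮.IsPrime], J.map (Ideal.Quotient.mk I) ≤ 𝔮 →
      ∃ g : A ⧸ I, g ∉ 𝔮 ∧ ∃ (c : ℕ) (f : Fin c → Localization.Away g),
        CAlgX.IsH1Regular f ∧
          Ideal.span (Set.range f) =
            (J.map (Ideal.Quotient.mk I)).map (algebraMap (A ⧸ I) (Localization.Away g))) :
    I ⊓ J ^ 2 = I * J := by
  classical
  refine le_antisymm ?_ (le_inf Ideal.mul_le_left ?_)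
  swap
  · rw [pow_two]; exact Ideal.mul_mono_left hIJ
  rintro x ⟨hxI, hxJ⟩
  by_contra hx
  let T : Ideal A := (I * J).colon ({x} : Set A)
  have hT : T ≠ ⊤ := fun hT => hx (by
    have := Submodule.mem_colon_singleton.mp (show (1 : A) ∈ T by rw [hT]; trivial)
    simpa using this)
  obtain ⟨P, hP, hTP⟩ := Ideal.exists_le_maximal T hT
  suffices ∃ t : A, t ∉ P ∧ t * x ∈ I * J by
    obtain ⟨t, htP, ht⟩ := this
    exact htP (hTP (Submodule.mem_colon_singleton.mpr (by rwa [smul_eq_mul])))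
  by_cases hJP : J ≤ P
  swap
  · obtain ⟨j, hj, hjP⟩ := SetLike.not_le_iff_exists.mp hJP
    exact ⟨j, hjP, by rw [mul_comm j x]; exact Ideal.mul_mem_mul hxI hj⟩
  let π := Ideal.Quotient.mk I
  have hsurj : Function.Surjective π := Ideal.Quotient.mk_surjective
  have hIP : RingHom.ker π ≤ P := by
    rw [Ideal.mk_ker]
    exact hIJ.trans hJP
  haveI : (P.map π).IsPrime := Ideal.map_isPrime_of_surjective hsurj hIP
  obtain ⟨g, hg, c, f, hreg, hf⟩ := h (P.map π) (Ideal.map_mono hJP)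
  obtain ⟨g₀, rfl⟩ := hsurj g
  have hg₀ : g₀ ∉ P := fun hgP => hg (Ideal.mem_map_of_mem _ hgP)
  let φ : A →+* Localization.Away (π g₀) := (algebraMap (A ⧸ I) _).comp π
  -- elements of the ideal in the localization come from `J`
  have hφ : ∀ a : A, φ (g₀) ^ 0 * φ a = φ a := fun a => by simp
  have hu : IsUnit (φ g₀) := IsLocalization.Away.algebraMap_isUnit (π g₀)
  have hlift : ∀ i, ∃ (b : A) (k : ℕ), b ∈ J ∧ f i * φ g₀ ^ k = φ b := fun i => by
    have hi : f i ∈ (J.map π).map (algebraMap (A ⧸ I) (Localization.Away (π g₀))) :=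
      hf.le (Ideal.subset_span ⟨i, rfl⟩)
    obtain ⟨⟨⟨y, hy⟩, ⟨_, k, rfl⟩⟩, he⟩ :=
      (IsLocalization.mem_map_algebraMap_iff (Submonoid.powers (π g₀)) _).mp hi
    obtain ⟨b, hb, rfl⟩ := (Ideal.mem_map_iff_of_surjective π hsurj).mp hy
    exact ⟨b, k, hb, by simpa [φ] using he⟩
  choose b k hb hbk using hlift
  have hzero : ∀ a : A, φ a = 0 → ∃ N : ℕ, g₀ ^ N * a ∈ I := fun a ha => by
    obtain ⟨⟨_, N, rfl⟩, hN⟩ :=
      (IsLocalization.map_eq_zero_iff (Submonoid.powers (π g₀)) _ (π a)).mp ha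
    exact ⟨N, Ideal.Quotient.eq_zero_iff_mem.mp (by simpa using hN)⟩
  have hint : ∀ y : Localization.Away (π g₀), ∃ (a : A) (N : ℕ), y * φ g₀ ^ N = φ a := fun y => by
    obtain ⟨⟨a, ⟨_, N, rfl⟩⟩, he⟩ := IsLocalization.surj (Submonoid.powers (π g₀)) y
    obtain ⟨a, rfl⟩ := hsurj a
    exact ⟨a, N, by simpa [φ] using he⟩
  -- generation
  have hgen : ∀ j ∈ J, ∃ (N : ℕ) (a : Fin c → A), g₀ ^ N * j - ∑ i, a i * b i ∈ I := by
    intro j hj
    have hm : φ j ∈ Ideal.span (Set.range f) :=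
      hf.ge (Ideal.mem_map_of_mem _ (Ideal.mem_map_of_mem _ hj))
    obtain ⟨r, hr⟩ := (Submodule.mem_span_range_iff_exists_fun _).mp hm
    choose a n han using fun i => hint (r i * Ring.inverse (φ g₀ ^ k i))
    let n₀ := ∑ i, n i
    obtain ⟨N, hN⟩ := hzero (g₀ ^ n₀ * j - ∑ i, (g₀ ^ (n₀ - n i) * a i) * b i) (by
      simp only [map_sub, map_mul, map_pow, map_sum, ← hr, Finset.mul_sum, smul_eq_mul, sub_eq_zero]
      refine Finset.sum_congr rfl fun i _ => ?_
      rw [← han i, ← hbk i, show n₀ = (n₀ - n i) + n i from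
        (Nat.sub_add_cancel (Finset.single_le_sum (fun t _ => Nat.zero_le (n t)) (Finset.mem_univ i))).symm,
        pow_add, Nat.add_sub_cancel]
      have hinv : Ring.inverse (φ g₀ ^ k i) * φ g₀ ^ k i = 1 := Ring.inverse_mul_cancel _ (hu.pow _)
      linear_combination (-(φ g₀ ^ (n₀ - n i) * φ g₀ ^ n i * r i * f i)) * hinv)
    refine ⟨N + n₀, fun i => g₀ ^ N * (g₀ ^ (n₀ - n i) * a i), ?_⟩
    convert hN using 1
    simp only [mul_sub, Finset.mul_sum, pow_add, mul_assoc]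
  -- the square
  have hsq : ∀ y ∈ J * J, ∃ (N : ℕ) (a : Fin c → A),
      (∀ i, a i ∈ J) ∧ g₀ ^ N * y - ∑ i, a i * b i ∈ I * J := by
    intro y hy
    refine Submodule.mul_induction_on hy (fun j hj j' hj' => ?_) ?_
    · obtain ⟨N, a, ha⟩ := hgen j hj
      refine ⟨N, fun i => a i * j', fun i => Ideal.mul_mem_left _ _ hj', ?_⟩
      convert Ideal.mul_mem_mul ha hj' using 1
      simp only [sub_mul, Finset.sum_mul, mul_assoc, mul_comm j']
    · rintro y z ⟨N, a, ha, ha'⟩ ⟨M, a', hb', hb''⟩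
      refine ⟨N + M, fun i => g₀ ^ M * a i + g₀ ^ N * a' i,
        fun i => J.add_mem (J.mul_mem_left _ (ha i)) (J.mul_mem_left _ (hb' i)), ?_⟩
      convert (I * J).add_mem ((I * J).mul_mem_left (g₀ ^ M) ha')
        ((I * J).mul_mem_left (g₀ ^ N) hb'') using 1
      simp only [add_mul, Finset.sum_add_distrib, mul_sub, Finset.mul_sum, mul_assoc, pow_add]
      ring_nf
  obtain ⟨N, a, ha, hax⟩ := hsq x (pow_two J ▸ hxJ)
  have haI : ∑ i, a i * b i ∈ I := by
    have h1 : g₀ ^ N * x - (g₀ ^ N * x - ∑ i, a i * b i) ∈ I :=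
      I.sub_mem (I.mul_mem_left _ hxI) (Ideal.mul_le_left hax)
    simpa using h1
  -- the relation
  have hrel : ∑ i, (φ (a i) * φ g₀ ^ k i) * f i = 0 := by
    have h0 : φ (∑ i, a i * b i) = 0 := by
      show algebraMap _ _ (π _) = 0
      rw [Ideal.Quotient.eq_zero_iff_mem.mpr haI, map_zero]
    rw [← h0, map_sum]
    exact Finset.sum_congr rfl fun i _ => by rw [map_mul, ← hbk]; ring
  have hv := hreg _ hrel
  have hset : {v : Fin c → Localization.Away (π g₀) | ∃ i j : Fin c,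
      v = Pi.single i (f j) - Pi.single j (f i)} =
      Set.range (fun p : Fin c × Fin c => Pi.single p.1 (f p.2) - Pi.single p.2 (f p.1)) := by
    ext v
    exact ⟨fun ⟨i, j, e⟩ => ⟨(i, j), e.symm⟩, fun ⟨p, e⟩ => ⟨p.1, p.2, e.symm⟩⟩
  rw [hset] at hv
  obtain ⟨d, hd⟩ := (Submodule.mem_span_range_iff_exists_fun _).mp hv
  have hdi : ∀ i, φ (a i) * φ g₀ ^ k i = ∑ j, (d (i, j) - d (j, i)) * f j := fun i => by
    have h1 := congrFun hd i
    simp only [Finset.sum_apply, Pi.smul_apply, Pi.sub_apply, smul_eq_mul, Fintype.sum_prod_type,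
      mul_sub, Finset.sum_sub_distrib, Pi.single_apply, mul_ite, mul_zero] at h1
    rw [Finset.sum_comm (f := fun i' j => if i = j then d (i', j) * f i' else 0)] at h1
    simp only [Finset.sum_ite_irrel, Finset.sum_const_zero, Finset.sum_ite_eq, Finset.mem_univ,
      if_true] at h1
    simp only [sub_mul, Finset.sum_sub_distrib]
    exact h1.symm
  choose D nD hD using fun p : Fin c × Fin c =>
    hint (d p * Ring.inverse (φ g₀ ^ (k p.1 + k p.2)))
  let n₁ := ∑ p, nD p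
  let D' : Fin c → Fin c → A := fun i j => g₀ ^ (n₁ - nD (i, j)) * D (i, j)
  have hD' : ∀ i j, φ (D' i j) * (φ g₀ ^ k i * φ g₀ ^ k j) = d (i, j) * φ g₀ ^ n₁ := fun i j => by
    have hle : nD (i, j) ≤ n₁ :=
      Finset.single_le_sum (fun t _ => Nat.zero_le (nD t)) (Finset.mem_univ (i, j))
    have hinv : Ring.inverse (φ g₀ ^ (k i + k j)) * φ g₀ ^ (k i + k j) = 1 :=
      Ring.inverse_mul_cancel _ (hu.pow _)
    rw [map_mul, map_pow, ← hD (i, j), ← pow_add (φ g₀) (k i) (k j)]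
    conv_rhs => rw [show n₁ = (n₁ - nD (i, j)) + nD (i, j) by omega, pow_add]
    linear_combination (φ g₀ ^ (n₁ - nD (i, j)) * d (i, j) * φ g₀ ^ nD (i, j)) * hinv
  have hI : ∀ i, ∃ M : ℕ, g₀ ^ M * (g₀ ^ n₁ * a i - ∑ j, (D' i j - D' j i) * b j) ∈ I := fun i =>
    hzero _ (by
      have hu' := hu.pow (k i)
      apply hu'.mul_left_injective
      show φ _ * φ g₀ ^ k i = 0 * φ g₀ ^ k i
      simp only [map_sub, map_mul, map_pow, map_sum, sub_mul, Finset.sum_mul, zero_mul, mul_assoc,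
        hdi i, Finset.mul_sum, sub_eq_zero]
      refine Finset.sum_congr rfl fun j _ => ?_
      rw [← hbk j]
      have e₁ := hD' i j
      have e₂ := hD' j i
      linear_combination (-(f j)) * e₁ + f j * e₂)
  choose M hM using hI
  let M₀ := ∑ i, M i
  refine ⟨g₀ ^ (M₀ + n₁ + N), fun hP' => hg₀ (hP.isPrime.mem_of_pow_mem _ hP'), ?_⟩
  have hanti : ∑ i, ∑ j, (D' i j - D' j i) * b j * b i = 0 := by
    simp only [sub_mul, Finset.sum_sub_distrib, sub_eq_zero]
    rw [Finset.sum_comm]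
    exact Finset.sum_congr rfl fun i _ => Finset.sum_congr rfl fun j _ => by ring
  have e : g₀ ^ (M₀ + n₁ + N) * x = g₀ ^ (M₀ + n₁) * (g₀ ^ N * x - ∑ i, a i * b i) +
      ∑ i, (g₀ ^ M₀ * (g₀ ^ n₁ * a i - ∑ j, (D' i j - D' j i) * b j)) * b i +
      g₀ ^ M₀ * ∑ i, ∑ j, (D' i j - D' j i) * b j * b i := by
    simp only [mul_sub, sub_mul, Finset.sum_sub_distrib, Finset.mul_sum, Finset.sum_mul, pow_add,
      mul_assoc]
    ring
  rw [e, hanti, mul_zero, add_zero]
  refine (I * J).add_mem ((I * J).mul_mem_left _ hax) ((I * J).sum_mem fun i _ => ?_)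
  refine Ideal.mul_mem_mul ?_ (hb i)
  rw [show M₀ = (M₀ - M i) + M i from (Nat.sub_add_cancel
    (Finset.single_le_sum (fun t _ => Nat.zero_le (M t)) (Finset.mem_univ i))).symm, pow_add, mul_assoc]
  exact I.mul_mem_left _ (hM i)

end Groth.Agent.S9325
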