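import Groth.Statements.S9326
import Mathlib

set_option autoImplicit false
universe u
open CAlg

namespace Groth.Agent.S9326

/-- Let `u : N → M` be a continuous homomorphism of topological abelian groups. Assume `M` is Hausdorff
and `N` is Hausdorff and complete, linearly topologized (every neighbourhood of zero contains an
open subgroup) and first countable (zero has a countable basis of neighbourhoods). Then exactly one
of two things holds: `u` is an open map; or there is an open subgroup of `N` whose image is nowhere
dense in `M`. -/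
theorem result {N M : Type u} [AddCommGroup N]
    [AddCommGroup M] [UniformSpace N] [IsUniformAddGroup N] [TopologicalSpace M]
    [IsTopologicalAddGroup M] [T2Space M] [T2Space N] [CompleteSpace N] [NonarchimedeanAddGroup N]
    [FirstCountableTopology N] (u : N →+ M) (hu : Continuous u) :
    Xor (IsOpenMap u) (∃ V : OpenAddSubgroup N, IsNowhereDense (u '' (V : Set N))) := by
  -- the closures of the images of open subgroups
  let cl : OpenAddSubgroup N → AddSubgroup M := fun V => ((V.toAddSubgroup).map u).topologicalClosure
  have hcl : ∀ V : OpenAddSubgroup N, (cl V : Set M) = closure (u '' (V : Set N)) := fun V => rfl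
  by_cases hO : IsOpenMap u
  · refine Or.inl ⟨hO, ?_⟩
    rintro ⟨V, hV⟩
    have h : u '' (V : Set N) ⊆ interior (closure (u '' (V : Set N))) :=
      interior_maximal subset_closure (hO _ V.isOpen')
    rw [show interior (closure (u '' (V : Set N))) = ∅ from hV] at h
    exact h ⟨0, V.zero_mem, rfl⟩
  · refine Or.inr ⟨?_, hO⟩
    by_contra hnw
    push Not at hnw
    apply hO
    have hcl_open : ∀ V : OpenAddSubgroup N, IsOpen (cl V : Set M) := fun V => by
      obtain ⟨g, hg⟩ := Set.nonempty_iff_ne_empty.mpr (hnw V)
      exact AddSubgroup.isOpen_of_mem_nhds _ (g := g) (by rw [hcl]; exact mem_interior_iff_mem_nhds.mp hg)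
    obtain ⟨b, hb⟩ := (nhds (0 : N)).exists_antitone_basis
    choose V' hV' using fun n => NonarchimedeanAddGroup.is_nonarchimedean (b n)
      (hb.1.mem_of_mem (i := n) trivial)
    -- the key inclusion
    have key : ∀ V₀ : OpenAddSubgroup N, (cl V₀ : Set M) ⊆ u '' (V₀ : Set N) := by
      intro V₀ y hy
      let V : ℕ → OpenAddSubgroup N := fun n => Nat.rec (motive := fun _ => OpenAddSubgroup N) V₀ (fun m W => W ⊓ V' m) n
      have hVs : ∀ n, (SetLike.coe (V (n + 1))) ⊆ SetLike.coe (V n) := by
        intro n x hx; exact hx.1
      have hVb : ∀ n, SetLike.coe (V (n + 1)) ⊆ b n := by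
        intro n x hx; exact hV' n hx.2
      have hmono : ∀ m n, m ≤ n → SetLike.coe (V n) ⊆ SetLike.coe (V m) := fun m n h => by
        induction h with
        | refl => exact subset_rfl
        | step _ ih => exact (hVs _).trans ih
      have step : ∀ n, ∀ z ∈ cl (V n), ∃ x ∈ V n, z - u x ∈ cl (V (n + 1)) := by
        intro n z hz
        have hne : ((fun t : M => z - t) ⁻¹' (cl (V (n + 1)) : Set M) ∩ u '' (V n : Set N)).Nonempty :=
          mem_closure_iff.mp ((hcl (V n)).le hz) _
            ((hcl_open (V (n + 1))).preimage (continuous_const.sub continuous_id))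
            (by simp [(cl (V (n + 1))).zero_mem])
        obtain ⟨_, h1, x, hx, rfl⟩ := hne
        exact ⟨x, hx, h1⟩
      choose f hf₁ hf₂ using step
      let st : ∀ n, {z : M // z ∈ cl (V n)} := fun n => Nat.rec (⟨y, hy⟩ : {z : M // z ∈ cl (V 0)})
        (fun m z => ⟨z.1 - u (f m z.1 z.2), hf₂ m z.1 z.2⟩) n
      let x : ℕ → N := fun n => f n (st n).1 (st n).2
      let s : ℕ → N := fun n => ∑ i ∈ Finset.range n, x i
      have hs : ∀ n, y - u (s n) = (st n).1 := fun n => by
        induction n with
        | zero => simp [s, st]
        | succ n ih =>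
          show y - u (∑ i ∈ Finset.range (n + 1), x i) = (st n).1 - u (x n)
          rw [Finset.sum_range_succ, map_add, ← sub_sub, ← ih]
      have htail : ∀ m n, m ≤ n → s n - s m ∈ V m := by
        intro m n h
        induction h with
        | refl => rw [sub_self]; exact (V m).zero_mem
        | @step n h ih =>
          have : s (n + 1) - s m = (s n - s m) + x n := by
            simp only [s, Finset.sum_range_succ]; abel
          rw [this]
          exact (V m).toAddSubgroup.add_mem ih (hmono m n h (hf₁ n _ _))
      have hcauchy : CauchySeq s := by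
        rw [CauchySeq, cauchy_map_iff', uniformity_eq_comap_nhds_zero N, Filter.tendsto_comap_iff]
        refine hb.1.tendsto_right_iff.mpr fun n _ => ?_
        rw [Filter.eventually_prod_iff]
        refine ⟨fun i => n + 1 ≤ i, Filter.eventually_ge_atTop _, fun i => n + 1 ≤ i,
          Filter.eventually_ge_atTop _, fun {i} hi {j} hj => hVb n ?_⟩
        show s j - s i ∈ V (n + 1)
        have := (V (n + 1)).toAddSubgroup.sub_mem (htail _ _ hj) (htail _ _ hi)
        simpa using this
      obtain ⟨l, hl⟩ := cauchySeq_tendsto_of_complete hcauchy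
      refine ⟨l, ?_, ?_⟩
      · have hcl0 : IsClosed (V₀ : Set N) := V₀.isClosed
        refine hcl0.mem_of_tendsto hl (Filter.Eventually.of_forall fun n => ?_)
        show s n ∈ V 0
        simpa [s] using htail 0 n (Nat.zero_le n)
      · have h0 : Filter.Tendsto (fun n => y - u (s n)) Filter.atTop (nhds 0) := by
          refine (closed_nhds_basis (0 : M)).tendsto_right_iff.mpr fun W hW => ?_
          obtain ⟨n, -, hn⟩ := hb.1.mem_iff.mp (hu.continuousAt.preimage_mem_nhds (by
            rw [map_zero]; exact hW.1) : u ⁻¹' W ∈ nhds (0 : N))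
          refine Filter.eventually_atTop.mpr ⟨n + 1, fun m hm => ?_⟩
          rw [hs]
          refine hW.2.closure_subset_iff.mpr ?_ ((hcl (V m)).le (st m).2)
          rintro _ ⟨t, ht, rfl⟩
          exact hn (hVb n (hmono _ _ hm ht))
        have h1 : Filter.Tendsto (fun n => y - u (s n)) Filter.atTop (nhds (y - u l)) :=
          tendsto_const_nhds.sub ((hu.tendsto l).comp hl)
        exact (sub_eq_zero.mp (tendsto_nhds_unique h1 h0)).symm
    have himg : ∀ V : OpenAddSubgroup N, IsOpen (u '' (V : Set N)) := fun V => by
      rw [show u '' (V : Set N) = (cl V : Set M) from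
        le_antisymm (fun z hz => (hcl V).ge (subset_closure hz)) (key V)]
      exact hcl_open V
    intro O hO'
    rw [isOpen_iff_mem_nhds]
    rintro _ ⟨x, hx, rfl⟩
    obtain ⟨V, hV⟩ := NonarchimedeanAddGroup.is_nonarchimedean ((fun t => x + t) ⁻¹' O)
      ((continuous_const.add continuous_id).continuousAt.preimage_mem_nhds (by simpa using hO'.mem_nhds hx))
    refine Filter.mem_of_superset (IsOpen.mem_nhds (isOpenMap_add_left (u x) _ (himg V))
      ⟨0, ⟨0, V.zero_mem, map_zero u⟩, add_zero _⟩) ?_
    rintro _ ⟨_, ⟨t, ht, rfl⟩, rfl⟩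
    exact ⟨x + t, hV ht, map_add u x t⟩

end Groth.Agent.S9326
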