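import Groth.Statements.S9327
import Groth.Agent.S2135
import Groth.Agent.GeomIrred.Basic
import Groth.Agent.GeomUniPoly.Criterion
import Groth.Agent.NormalTensor.Main
import Groth.Agent.HenLineLib.FibreModel
import Groth.Agent.SteinConn.Unibranch
import Groth.Agent.WLocalLib.Strict
import Groth.Agent.Hensel.Basic
-- import your own Groth.Agent.* helpers here

set_option autoImplicit false
set_option linter.style.haveILetI false
set_option maxHeartbeats 800000
universe u
open Hensel

namespace Groth.Agent.S9327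

open TensorProduct IsLocalRing in

open IsLocalRing in
/-- A quotient of a strict henselization. -/
theorem isStrictHenselization_quotient {T C : Type u} [CommRing T] [IsLocalRing T] [CommRing C] [IsLocalRing C]
    [Algebra T C] [IsLocalHom (algebraMap T C)] [Hensel.IsStrictHenselization T C]
    (I : Ideal T) [IsLocalRing (T ⧸ I)] (hne : I.map (algebraMap T C) ≠ ⊤)
    [IsLocalRing (C ⧸ I.map (algebraMap T C))] :
    ∀ [IsLocalHom (algebraMap (T ⧸ I) (C ⧸ I.map (algebraMap T C)))],
      Hensel.IsStrictHenselization (T ⧸ I) (C ⧸ I.map (algebraMap T C)) := by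
  intro _
  let J := I.map (algebraMap T C)
  haveI : HenselianLocalRing C := Hensel.IsStrictHenselization.henselian (R := T)
  haveI h₁ : IsLocalHom (Ideal.Quotient.mk I) := IsLocalHom.of_surjective _ Ideal.Quotient.mk_surjective
  haveI h₂ : IsLocalHom (Ideal.Quotient.mk J) := IsLocalHom.of_surjective _ Ideal.Quotient.mk_surjective
  haveI : HenselianLocalRing (C ⧸ J) := by
    haveI : HenselianRing C (maximalIdeal C) := Groth.Agent.Hensel.henselianRing_maximalIdeal_iff.2 inferInstance
    have h1 := Groth.Agent.Hensel.quotient (J := maximalIdeal C) J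
    rw [IsLocalRing.map_maximalIdeal_of_surjective _ Ideal.Quotient.mk_surjective] at h1
    exact Groth.Agent.Hensel.henselianRing_maximalIdeal_iff.1 h1
  let a := ResidueField.map (Ideal.Quotient.mk I)
  let b := ResidueField.map (Ideal.Quotient.mk J)
  have hsq : b.comp (ResidueField.map (algebraMap T C)) =
      (ResidueField.map (algebraMap (T ⧸ I) (C ⧸ J))).comp a := RingHom.ext fun x => by
    obtain ⟨x, rfl⟩ := residue_surjective x
    rfl
  have hbij : Function.Bijective b := ⟨b.injective, fun y => by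
    obtain ⟨y, rfl⟩ := residue_surjective y
    obtain ⟨y, rfl⟩ := Ideal.Quotient.mk_surjective y
    exact ⟨residue C y, rfl⟩⟩
  have habij : Function.Bijective a := ⟨a.injective, fun y => by
    obtain ⟨y, rfl⟩ := residue_surjective y
    obtain ⟨y, rfl⟩ := Ideal.Quotient.mk_surjective y
    exact ⟨residue T y, rfl⟩⟩
  refine { henselian := inferInstance, isSepClosure := ?_, universal := ?_ }
  · have h := Hensel.IsStrictHenselization.isSepClosure (R := T) (S := C)
    haveI : IsSepClosed (ResidueField C) := h.sep_closed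
    haveI := h.separable
    refine ⟨Groth.Agent.WLocalLib.isSepClosed_of_ringEquiv (RingEquiv.ofBijective b hbij), ?_⟩
    exact Algebra.IsSeparable.of_equiv_equiv (RingEquiv.ofBijective a habij) (RingEquiv.ofBijective b hbij)
      hsq.symm
  · intro S _ _ f _ τ hτ
    haveI : IsLocalHom (f.comp (Ideal.Quotient.mk I)) := RingHom.isLocalHom_comp f _
    obtain ⟨g, ⟨hg1, hg2⟩, hgu⟩ := Hensel.IsStrictHenselization.universal (R := T) (S := C) S
      (f.comp (Ideal.Quotient.mk I)) (τ.comp b) (by
        rw [RingHom.comp_assoc, hsq, ← RingHom.comp_assoc, hτ]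
        exact (ResidueField.map_comp _ _).symm)
    have hgJ : ∀ x ∈ J, g x = 0 := fun x hx => by
      have hle : J ≤ RingHom.ker g := Ideal.map_le_iff_le_comap.mpr fun t ht => by
        show (g.comp (algebraMap T C)) t = 0
        rw [RingHom.congr_fun hg1 t]
        show f (Ideal.Quotient.mk I t) = 0
        rw [Ideal.Quotient.eq_zero_iff_mem.mpr ht, map_zero]
      exact hle hx
    refine ⟨Ideal.Quotient.lift J g hgJ, ⟨Ideal.Quotient.ringHom_ext (RingHom.ext fun t => ?_), fun x => ?_⟩,
      fun g' hg' => Ideal.Quotient.ringHom_ext ?_⟩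
    · exact RingHom.congr_fun hg1 t
    · obtain ⟨x, rfl⟩ := Ideal.Quotient.mk_surjective x
      exact hg2 x
    · exact hgu _ ⟨RingHom.ext fun t => RingHom.congr_fun hg'.1 (Ideal.Quotient.mk I t),
        fun x => hg'.2 (Ideal.Quotient.mk J x)⟩

open TensorProduct IsLocalRing

/-- The normalisation of a henselian local domain quotient over an algebraically closed residue field. -/
theorem exists_normal_cover {k A : Type u} [Field k] [IsAlgClosed k] [CommRing A] [HenselianLocalRing A] [Algebra k A]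
    (hA : Function.Bijective ((residue A).comp (algebraMap k A))) (p : Ideal A) [p.IsPrime] :
    ∃ (A' : Type u) (_ : CommRing A') (_ : IsDomain A') (_ : IsIntegrallyClosed A') (_ : Algebra k A')
      (φ : A ⧸ p →ₐ[k] A'), Function.Injective φ ∧ φ.toRingHom.IsIntegral ∧
      (∀ x, ∃ d, d ≠ 0 ∧ φ d * x ∈ φ.range) ∧
      (∀ (F : Type u) [Field F] (f g : A' →+* F), f.comp φ.toRingHom = g.comp φ.toRingHom →
        (∀ a ∈ maximalIdeal A, f (φ (Ideal.Quotient.mk p a)) = 0) → f = g) := by
  let K := FractionRing (A ⧸ p)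
  let A' := integralClosure A K
  let φ : A ⧸ p →ₐ[k] A' :=
    { toRingHom := Ideal.Quotient.lift p (algebraMap A A') fun a ha => Subtype.ext (by
        show algebraMap A K a = 0
        rw [IsScalarTower.algebraMap_apply A (A ⧸ p) K, Ideal.Quotient.algebraMap_eq,
          Ideal.Quotient.eq_zero_iff_mem.mpr ha, map_zero])
      commutes' := fun c => by
        show Ideal.Quotient.lift p (algebraMap A A') _ (Ideal.Quotient.mk p (algebraMap k A c)) = _
        rw [Ideal.Quotient.lift_mk]
        exact (IsScalarTower.algebraMap_apply k A A' c).symm }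
  have hφ : ∀ d, (φ d : K) = algebraMap (A ⧸ p) K d := fun d => by
    obtain ⟨a, rfl⟩ := Ideal.Quotient.mk_surjective d
    exact IsScalarTower.algebraMap_apply A (A ⧸ p) K a
  have hbir : ∀ x : A', ∃ d, d ≠ 0 ∧ φ d * x ∈ φ.range := fun x => by
    obtain ⟨⟨n, d⟩, h⟩ := IsLocalization.surj (nonZeroDivisors (A ⧸ p)) (x : K)
    refine ⟨d, nonZeroDivisors.ne_zero d.2, n, Subtype.ext ?_⟩
    show (φ n : K) = (φ d : K) * (x : K)
    rw [hφ, hφ, ← h, mul_comm]
  haveI : IsFractionRing A' K := by
    refine ⟨fun y => isUnit_iff_ne_zero.mpr fun h => nonZeroDivisors.ne_zero y.2 (Subtype.ext h), fun z => ?_,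
      fun {x y} h => ⟨1, by rw [Subtype.ext h]⟩⟩
    obtain ⟨⟨n, d⟩, h⟩ := IsLocalization.surj (nonZeroDivisors (A ⧸ p)) z
    have hd : φ d ≠ 0 := fun h0 => nonZeroDivisors.ne_zero d.2 (IsFractionRing.injective (A ⧸ p) K (by
      rw [map_zero, ← hφ, h0]; rfl))
    refine ⟨⟨φ n, φ d, mem_nonZeroDivisors_of_ne_zero hd⟩, ?_⟩
    show z * (φ d : K) = (φ n : K)
    rw [hφ, hφ, h]
  haveI : IsIntegrallyClosed A' := (isIntegrallyClosed_iff K).mpr fun {x} hx =>
    ⟨⟨x, isIntegral_trans (R := A) x hx⟩, rfl⟩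
  refine ⟨A', inferInstance, inferInstance, inferInstance, inferInstance, φ,
    fun a b h => IsFractionRing.injective (A ⧸ p) K (by rw [← hφ, ← hφ, h]), ?_, hbir, ?_⟩
  · intro x
    obtain ⟨P, hP, hPx⟩ := Algebra.IsIntegral.isIntegral (R := A) x
    refine ⟨P.map (Ideal.Quotient.mk p), hP.map _, ?_⟩
    rw [Polynomial.eval₂_map]
    exact hPx
  intro F _ f g hfg h0
  haveI : IsLocalRing A' := Groth.Agent.HenLineLib.isLocalRing_integralClosure A K
  have hker : RingHom.ker f = maximalIdeal A' := by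
    haveI : (RingHom.ker f).IsPrime := RingHom.ker_isPrime f
    refine eq_maximalIdeal (Ideal.isMaximal_of_isIntegral_of_isMaximal_comap (R := A) _ ?_)
    have : Ideal.comap (algebraMap A A') (RingHom.ker f) = maximalIdeal A :=
      le_antisymm (le_maximalIdeal ((Ideal.IsPrime.comap (algebraMap A A')).ne_top)) fun a ha => h0 a ha
    rw [this]
    exact maximalIdeal.isMaximal A
  have hg0 : ∀ a ∈ maximalIdeal A, g (φ (Ideal.Quotient.mk p a)) = 0 := fun a ha =>
    (RingHom.congr_fun hfg _).symm.trans (h0 a ha)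
  have hker' : RingHom.ker g = maximalIdeal A' := by
    haveI : (RingHom.ker g).IsPrime := RingHom.ker_isPrime g
    refine eq_maximalIdeal (Ideal.isMaximal_of_isIntegral_of_isMaximal_comap (R := A) _ ?_)
    have : Ideal.comap (algebraMap A A') (RingHom.ker g) = maximalIdeal A :=
      le_antisymm (le_maximalIdeal ((Ideal.IsPrime.comap (algebraMap A A')).ne_top)) fun a ha => hg0 a ha
    rw [this]
    exact maximalIdeal.isMaximal A
  haveI : Algebra.IsIntegral k (ResidueField A') := ⟨fun y => by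
    obtain ⟨x, rfl⟩ := residue_surjective y
    obtain ⟨P, hP, hPx⟩ := Algebra.IsIntegral.isIntegral (R := A) x
    let σ := RingEquiv.ofBijective _ hA
    refine ⟨P.map (σ.symm.toRingHom.comp (residue A)), hP.map _, ?_⟩
    rw [Polynomial.eval₂_map]
    have hc : (algebraMap k (ResidueField A')).comp (σ.symm.toRingHom.comp (residue A)) =
        (residue A').comp (algebraMap A A') := RingHom.ext fun a => by
      show algebraMap k (ResidueField A') (σ.symm (residue A a)) = residue A' (algebraMap A A' a)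
      rw [IsScalarTower.algebraMap_apply k A' (ResidueField A'), ResidueField.algebraMap_eq,
        IsScalarTower.algebraMap_apply k A A']
      refine Ideal.Quotient.eq.mpr ?_
      rw [← map_sub, ← hker]
      exact h0 _ (Ideal.Quotient.eq.mp (σ.apply_symm_apply (residue A a)))
    rw [hc, ← Polynomial.hom_eval₂, hPx, map_zero]⟩
  refine RingHom.ext fun x => ?_
  obtain ⟨c, hc⟩ := (IsAlgClosed.algebraMap_bijective_of_isIntegral (k := k) (K := ResidueField A')).2 (residue A' x)
  rw [IsScalarTower.algebraMap_apply k A' (ResidueField A'), ResidueField.algebraMap_eq] at hc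
  have hm : algebraMap k A' c - x ∈ maximalIdeal A' := Ideal.Quotient.eq.mp hc
  have h1 : f (algebraMap k A' c) = f x := sub_eq_zero.mp (by
    rw [← map_sub]; exact RingHom.mem_ker.mp (hker ▸ hm))
  have h2 : g (algebraMap k A' c) = g x := sub_eq_zero.mp (by
    rw [← map_sub]; exact RingHom.mem_ker.mp (hker' ▸ hm))
  rw [← h1, ← h2, ← φ.commutes]
  exact RingHom.congr_fun hfg _

/-- A domain with normal birational integral extension that is radicial over a prime has a geometrically
unibranch local ring there. -/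
theorem isGeomUnibranch_atPrime {D E : Type u} [CommRing D] [IsDomain D] [CommRing E] [IsDomain E]
    [IsIntegrallyClosed E] (ι : D →+* E) (hinj : Function.Injective ι) (hint : ι.IsIntegral)
    (hbir : ∀ x, ∃ d, d ≠ 0 ∧ ι d * x ∈ ι.range) (m : Ideal D) [m.IsPrime]
    (hepi : ∀ (F : Type u) [Field F] (f g : E →+* F), f.comp ι = g.comp ι → (∀ d ∈ m, f (ι d) = 0) → f = g) :
    CAlg2.IsGeomUnibranch (Localization.AtPrime m) := by
  letI : Algebra D E := ι.toAlgebra
  let K := FractionRing E
  haveI : IsScalarTower D E K := inferInstance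
  have hinjK : Function.Injective (algebraMap D K) := by
    rw [IsScalarTower.algebraMap_eq D E K]
    exact (IsFractionRing.injective E K).comp hinj
  haveI : IsFractionRing D K := by
    refine ⟨fun y => isUnit_iff_ne_zero.mpr fun h => nonZeroDivisors.ne_zero y.2
      (hinjK (h.trans (map_zero _).symm)), fun z => ?_, fun {x y} h => ⟨1, by rw [hinjK h]⟩⟩
    obtain ⟨a, b, hb, rfl⟩ := IsFractionRing.div_surjective E z
    obtain ⟨d₁, hd₁, n₁, hn₁⟩ := hbir a
    obtain ⟨d₂, hd₂, n₂, hn₂⟩ := hbir b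
    have hb' : algebraMap E K b ≠ 0 := (map_ne_zero_iff _ (IsFractionRing.injective E K)).mpr
      (nonZeroDivisors.ne_zero hb)
    have hn : d₁ * n₂ ≠ 0 := mul_ne_zero hd₁ fun h => by
      rw [h, map_zero] at hn₂
      exact mul_ne_zero ((map_ne_zero_iff _ hinj).mpr hd₂) (nonZeroDivisors.ne_zero hb) hn₂.symm
    refine ⟨⟨d₂ * n₁, d₁ * n₂, mem_nonZeroDivisors_of_ne_zero hn⟩, ?_⟩
    simp only [IsScalarTower.algebraMap_apply D E K]
    show algebraMap E K a / algebraMap E K b * algebraMap E K (ι (d₁ * n₂)) = algebraMap E K (ι (d₂ * n₁))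
    rw [map_mul ι, map_mul ι, hn₁, hn₂, map_mul, map_mul, map_mul, map_mul, div_mul_eq_mul_div,
      div_eq_iff hb']
    ring
  let Ψ : FractionRing D ≃ₐ[D] K := FractionRing.algEquiv D K
  haveI : Algebra.IsIntegral D E := ⟨hint⟩
  let χ : E →+* integralClosure D (FractionRing D) :=
    ((Ψ.symm.toRingEquiv.toRingHom).comp (algebraMap E K)).codRestrict _ fun e =>
      ((Algebra.IsIntegral.isIntegral (R := D) e).map (IsScalarTower.toAlgHom D E K)).map Ψ.symm.toAlgHom
  have hχ : Function.Surjective χ := fun z => by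
    obtain ⟨e, he⟩ := IsIntegrallyClosed.isIntegral_iff.mp
      (((z.2.map Ψ.toAlgHom).tower_top : IsIntegral E (Ψ z.1)))
    exact ⟨e, Subtype.ext (by show Ψ.symm (algebraMap E K e) = z.1; rw [he]; exact Ψ.symm_apply_apply z.1)⟩
  have hχι : ∀ d, χ (ι d) = algebraMap D _ d := fun d =>
    Subtype.ext (Ψ.symm.commutes d)
  haveI hdom := Groth.Agent.Unibranch.isDomain_red_atPrime D m
  refine Groth.Agent.GeomUniPoly.isGeomUnibranch_of_closed _ hdom fun F _ f g hfg h0 => ?_
  obtain ⟨j, hj, hgen⟩ := Groth.Agent.Unibranch.exists_toNormRed_atPrime D m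
  have key : (f.comp j).comp χ = (g.comp j).comp χ := hepi F _ _
    (RingHom.ext fun d => by
      show f (j (χ (ι d))) = g (j (χ (ι d)))
      rw [hχι, hj]; exact RingHom.congr_fun hfg _)
    fun d hd => by
      show f (j (χ (ι d))) = 0
      rw [hχι, hj]
      exact h0 _ (by
        rw [← Localization.AtPrime.map_eq_maximalIdeal]; exact Ideal.mem_map_of_mem _ hd)
  refine RingHom.ext fun z => ?_
  obtain ⟨s, a, hs, hz⟩ := hgen z
  obtain ⟨e, rfl⟩ := hχ a
  have hu := (((IsLocalization.map_units (Localization.AtPrime m) (⟨s, hs⟩ : m.primeCompl)).map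
    (Groth.Agent.Unibranch.toNormRed _)).map f)
  refine hu.mul_left_cancel ?_
  rw [← map_mul, hz, show f (Groth.Agent.Unibranch.toNormRed _ (algebraMap D (Localization.AtPrime m) s)) =
    g (Groth.Agent.Unibranch.toNormRed _ (algebraMap D (Localization.AtPrime m) s)) from RingHom.congr_fun hfg _,
    ← map_mul, hz]
  exact RingHom.congr_fun key e

/-- A quotient of a strict henselization is a strict henselization, and its spectrum inherits uniqueness. -/
theorem existsUnique_minimal_over {T C : Type u} [CommRing T] [IsLocalRing T] [CommRing C] [IsLocalRing C]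
    [Algebra T C] [IsLocalHom (algebraMap T C)] [Hensel.IsStrictHenselization T C]
    (I : Ideal T) [I.IsPrime] [IsLocalRing (T ⧸ I)] (hu : CAlg2.IsGeomUnibranch (T ⧸ I))
    {P Q : Ideal C} (hP : P ∈ minimalPrimes C) (hQ : Q ∈ minimalPrimes C)
    (hPI : I ≤ P.comap (algebraMap T C)) (hQI : I ≤ Q.comap (algebraMap T C)) : P = Q := by
  let J : Ideal C := I.map (algebraMap T C)
  have hJP : J ≤ P := Ideal.map_le_iff_le_comap.mpr hPI
  have hJQ : J ≤ Q := Ideal.map_le_iff_le_comap.mpr hQI
  haveI := hP.1.1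
  haveI := hQ.1.1
  have hne : J ≠ ⊤ := fun h => hP.1.1.ne_top (top_le_iff.mp (h ▸ hJP))
  haveI : Nontrivial (C ⧸ J) := Ideal.Quotient.nontrivial_iff.mpr hne
  haveI : IsLocalRing (C ⧸ J) := IsLocalRing.of_surjective' (Ideal.Quotient.mk J) Ideal.Quotient.mk_surjective
  haveI : HenselianLocalRing C := Hensel.IsStrictHenselization.henselian (R := T)
  haveI hloc : IsLocalHom (algebraMap (T ⧸ I) (C ⧸ J)) := ⟨fun x hx => by
    obtain ⟨x, rfl⟩ := Ideal.Quotient.mk_surjective x
    haveI : IsLocalHom (Ideal.Quotient.mk J) := IsLocalHom.of_surjective _ Ideal.Quotient.mk_surjective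
    exact (isUnit_of_map_unit (algebraMap T C) x (isUnit_of_map_unit (Ideal.Quotient.mk J) _ hx)).map _⟩
  haveI : Hensel.IsStrictHenselization (T ⧸ I) (C ⧸ J) := isStrictHenselization_quotient I hne
  obtain ⟨R, hR, huniq⟩ := (Groth.Agent.S2135.result (Ash := C ⧸ J)).mp hu
  have hmin : ∀ X : Ideal C, X ∈ minimalPrimes C → J ≤ X → X.map (Ideal.Quotient.mk J) = R := fun X hX hJX => by
    haveI := hX.1.1
    have hk : RingHom.ker (Ideal.Quotient.mk J) ≤ X := by rwa [Ideal.mk_ker]
    refine huniq _ ⟨⟨Ideal.map_isPrime_of_surjective Ideal.Quotient.mk_surjective hk, bot_le⟩, fun Y hY hYle => ?_⟩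
    haveI := hY.1
    have hc := hX.2 ⟨Ideal.IsPrime.comap (Ideal.Quotient.mk J), bot_le⟩
      ((Ideal.comap_mono hYle).trans (le_of_eq (by
        rw [Ideal.comap_map_of_surjective _ Ideal.Quotient.mk_surjective]
        exact sup_of_le_left hk)))
    exact (Ideal.map_mono hc).trans (le_of_eq (Ideal.map_comap_of_surjective _ Ideal.Quotient.mk_surjective Y))
  have e := (hmin P hP hJP).trans (hmin Q hQ hJQ).symm
  have := congrArg (Ideal.comap (Ideal.Quotient.mk J)) e
  rwa [Ideal.comap_map_of_surjective _ Ideal.Quotient.mk_surjective,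
    Ideal.comap_map_of_surjective _ Ideal.Quotient.mk_surjective, ← RingHom.ker_eq_comap_bot, Ideal.mk_ker,
    sup_of_le_left hJP, sup_of_le_left hJQ] at this


/-- Tensor product of two henselian domains over an algebraically closed residue field is geometrically
unibranch at the closed point. -/
theorem isGeomUnibranch_tensor {k A B : Type u} [Field k] [IsAlgClosed k] [CommRing A] [HenselianLocalRing A]
    [Algebra k A] [CommRing B] [HenselianLocalRing B] [Algebra k B]
    (hA : Function.Bijective ((residue A).comp (algebraMap k A)))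
    (hB : Function.Bijective ((residue B).comp (algebraMap k B)))
    (p : Ideal A) [p.IsPrime] (q : Ideal B) [q.IsPrime]
    (m : Ideal ((A ⧸ p) ⊗[k] (B ⧸ q))) [m.IsPrime]
    (hmA : ∀ a ∈ maximalIdeal A, (Ideal.Quotient.mk p a) ⊗ₜ[k] (1 : B ⧸ q) ∈ m)
    (hmB : ∀ b ∈ maximalIdeal B, (1 : A ⧸ p) ⊗ₜ[k] (Ideal.Quotient.mk q b) ∈ m) :
    IsDomain ((A ⧸ p) ⊗[k] (B ⧸ q)) ∧ CAlg2.IsGeomUnibranch (Localization.AtPrime m) := by
  obtain ⟨A', _, _, _, _, φ, hφ, hφi, hφb, hφe⟩ := exists_normal_cover hA p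
  obtain ⟨B', _, _, _, _, ψ, hψ, hψi, hψb, hψe⟩ := exists_normal_cover hB q
  haveI : IsDomain ((A ⧸ p) ⊗[k] (B ⧸ q)) := Groth.Agent.GeomIrred.isDomain_tensor
  haveI : IsDomain (A' ⊗[k] B') := Groth.Agent.GeomIrred.isDomain_tensor
  have hgeom : EGA4.IsGeomNormal k A' := fun k' _ _ hfin => by
    haveI := hfin
    let e : k ≃ₐ[k] k' := AlgEquiv.ofBijective (Algebra.ofId k k')
      (IsAlgClosed.algebraMap_bijective_of_isIntegral (k := k) (K := k'))
    exact Groth.Agent.NormalTensor.isNormalRing_of_ringEquiv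
      ((Algebra.TensorProduct.lid k A').symm.trans (Algebra.TensorProduct.congr e AlgEquiv.refl)).toRingEquiv
      (Groth.Agent.NormalTensor.isNormalRing_of_domain A')
  haveI : IsIntegrallyClosed (A' ⊗[k] B') := Groth.Agent.NormalTensor.isIntegrallyClosed_of_isNormalRing
    (Groth.Agent.NormalTensor.isNormalRing_tensor_field_general k A' hgeom B'
      (Groth.Agent.NormalTensor.isNormalRing_of_domain B'))
  refine ⟨inferInstance, ?_⟩
  let Φ : (A ⧸ p) ⊗[k] (B ⧸ q) →ₐ[k] A' ⊗[k] B' := Algebra.TensorProduct.map φ ψ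
  refine isGeomUnibranch_atPrime Φ.toRingHom ?_ ?_ ?_ m ?_
  · have h : Φ.toLinearMap = (φ.toLinearMap.rTensor B').comp (ψ.toLinearMap.lTensor (A ⧸ p)) :=
      TensorProduct.ext' fun a b => rfl
    show Function.Injective Φ.toLinearMap
    rw [h]
    exact (Module.Flat.rTensor_preserves_injective_linearMap (M := B') φ.toLinearMap hφ).comp
      (Module.Flat.lTensor_preserves_injective_linearMap (M := A ⧸ p) ψ.toLinearMap hψ)
  · intro z
    induction z using TensorProduct.induction_on with
    | zero => exact RingHom.isIntegralElem_zero _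
    | add x y hx hy => exact RingHom.IsIntegralElem.add _ hx hy
    | tmul a b =>
      rw [show a ⊗ₜ[k] b = (a ⊗ₜ[k] (1 : B')) * ((1 : A') ⊗ₜ[k] b) by simp]
      refine RingHom.IsIntegralElem.mul _ ?_ ?_
      · obtain ⟨P, hP, hPa⟩ := hφi a
        refine ⟨P.map (Algebra.TensorProduct.includeLeftRingHom), hP.map _, ?_⟩
        rw [Polynomial.eval₂_map, show Φ.toRingHom.comp Algebra.TensorProduct.includeLeftRingHom =
          (Algebra.TensorProduct.includeLeftRingHom : A' →+* A' ⊗[k] B').comp φ.toRingHom from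
            RingHom.ext fun x => by simp [Φ]]
        exact (Polynomial.hom_eval₂ _ _ _ _).symm.trans (by rw [hPa, map_zero])
      · obtain ⟨P, hP, hPb⟩ := hψi b
        refine ⟨P.map (Algebra.TensorProduct.includeRight (R := k) (A := A ⧸ p)).toRingHom, hP.map _, ?_⟩
        rw [Polynomial.eval₂_map, show Φ.toRingHom.comp
            (Algebra.TensorProduct.includeRight (R := k) (A := A ⧸ p) (B := B ⧸ q)).toRingHom =
          (Algebra.TensorProduct.includeRight (R := k) (A := A') (B := B')).toRingHom.comp ψ.toRingHom from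
            RingHom.ext fun x => by simp [Φ]]
        exact (Polynomial.hom_eval₂ _ _ _ _).symm.trans (by rw [hPb, map_zero])
  · intro z
    induction z using TensorProduct.induction_on with
    | zero => exact ⟨1, one_ne_zero, ⟨0, by simp⟩⟩
    | add x y hx hy =>
      obtain ⟨d, hd, n, hn⟩ := hx
      obtain ⟨d', hd', n', hn'⟩ := hy
      refine ⟨d * d', mul_ne_zero hd hd', ⟨d' * n + d * n', ?_⟩⟩
      rw [map_add, map_mul, map_mul, map_mul, hn, hn']
      ring
    | tmul a b =>
      obtain ⟨d, hd, n, hn⟩ := hφb a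
      obtain ⟨d', hd', n', hn'⟩ := hψb b
      have h1 : d ⊗ₜ[k] (1 : B ⧸ q) ≠ 0 := fun h => hd
        (Algebra.TensorProduct.includeLeft_injective (S := k) (A := A ⧸ p) (B := B ⧸ q)
          (algebraMap k (B ⧸ q)).injective (by simpa using h))
      have h2 : (1 : A ⧸ p) ⊗ₜ[k] d' ≠ 0 := fun h => hd'
        (Algebra.TensorProduct.includeRight_injective (R := k) (A := A ⧸ p) (B := B ⧸ q)
          (algebraMap k (A ⧸ p)).injective (by simpa using h))
      refine ⟨(d ⊗ₜ[k] (1 : B ⧸ q)) * ((1 : A ⧸ p) ⊗ₜ[k] d'), mul_ne_zero h1 h2, n ⊗ₜ[k] n', ?_⟩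
      show Φ (n ⊗ₜ[k] n') = Φ ((d ⊗ₜ[k] (1 : B ⧸ q)) * ((1 : A ⧸ p) ⊗ₜ[k] d')) * (a ⊗ₜ[k] b)
      simp [Φ, ← hn, ← hn']
  intro F _ f g hfg h0
  have eA := hφe F (f.comp Algebra.TensorProduct.includeLeftRingHom) (g.comp Algebra.TensorProduct.includeLeftRingHom)
    (RingHom.ext fun x => by
      have := RingHom.congr_fun hfg (x ⊗ₜ[k] (1 : B ⧸ q))
      simpa [Φ] using this)
    fun a ha => by
      have := h0 _ (hmA a ha)
      simpa [Φ] using this
  have eB := hψe F (f.comp (Algebra.TensorProduct.includeRight (R := k) (A := A') (B := B')).toRingHom)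
    (g.comp (Algebra.TensorProduct.includeRight (R := k) (A := A') (B := B')).toRingHom)
    (RingHom.ext fun x => by
      have := RingHom.congr_fun hfg ((1 : A ⧸ p) ⊗ₜ[k] x)
      simpa [Φ] using this)
    fun b hb => by
      have := h0 _ (hmB b hb)
      simpa [Φ] using this
  refine RingHom.ext fun z => ?_
  induction z using TensorProduct.induction_on with
  | zero => simp
  | add x y hx hy => rw [map_add, map_add, hx, hy]
  | tmul a b =>
    rw [show a ⊗ₜ[k] b = (a ⊗ₜ[k] (1 : B')) * ((1 : A') ⊗ₜ[k] b) by simp, map_mul, map_mul]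
    exact congrArg₂ (· * ·) (RingHom.congr_fun eA a) (RingHom.congr_fun eB b)

/-- Let `k` be an algebraically closed field and `A`, `B` henselian local `k`-algebras with residue
field `k` (the composites `k → A → A/m_A` and `k → B → B/m_B` are bijective; as `k` is algebraically
closed, `A` and `B` are strictly henselian). Let `𝔪 = m_A ⊗ B + A ⊗ m_B`, a maximal ideal of `A ⊗_k
B`, and let `C` be a strict henselization of the local ring `(A ⊗_k B)_𝔪`. Then sending a prime of
`C` to the pair of its preimages in `A` and in `B` is a bijection from the set of minimal primes of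
`C` onto the set of pairs (minimal prime of `A`, minimal prime of `B`). -/
theorem result {k A B C : Type u} [Field k]
    [IsAlgClosed k] [CommRing A] [CommRing B] [HenselianLocalRing A] [HenselianLocalRing B]
    [Algebra k A] [Algebra k B]
    (hA : Function.Bijective ((residue A).comp (algebraMap k A)))
    (hB : Function.Bijective ((residue B).comp (algebraMap k B)))
    (𝔪 : Ideal (A ⊗[k] B)) [𝔪.IsPrime]
    (h𝔪 : 𝔪 = (maximalIdeal A).map (Algebra.TensorProduct.includeLeft : A →ₐ[k] A ⊗[k] B) ⊔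
      (maximalIdeal B).map (Algebra.TensorProduct.includeRight : B →ₐ[k] A ⊗[k] B))
    [CommRing C] [IsLocalRing C] [Algebra (Localization.AtPrime 𝔪) C]
    [IsLocalHom (algebraMap (Localization.AtPrime 𝔪) C)]
    [Hensel.IsStrictHenselization (Localization.AtPrime 𝔪) C] :
    Set.BijOn
      (fun 𝔯 : Ideal C =>
        (𝔯.comap ((algebraMap (Localization.AtPrime 𝔪) C).comp
            ((algebraMap (A ⊗[k] B) (Localization.AtPrime 𝔪)).comp
              (Algebra.TensorProduct.includeLeft : A →ₐ[k] A ⊗[k] B).toRingHom)),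
          𝔯.comap ((algebraMap (Localization.AtPrime 𝔪) C).comp
            ((algebraMap (A ⊗[k] B) (Localization.AtPrime 𝔪)).comp
              (Algebra.TensorProduct.includeRight : B →ₐ[k] A ⊗[k] B).toRingHom))))
      (minimalPrimes C) (minimalPrimes A ×ˢ minimalPrimes B) := by
  classical
  let iA : A →+* A ⊗[k] B := (Algebra.TensorProduct.includeLeft : A →ₐ[k] A ⊗[k] B).toRingHom
  let iB : B →+* A ⊗[k] B := (Algebra.TensorProduct.includeRight : B →ₐ[k] A ⊗[k] B).toRingHom
  let T := Localization.AtPrime 𝔪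
  let τ := (algebraMap T C).comp (algebraMap (A ⊗[k] B) T)
  -- flatness
  have hflatC : Module.FaithfullyFlat T C := by
    obtain ⟨e⟩ := Groth.Agent.Henselization.exists_algEquiv_of_isStrictHenselization T C
    exact Module.FaithfullyFlat.of_linearEquiv T _ e.symm.toLinearEquiv
  have hfT : (algebraMap T C).Flat := (RingHom.flat_algebraMap_iff).mpr inferInstance
  have hfM : (algebraMap (A ⊗[k] B) T).Flat := (RingHom.flat_algebraMap_iff).mpr (IsLocalization.flat T 𝔪.primeCompl)
  have hfA : iA.Flat := (RingHom.flat_algebraMap_iff (R := A) (S := A ⊗[k] B)).mpr inferInstance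
  have hfB : iB.Flat := by
    have h : ((Algebra.TensorProduct.comm k B A).toRingEquiv.toRingHom).comp (algebraMap B (B ⊗[k] A)) = iB :=
      RingHom.ext fun b => by simp [iB]
    rw [← h]
    exact ((RingHom.flat_algebraMap_iff (R := B) (S := B ⊗[k] A)).mpr inferInstance).comp
      (RingHom.Flat.of_bijective (Algebra.TensorProduct.comm k B A).toRingEquiv.bijective)
  have down : ∀ {R S : Type u} [CommRing R] [CommRing S] (f : R →+* S), f.Flat → ∀ P : Ideal S,
      P ∈ minimalPrimes S → P.comap f ∈ minimalPrimes R := by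
    intro R S _ _ f hf P hP
    letI := f.toAlgebra
    haveI : Module.Flat R S := hf
    haveI := hP.1.1
    refine ⟨⟨Ideal.IsPrime.comap f, bot_le⟩, fun Q hQ hle => ?_⟩
    haveI := hQ.1
    obtain ⟨P', hP'le, hP'p, hP'o⟩ := Ideal.exists_ideal_le_liesOver_of_le (p := Q) (q := P.under R) P hle
    haveI := hP'p
    have := hP.2 ⟨hP'p, bot_le⟩ hP'le
    rw [hP'o.over]
    exact Ideal.comap_mono this
  -- the prime attached to a pair
  have pair : ∀ (p : Ideal A) (q : Ideal B), p.IsPrime → q.IsPrime →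
      ∃ (I : Ideal T) (_ : I.IsPrime) (_ : IsLocalRing (T ⧸ I)),
        (I.comap (algebraMap (A ⊗[k] B) T)).comap iA = p ∧ (I.comap (algebraMap (A ⊗[k] B) T)).comap iB = q ∧
        CAlg2.IsGeomUnibranch (T ⧸ I) ∧
        ∀ Q : Ideal T, p ≤ (Q.comap (algebraMap (A ⊗[k] B) T)).comap iA →
          q ≤ (Q.comap (algebraMap (A ⊗[k] B) T)).comap iB → I ≤ Q := by
    intro p q hp hq
    let π : A ⊗[k] B →ₐ[k] (A ⧸ p) ⊗[k] (B ⧸ q) :=
      Algebra.TensorProduct.map (Ideal.Quotient.mkₐ k p) (Ideal.Quotient.mkₐ k q)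
    have hsA : Function.Surjective (Ideal.Quotient.mkₐ k p).toLinearMap := Ideal.Quotient.mk_surjective
    have hsB : Function.Surjective (Ideal.Quotient.mkₐ k q).toLinearMap := Ideal.Quotient.mk_surjective
    have hπs : Function.Surjective π := TensorProduct.map_surjective hsA hsB
    have hker : RingHom.ker π = p.map iA ⊔ q.map iB := by
      rw [Algebra.TensorProduct.map_ker _ _ Ideal.Quotient.mk_surjective Ideal.Quotient.mk_surjective]
      simp only [Ideal.Quotient.mkₐ_ker, AlgHom.ker_coe]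
      rfl
    have hle : RingHom.ker π.toRingHom ≤ 𝔪 := by
      show RingHom.ker π ≤ 𝔪
      rw [hker, h𝔪]
      exact sup_le_sup (Ideal.map_mono (le_maximalIdeal hp.ne_top)) (Ideal.map_mono (le_maximalIdeal hq.ne_top))
    let m' : Ideal ((A ⧸ p) ⊗[k] (B ⧸ q)) := 𝔪.map π.toRingHom
    haveI : m'.IsPrime := Ideal.map_isPrime_of_surjective (f := π.toRingHom) hπs hle
    have hm' : 𝔪 = m'.comap π.toRingHom := by
      rw [show m' = 𝔪.map π.toRingHom from rfl, Ideal.comap_map_of_surjective π.toRingHom hπs,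
        ← RingHom.ker_eq_comap_bot, sup_of_le_left hle]
    obtain ⟨hdom, hgu⟩ := isGeomUnibranch_tensor hA hB p q m'
      (fun a ha => by
        have h : π.toRingHom (a ⊗ₜ[k] (1 : B)) ∈ m' := Ideal.mem_map_of_mem _ (by
          rw [h𝔪]; exact Ideal.mem_sup_left (Ideal.mem_map_of_mem _ ha))
        simpa [π] using h)
      (fun b hb => by
        have h : π.toRingHom ((1 : A) ⊗ₜ[k] b) ∈ m' := Ideal.mem_map_of_mem _ (by
          rw [h𝔪]; exact Ideal.mem_sup_right (Ideal.mem_map_of_mem _ hb))
        simpa [π] using h)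
    let R := Localization.AtPrime m'
    let φ : T →+* R := Localization.localRingHom 𝔪 m' π.toRingHom hm'
    have hφs : Function.Surjective φ := fun y => by
      obtain ⟨d, s, rfl⟩ := IsLocalization.exists_mk'_eq m'.primeCompl y
      obtain ⟨x, hx⟩ := hπs d
      obtain ⟨t, ht⟩ := hπs s.1
      have htm : t ∈ 𝔪.primeCompl := fun h => s.2 (ht ▸ Ideal.mem_map_of_mem π.toRingHom h)
      refine ⟨IsLocalization.mk' T x ⟨t, htm⟩, ?_⟩
      show Localization.localRingHom 𝔪 m' π.toRingHom hm' _ = _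
      rw [Localization.localRingHom_mk']
      exact IsLocalization.mk'_eq_iff_eq.mpr (by
        show algebraMap _ R ((s : (A ⧸ p) ⊗[k] (B ⧸ q)) * π x) = algebraMap _ R (π t * d)
        rw [hx, ht])
    haveI : IsDomain R := IsLocalization.isDomain_of_le_nonZeroDivisors _ m'.primeCompl_le_nonZeroDivisors
    haveI : (RingHom.ker φ).IsPrime := RingHom.ker_isPrime φ
    haveI : Nontrivial (T ⧸ RingHom.ker φ) := Ideal.Quotient.nontrivial_iff.mpr (Ideal.IsPrime.ne_top')
    haveI : IsLocalRing (T ⧸ RingHom.ker φ) := IsLocalRing.of_surjective' _ Ideal.Quotient.mk_surjective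
    have hcomap : (RingHom.ker φ).comap (algebraMap (A ⊗[k] B) T) = RingHom.ker π.toRingHom := by
      rw [RingHom.comap_ker]
      ext x
      rw [RingHom.mem_ker, RingHom.mem_ker, RingHom.comp_apply, Localization.localRingHom_to_map]
      exact map_eq_zero_iff _ (IsLocalization.injective R m'.primeCompl_le_nonZeroDivisors)
    refine ⟨RingHom.ker φ, inferInstance, inferInstance, ?_, ?_,
      Groth.Agent.SteinConn.isGeomUnibranch_of_ringEquiv (RingHom.quotientKerEquivOfSurjective hφs).symm hgu,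
      fun Q hQp hQq => ?_⟩
    · rw [hcomap]
      ext a
      show π (a ⊗ₜ[k] (1 : B)) = 0 ↔ a ∈ p
      rw [show π (a ⊗ₜ[k] (1 : B)) = Ideal.Quotient.mk p a ⊗ₜ[k] (1 : B ⧸ q) by simp [π],
        ← Ideal.Quotient.eq_zero_iff_mem]
      exact map_eq_zero_iff (Algebra.TensorProduct.includeLeft : A ⧸ p →ₐ[k] (A ⧸ p) ⊗[k] (B ⧸ q))
        (Algebra.TensorProduct.includeLeft_injective (algebraMap k (B ⧸ q)).injective)
    · rw [hcomap]
      ext b
      show π ((1 : A) ⊗ₜ[k] b) = 0 ↔ b ∈ q
      rw [show π ((1 : A) ⊗ₜ[k] b) = (1 : A ⧸ p) ⊗ₜ[k] Ideal.Quotient.mk q b by simp [π],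
        ← Ideal.Quotient.eq_zero_iff_mem]
      exact map_eq_zero_iff (Algebra.TensorProduct.includeRight : B ⧸ q →ₐ[k] (A ⧸ p) ⊗[k] (B ⧸ q))
        (Algebra.TensorProduct.includeRight_injective (algebraMap k (A ⧸ p)).injective)
    · rw [← IsLocalization.map_under 𝔪.primeCompl T (RingHom.ker φ), Ideal.map_le_iff_le_comap, Ideal.under_def,
        hcomap]
      show RingHom.ker π ≤ _
      rw [hker]
      exact sup_le (Ideal.map_le_iff_le_comap.mpr hQp) (Ideal.map_le_iff_le_comap.mpr hQq)
  have key : ∀ 𝔯 ∈ minimalPrimes C, (𝔯.comap (τ.comp iA), 𝔯.comap (τ.comp iB)) ∈ minimalPrimes A ×ˢ minimalPrimes B := by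
    intro 𝔯 h𝔯
    have h1 := down _ hfM _ (down _ hfT 𝔯 h𝔯)
    exact ⟨down iA hfA _ h1, down iB hfB _ h1⟩
  refine ⟨key, fun P hP Q hQ hPQ => ?_, fun pq hpq => ?_⟩
  · obtain ⟨hpA, hqB⟩ := key P hP
    obtain ⟨I, hI, hloc, -, -, hgu, hmin⟩ := pair _ _ hpA.1.1 hqB.1.1
    haveI := hI
    haveI := hloc
    have h1 := congrArg Prod.fst hPQ
    have h2 := congrArg Prod.snd hPQ
    exact existsUnique_minimal_over I hgu hP hQ (hmin _ le_rfl le_rfl) (hmin _ h1.le h2.le)
  · obtain ⟨p, q⟩ := pq
    obtain ⟨hp, hq⟩ := hpq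
    obtain ⟨I, hI, -, hIp, hIq, -, -⟩ := pair p q hp.1.1 hq.1.1
    haveI := hflatC
    obtain ⟨⟨P₀, hP₀⟩, hPI⟩ := PrimeSpectrum.comap_surjective_of_faithfullyFlat (B := C) (⟨I, hI⟩ : PrimeSpectrum T)
    haveI := hP₀
    obtain ⟨P, hP, hPle⟩ := Ideal.exists_minimalPrimes_le (bot_le (a := P₀))
    obtain ⟨hpA, hqB⟩ := key P hP
    have hI' : P₀.comap (algebraMap T C) = I := congrArg PrimeSpectrum.asIdeal hPI
    have hle1 : P.comap (τ.comp iA) ≤ p := (Ideal.comap_mono hPle).trans (le_of_eq (by
      rw [← Ideal.comap_comap, ← Ideal.comap_comap, hI', hIp]))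
    have hle2 : P.comap (τ.comp iB) ≤ q := (Ideal.comap_mono hPle).trans (le_of_eq (by
      rw [← Ideal.comap_comap, ← Ideal.comap_comap, hI', hIq]))
    exact ⟨P, hP, Prod.ext (le_antisymm hle1 (hp.2 hpA.1 hle1)) (le_antisymm hle2 (hq.2 hqB.1 hle2))⟩

end Groth.Agent.S9327
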