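import Groth.Statements.S9330
import Groth.Agent.PairHens.Colimit
import Mathlib
-- import your own Groth.Agent.* helpers here

set_option autoImplicit false
universe u
open Hensel

namespace Groth.Agent.S9330

/-- Let `(A_i, I_i)` be a directed system of pairs (rings `A_i` with ideals `I_i`, the transition maps
sending `I_i` into `I_j`), with colimit ring `A` and `I ⊆ A` the ideal generated by (equivalently,
the union of) the images of the `I_i`. For each `i` let `B_i` be a henselization of the pair `(A_i,
I_i)`, with the compatible transition maps `B_i → B_j` over `A_i → A_j` (these are the induced ones,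
being unique), and give the colimit of the `B_i` the `A`-algebra structure induced by the maps `A_i
→ B_i`. Then `colim B_i`, with the extension of `I`, is a henselization of the pair `(A, I)`. (The
index set is taken in the universe of the rings; the statement fails for non-filtered colimits.) -/
theorem result {ι : Type u} [Preorder ι] [IsDirectedOrder ι] [Nonempty ι]
    (G : ι → Type u) [∀ i, CommRing (G i)] (f : ∀ i j : ι, i ≤ j → (G i →+* G j))
    [DirectedSystem G (fun i j h => f i j h)] (I : ∀ i, Ideal (G i))
    (hI : ∀ (i j : ι) (h : i ≤ j), (I i).map (f i j h) ≤ I j)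
    (B : ι → Type u) [∀ i, CommRing (B i)] [∀ i, Algebra (G i) (B i)]
    (hB : ∀ i, Hens2.IsPairHenselization (G i) (I i) (B i))
    (g : ∀ i j : ι, i ≤ j → (B i →+* B j)) [DirectedSystem B (fun i j h => g i j h)]
    (hg : ∀ (i j : ι) (h : i ≤ j), (g i j h).comp (algebraMap (G i) (B i)) = (algebraMap (G j) (B j)).comp (f i j h))
    [Algebra (DirectLimit G f) (DirectLimit B g)]
    (halg : ∀ (i : ι) (x : G i), algebraMap (DirectLimit G f) (DirectLimit B g) (DirectLimit.Ring.of G f i x) =
      DirectLimit.Ring.of B g i (algebraMap (G i) (B i) x)) :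
    Hens2.IsPairHenselization (DirectLimit G f) (⨆ i, (I i).map (DirectLimit.Ring.of G f i))
      (DirectLimit B g) := by
  let πG := DirectLimit.Ring.of G f
  let πB := DirectLimit.Ring.of B g
  have hπG : ∀ i j (h : i ≤ j) (x : G i), πG j (f i j h x) = πG i x := fun i j h x =>
    Quotient.sound ⟨j, le_rfl, h, DirectedSystem.map_self' _ _⟩
  have hπB : ∀ i j (h : i ≤ j) (x : B i), πB j (g i j h x) = πB i x := fun i j h x =>
    Quotient.sound ⟨j, le_rfl, h, DirectedSystem.map_self' _ _⟩
  let M := ⨆ i, (I i).map (πG i)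
  have hmap : M.map (algebraMap (DirectLimit G f) (DirectLimit B g)) = ⨆ i, ((I i).map (algebraMap (G i) (B i))).map (πB i) := by
    rw [Ideal.map_iSup]
    refine iSup_congr fun i => ?_
    rw [Ideal.map_map, Ideal.map_map]
    exact congrArg ((I i).map ·) (RingHom.ext (halg i))
  refine ⟨?_, fun C _ J φ hC hφ => ?_⟩
  · rw [show (⨆ i, (I i).map (DirectLimit.Ring.of G f i)) = M from rfl, hmap]
    refine Groth.Agent.PairHens.henselianRing_colimit g _ (fun i j h => ?_) (fun i => (hB i).1)
      πB (fun i j k hij hjk x => DirectedSystem.map_map' (fun i j h => g i j h) hij hjk x)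
      (fun i j h => RingHom.ext (hπB i j h)) (fun a => ?_) (fun i x hx => ?_)
    · rw [Ideal.map_map, hg i j h, ← Ideal.map_map]
      exact Ideal.map_mono (hI i j h)
    · obtain ⟨i, x, rfl⟩ := DirectLimit.exists_eq_mk _ a
      exact ⟨i, x, rfl⟩
    · rw [← map_zero (πB i)] at hx
      obtain ⟨j, h, _, hj⟩ := Quotient.exact hx
      exact ⟨j, h, hj.trans (map_zero _)⟩
  have hφi : ∀ i, (I i).map (φ.comp (πG i)) ≤ J := fun i => by
    rw [← Ideal.map_map]
    exact (Ideal.map_mono (le_iSup (fun i => (I i).map (πG i)) i)).trans hφ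
  choose gi hgi hgu using fun i => (hB i).2 C J (φ.comp (πG i)) hC (hφi i)
  have hcompat : ∀ i j (h : i ≤ j) (x : B i), gi j (g i j h x) = gi i x := fun i j h x => by
    refine RingHom.congr_fun (hgu i ((gi j).comp (g i j h)) ?_) x
    show ((gi j).comp (g i j h)).comp (algebraMap (G i) (B i)) = _
    rw [RingHom.comp_assoc, hg i j h, ← RingHom.comp_assoc, hgi j]
    exact RingHom.ext fun y => congrArg φ (hπG i j h y)
  let ψ := DirectLimit.Ring.lift B g C gi hcompat
  refine ⟨ψ, RingHom.ext fun z => ?_, fun ψ' hψ' => RingHom.ext fun z => ?_⟩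
  · obtain ⟨i, x, rfl⟩ := DirectLimit.exists_eq_mk _ z
    show ψ (algebraMap _ _ (DirectLimit.Ring.of G f i x)) = _
    rw [halg]
    exact RingHom.congr_fun (hgi i) x
  · obtain ⟨i, x, rfl⟩ := DirectLimit.exists_eq_mk _ z
    refine RingHom.congr_fun (hgu i (ψ'.comp (πB i)) (RingHom.ext fun y => ?_)) x
    show ψ' (πB i (algebraMap (G i) (B i) y)) = φ (πG i y)
    rw [← halg]
    exact RingHom.congr_fun hψ' _

end Groth.Agent.S9330
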