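import Groth.Statements.S9335
import Groth.Agent.QFinLib

set_option autoImplicit false
universe u
open QFin

namespace Groth.Agent.S9335

open AlgebraicGeometry CategoryTheory in
/-- If f : X → S is of finite type and s ∈ S, then f is quasi-finite at only finitely many points of the
fibre over s. -/
theorem result {X S : Scheme.{u}} (f : X ⟶ S) [LocallyOfFiniteType f] [QuasiCompact f] (s : S) :
    {x : ↑X | f.base x = s ∧ f.QuasiFiniteAt x}.Finite := by
  let D : Set ↥(f.fiber s) := {z | IsOpen ({z} : Set ↥(f.fiber s))}
  have : LocallyOfFiniteType (f.fiberToSpecResidueField s) :=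
    MorphismProperty.pullback_snd _ _ inferInstance
  have : IsNoetherian (f.fiber s) := { }
  have hD : D.Finite := (TopologicalSpace.NoetherianSpace.isCompact D).finite (by
    rw [isDiscrete_iff_discreteTopology, discreteTopology_iff_isOpen_singleton]
    exact fun z => ⟨{z.1}, z.2, by ext w; simp [Subtype.ext_iff]⟩)
  refine (hD.image (f.fiberι s)).subset ?_
  rintro x ⟨rfl, hx⟩
  exact ⟨f.asFiber x, Scheme.Hom.quasiFiniteAt_iff_isOpen_singleton_asFiber.mp hx, f.fiberι_asFiber x⟩

end Groth.Agent.S9335
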