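import Groth.Statements.S9343
import Groth.Agent.DomLib.Maximal
set_option backward.isDefEq.respectTransparency false
set_option backward.isDefEq.respectTransparency.types false

set_option autoImplicit false
universe u
open Dom

namespace Groth.Agent.S9343

open AlgebraicGeometry CategoryTheory in
/-- The base change of a quasi-compact dominant morphism f : X → S along a morphism g : S' → S along
which generalizations lift is dominant. -/
theorem result {X S X' S' : Scheme.{u}} (f : X ⟶ S) [QuasiCompact f] [IsDominant f]
    (g : S' ⟶ S) (g' : X' ⟶ X) (f' : X' ⟶ S') (hsq : IsPullback g' f' f g) (hg : GeneralizingMap g.base) :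
    IsDominant f' := by
  refine ⟨fun s' => ?_⟩
  obtain ⟨η, hη, hs⟩ := Groth.Agent.DomLib.exists_component_specializes s'
  refine hs.mem_closed isClosed_closure (subset_closure ?_)
  have hmax : ∀ t, t ⤳ g η → t = g η := fun t ht => by
    obtain ⟨t', ht', rfl⟩ := hg ht
    rw [Groth.Agent.DomLib.maximal_of_mem_irreducibleComponents hη t' ht']
  obtain ⟨x, hx⟩ := Groth.Agent.DomLib.mem_range_of_maximal f hmax (f.denseRange (g η))
  obtain ⟨o, -, ho⟩ := Scheme.exists_preimage_of_isPullback hsq x η hx
  exact ⟨o, ho⟩

end Groth.Agent.S9343
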