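import Groth.Statements.S9344
import Groth.Agent.DomLib.Maximal
set_option backward.isDefEq.respectTransparency false
set_option backward.isDefEq.respectTransparency.types false

set_option autoImplicit false
universe u
open Dom

namespace Groth.Agent.S9344

open AlgebraicGeometry CategoryTheory in
/-- The base change of a dominant morphism f : X → S along an open morphism g : S' → S is dominant. -/
theorem result {X S X' S' : Scheme.{u}} (f : X ⟶ S) [IsDominant f]
    (g : S' ⟶ S) (g' : X' ⟶ X) (f' : X' ⟶ S') (hsq : IsPullback g' f' f g) (hg : IsOpenMap g.base) :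
    IsDominant f' := by
  refine ⟨fun s' => ?_⟩
  have h1 : Dense (g.base ⁻¹' Set.range f.base) := Dense.preimage f.denseRange hg
  refine (h1.mono ?_) s'
  rintro t ⟨x, hx⟩
  obtain ⟨o, -, ho⟩ := Scheme.exists_preimage_of_isPullback hsq x t hx
  exact ⟨o, ho⟩

end Groth.Agent.S9344
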