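import Groth.Statements.S9345
import Groth.Agent.DomLib.Maximal
set_option backward.isDefEq.respectTransparency false
set_option backward.isDefEq.respectTransparency.types false

set_option autoImplicit false
universe u
open Dom

namespace Groth.Agent.S9345

open AlgebraicGeometry CategoryTheory in
/-- For a morphism f : X → S whose source has only finitely many irreducible components, the image of f
is dense exactly when it contains the generic point of each irreducible component of S, and then S
too has finitely many. -/
theorem result {X S : Scheme.{u}} (f : X ⟶ S)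
    (hX : (irreducibleComponents (↑X : Type u)).Finite) :
    (IsDominant f ↔ ∀ s : ↑S, closure {s} ∈ irreducibleComponents (↑S : Type u) → s ∈ Set.range f.base) ∧
      (IsDominant f → (irreducibleComponents (↑S : Type u)).Finite) := by
  haveI : Finite (irreducibleComponents (↑X : Type u)) := hX.to_subtype
  have hgen : ∀ T : irreducibleComponents (↑X : Type u), ∃ ξ : ↑X, closure {ξ} = (T : Set ↑X) := fun T =>
    (QuasiSober.sober T.2.1 (isClosed_of_mem_irreducibleComponents _ T.2)).imp fun _ h => h
  choose ξ hξ using hgen
  have hcover : IsDominant f → ∀ s : ↑S, ∃ T, f.base (ξ T) ⤳ s := fun hd s => by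
    have h1 : IsClosed (⋃ T, closure {f.base (ξ T)}) := isClosed_iUnion_of_finite fun T => isClosed_closure
    have h2 : Set.range f.base ⊆ ⋃ T, closure {f.base (ξ T)} := by
      rintro _ ⟨x, rfl⟩
      refine Set.mem_iUnion.2 ⟨⟨_, irreducibleComponent_mem_irreducibleComponents x⟩, ?_⟩
      have h3 : ξ ⟨_, irreducibleComponent_mem_irreducibleComponents x⟩ ⤳ x := by
        rw [specializes_iff_mem_closure, hξ]
        exact mem_irreducibleComponent
      exact specializes_iff_mem_closure.1 (h3.map f.continuous)
    obtain ⟨T, hT⟩ := Set.mem_iUnion.1 ((closure_minimal h2 h1) (hd.denseRange s))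
    exact ⟨T, specializes_iff_mem_closure.2 hT⟩
  have hcomp : IsDominant f → ∀ s : ↑S, closure {s} ∈ irreducibleComponents (↑S : Type u) →
      ∃ T, f.base (ξ T) = s := fun hd s hs => by
    obtain ⟨T, hT⟩ := hcover hd s
    exact ⟨T, Groth.Agent.DomLib.maximal_of_mem_irreducibleComponents hs _ hT⟩
  refine ⟨⟨fun hd s hs => ?_, fun h => ⟨fun s => ?_⟩⟩, fun hd => ?_⟩
  · obtain ⟨T, rfl⟩ := hcomp hd s hs
    exact ⟨ξ T, rfl⟩
  · obtain ⟨η, hη, hs⟩ := Groth.Agent.DomLib.exists_component_specializes s
    exact hs.mem_closed isClosed_closure (subset_closure (h η hη))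
  · refine Set.Finite.subset (Set.finite_range fun T => closure {f.base (ξ T)}) fun C hC => ?_
    obtain ⟨s, hs⟩ := QuasiSober.sober hC.1 (isClosed_of_mem_irreducibleComponents _ hC)
    obtain ⟨T, hT⟩ := hcomp hd s (hs.def.symm ▸ hC)
    exact ⟨T, by show closure {f.base (ξ T)} = C; rw [hT]; exact hs⟩

end Groth.Agent.S9345
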