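import Groth.Statements.S9346
import Mathlib
set_option backward.isDefEq.respectTransparency false
set_option backward.isDefEq.respectTransparency.types false

set_option autoImplicit false
universe u
open Dom

namespace Groth.Agent.S9346

open AlgebraicGeometry CategoryTheory in
/-- For a morphism f : X → Y between integral schemes, these six conditions coincide: (1) f is dominant;
(2) f sends the generic point of X to that of Y; (3) there exist affine opens U ⊆ X, V ⊆ Y with U
nonempty and U ⊆ f⁻¹V such that the induced ring map on sections is injective; (4) the same for all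
such pairs; (5) for some x ∈ X the map of local rings O_{Y,f x} → O_{X,x} is injective; (6) the same
for all x. -/
theorem result {X Y : Scheme.{u}} [AlgebraicGeometry.IsIntegral X] [AlgebraicGeometry.IsIntegral Y] (f : X ⟶ Y) :
    [IsDominant f,
      f.base (genericPoint ↑X) = genericPoint ↑Y,
      ∃ (U : X.Opens) (V : Y.Opens) (hUV : U ≤ f ⁻¹ᵁ V), IsAffineOpen U ∧ IsAffineOpen V ∧ (U : Set ↑X).Nonempty ∧
        Function.Injective (f.appLE V U hUV),
      ∀ (U : X.Opens) (V : Y.Opens) (hUV : U ≤ f ⁻¹ᵁ V), IsAffineOpen U → IsAffineOpen V → (U : Set ↑X).Nonempty →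
        Function.Injective (f.appLE V U hUV),
      ∃ x : ↑X, Function.Injective (f.stalkMap x),
      ∀ x : ↑X, Function.Injective (f.stalkMap x)].TFAE := by
  have gp : ∀ {Z W : Scheme.{u}} [AlgebraicGeometry.IsIntegral Z] (j : W ⟶ Z) (z : ↥W),
      genericPoint ↥Z ∈ Set.range j → (∀ q : ↥W, z ⤳ q) → j z = genericPoint ↥Z := by
    intro Z W _ j z hmem hz
    obtain ⟨q, hq⟩ := hmem
    exact ((genericPoint_specializes (j z)).antisymm (hq ▸ (hz q).map j.continuous)).eq.symm
  have hbot : ∀ {A B : CommRingCat.{u}} [IsDomain A] [IsDomain B] (φ : A ⟶ B),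
      Function.Injective φ ↔ Spec.map φ (⊥ : PrimeSpectrum B) = (⊥ : PrimeSpectrum A) := by
    intro A B _ _ φ
    rw [show Function.Injective φ ↔ Function.Injective φ.hom from Iff.rfl, RingHom.injective_iff_ker_eq_bot]
    exact ⟨fun h => PrimeSpectrum.ext h, fun h => congrArg PrimeSpectrum.asIdeal h⟩
  have hbot' : ∀ {A : CommRingCat.{u}} [IsDomain A] (q : ↥(Spec A)), (⊥ : PrimeSpectrum A) ⤳ q :=
    fun q => (PrimeSpectrum.le_iff_specializes _ _).1 bot_le
  have hA : ∀ (U : X.Opens) (V : Y.Opens) (hUV : U ≤ f ⁻¹ᵁ V), IsAffineOpen U → IsAffineOpen V →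
      (U : Set ↑X).Nonempty →
      (Function.Injective (f.appLE V U hUV) ↔ f.base (genericPoint ↑X) = genericPoint ↑Y) := by
    intro U V hUV hU hV hne
    haveI : Nonempty ↥U.toScheme := hne.to_subtype
    haveI : Nonempty ↥V.toScheme := ⟨⟨f hne.some, hUV hne.some_mem⟩⟩
    have hUx : hU.fromSpec (⊥ : PrimeSpectrum Γ(X, U)) = genericPoint ↥X := gp hU.fromSpec _
      (hU.range_fromSpec.symm ▸ ((genericPoint_spec ↥X).mem_open_set_iff U.isOpen).2 (by simpa using hne)) hbot'
    have hVy : hV.fromSpec (⊥ : PrimeSpectrum Γ(Y, V)) = genericPoint ↥Y := gp hV.fromSpec _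
      (hV.range_fromSpec.symm ▸ ((genericPoint_spec ↥Y).mem_open_set_iff V.isOpen).2
        ⟨f hne.some, trivial, hUV hne.some_mem⟩) hbot'
    show _ ↔ f (genericPoint ↥X) = _
    rw [hbot, ← hV.fromSpec.isOpenEmbedding.injective.eq_iff, hVy, ← Scheme.Hom.comp_apply,
      hV.SpecMap_appLE_fromSpec f hU hUV, Scheme.Hom.comp_apply, hUx]
  have hS : ∀ x : ↑X, Function.Injective (f.stalkMap x) ↔ f.base (genericPoint ↑X) = genericPoint ↑Y := by
    intro x
    have hx : X.fromSpecStalk x (⊥ : PrimeSpectrum (X.presheaf.stalk x)) = genericPoint ↥X := gp _ _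
      (by rw [X.range_fromSpecStalk]; exact genericPoint_specializes x) hbot'
    have hy : Y.fromSpecStalk (f x) (⊥ : PrimeSpectrum (Y.presheaf.stalk (f x))) = genericPoint ↥Y := gp _ _
      (by rw [Y.range_fromSpecStalk]; exact genericPoint_specializes (f x)) hbot'
    show _ ↔ f (genericPoint ↥X) = _
    rw [hbot, ← (Y.fromSpecStalk (f x)).isEmbedding.injective.eq_iff, hy, ← Scheme.Hom.comp_apply,
      Scheme.SpecMap_stalkMap_fromSpecStalk, Scheme.Hom.comp_apply, hx]
  obtain ⟨x₀⟩ : Nonempty ↥X := inferInstance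
  obtain ⟨_, ⟨V₀, hV₀, rfl⟩, hxV, -⟩ :=
    Y.isBasis_affineOpens.exists_subset_of_mem_open (Set.mem_univ (f x₀)) isOpen_univ
  obtain ⟨_, ⟨U₀, hU₀, rfl⟩, hxU, hUV⟩ := X.isBasis_affineOpens.exists_subset_of_mem_open
    (show x₀ ∈ (f ⁻¹ᵁ V₀ : X.Opens) from hxV) (f ⁻¹ᵁ V₀).isOpen
  tfae_have 1 → 2 := fun h => (((genericPoint_spec ↥X).image f.continuous).eq
    (show IsGenericPoint (genericPoint ↥Y) (closure (f '' Set.univ)) from by
      rw [Set.image_univ, (show DenseRange f from h.denseRange).closure_range]; exact genericPoint_spec ↥Y))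
  tfae_have 2 → 1 := fun h => ⟨fun y => closure_mono (Set.singleton_subset_iff.2 (show genericPoint ↥Y ∈ Set.range f from ⟨_, h⟩))
    (specializes_iff_mem_closure.1 (genericPoint_specializes y))⟩
  tfae_have 4 → 3 := fun h => ⟨U₀, V₀, hUV, hU₀, hV₀, ⟨x₀, hxU⟩, h U₀ V₀ hUV hU₀ hV₀ ⟨x₀, hxU⟩⟩
  tfae_have 3 → 2 := fun ⟨U, V, h1, hU, hV, hne, hi⟩ => (hA U V h1 hU hV hne).1 hi
  tfae_have 2 → 4 := fun h U V h1 hU hV hne => (hA U V h1 hU hV hne).2 h
  tfae_have 2 → 6 := fun h x => (hS x).2 h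
  tfae_have 6 → 5 := fun h => ⟨x₀, h x₀⟩
  tfae_have 5 → 2 := fun ⟨x, h⟩ => (hS x).1 h
  tfae_finish

end Groth.Agent.S9346
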