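import Groth.Statements.S9348
import Groth.Agent.DomLib.Maximal
set_option backward.isDefEq.respectTransparency false
set_option backward.isDefEq.respectTransparency.types false

set_option autoImplicit false
universe u
open Dom

namespace Groth.Agent.S9348

open AlgebraicGeometry CategoryTheory in
/-- Let f : X → Y be a morphism and g : Y' → Y open and surjective. If the base change f' : X ×_Y Y' →
Y' of f is quasi-compact, then so is f. -/
theorem result {X Y X' Y' : Scheme.{u}} (f : X ⟶ Y) (g : Y' ⟶ Y) [Surjective g]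
    (hg : IsOpenMap g.base) (g' : X' ⟶ X) (f' : X' ⟶ Y') (hsq : IsPullback g' f' f g) [QuasiCompact f'] :
    QuasiCompact f := by
  refine ⟨fun K hKo hKc => ?_⟩
  have hgs : Function.Surjective g.base := g.surjective
  have hbasis : ∀ y ∈ g.base ⁻¹' K, ∃ V : Y'.Opens, IsAffineOpen V ∧ y ∈ V ∧ (V : Set Y') ⊆ g.base ⁻¹' K := by
    intro y hy
    obtain ⟨_, ⟨V, hV, rfl⟩, hyV, hVK⟩ :=
      Y'.isBasis_affineOpens.exists_subset_of_mem_open hy (hKo.preimage g.continuous)
    exact ⟨V, hV, hyV, hVK⟩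
  choose V hV hyV hVK using hbasis
  obtain ⟨t, ht⟩ := hKc.elim_finite_subcover (fun y : g.base ⁻¹' K => g.base '' (V y.1 y.2 : Set Y'))
    (fun y => hg _ (V y.1 y.2).isOpen) (fun x hx => by
      obtain ⟨y, rfl⟩ := hgs x
      exact Set.mem_iUnion.2 ⟨⟨y, hx⟩, y, hyV y hx, rfl⟩)
  let K' : Set Y' := ⋃ y ∈ t, (V y.1 y.2 : Set Y')
  have hK'o : IsOpen K' := isOpen_biUnion fun y _ => (V y.1 y.2).isOpen
  have hK'c : IsCompact K' := t.isCompact_biUnion fun y _ => IsAffineOpen.isCompact (hV y.1 y.2)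
  have e : f.base ⁻¹' K = g'.base '' (f'.base ⁻¹' K') := by
    rw [Scheme.image_preimage_eq_of_isPullback hsq.flip]
    refine congrArg (f.base ⁻¹' ·) (Set.Subset.antisymm (fun x hx => ?_) ?_)
    · obtain ⟨y, hy⟩ := Set.mem_iUnion.1 (ht hx)
      obtain ⟨hyt, z, hz, rfl⟩ := Set.mem_iUnion.1 hy
      exact ⟨z, Set.mem_biUnion hyt hz, rfl⟩
    · rintro _ ⟨z, hz, rfl⟩
      obtain ⟨y, -, hzy⟩ := Set.mem_iUnion₂.1 hz
      exact hVK y.1 y.2 hzy
  rw [e]
  exact ((f'.isCompact_preimage (U := ⟨K', hK'o⟩) hK'c).image g'.continuous)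

end Groth.Agent.S9348
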