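import Groth.Statements.S9351
import Groth.Agent.PureClosedLib.Scheme
-- import your own Groth.Agent.* helpers here

set_option autoImplicit false
universe u
open FlatMod

namespace Groth.Agent.S9351

open AlgebraicGeometry CategoryTheory in
/-- On a scheme X, taking supports is a bijection from the closed subschemes Z ⊆ X with Z → X flat
(indexed by their quasi-coherent ideal sheaves) onto the closed subsets of X stable under
generalization; and any morphism g : Y → X with image inside such a Z factors through Z. -/
theorem result (X : Scheme.{u}) :
    Set.BijOn (fun I : X.IdealSheafData => I.support) {I : X.IdealSheafData | Flat I.subschemeι}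
        {Z : TopologicalSpace.Closeds ↑X | StableUnderGeneralization (Z : Set ↑X)} ∧
      ∀ I : X.IdealSheafData, Flat I.subschemeι → ∀ (Y : Scheme.{u}) (g : Y ⟶ X),
        Set.range g.base ⊆ (I.support : Set ↑X) → ∃ g' : Y ⟶ I.subscheme, g' ≫ I.subschemeι = g := by
  refine ⟨⟨fun I hI => PureClosedLib.stableUnderGeneralization_support hI,
    fun I hI J hJ h => PureClosedLib.eq_of_support_eq hI hJ h, fun Z hZ => ?_⟩,
    fun I hI Y g hg => PureClosedLib.exists_factor hI g hg⟩
  exact ⟨PureClosedLib.pureSheaf Z hZ,
    (PureClosedLib.flat_subschemeι_iff _).2 (PureClosedLib.flat_quotient_pureSheaf Z hZ),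
    PureClosedLib.support_pureSheaf Z hZ⟩

end Groth.Agent.S9351
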