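import Groth.Statements.S9360
import Mathlib
import Groth.Agent.SchDenseLib.Basic

set_option autoImplicit false
universe u
open SchDense

namespace Groth.Agent.S9360

open AlgebraicGeometry CategoryTheory in
/-- Let U ⊆ X be a reduced open subscheme. Then the scheme-theoretic closure of U in X is X if and only
if U is scheme-theoretically dense in X (for every open W the scheme-theoretic closure of U ∩ W in W
is W); and in that case X is reduced. -/
theorem result (X : Scheme.{u}) (U : X.Opens) [IsReduced (↑U : Scheme.{u})] :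
    (IsSchemeTheoreticallyDominant U.ι ↔
        ∀ W : X.Opens, IsSchemeTheoreticallyDominant (X.homOfLE (inf_le_right : U ⊓ W ≤ W))) ∧
      (IsSchemeTheoreticallyDominant U.ι → IsReduced X) := by
  refine ⟨⟨fun h W => SchDenseLib.homOfLE_dominant U (Or.inr inferInstance) W, fun h => ?_⟩,
    fun h => SchDenseLib.isReduced_of_reduced_source U.ι⟩
  haveI := h ⊤
  haveI : IsIso (⊤ : X.Opens).ι := inferInstanceAs (IsIso X.topIso.hom)
  haveI : IsSchemeTheoreticallyDominant (⊤ : X.Opens).ι := ⟨Scheme.Hom.ker_eq_bot_of_isIso _⟩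
  have : IsSchemeTheoreticallyDominant (X.homOfLE (inf_le_right : U ⊓ ⊤ ≤ ⊤) ≫ (⊤ : X.Opens).ι) := inferInstance
  rw [Scheme.homOfLE_ι] at this
  rwa [inf_top_eq] at this

end Groth.Agent.S9360
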