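import Groth.Statements.S9361
import Mathlib

set_option backward.isDefEq.respectTransparency false
set_option autoImplicit false
universe u
open SchImage

open CategoryTheory AlgebraicGeometry
namespace Groth.Agent.S9361

open AlgebraicGeometry CategoryTheory in
/-- Let f : X → Y be separated, V ⊆ Y a retrocompact open and s : V → X a section of f over V. If Y' ⊆ X
is the scheme-theoretic image of s, then Y' → Y is an isomorphism over V. -/
theorem result {X Y : Scheme.{u}} (f : X ⟶ Y) [IsSeparated f] (V : Y.Opens) [QuasiCompact V.ι]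
    (s : (↑V : Scheme.{u}) ⟶ X) (hs : s ≫ f = V.ι) :
    IsIso ((s.imageι ≫ f) ∣_ V) := by
  haveI : QuasiCompact (s ≫ f) := hs ▸ inferInstance
  haveI : QuasiCompact s := QuasiCompact.of_comp s f
  set W := (s.imageι ≫ f) ⁻¹ᵁ V with hW
  have htop : s.toImage ⁻¹ᵁ W = ⊤ := top_unique fun x _ => by
    show f (s.imageι (s.toImage x)) ∈ V
    rw [← Scheme.Hom.comp_apply, ← Scheme.Hom.comp_apply, Scheme.Hom.toImage_imageι_assoc, hs]
    exact x.2
  let T := s.toImage ∣_ W
  let e : V.toScheme ⟶ (s.toImage ⁻¹ᵁ W).toScheme := V.toScheme.topIso.inv ≫ (V.toScheme.homOfLE htop.ge)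
  haveI : IsIso e := by
    show IsIso (V.toScheme.topIso.inv ≫ (V.toScheme.homOfLE htop.ge))
    rw [show V.toScheme.homOfLE htop.ge = (V.toScheme.isoOfEq htop.symm).hom from rfl]
    infer_instance
  let t := e ≫ T
  have ht : t ≫ ((s.imageι ≫ f) ∣_ V) = 𝟙 _ := by
    rw [← cancel_mono V.ι, Category.assoc, morphismRestrict_ι, Category.id_comp]
    simp only [t, T, e, Category.assoc, W, morphismRestrict_ι_assoc, Scheme.Hom.toImage_imageι_assoc, hs,
      Scheme.homOfLE_ι_assoc]
    simp
  haveI : IsSeparated ((s.imageι ≫ f) ∣_ V) :=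
    MorphismProperty.of_isPullback (P := @IsSeparated) (isPullback_morphismRestrict (s.imageι ≫ f) V).flip inferInstance
  haveI : IsClosedImmersion (t ≫ ((s.imageι ≫ f) ∣_ V)) := ht ▸ inferInstance
  haveI : IsClosedImmersion t := IsClosedImmersion.of_comp t ((s.imageι ≫ f) ∣_ V)
  haveI : IsClosedImmersion T := by
    rw [show T = inv e ≫ t from (IsIso.inv_hom_id_assoc e T).symm]
    infer_instance
  have hind : Topology.IsInducing s.toImage := by
    have h1 : Topology.IsInducing (⇑f ∘ ⇑s) := by
      have : (⇑f ∘ ⇑s) = ⇑V.ι := funext fun x => by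
        rw [Function.comp_apply, ← Scheme.Hom.comp_apply, hs]
      rw [this]
      exact V.ι.isEmbedding.isInducing
    have h2 : Topology.IsInducing ⇑s := Topology.IsInducing.of_comp s.continuous f.continuous h1
    refine Topology.IsInducing.of_comp s.toImage.continuous s.imageι.continuous ?_
    have : (⇑s.imageι ∘ ⇑s.toImage) = ⇑s := funext fun x => by
      rw [Function.comp_apply, ← Scheme.Hom.comp_apply, Scheme.Hom.toImage_imageι]
    rwa [this]
  haveI hT : IsIso T := by
    rw [isIso_iff_isIso_stalkMap]
    refine ⟨?_, fun x => ?_⟩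
    · have hsurj : Function.Surjective T := by
        intro w
        by_contra hw
        have hw' : w ∈ (Set.range T)ᶜ := hw
        obtain ⟨O, hO, hOw⟩ : ∃ O : Set s.image, IsOpen O ∧ Subtype.val ⁻¹' O = (Set.range T)ᶜ :=
          isOpen_induced_iff.1 (T.isClosedEmbedding.isClosed_range.isOpen_compl)
        have hwO : w.1 ∈ O ∩ (W : Set s.image) := ⟨(Set.ext_iff.1 hOw w).2 hw', w.2⟩
        obtain ⟨x, hx⟩ := s.toImage.denseRange.exists_mem_open (hO.inter W.isOpen) ⟨_, hwO⟩
        have hmem : (⟨s.toImage x, hx.2⟩ : W.toScheme) ∈ (Set.range T)ᶜ := (Set.ext_iff.1 hOw _).1 hx.1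
        exact hmem ⟨⟨x, hx.2⟩, Subtype.ext (morphismRestrict_base_coe s.toImage W ⟨x, hx.2⟩)⟩
      exact (TopCat.isoOfHomeo ((T.isClosedEmbedding.isEmbedding).toHomeomorphOfSurjective hsurj)).isIso_hom
    · have hinj : Function.Injective (s.toImage.stalkMap x.1) := by
        haveI := TopCat.Presheaf.stalkPushforward.stalkPushforward_iso_of_isInducing CommRingCat
          (f := s.toImage.base) hind V.toScheme.presheaf x.1
        change Function.Injective ((TopCat.Presheaf.stalkFunctor _ _).map s.toImage.c ≫
          TopCat.Presheaf.stalkPushforward CommRingCat s.toImage.base V.toScheme.presheaf x.1)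
        exact (ConcreteCategory.bijective_of_isIso (TopCat.Presheaf.stalkPushforward CommRingCat s.toImage.base V.toScheme.presheaf x.1)).1.comp
          (s.stalkFunctor_toImage_injective _)
      have hsurj : Function.Surjective (T.stalkMap x) := T.stalkMap_surjective x
      have harr : Function.Injective (T.stalkMap x) := by
        let ε := morphismRestrictStalkMap s.toImage W x
        have hε : T.stalkMap x ≫ ε.hom.right = ε.hom.left ≫ s.toImage.stalkMap x.1 := ε.hom.w.symm
        intro a b hab
        have hbL : Function.Injective ε.hom.left := (ConcreteCategory.bijective_of_isIso ε.hom.left).1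
        refine hbL (hinj ?_)
        have := congrArg (fun q => ε.hom.right q) hab
        exact (congr($hε a)).symm.trans (this.trans (congr($hε b)))
      exact (ConcreteCategory.isIso_iff_bijective _).2 ⟨harr, hsurj⟩
  haveI : IsIso t := inferInstance
  rw [show (s.imageι ≫ f) ∣_ V = inv t from IsIso.eq_inv_of_hom_inv_id ht]
  infer_instance

end Groth.Agent.S9361
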