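import Groth.Statements.S9362
import Groth.Agent.S7417
import Groth.Agent.QCohLib.Exact


set_option autoImplicit false
universe u
open QCohSub

namespace Groth.Agent.S9362

open CategoryTheory CategoryTheory.Limits AlgebraicGeometry

open Groth.Agent CategoryTheory AlgebraicGeometry Limits
set_option backward.isDefEq.respectTransparency false

open AlgebraicGeometry CategoryTheory in
/-- Let F be a quasi-coherent O_X-module and G ⊆ F an O_X-submodule. There is a quasi-coherent submodule
G' ⊆ G such that Hom(H, G') → Hom(H, G) is bijective for every quasi-coherent O_X-module H; in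
particular G' is the largest quasi-coherent submodule of F contained in G (it is unique up to unique
isomorphism over G). -/
theorem result (X : Scheme.{u}) (F G : X.Modules) (hF : Coh.IsQCoh F) (j : G ⟶ F) [Mono j] :
    ∃ (G' : X.Modules) (k : G' ⟶ G), Coh.IsQCoh G' ∧ Mono k ∧
      ∀ H : X.Modules, Coh.IsQCoh H → Function.Bijective (fun φ : H ⟶ G' => φ ≫ k) := by
  haveI := Groth.Agent.S7417.result X
  let adj := Adjunction.ofIsLeftAdjoint (QCohCat.isQCoh X).ι
  let C := (QCohCat.isQCoh X).ι.rightAdjoint
  let ε : (C.obj G).obj ⟶ G := adj.counit.app G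
  let f : (C.obj G).obj ⟶ F := ε ≫ j
  haveI : StrongEpi (Abelian.factorThruImage f) := strongEpi_of_epi _
  have sq : CommSq ε (Abelian.factorThruImage f) j (Abelian.image.ι f) := ⟨(Abelian.image.fac f).symm⟩
  haveI : Mono sq.lift := mono_of_mono_fac sq.fac_right
  refine ⟨Abelian.image f, sq.lift, (QCohLib.isQCoh_image (cokernel.π f) hF (QCohLib.isQCoh_image f (C.obj G).property hF).2).1, inferInstance,
    fun H hH => ⟨fun a b h => (cancel_mono sq.lift).1 h, fun φ => ?_⟩⟩
  let H' : QCohCat.QCoh X := ⟨H, hH⟩
  refine ⟨((adj.homEquiv H' G) φ).hom ≫ Abelian.factorThruImage f, ?_⟩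
  show (((adj.homEquiv H' G) φ).hom ≫ Abelian.factorThruImage f) ≫ sq.lift = φ
  rw [Category.assoc, sq.fac_left]
  exact (adj.homEquiv_counit ..).symm.trans ((adj.homEquiv H' G).symm_apply_apply φ)


end Groth.Agent.S9362
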