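import Groth.Statements.S9364
import Groth.Agent.CILib.NhdLocal
import Groth.Agent.CILib.Scheme

set_option autoImplicit false
universe u
open Synt

set_option backward.isDefEq.respectTransparency false

namespace Groth.Agent.S9364

open AlgebraicGeometry CategoryTheory Groth.Agent.CILib

theorem respectsIso : (RingHom.toMorphismProperty @IsSyntomicHom).RespectsIso :=
  RingHom.toMorphismProperty_respectsIso_iff.1 isSyntomicHom_propertyIsLocal.respectsIso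

theorem resLE_iff {X S : Scheme.{u}} (f : X ⟶ S) (U : X.affineOpens) (V : S.affineOpens) (e : U.1 ≤ f ⁻¹ᵁ V.1) :
    SyntMor (f.resLE V.1 U.1 e) ↔ IsSyntomicHom (f.appLE V.1 U.1 e).hom := by
  haveI : IsAffine U.1 := U.2
  haveI : IsAffine V.1 := V.2
  haveI := respectsIso.{u}
  rw [HasRingHomProperty.iff_of_isAffine (P := @SyntMor)]
  exact (RingHom.toMorphismProperty @IsSyntomicHom).arrow_mk_iso_iff (arrowResLEAppIso f V.1 U.1 e)

theorem appLE_of_syntomicAt {X S : Scheme.{u}} (f : X ⟶ S) (U₀ U₁ : X.affineOpens) (V₀ V : S.affineOpens)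
    (e₀ : U₀.1 ≤ f ⁻¹ᵁ V₀.1) (h : IsSyntomicHom (f.appLE V₀.1 U₀.1 e₀).hom) (hle : U₁.1 ≤ U₀.1)
    (e : U₁.1 ≤ f ⁻¹ᵁ V.1) : IsSyntomicHom (f.appLE V.1 U₁.1 e).hom := by
  haveI : IsAffine U₀.1 := U₀.2
  have key : ∀ (U : X.affineOpens) (W : S.affineOpens) (hU : U.1 ≤ U₀.1) (eW : U.1 ≤ f ⁻¹ᵁ W.1)
      (W' : (U₀.1 : Scheme.{u}).Opens) (hW' : U₀.1.ι ''ᵁ W' = U.1) (eW' : W' ≤ (U₀.1.ι ≫ f) ⁻¹ᵁ W.1),
      IsSyntomicHom ((U₀.1.ι ≫ f).appLE W.1 W' eW').hom ↔ IsSyntomicHom (f.appLE W.1 U.1 eW).hom := by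
    intro U W hU eW W' hW' eW'
    have h1 : (U₀.1.ι ≫ f).appLE W.1 W' eW' = f.appLE W.1 U.1 eW ≫ X.presheaf.map (eqToHom hW').op := by
      rw [← Scheme.Hom.appLE_comp_appLE U₀.1.ι f W.1 U.1 W' eW (fun z hz => by rw [← hW']; exact ⟨z, hz, rfl⟩),
        Scheme.Opens.ι_appLE]
      rfl
    rw [h1, CommRingCat.hom_comp]
    exact isSyntomicHom_propertyIsLocal.respectsIso.cancel_right_isIso _ _
  have h0 : Synt.IsSyntomicMor (U₀.1.ι ≫ f) := fun z =>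
    ⟨⟨⊤, isAffineOpen_top _⟩, V₀, fun y _ => e₀ y.2, trivial,
      (key U₀ V₀ le_rfl e₀ ⊤ (Scheme.Opens.ι_image_top _) _).2 h⟩
  have hW' : U₀.1.ι ''ᵁ (U₀.1.ι ⁻¹ᵁ U₁.1) = U₁.1 := by
    rw [Scheme.Hom.image_preimage_eq_opensRange_inf, Scheme.Opens.opensRange_ι, inf_eq_right]
    exact hle
  have ha : IsAffineOpen (U₀.1.ι ⁻¹ᵁ U₁.1) :=
    (Scheme.Hom.isAffineOpen_iff_of_isOpenImmersion U₀.1.ι).1 (by rw [hW']; exact U₁.2)
  exact (key U₁ V hle e _ hW' (fun z hz => e hz)).1 ((isSyntomicMor_iff _).1 h0 ⟨_, ha⟩ V fun z hz => e hz)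


open AlgebraicGeometry CategoryTheory in
/-- Let f : X → S, x ∈ X and V ⊆ S an affine open neighbourhood of f x. Then f is syntomic at x if and
only if some affine open U ∋ x with f(U) ⊆ V has f|_U : U → V standard syntomic. -/
theorem result {X S : Scheme.{u}} (f : X ⟶ S) (x : X) (V : S.affineOpens)
    (hV : f.base x ∈ V.1) :
    Synt.IsSyntomicAt f x ↔
      ∃ (U : X.affineOpens) (e : U.1 ≤ f ⁻¹ᵁ V.1), x ∈ U.1 ∧ Synt.IsStandardSyntomic (f.resLE V.1 U.1 e) := by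
  constructor
  · rintro ⟨U₀, V₀, e₀, hx₀, h₀⟩
    obtain ⟨_, ⟨W, hW, rfl⟩, hxW, hWsub⟩ := X.isBasis_affineOpens.exists_subset_of_mem_open
      (show x ∈ ((U₀.1 ⊓ f ⁻¹ᵁ V.1 : X.Opens) : Set X) from ⟨hx₀, hV⟩) (U₀.1 ⊓ f ⁻¹ᵁ V.1).isOpen
    have eW : W ≤ f ⁻¹ᵁ V.1 := fun z hz => (hWsub hz).2
    have hs := appLE_of_syntomicAt f U₀ ⟨W, hW⟩ V₀ V e₀ h₀ (fun z hz => (hWsub hz).1) eW
    letI : Algebra Γ(S, V.1) Γ(X, W) := (f.appLE V.1 W eW).hom.toAlgebra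
    have hs' : Synt.IsSyntomic Γ(S, V.1) Γ(X, W) := hs
    let q := hW.primeIdealOf ⟨x, hxW⟩
    let p := PrimeSpectrum.comap (algebraMap Γ(S, V.1) Γ(X, W)) q
    let Q := PrimeSpectrum.preimageEquivFiber Γ(S, V.1) Γ(X, W) p ⟨q, rfl⟩
    have hQ : Q.asIdeal.comap (Algebra.TensorProduct.includeRight : Γ(X, W) →ₐ[Γ(S, V.1)] p.asIdeal.Fiber Γ(X, W)).toRingHom
        = q.asIdeal := congrArg (fun z => z.1.asIdeal)
      ((PrimeSpectrum.preimageEquivFiber Γ(S, V.1) Γ(X, W) p).symm_apply_apply ⟨q, rfl⟩)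
    have h1 : (1 : Γ(X, W)) ∉ q.asIdeal := fun h => q.2.ne_top ((Ideal.eq_top_iff_one _).2 h)
    obtain ⟨hfp, hfl, hci⟩ := conditions_of_syntomic p.asIdeal q.asIdeal Q.asIdeal h1 hQ
      (isSyntomic_away hs' 1 (Localization.Away (1 : Γ(X, W))))
    obtain ⟨g, hg, n, c, F, hF, ⟨ε⟩⟩ := exists_relGCI_of_conditions p.asIdeal q.asIdeal Q.asIdeal h1 hQ hci
    have eU : X.basicOpen g ≤ f ⁻¹ᵁ V.1 := (X.basicOpen_le g).trans eW
    refine ⟨⟨X.basicOpen g, hW.basicOpen g⟩, eU, ?_, ?_⟩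
    · have hy : hW.primeIdealOf ⟨x, hxW⟩ ∈ hW.fromSpec ⁻¹ᵁ X.basicOpen g := by
        rw [hW.fromSpec_preimage_basicOpen g]; exact hg
      have hy' : hW.fromSpec (hW.primeIdealOf ⟨x, hxW⟩) ∈ X.basicOpen g := hy
      rwa [hW.fromSpec_primeIdealOf ⟨x, hxW⟩] at hy'
    · letI : Algebra Γ(S, V.1) Γ(X, X.basicOpen g) := (f.appLE V.1 (X.basicOpen g) eU).hom.toAlgebra
      haveI := hW.isLocalization_basicOpen g
      haveI : IsScalarTower Γ(S, V.1) Γ(X, W) Γ(X, X.basicOpen g) := IsScalarTower.of_algebraMap_eq fun a => by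
        show (f.appLE V.1 (X.basicOpen g) eU).hom a =
          (f.appLE V.1 W eW ≫ X.presheaf.map (homOfLE (X.basicOpen_le g)).op).hom a
        rw [Scheme.Hom.appLE_map]
      let ε' : Γ(X, X.basicOpen g) ≃ₐ[Γ(S, V.1)] Synt.RelGCIRing Γ(S, V.1) n c F :=
        ((IsLocalization.algEquiv (Submonoid.powers g) Γ(X, X.basicOpen g) (Localization.Away g)).restrictScalars Γ(S, V.1)).trans ε
      let φ : CommRingCat.of (Synt.RelGCIRing Γ(S, V.1) n c F) ≅ Γ(X, X.basicOpen g) := ε'.symm.toRingEquiv.toCommRingCatIso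
      refine ⟨Γ(S, V.1), inferInstance, n, c, F, hF,
        (hW.basicOpen g).isoSpec ≪≫ asIso (Spec.map φ.hom), V.2.isoSpec, ?_⟩
      have hφ : CommRingCat.ofHom (algebraMap Γ(S, V.1) (Synt.RelGCIRing Γ(S, V.1) n c F)) ≫ φ.hom =
          f.appLE V.1 (X.basicOpen g) eU := by
        refine CommRingCat.hom_ext (RingHom.ext fun a => ?_)
        show ε'.symm (algebraMap Γ(S, V.1) _ a) = _
        rw [ε'.symm.commutes]
        rfl
      rw [Iso.trans_hom, asIso_hom, Category.assoc, ← Spec.map_comp, hφ, ← cancel_mono V.2.fromSpec]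
      simp only [Category.assoc, IsAffineOpen.isoSpec_hom_fromSpec, Scheme.Hom.resLE_comp_ι]
      rw [IsAffineOpen.SpecMap_appLE_fromSpec f V.2 (hW.basicOpen g) eU, ← Category.assoc,
        IsAffineOpen.isoSpec_hom_fromSpec]
  · rintro ⟨U, e, hx, R, _, n, c, F, hF, e₁, e₂, he⟩
    refine ⟨U, V, e, hx, (resLE_iff f U V e).1 ?_⟩
    have hS : SyntMor (Spec.map (CommRingCat.ofHom (algebraMap R (Synt.RelGCIRing R n c F)))) :=
      (HasRingHomProperty.Spec_iff (P := @SyntMor)).2 (isSyntomicHom_algebraMap.2 (isSyntomic_of_isRelGCI F hF))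
    haveI : (@SyntMor : MorphismProperty Scheme.{u}).RespectsIso :=
      (inferInstance : IsZariskiLocalAtTarget (@SyntMor : MorphismProperty Scheme.{u})).toRespects
    rw [show f.resLE V.1 U.1 e = e₁.hom ≫ Spec.map (CommRingCat.ofHom (algebraMap R (Synt.RelGCIRing R n c F))) ≫ e₂.inv by
      rw [← Category.assoc, he, Category.assoc, Iso.hom_inv_id, Category.comp_id],
      MorphismProperty.cancel_left_of_respectsIso @SyntMor, MorphismProperty.cancel_right_of_respectsIso @SyntMor]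
    exact hS

end Groth.Agent.S9364
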