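import Groth.Statements.S9368
import Groth.Agent.CILib.LCIPoint
import Groth.Agent.CILib.Fibre

set_option autoImplicit false
universe u
open Synt

set_option backward.isDefEq.respectTransparency false

namespace Groth.Agent.S9368

open AlgebraicGeometry CategoryTheory Groth.Agent.CILib TensorProduct

theorem isSyntomic_field_of_isLCIOver {k A : Type u} [Field k] [CommRing A] [Algebra k A]
    (h : Synt.IsLCIOver k A) : Synt.IsSyntomic k A := by
  haveI : Algebra.FiniteType k A := h.1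
  refine ⟨inferInstance, Algebra.FinitePresentation.of_finiteType.1 h.1, fun P => ?_⟩
  have hb : Function.Bijective (algebraMap k P.asIdeal.ResidueField) :=
    ⟨(algebraMap k P.asIdeal.ResidueField).injective, fun x => by
      have hP : P.asIdeal.IsMaximal := by
        rw [Subsingleton.elim P ⟨⊥, Ideal.isPrime_bot⟩]
        exact Ideal.bot_isMaximal
      obtain ⟨y, rfl⟩ := (Ideal.bijective_algebraMap_quotient_residueField P.asIdeal).2 x
      obtain ⟨z, rfl⟩ := Ideal.Quotient.mk_surjective y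
      exact ⟨z, rfl⟩⟩
  let σ : k ≃ₐ[k] P.asIdeal.ResidueField := AlgEquiv.ofBijective (Algebra.ofId k _) hb
  let ε : P.asIdeal.Fiber A ≃ₐ[k] A :=
    (Algebra.TensorProduct.congr σ.symm AlgEquiv.refl).trans (Algebra.TensorProduct.lid k A)
  refine isLCIOver_of_semiequiv σ.toRingEquiv ε.symm.toRingEquiv (fun a => ?_) h
  apply ε.injective
  show ε (ε.symm (algebraMap k A a)) = ε ((σ a) ⊗ₜ[k] (1 : A))
  rw [AlgEquiv.apply_symm_apply]
  simp [ε, Algebra.algebraMap_eq_smul_one]

variable {k : Type u} [Field k] {X : Scheme.{u}} (p : X ⟶ Spec (CommRingCat.of k))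

/-- The structure map of the sections over `U`. -/
noncomputable abbrev strHom (U : X.Opens) : CommRingCat.of k ⟶ Γ(X, U) :=
  (Scheme.ΓSpecIso (CommRingCat.of k)).inv ≫ p.appLE ⊤ U le_top

theorem syntomic_iff (U : X.affineOpens) :
    IsSyntomicHom (p.appLE ⊤ U.1 le_top).hom ↔
      letI := (strHom p U.1).hom.toAlgebra; Synt.IsSyntomic k Γ(X, U.1) := by
  show _ ↔ IsSyntomicHom (strHom p U.1).hom
  rw [CommRingCat.hom_comp]
  exact (isSyntomicHom_propertyIsLocal.respectsIso.cancel_left_isIso _ _).symm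

theorem finiteType [LocallyOfFiniteType p] (U : X.affineOpens) :
    letI := (strHom p U.1).hom.toAlgebra; Algebra.FiniteType k Γ(X, U.1) := by
  show (strHom p U.1).hom.FiniteType
  rw [CommRingCat.hom_comp]
  exact (RingHom.finiteType_respectsIso.cancel_left_isIso _ _).2
    (HasRingHomProperty.appLE @LocallyOfFiniteType p inferInstance ⟨⊤, isAffineOpen_top _⟩ U le_top)

theorem stalk_equiv (U : X.affineOpens) (x : X) (hx : x ∈ U.1) :
    letI := (strHom p U.1).hom.toAlgebra
    letI := ((Scheme.ΓSpecIso (CommRingCat.of k)).inv ≫ p.appLE ⊤ ⊤ le_top ≫ X.presheaf.germ ⊤ x trivial).hom.toAlgebra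
    Nonempty (Localization.AtPrime (U.2.primeIdealOf ⟨x, hx⟩).asIdeal ≃ₐ[k] X.presheaf.stalk x) := by
  let : Algebra k Γ(X, U.1) := (strHom p U.1).hom.toAlgebra
  let : Algebra k (X.presheaf.stalk x) :=
    ((Scheme.ΓSpecIso (CommRingCat.of k)).inv ≫ p.appLE ⊤ ⊤ le_top ≫ X.presheaf.germ ⊤ x trivial).hom.toAlgebra
  letI := TopCat.Presheaf.algebra_section_stalk X.presheaf ⟨x, hx⟩
  haveI := U.2.isLocalization_stalk ⟨x, hx⟩
  haveI : IsScalarTower k Γ(X, U.1) (X.presheaf.stalk x) := IsScalarTower.of_algebraMap_eq fun a => by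
    show ((Scheme.ΓSpecIso (CommRingCat.of k)).inv ≫ p.appLE ⊤ ⊤ le_top ≫ X.presheaf.germ ⊤ x trivial).hom a =
      (strHom p U.1 ≫ X.presheaf.germ U.1 x hx).hom a
    have h2 : p.appLE ⊤ U.1 le_top = p.appLE ⊤ ⊤ le_top ≫ X.presheaf.map (homOfLE (le_top : U.1 ≤ ⊤)).op :=
      (p.appLE_map _ _).symm
    congr 2
    show _ = ((Scheme.ΓSpecIso (CommRingCat.of k)).inv ≫ p.appLE ⊤ U.1 le_top) ≫ _
    rw [h2]
    simp only [Category.assoc]
    rw [TopCat.Presheaf.germ_res X.presheaf (homOfLE (le_top : U.1 ≤ ⊤)) x hx]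
  exact ⟨(IsLocalization.algEquiv (U.2.primeIdealOf ⟨x, hx⟩).asIdeal.primeCompl _ _).restrictScalars k⟩


open AlgebraicGeometry CategoryTheory in
/-- For X locally of finite type over a field k with structure morphism p, the following are equivalent:
(1) p is syntomic; (2) every x ∈ X has an affine open neighbourhood whose coordinate ring is a
global complete intersection over k; (3) each stalk O_{X,x} is a complete intersection ring over k
(k-algebra structures induced by p). -/
theorem result (k : Type u) [Field k] (X : Scheme.{u}) (p : X ⟶ Spec (CommRingCat.of k)) [LocallyOfFiniteType p] :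
    [Synt.IsSyntomicMor p,
      ∀ x : ↑X, ∃ U : X.affineOpens, x ∈ U.1 ∧
        letI := ((Scheme.ΓSpecIso (CommRingCat.of k)).inv ≫ p.appLE ⊤ U.1 le_top).hom.toAlgebra
        Synt.IsGlobalCI k Γ(X, U.1),
      ∀ x : ↑X,
        letI := ((Scheme.ΓSpecIso (CommRingCat.of k)).inv ≫ p.appLE ⊤ ⊤ le_top ≫ X.presheaf.germ ⊤ x trivial).hom.toAlgebra
        Synt.IsCIOver k (X.presheaf.stalk x)].TFAE := by
  tfae_have 1 → 2 := fun h x => by
    obtain ⟨_, ⟨W, hW, rfl⟩, hxW, -⟩ := X.isBasis_affineOpens.exists_subset_of_mem_open (Set.mem_univ x) isOpen_univ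
    let U : X.affineOpens := ⟨W, hW⟩
    letI := (strHom p W).hom.toAlgebra
    have hs : Synt.IsSyntomic k Γ(X, W) :=
      (syntomic_iff p U).1 ((isSyntomicMor_iff p).1 h U ⟨⊤, isAffineOpen_top _⟩ le_top)
    obtain ⟨g, hg, hci⟩ := (isLCIOver_of_isSyntomic_field hs).2 (hW.primeIdealOf ⟨x, hxW⟩)
    refine ⟨⟨X.basicOpen g, hW.basicOpen g⟩, ?_, ?_⟩
    · have hh := hW.fromSpec_preimage_basicOpen g
      have hy : hW.primeIdealOf ⟨x, hxW⟩ ∈ hW.fromSpec ⁻¹ᵁ X.basicOpen g := by rw [hh]; exact hg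
      have e := hW.fromSpec_primeIdealOf ⟨x, hxW⟩
      show x ∈ X.basicOpen g
      have hy' : hW.fromSpec (hW.primeIdealOf ⟨x, hxW⟩) ∈ X.basicOpen g := hy
      rwa [e] at hy'
    · letI := (strHom p (X.basicOpen g)).hom.toAlgebra
      show Synt.IsGlobalCI k Γ(X, X.basicOpen g)
      haveI := hW.isLocalization_basicOpen g
      haveI : IsScalarTower k Γ(X, W) Γ(X, X.basicOpen g) := IsScalarTower.of_algebraMap_eq fun a => by
        show (strHom p (X.basicOpen g)).hom a = (strHom p W ≫ X.presheaf.map (homOfLE (X.basicOpen_le g)).op).hom a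
        congr 2
        simp [strHom, Scheme.Hom.appLE_map]
      exact isGlobalCI_congr ((IsLocalization.algEquiv (Submonoid.powers g) (Localization.Away g)
        Γ(X, X.basicOpen g)).restrictScalars k) hci
  tfae_have 2 → 3 := fun h x => by
    obtain ⟨U, hx, hci⟩ := h x
    letI := (strHom p U.1).hom.toAlgebra
    letI : Algebra k (X.presheaf.stalk x) :=
      ((Scheme.ΓSpecIso (CommRingCat.of k)).inv ≫ p.appLE ⊤ ⊤ le_top ≫ X.presheaf.germ ⊤ x trivial).hom.toAlgebra
    obtain ⟨e⟩ := stalk_equiv p U x hx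
    exact isCIOver_congr e (isCIOver_of_isGlobalCI hci _)
  tfae_have 3 → 1 := fun h x => by
    obtain ⟨_, ⟨W, hW, rfl⟩, hxW, -⟩ := X.isBasis_affineOpens.exists_subset_of_mem_open (Set.mem_univ x) isOpen_univ
    let U : X.affineOpens := ⟨W, hW⟩
    letI := (strHom p W).hom.toAlgebra
    haveI : Algebra.FiniteType k Γ(X, W) := finiteType p U
    refine ⟨U, ⟨⊤, isAffineOpen_top _⟩, le_top, hxW, (syntomic_iff p U).2 (isSyntomic_field_of_isLCIOver ?_)⟩
    refine isLCIOver_of_forall_maximal fun m _ => ?_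
    let y : X := hW.fromSpec ⟨m, inferInstance⟩
    have hy : y ∈ W := by
      have : y ∈ Set.range hW.fromSpec := ⟨_, rfl⟩
      rwa [hW.range_fromSpec] at this
    have hm : hW.primeIdealOf ⟨y, hy⟩ = ⟨m, inferInstance⟩ :=
      hW.fromSpec.isOpenEmbedding.injective (hW.fromSpec_primeIdealOf ⟨y, hy⟩)
    letI : Algebra k (X.presheaf.stalk y) :=
      ((Scheme.ΓSpecIso (CommRingCat.of k)).inv ≫ p.appLE ⊤ ⊤ le_top ≫ X.presheaf.germ ⊤ y trivial).hom.toAlgebra
    obtain ⟨e⟩ := stalk_equiv p U y hy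
    have := isCIOver_congr e.symm (h y)
    rw! [hm] at this
    exact this
  tfae_finish

end Groth.Agent.S9368
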