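import Groth.Statements.S9369
import Mathlib
import Groth.Agent.OmegaUnivLib.Univ
import Groth.Agent.OmegaUnivLib.HomAff

set_option autoImplicit false
universe u
open OmegaSh

namespace Groth.Agent.S9369

open CategoryTheory CategoryTheory.Limits AlgebraicGeometry

open Groth.Agent.OmegaUnivLib in
theorem exists_der {X S : Scheme.{u}} [IsAffine X] [IsAffine S] (f : X ⟶ S) (F : X.Modules)
    (δ : Γ(X, ⊤) →+ Γ(F, ⊤)) (h1 : ∀ a b : Γ(X, ⊤), δ (a * b) = a • δ b + b • δ a)
    (h2 : ∀ c : Γ(S, ⊤), δ (f.appTop c) = 0) : ∃ D : OmegaSh.Der f F, D.app ⊤ = δ := by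
  let V : S.Opens := ⊤
  let U : X.Opens := ⊤
  haveI : Coh.IsQCoh (Omega.sheaf f) := OmegaAffLib.isQCoh_omega f
  letI := (f.appLE V U le_top).hom.toAlgebra
  letI : Module Γ(S, V) Γ(F, U) := Module.compHom _ (f.appLE V U le_top).hom
  haveI : IsScalarTower Γ(S, V) Γ(X, U) Γ(F, U) := .of_algebraMap_smul fun _ _ => rfl
  let d : Derivation Γ(S, V) Γ(X, U) Γ(F, U) := Derivation.mk'
    { toFun := fun s => δ s
      map_add' := map_add δ
      map_smul' := fun r s => by
        show δ (f.appLE V U le_top r * s) = f.appLE V U le_top r • δ s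
        rw [h1, show f.appLE V U le_top r = f.appTop r from congr($(f.appLE_eq_app (U := ⊤)) r), h2,
          smul_zero, add_zero] }
    fun a b => h1 a b
  let T : Ω[Γ(X, U)⁄Γ(S, V)] →ₗ[Γ(X, U)] Γ(Omega.sheaf f, U) := (OmAff.toSect f V U le_top).hom
  have hT : ∀ b, T (KaehlerDifferential.D Γ(S, V) Γ(X, U) b) = OmegaSh.dSect f U b :=
    fun b => OmAff.toSect_d f V U le_top b
  have hb := OmegaAffLib.bijective_of_D f (isAffineOpen_top S) (isAffineOpen_top X) le_top T hT
  obtain ⟨α, hα⟩ := exists_hom_of_lin (Omega.sheaf f) F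
    (d.liftKaehlerDifferential ∘ₗ (LinearEquiv.ofBijective T hb).symm.toLinearMap)
  refine ⟨comp (OmegaSh.dOmega f) α, AddMonoidHom.ext fun s => ?_⟩
  refine (hα _).trans ?_
  show d.liftKaehlerDifferential ((LinearEquiv.ofBijective T hb).symm (OmegaSh.dSect f U s)) = _
  rw [(LinearEquiv.symm_apply_eq (e := LinearEquiv.ofBijective T hb)).mpr (hT s).symm,
    Derivation.liftKaehlerDifferential_comp_D]
  rfl

open Groth.Agent.OmegaUnivLib in
theorem der_injective {X S : Scheme.{u}} [IsAffine X] (f : X ⟶ S) (F : X.Modules)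
    {D D' : OmegaSh.Der f F} (h : D.app ⊤ = D'.app ⊤) : D = D' := by
  have key : ∀ (a : Γ(X, ⊤)) (t : Γ(X, X.basicOpen a)), D.app (X.basicOpen a) t = D'.app (X.basicOpen a) t := by
    intro a t
    have hres : ∀ s : Γ(X, ⊤), D.app (X.basicOpen a) (X.presheaf.map (homOfLE (X.basicOpen_le a)).op s) =
        D'.app (X.basicOpen a) (X.presheaf.map (homOfLE (X.basicOpen_le a)).op s) := fun s => by
      rw [app_res, app_res, h]
    haveI : IsLocalization.Away a Γ(X, X.basicOpen a) :=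
      (isAffineOpen_top X).isLocalization_basicOpen a
    obtain ⟨⟨s₀, ⟨_, n, rfl⟩⟩, hs⟩ := IsLocalization.surj (Submonoid.powers a) t
    let ρ := X.presheaf.map (homOfLE (X.basicOpen_le a)).op
    have hs' : t * ρ (a ^ n) = ρ s₀ := hs
    have h1 : D.app _ (t * ρ (a ^ n)) = D'.app _ (t * ρ (a ^ n)) := by rw [hs']; exact hres s₀
    rw [app_mul, app_mul, hres] at h1
    have h2 := add_left_cancel h1
    obtain ⟨u, hu⟩ : IsUnit (ρ (a ^ n)) := by
      rw [map_pow]
      exact (X.toRingedSpace.isUnit_res_basicOpen a).pow n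
    rw [← hu] at h2
    exact (MulAction.bijective u).1 h2
  refine der_ext fun U s => ?_
  let G : TopCat.Sheaf Ab.{u} X.carrier := ⟨F.presheaf, F.isSheaf⟩
  refine G.eq_of_locally_eq' (fun i : {a : Γ(X, ⊤) // X.basicOpen a ≤ U} => X.basicOpen i.1) U
    (fun i => homOfLE i.2) (fun x hx => ?_) _ _ fun i => ?_
  · obtain ⟨W, ⟨a, rfl⟩, hxW, hWU⟩ := TopologicalSpace.Opens.isBasis_iff_nbhd.mp (isBasis_basicOpen X) hx
    exact TopologicalSpace.Opens.mem_iSup.mpr ⟨⟨a, hWU⟩, hxW⟩
  show F.presheaf.map (homOfLE i.2).op (D.app U s) = F.presheaf.map (homOfLE i.2).op (D'.app U s)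
  rw [← app_res, ← app_res]
  exact key _ _


open AlgebraicGeometry CategoryTheory in
/-- For a morphism of affine schemes f : X → S and an O_X-module F, restricting an S-derivation O_X → F
to global sections is a bijection onto the derivations of Γ(X, O_X) into Γ(X, F) over Γ(S, O_S)
(additive, Leibniz, killing the image of Γ(S, O_S)). -/
theorem result {X S : Scheme.{u}} [IsAffine X] [IsAffine S] (f : X ⟶ S) (F : X.Modules) :
    Function.Injective (fun D : OmegaSh.Der f F => D.app ⊤) ∧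
      ∀ δ : Γ(X, ⊤) →+ Γ(F, ⊤),
        ((∀ a b : Γ(X, ⊤), δ (a * b) = a • δ b + b • δ a) ∧ ∀ c : Γ(S, ⊤), δ (f.appTop c) = 0) ↔
          ∃ D : OmegaSh.Der f F, D.app ⊤ = δ := by
  refine ⟨fun D D' h => der_injective f F h, fun δ => ⟨fun h => exists_der f F δ h.1 h.2, ?_⟩⟩
  rintro ⟨D, rfl⟩
  exact ⟨Groth.Agent.OmegaUnivLib.app_mul D ⊤, fun c => D.d_app (X := Opposite.op ⊤) c⟩


end Groth.Agent.S9369
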