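import Groth.Statements.S9373
import Groth.Agent.QCohLib.FPSections
import Groth.Prelude.Def_CohB1
import Mathlib

set_option autoImplicit false
universe u
open QCohSub

namespace Groth.Agent.S9373

open CategoryTheory AlgebraicGeometry TopologicalSpace Opposite
set_option backward.isDefEq.respectTransparency false
set_option maxHeartbeats 800000

open AlgebraicGeometry CategoryTheory in
/-- The support of a quasi-coherent O_X-module is closed under specialization. -/
theorem result (X : Scheme.{u}) (F : X.Modules) (hF : Coh.IsQCoh F) :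
    StableUnderSpecialization (CohB1.support F) := by
  intro x y hxy hx
  haveI := hF
  simp only [CohB1.support, Set.mem_setOf_eq] at hx ⊢
  intro hy
  apply hx
  suffices h0 : ∀ t : F.presheaf.stalk x, t = 0 from ⟨fun a b => by rw [h0 a, h0 b]⟩
  intro t
  obtain ⟨U, hxU, s, rfl⟩ := TopCat.Presheaf.exists_germ_eq _ t
  obtain ⟨_, ⟨W, hW, rfl⟩, hyW, -⟩ :=
    X.isBasis_affineOpens.exists_subset_of_mem_open (Set.mem_univ y) isOpen_univ
  have hxW : x ∈ W := hxy.mem_open W.isOpen hyW
  obtain ⟨a, ha, hxa⟩ := hW.exists_basicOpen_le ⟨x, hxU⟩ hxW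
  obtain ⟨n, s', hs'⟩ := (Groth.Agent.QCohLib.locAt F hW).extend a (F.presheaf.map (homOfLE ha).op s)
  have h1 : F.presheaf.germ W y hyW s' = F.presheaf.germ W y hyW 0 := hy.elim _ _
  obtain ⟨V, hyV, iVW, iVW', h2⟩ := F.presheaf.germ_eq y hyW hyW s' 0 h1
  have hxV : x ∈ V := hxy.mem_open V.isOpen hyV
  rw [map_zero] at h2
  have hD : X.basicOpen a ⊓ V ≤ X.basicOpen a := inf_le_left
  have h3 : X.presheaf.map (homOfLE (hD.trans (X.basicOpen_le a))).op (a ^ n) •
      F.presheaf.map (homOfLE (hD.trans ha)).op s = 0 := by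
    have h4 := congrArg (F.presheaf.map (homOfLE hD).op) hs'
    rw [Groth.Agent.CohBase.sc_apply] at h4
    erw [F.map_smul] at h4
    rw [← CategoryTheory.comp_apply, ← CategoryTheory.comp_apply, ← CategoryTheory.comp_apply, ← Functor.map_comp,
      ← Functor.map_comp, ← Functor.map_comp] at h4
    have e1 : F.presheaf.map ((homOfLE (X.basicOpen_le a)).op ≫ (homOfLE hD).op) s' = 0 := by
      rw [show (homOfLE (X.basicOpen_le a)).op ≫ (homOfLE hD).op =
          iVW.op ≫ (homOfLE (inf_le_right : X.basicOpen a ⊓ V ≤ V)).op from Subsingleton.elim _ _,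
        Functor.map_comp, CategoryTheory.comp_apply, h2, map_zero]
    rw [e1] at h4
    exact h4.symm
  have hu : IsUnit (X.presheaf.map (homOfLE (hD.trans (X.basicOpen_le a))).op (a ^ n)) := by
    rw [map_pow]
    refine IsUnit.pow n ?_
    rw [show (homOfLE (hD.trans (X.basicOpen_le a))).op = (homOfLE (X.basicOpen_le a)).op ≫ (homOfLE hD).op
      from rfl, Functor.map_comp, CategoryTheory.comp_apply]
    exact (X.toRingedSpace.isUnit_res_basicOpen a).map _
  have h5 : F.presheaf.map (homOfLE (hD.trans ha)).op s = 0 := hu.smul_eq_zero.1 h3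
  rw [← F.presheaf.germ_res_apply (homOfLE (hD.trans ha)) x ⟨hxa, hxV⟩ s]
  exact (congrArg _ h5).trans (map_zero _)

end Groth.Agent.S9373
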