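import Groth.Statements.S9376
import Groth.Agent.FormalSysLib.IdealQuot
import Groth.Agent.ZClosLib.Basic
set_option backward.isDefEq.respectTransparency false
-- import your own Groth.Agent.* helpers here

set_option autoImplicit false
universe u
open QCohSub

namespace Groth.Agent.S9376

open AlgebraicGeometry CategoryTheory Opposite in
/-- For a closed immersion i : Z → X with ideal sheaf 𝓘 and a quasi-coherent O_X-module G, the unit G →
i_* i^* G is an isomorphism if and only if 𝓘 G = 0 (sections of 𝓘 over affine opens annihilate the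
sections of G). Full faithfulness and exactness of i_* are not restated. -/
theorem result {Z X : Scheme.{u}} (i : Z ⟶ X) [IsClosedImmersion i]
    (G : X.Modules) (hG : Coh.IsQCoh G) :
    IsIso ((Scheme.Modules.pullbackPushforwardAdjunction i).unit.app G) ↔
      ∀ (U : X.affineOpens) (a : Γ(X, U.1)), a ∈ i.ker.ideal U → ∀ s : Γ(G, U.1), a • s = 0 := by
  haveI := hG
  let η := (Scheme.Modules.pullbackPushforwardAdjunction i).unit.app G
  have key : ∀ U : X.affineOpens, Function.Surjective (η.app U.1) ∧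
      ∀ s, η.app U.1 s = 0 ↔ s ∈ i.ker.ideal U • (⊤ : Submodule Γ(X, U.1) Γ(G, U.1)) := by
    intro U
    letI : Algebra Γ(X, U.1) Γ(Z, i ⁻¹ᵁ U.1) := (i.appLE U.1 (i ⁻¹ᵁ U.1) le_rfl).hom.toAlgebra
    letI := Module.compHom Γ((Scheme.Modules.pullback i).obj G, i ⁻¹ᵁ U.1) (i.appLE U.1 (i ⁻¹ᵁ U.1) le_rfl).hom
    haveI : IsScalarTower Γ(X, U.1) Γ(Z, i ⁻¹ᵁ U.1) Γ((Scheme.Modules.pullback i).obj G, i ⁻¹ᵁ U.1) :=
      .of_algebraMap_smul fun _ _ => rfl
    have hb := PullbackMod.isBaseChange_pullMapL i G U.2 (U.2.preimage i) (le_refl (i ⁻¹ᵁ U.1))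
    have ha : i.appLE U.1 (i ⁻¹ᵁ U.1) le_rfl = i.app U.1 := (Scheme.Hom.app_eq_appLE i).symm
    have hk : RingHom.ker (i.appLE U.1 (i ⁻¹ᵁ U.1) le_rfl).hom = i.ker.ideal U := by
      rw [ha, Scheme.Hom.ker_apply]
    obtain ⟨h1, h2⟩ := FormalSys.baseChange_ker _ hb (by rw [RingHom.algebraMap_toAlgebra, ha]; exact i.app_surjective U.1 U.2)
    rw [RingHom.algebraMap_toAlgebra, hk] at h2
    have e : ∀ m, PullbackMod.pullMapL i G (le_refl (i ⁻¹ᵁ U.1)) m = η.app U.1 m := fun m =>
      CohBase.restr_self ((Scheme.Modules.pullback i).obj G) _ _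
    refine ⟨fun y => (h1 y).imp fun m hm => (e m).symm.trans hm, fun s => ?_⟩
    rw [← h2]
    exact (Eq.congr_left (e s)).symm
  constructor
  · intro h U a ha s
    exact (ConcreteCategory.bijective_of_isIso (η.app U.1)).1
      (((key U).2 _).2 (Submodule.smul_mem_smul ha trivial) |>.trans (map_zero _).symm)
  · intro h
    refine ZClosLib.isIso_of_bijective_affine η fun V hV => ⟨?_, (key ⟨V, hV⟩).1⟩
    rw [injective_iff_map_eq_zero]
    intro s hs
    have h1 := ((key ⟨V, hV⟩).2 s).1 hs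
    refine Submodule.smul_induction_on h1 (fun r hr m _ => h ⟨V, hV⟩ r hr m) fun x y hx hy => by rw [hx, hy, add_zero]

end Groth.Agent.S9376
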