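import Groth.Statements.S9377
import Groth.Agent.ClSubLib.Annihilator


set_option autoImplicit false
universe u
open QCohSub

namespace Groth.Agent.S9377

open CategoryTheory CategoryTheory.Limits AlgebraicGeometry

open Groth.Agent CategoryTheory AlgebraicGeometry Opposite
set_option backward.isDefEq.respectTransparency false

open AlgebraicGeometry CategoryTheory Opposite in
/-- A finite type quasi-coherent O_X-module F has a scheme-theoretic support: a closed subscheme Z
(ideal sheaf J), cut out on each affine open U by the annihilator of F(U), such that F ≅ i_* i^* F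
via the unit, any other closed subscheme for which this unit is an isomorphism contains Z (i.e. its
ideal sheaf lies below J), and Z has the same underlying set as Supp(F). (The published statement
also says that the O_Z-module G with i_*G ≅ F is unique up to unique isomorphism and of finite type;
those clauses are not stated here.) -/
theorem result (X : Scheme.{u}) (F : X.Modules) (hq : Coh.IsQCoh F) (hft : CohB1.IsFT F) :
    ∃ J : X.IdealSheafData,
      (∀ U : X.affineOpens, J.ideal U = Module.annihilator Γ(X, U.1) Γ(F, U.1)) ∧
        IsIso ((Scheme.Modules.pullbackPushforwardAdjunction J.subschemeι).unit.app F) ∧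
          (∀ J' : X.IdealSheafData, IsIso ((Scheme.Modules.pullbackPushforwardAdjunction J'.subschemeι).unit.app F) → J' ≤ J) ∧
            (J.support : Set ↑X) = CohB1.support F := by
  haveI := hq
  refine ⟨ClSubLib.annIdeal F hft, fun U => rfl,
    DCohLib.isIso_unit_of_suppOn _ (ClSubLib.suppOn_of_killed _ F (ClSubLib.killed_annIdeal F hft)),
    fun J' hJ' U a ha => Module.mem_annihilator.2 fun m => ?_, rfl⟩
  let η := (Scheme.Modules.pullbackPushforwardAdjunction J'.subschemeι).unit.app F
  haveI : IsIso η := hJ'
  have hinj : Function.Injective (η.app U.1) :=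
    ConcreteCategory.injective_of_mono_of_preservesPullback (η.app U.1)
  refine hinj ?_
  rw [map_zero, Scheme.Modules.Hom.app_smul]
  have h0 : J'.subschemeι.app U.1 a = 0 := by
    rw [← RingHom.mem_ker, Scheme.IdealSheafData.ker_subschemeι_app]
    exact ha
  exact (congrArg (fun c : Γ(J'.subscheme, J'.subschemeι ⁻¹ᵁ U.1) =>
    c • (show Γ((Scheme.Modules.pullback J'.subschemeι).obj F, J'.subschemeι ⁻¹ᵁ U.1) from η.app U.1 m)) h0).trans
    (zero_smul _ _)


end Groth.Agent.S9377
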