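import Groth.Statements.S9378
import Groth.Agent.ClSubLib.Annihilator
import Groth.Agent.IdealStalkLib.Comap
import Groth.Agent.HilbObsLib.Ideal
import Groth.Agent.PullbackMod.OpenLocus
import Groth.Agent.PullbackMod.Props


set_option autoImplicit false
universe u
open QCohSub

namespace Groth.Agent.S9378

open CategoryTheory CategoryTheory.Limits AlgebraicGeometry

open Groth.Agent CategoryTheory AlgebraicGeometry Opposite
open Groth.Agent.PullbackMod
open scoped TensorProduct
set_option backward.isDefEq.respectTransparency false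

theorem annihilator_tensor {A B : Type u} [CommRing A] [CommRing B] [Algebra A B] [Module.Flat A B]
    (M : Type u) [AddCommGroup M] [Module A M] [Module.Finite A M] :
    Module.annihilator B (B ⊗[A] M) = (Module.annihilator A M).map (algebraMap A B) := by
  obtain ⟨n, m, hm⟩ := Module.Finite.exists_fin (R := A) (M := M)
  let ψ : A →ₗ[A] (Fin n → M) := LinearMap.pi fun i => LinearMap.toSpanSingleton A M (m i)
  have hker : LinearMap.ker ψ = Module.annihilator A M := by
    ext a
    simp only [ψ, LinearMap.mem_ker, funext_iff, LinearMap.pi_apply, LinearMap.toSpanSingleton_apply, Pi.zero_apply,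
      Module.mem_annihilator]
    exact ⟨fun h x => LinearMap.congr_fun (LinearMap.ext_on_range hm (f := a • (LinearMap.id : M →ₗ[A] M)) (g := 0) h) x,
      fun h i => h _⟩
  refine le_antisymm (fun b hb => ?_) (Ideal.map_le_iff_le_comap.mpr fun a ha => ?_)
  · have hz : ψ.lTensor B (b ⊗ₜ[A] 1) = 0 := by
      apply (TensorProduct.piRight A A B (fun _ : Fin n => M)).injective
      rw [map_zero, LinearMap.lTensor_tmul]
      ext i
      rw [TensorProduct.piRight_apply, TensorProduct.piRightHom_tmul]
      have := Module.mem_annihilator.mp hb ((1 : B) ⊗ₜ[A] m i)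
      simpa [ψ, TensorProduct.smul_tmul'] using this
    obtain ⟨w, hw⟩ := (Module.Flat.lTensor_exact B (LinearMap.exact_subtype_ker_map ψ) (b ⊗ₜ[A] 1)).mp hz
    have hb' : TensorProduct.rid A B ((LinearMap.ker ψ).subtype.lTensor B w) = b := by rw [hw]; simp
    rw [← hb']
    clear hb' hw
    induction w using TensorProduct.induction_on with
    | zero => simp
    | tmul c k =>
      simp only [LinearMap.lTensor_tmul, Submodule.subtype_apply, TensorProduct.rid_tmul, Algebra.smul_def]
      exact Ideal.mul_mem_right _ _ (Ideal.mem_map_of_mem _ (hker ▸ k.2))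
    | add x y hx hy => simp only [map_add]; exact Ideal.add_mem _ hx hy
  · rw [Ideal.mem_comap, Module.mem_annihilator]
    intro z
    rw [algebraMap_smul]
    induction z using TensorProduct.induction_on with
    | zero => simp
    | tmul c x => rw [← TensorProduct.tmul_smul, Module.mem_annihilator.mp ha, TensorProduct.tmul_zero]
    | add x y hx hy => rw [smul_add, hx, hy, add_zero]

theorem stalkIdeal_annIdeal {X : Scheme.{u}} (M : X.Modules) [Coh.IsQCoh M] (hft : CohB1.IsFT M) (x : X) :
    IntMult.stalkIdeal (ClSubLib.annIdeal M hft) x = Module.annihilator (X.presheaf.stalk x) (M.presheaf.stalk x) := by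
  obtain ⟨W, hW, hx, -⟩ := exists_isAffineOpen_mem_and_subset (x := x) (U := (⊤ : X.Opens)) trivial
  haveI := QCohLib.finite_sections M hft hW
  letI : Algebra Γ(X, W) (X.presheaf.stalk x) := TopCat.Presheaf.algebra_section_stalk X.presheaf ⟨x, hx⟩
  haveI := hW.isLocalization_stalk ⟨x, hx⟩
  haveI : Module.Flat Γ(X, W) (X.presheaf.stalk x) :=
    IsLocalization.flat _ (hW.primeIdealOf ⟨x, hx⟩).asIdeal.primeCompl
  letI := Module.compHom (M.presheaf.stalk x) (X.presheaf.germ W x hx).hom
  haveI : IsScalarTower Γ(X, W) (X.presheaf.stalk x) (M.presheaf.stalk x) := .of_algebraMap_smul fun _ _ => rfl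
  haveI := FlatLocus.isLocalizedModule_germL M hW x hx
  rw [IdealStalkLib.stalkIdeal_eq _ ⟨W, hW⟩ x hx,
    ← (IsLocalizedModule.isBaseChange (hW.primeIdealOf ⟨x, hx⟩).asIdeal.primeCompl (X.presheaf.stalk x)
      (FlatLocus.germL M W x hx)).equiv.annihilator_eq, annihilator_tensor]
  rfl

open AlgebraicGeometry CategoryTheory Opposite in
/-- Let f : Y → X be flat and F a quasi-coherent O_X-module of finite type, where the ideal sheaf J
(given by annihilators on affine opens) defines the scheme-theoretic support of F. Then the inverse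
image ideal sheaf of J along f cuts out the scheme-theoretic support of f^*F. -/
theorem result {Y X : Scheme.{u}} (f : Y ⟶ X) [Flat f] (F : X.Modules)
    (hq : Coh.IsQCoh F) (hft : CohB1.IsFT F) (J : X.IdealSheafData)
    (hJ : ∀ U : X.affineOpens, J.ideal U = Module.annihilator Γ(X, U.1) Γ(F, U.1)) :
    ∀ V : Y.affineOpens, (J.comap f).ideal V =
      Module.annihilator Γ(Y, V.1) Γ((Scheme.Modules.pullback f).obj F, V.1) := by
  haveI := hq
  haveI := isQCoh_pullback f F
  have hft' := isFiniteType_pullback f F hft
  have hJ' : J = ClSubLib.annIdeal F hft := Scheme.IdealSheafData.ext (funext hJ)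
  have key : J.comap f = ClSubLib.annIdeal ((Scheme.Modules.pullback f).obj F) hft' := by
    refine HilbObsLib.ideal_ext_of_stalk fun y => ?_
    rw [IdealStalkLib.stalkIdeal_comap, hJ', stalkIdeal_annIdeal, stalkIdeal_annIdeal]
    letI := (f.stalkMap y).hom.toAlgebra
    haveI : Module.Flat (X.presheaf.stalk (f y)) (Y.presheaf.stalk y) := Flat.stalkMap f y
    haveI := finite_stalk_of_isFT hft (f y)
    obtain ⟨φ, -⟩ := exists_pullback_stalk_equiv f F y
    rw [← φ.annihilator_eq, annihilator_tensor]
    rfl
  intro V
  rw [key]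
  rfl


end Groth.Agent.S9378
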