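import Groth.Statements.S9379
import Groth.Agent.CILib.CIBaseChange
-- import your own Groth.Agent.* helpers here

set_option backward.isDefEq.respectTransparency false
set_option linter.style.haveILetI false

set_option autoImplicit false
universe u
open Synt
open CategoryTheory CategoryTheory.Limits AlgebraicGeometry

namespace Groth.Agent.S9379

theorem isCIOver_iff {X S : Scheme.{u}} (f : X ⟶ S) [LocallyOfFiniteType f] (x : X) :
    (letI := ((Scheme.ΓSpecIso (S.residueField (f.base x))).inv ≫
          (f.fiberToSpecResidueField (f.base x)).appLE ⊤ ⊤ le_top ≫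
            (f.fiber (f.base x)).presheaf.germ ⊤ (f.asFiber x) trivial).hom.toAlgebra;
      Synt.IsCIOver (S.residueField (f.base x)) ((f.fiber (f.base x)).presheaf.stalk (f.asFiber x))) ↔
      Pi1.IsCompleteIntersection (CInt.fiberStalk f x) := by
  let h := f.fiberToSpecResidueField (f.base x)
  obtain ⟨W, hW, hxW, -⟩ := exists_isAffineOpen_mem_and_subset (x := f.asFiber x) (U := ⊤) trivial
  haveI : LocallyOfFiniteType h := MorphismProperty.pullback_snd _ _ inferInstance
  have hft : (h.appLE ⊤ W le_top).hom.FiniteType :=
    HasRingHomProperty.appLE @LocallyOfFiniteType h inferInstance ⟨⊤, isAffineOpen_top _⟩ ⟨W, hW⟩ le_top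
  letI alg := ((Scheme.ΓSpecIso (S.residueField (f.base x))).inv ≫
          (f.fiberToSpecResidueField (f.base x)).appLE ⊤ ⊤ le_top ≫
            (f.fiber (f.base x)).presheaf.germ ⊤ (f.asFiber x) trivial).hom.toAlgebra
  letI : Algebra (S.residueField (f.base x)) Γ(f.fiber (f.base x), W) :=
    ((Scheme.ΓSpecIso (S.residueField (f.base x))).inv ≫ h.appLE ⊤ W le_top).hom.toAlgebra
  haveI : Algebra.FiniteType (S.residueField (f.base x)) Γ(f.fiber (f.base x), W) := by
    show RingHom.FiniteType ((Scheme.ΓSpecIso (S.residueField (f.base x))).inv ≫ h.appLE ⊤ W le_top).hom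
    rw [CommRingCat.hom_comp]
    exact hft.comp (RingHom.FiniteType.of_surjective _
      (Scheme.ΓSpecIso (S.residueField (f.base x))).symm.commRingCatIsoToRingEquiv.surjective)
  letI : Algebra Γ(f.fiber (f.base x), W) ((f.fiber (f.base x)).presheaf.stalk (f.asFiber x)) :=
    ((f.fiber (f.base x)).presheaf.germ W (f.asFiber x) hxW).hom.toAlgebra
  haveI : IsLocalization.AtPrime ((f.fiber (f.base x)).presheaf.stalk (f.asFiber x))
      (hW.primeIdealOf ⟨f.asFiber x, hxW⟩).asIdeal := hW.isLocalization_stalk ⟨f.asFiber x, hxW⟩
  haveI : IsScalarTower (S.residueField (f.base x)) Γ(f.fiber (f.base x), W)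
      ((f.fiber (f.base x)).presheaf.stalk (f.asFiber x)) := IsScalarTower.of_algebraMap_eq' (by
    rw [RingHom.algebraMap_toAlgebra, RingHom.algebraMap_toAlgebra, RingHom.algebraMap_toAlgebra, ← CommRingCat.hom_comp]
    congr 1
    simp only [Category.assoc]
    congr 1
    rw [← Scheme.Hom.appLE_map h (le_top : (⊤ : (f.fiber (f.base x)).Opens) ≤ h ⁻¹ᵁ ⊤) (homOfLE (le_top : W ≤ ⊤)).op,
      Category.assoc, TopCat.Presheaf.germ_res])
  haveI : Algebra.EssFiniteType Γ(f.fiber (f.base x), W) ((f.fiber (f.base x)).presheaf.stalk (f.asFiber x)) :=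
    Algebra.EssFiniteType.of_isLocalization _ (hW.primeIdealOf ⟨f.asFiber x, hxW⟩).asIdeal.primeCompl
  haveI : Algebra.EssFiniteType (S.residueField (f.base x)) ((f.fiber (f.base x)).presheaf.stalk (f.asFiber x)) :=
    Algebra.EssFiniteType.comp _ Γ(f.fiber (f.base x), W) _
  exact Groth.Agent.CILib.isCompleteIntersection_iff_isCIOver.symm

open AlgebraicGeometry CategoryTheory in
/-- For f : X → S locally of finite type, the set of points x at which the local ring of the fibre X_{f
x} is a complete intersection over κ(f x) is compatible with arbitrary base change: in a cartesian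
square with base change f' : X' → S', g' : X' → X, the corresponding set for f' is the inverse image
of the one for f. (The published statement adds that, for f flat and locally of finite presentation,
the set of points at which f is syntomic is compatible with base change in the same way; this row
states only the first assertion.) -/
theorem result {X S X' S' : Scheme.{u}} (f : X ⟶ S) [LocallyOfFiniteType f] (g : S' ⟶ S)
    (g' : X' ⟶ X) (f' : X' ⟶ S') (hsq : IsPullback g' f' f g) :
    {x' : ↑X' |
        letI := ((Scheme.ΓSpecIso (S'.residueField (f'.base x'))).inv ≫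
            (f'.fiberToSpecResidueField (f'.base x')).appLE ⊤ ⊤ le_top ≫
              (f'.fiber (f'.base x')).presheaf.germ ⊤ (f'.asFiber x') trivial).hom.toAlgebra
        Synt.IsCIOver (S'.residueField (f'.base x')) ((f'.fiber (f'.base x')).presheaf.stalk (f'.asFiber x'))} =
      g'.base ⁻¹' {x : ↑X |
        letI := ((Scheme.ΓSpecIso (S.residueField (f.base x))).inv ≫
            (f.fiberToSpecResidueField (f.base x)).appLE ⊤ ⊤ le_top ≫
              (f.fiber (f.base x)).presheaf.germ ⊤ (f.asFiber x) trivial).hom.toAlgebra
        Synt.IsCIOver (S.residueField (f.base x)) ((f.fiber (f.base x)).presheaf.stalk (f.asFiber x))} := by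
  haveI : LocallyOfFiniteType f' := MorphismProperty.of_isPullback hsq inferInstance
  ext x'
  exact (isCIOver_iff f' x').trans
    ((Groth.Agent.CILib.isCompleteIntersection_fiberStalk_iff hsq x').symm.trans (isCIOver_iff f (g' x')).symm)

end Groth.Agent.S9379
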