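import Groth.Statements.S9380
import Groth.Agent.RelSpecLib.Basic
import Mathlib.AlgebraicGeometry.QuasiAffine
-- import your own Groth.Agent.* helpers here

set_option autoImplicit false
set_option linter.style.haveILetI false
set_option backward.isDefEq.respectTransparency false
universe u
open QAff

namespace Groth.Agent.S9380

open AlgebraicGeometry CategoryTheory in
/-- A quasi-compact quasi-separated morphism f : X → S is quasi-affine if and only if the canonical
S-morphism X → Spec_S(f_*O_X) (the one inducing the comparison map on direct-image algebras) exists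
as a quasi-compact open immersion. -/
theorem result {X S : Scheme.{u}} (f : X ⟶ S) [QuasiCompact f] [QuasiSeparated f] :
    MoreMor.IsQuasiAffineHom f ↔
      ∃ (c : X ⟶ (RelSpec.QCAlg.directImage f).spec) (e : c ≫ (RelSpec.QCAlg.directImage f).π = f),
        (RelSpec.QCAlg.directImage f).gammaMap = AffAlg.algHom (RelSpec.QCAlg.directImage f).π f c e ∧
          QuasiCompact c ∧ IsOpenImmersion c := by
  let A := RelSpec.QCAlg.directImage f
  constructor
  · rintro ⟨-, hqa⟩
    have hω : A.str ≫ 𝟙 A.presheaf = f.c := Category.comp_id _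
    let c : X ⟶ A.spec := RelSpecLib.lift A f (𝟙 _)
    have e : c ≫ A.π = f := RelSpecLib.lift_π A f _ hω
    refine ⟨c, e, ?_, ?_, ?_⟩
    · have h := RelSpecLib.gammaMap_algMap A f c e
      rw [RelSpecLib.algMap_lift A f (𝟙 _) hω] at h
      exact (Category.comp_id _).symm.trans h
    · haveI : IsSeparated A.π := inferInstance
      haveI : QuasiCompact (c ≫ A.π) := e ▸ inferInstance
      exact QuasiCompact.of_comp c A.π
    · refine IsZariskiLocalAtTarget.of_iSup_eq_top (P := @IsOpenImmersion)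
        (fun U : S.affineOpens => A.π ⁻¹ᵁ U.1) (RelSpecLib.iSup_preimage_affine A.π) fun U => ?_
      have hpre : c ⁻¹ᵁ (A.π ⁻¹ᵁ U.1) = f ⁻¹ᵁ U.1 := congrArg (· ⁻¹ᵁ U.1) e
      haveI := hqa U.1 U.2
      haveI : IsOpenImmersion (f ⁻¹ᵁ U.1).toSpecΓ := by
        rw [Scheme.Opens.toSpecΓ]
        infer_instance
      have h1 : IsOpenImmersion ((f ⁻¹ᵁ U.1).ι ≫ c) := by
        rw [RelSpecLib.ι_lift A f (𝟙 _) U.1 U.2]
        show IsOpenImmersion ((f ⁻¹ᵁ U.1).toSpecΓ ≫
          Spec.map ((𝟙 A.presheaf : A.presheaf ⟶ f.base _* X.presheaf).app (Opposite.op U.1)) ≫ A.ι U.1 U.2)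
        haveI : IsIso (Spec.map ((𝟙 A.presheaf : A.presheaf ⟶ f.base _* X.presheaf).app (Opposite.op U.1))) := by
          rw [NatTrans.id_app]
          infer_instance
        haveI : IsOpenImmersion (A.ι U.1 U.2) := inferInstance
        infer_instance
      haveI := h1
      have h2 : IsOpenImmersion ((c ∣_ (A.π ⁻¹ᵁ U.1)) ≫ (A.π ⁻¹ᵁ U.1).ι) := by
        rw [morphismRestrict_ι, ← Scheme.isoOfEq_hom_ι X hpre, Category.assoc]
        infer_instance
      haveI := h2
      exact IsOpenImmersion.of_comp _ (A.π ⁻¹ᵁ U.1).ι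
  · rintro ⟨c, e, -, hc, hi⟩
    haveI := hc
    haveI := hi
    refine ⟨inferInstance, fun V hV => ?_⟩
    haveI : IsAffine (A.π ⁻¹ᵁ V).toScheme := RelSpecLib.isAffineOpen_preimage A V hV
    have hle : f ⁻¹ᵁ V ≤ c ⁻¹ᵁ (A.π ⁻¹ᵁ V) := RelSpecLib.preimage_le A f e V
    haveI : CompactSpace (f ⁻¹ᵁ V).toScheme := isCompact_iff_compactSpace.1 (f.isCompact_preimage hV.isCompact)
    haveI : IsOpenImmersion (c.resLE (A.π ⁻¹ᵁ V) (f ⁻¹ᵁ V) hle) := by
      haveI : IsOpenImmersion (c.resLE (A.π ⁻¹ᵁ V) (f ⁻¹ᵁ V) hle ≫ (A.π ⁻¹ᵁ V).ι) := by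
        rw [Scheme.Hom.resLE_comp_ι]
        infer_instance
      exact IsOpenImmersion.of_comp _ (A.π ⁻¹ᵁ V).ι
    exact Scheme.IsQuasiAffine.of_isImmersion (c.resLE (A.π ⁻¹ᵁ V) (f ⁻¹ᵁ V) hle)

end Groth.Agent.S9380
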