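import Groth.Statements.S9382
import Mathlib.AlgebraicGeometry.Morphisms.ClosedImmersion
import Mathlib.AlgebraicGeometry.IdealSheaf.Functorial
-- import your own Groth.Agent.* helpers here

set_option autoImplicit false
set_option backward.isDefEq.respectTransparency false
universe u
open QCohSub

namespace Groth.Agent.S9382

open AlgebraicGeometry CategoryTheory in
/-- For closed subschemes Z, Y ⊆ X with ideal sheaves I, J, the scheme-theoretic intersection (ideal
sheaf I ⊔ J) together with its inclusions into Z and Y forms a cartesian square over X. -/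
theorem result (X : Scheme.{u}) (I J : X.IdealSheafData) :
    IsPullback (Scheme.IdealSheafData.inclusion (le_sup_left : I ≤ I ⊔ J))
      (Scheme.IdealSheafData.inclusion (le_sup_right : J ≤ I ⊔ J)) I.subschemeι J.subschemeι := by
  refine ⟨⟨by simp⟩, ⟨Limits.PullbackCone.IsLimit.mk _ (fun s => IsClosedImmersion.lift (I ⊔ J).subschemeι (s.fst ≫ I.subschemeι) ?_) (fun s => ?_) (fun s => ?_) (fun s m h1 h2 => ?_)⟩⟩
  · rw [Scheme.IdealSheafData.ker_subschemeι]
    refine sup_le ?_ ?_
    · exact le_trans (Scheme.IdealSheafData.ker_subschemeι I).ge (s.fst.le_ker_comp _)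
    · rw [s.condition]
      exact le_trans (Scheme.IdealSheafData.ker_subschemeι J).ge (s.snd.le_ker_comp _)
  · rw [← cancel_mono I.subschemeι, Category.assoc, Scheme.IdealSheafData.inclusion_subschemeι]
    exact IsClosedImmersion.lift_fac _ _ _
  · rw [← cancel_mono J.subschemeι, Category.assoc, Scheme.IdealSheafData.inclusion_subschemeι]
    exact (IsClosedImmersion.lift_fac _ _ _).trans s.condition
  · rw [← cancel_mono (I ⊔ J).subschemeι, IsClosedImmersion.lift_fac, ← h1, Category.assoc,
      Scheme.IdealSheafData.inclusion_subschemeι]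

end Groth.Agent.S9382
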