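import Groth.Statements.S9395
import Mathlib

set_option autoImplicit false
universe u
open CAlg

namespace Groth.Agent.S9395

/-- For a Noetherian domain R, if the Laurent polynomial ring R[X, 1/X] (the localization of R[X] away
from X) is N-1, then R is N-1. -/
theorem result (R : Type u) [CommRing R] [IsDomain R] [IsNoetherianRing R]
    (S : Type u) [CommRing S] [IsDomain S] [Algebra (Polynomial R) S]
    [IsLocalization.Away (Polynomial.X : Polynomial R) S] (h : CAlg.IsN1 S) : CAlg.IsN1 R := by
  classical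
  let F := FractionRing S
  haveI hS : Module.Finite S (integralClosure S F) := h
  let j : Polynomial R →+* F := (algebraMap S F).comp (algebraMap (Polynomial R) S)
  have hXne : (Polynomial.X : Polynomial R) ∈ nonZeroDivisors (Polynomial R) := mem_nonZeroDivisors_of_ne_zero Polynomial.X_ne_zero
  have hj : Function.Injective j := (IsFractionRing.injective S F).comp (IsLocalization.injective S (Submonoid.powers_le.mpr hXne))
  let K := FractionRing R
  let c : R →+* F := j.comp Polynomial.C
  have hc : Function.Injective c := hj.comp Polynomial.C_injective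
  let ψ : K →+* F := IsFractionRing.lift hc
  have hψ : ∀ r, ψ (algebraMap R K r) = c r := fun r => IsFractionRing.lift_algebraMap hc r
  -- every element of `F` is a quotient of polynomials
  have hfrac : ∀ z : F, ∃ d : Polynomial R, d ≠ 0 ∧ ∃ P, j d * z = j P := by
    intro z
    obtain ⟨a, b, hb, rfl⟩ := IsFractionRing.div_surjective (A := S) z
    obtain ⟨⟨a', sa⟩, ha⟩ := IsLocalization.surj (Submonoid.powers (Polynomial.X : Polynomial R)) a
    obtain ⟨⟨b', sb⟩, hb'⟩ := IsLocalization.surj (Submonoid.powers (Polynomial.X : Polynomial R)) b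
    have hb0 : algebraMap S F b ≠ 0 := IsFractionRing.to_map_ne_zero_of_mem_nonZeroDivisors hb
    have ha1 : algebraMap S F a * j sa = j a' := (map_mul (algebraMap S F) a _).symm.trans (congrArg (algebraMap S F) ha)
    have hb1 : algebraMap S F b * j sb = j b' := (map_mul (algebraMap S F) b _).symm.trans (congrArg (algebraMap S F) hb')
    have hsa : (sa : Polynomial R) ≠ 0 := by obtain ⟨k, hk⟩ := sa.2; rw [← hk]; exact pow_ne_zero k Polynomial.X_ne_zero
    have hsb : (sb : Polynomial R) ≠ 0 := by obtain ⟨k, hk⟩ := sb.2; rw [← hk]; exact pow_ne_zero k Polynomial.X_ne_zero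
    have hb'0 : b' ≠ 0 := by
      rintro rfl
      rw [map_zero, mul_eq_zero] at hb1
      exact hb1.elim hb0 ((map_ne_zero_iff j hj).mpr hsb)
    refine ⟨sa * b', mul_ne_zero hsa hb'0, a' * sb, ?_⟩
    rw [map_mul, map_mul, ← ha1, ← hb1]
    have hd2 := div_mul_cancel₀ (algebraMap S F a) hb0
    linear_combination (j sa * j sb) * hd2
  obtain ⟨G, hG⟩ := hS.fg_top
  choose d hd P hP using fun g : G => hfrac (g.1 : F)
  let D := ∏ g, d g
  have hD : D ≠ 0 := Finset.prod_ne_zero_iff.mpr fun g _ => hd g
  have hgen : ∀ w : integralClosure S F, ∃ (N : ℕ) (Q : Polynomial R), j (Polynomial.X ^ N * D) * (w : F) = j Q := by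
    intro w
    have hw : w ∈ Submodule.span S (G : Set (integralClosure S F)) := hG ▸ trivial
    induction hw using Submodule.span_induction with
    | mem g hg =>
      refine ⟨0, (∏ g' ∈ Finset.univ.erase ⟨g, hg⟩, d g') * P ⟨g, hg⟩, ?_⟩
      rw [pow_zero, one_mul, map_mul, ← hP ⟨g, hg⟩, ← mul_assoc, ← map_mul, mul_comm _ (d ⟨g, hg⟩), Finset.mul_prod_erase _ _ (Finset.mem_univ _)]
    | zero => exact ⟨0, 0, by simp⟩
    | add u v _ _ hu hv =>
      obtain ⟨N, Q, hQ⟩ := hu; obtain ⟨N', Q', hQ'⟩ := hv
      refine ⟨N + N', Polynomial.X ^ N' * Q + Polynomial.X ^ N * Q', ?_⟩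
      simp only [map_add, map_mul, map_pow, Subalgebra.coe_add, pow_add] at hQ hQ' ⊢
      linear_combination (j Polynomial.X ^ N') * hQ + (j Polynomial.X ^ N) * hQ'
    | smul s v _ hv =>
      obtain ⟨N, Q, hQ⟩ := hv
      obtain ⟨⟨a', ⟨_, k, rfl⟩⟩, ha⟩ := IsLocalization.surj (Submonoid.powers (Polynomial.X : Polynomial R)) s
      refine ⟨N + k, a' * Q, ?_⟩
      have ha1 : algebraMap S F s * j (Polynomial.X ^ k) = j a' := (map_mul (algebraMap S F) s _).symm.trans (congrArg (algebraMap S F) ha)
      rw [SetLike.val_smul, Algebra.smul_def]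
      simp only [map_mul, map_pow, pow_add] at hQ ha1 ⊢
      linear_combination (algebraMap S F s * j Polynomial.X ^ k) * hQ + (j Q) * ha1
  let l := D.leadingCoeff
  have hl : l ≠ 0 := Polynomial.leadingCoeff_ne_zero.mpr hD
  have hlK : algebraMap R K l ≠ 0 := (map_ne_zero_iff _ (IsFractionRing.injective R K)).mpr hl
  have hsub : ∀ x : K, IsIntegral R x → ∃ r : R, algebraMap R K l * x = algebraMap R K r := by
    intro x hx
    have hint : IsIntegral S (ψ x) := by
      obtain ⟨p, hp, hpx⟩ := hx
      refine ⟨p.map ((algebraMap (Polynomial R) S).comp Polynomial.C), hp.map _, ?_⟩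
      rw [Polynomial.eval₂_map, show (algebraMap S F).comp ((algebraMap (Polynomial R) S).comp Polynomial.C) = ψ.comp (algebraMap R K) from
        RingHom.ext fun r => (hψ r).symm, ← Polynomial.hom_eval₂, hpx, map_zero]
    obtain ⟨N, Q, hQ⟩ := hgen ⟨ψ x, hint⟩
    obtain ⟨a, b, hb, rfl⟩ := IsFractionRing.div_surjective (A := R) x
    have hbK : algebraMap R K b ≠ 0 := IsFractionRing.to_map_ne_zero_of_mem_nonZeroDivisors hb
    have heq : Polynomial.X ^ N * D * Polynomial.C a = Q * Polynomial.C b := by
      apply hj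
      have h1 : ψ (algebraMap R K a / algebraMap R K b) * c b = c a := by
        rw [← hψ, ← hψ, ← map_mul, div_mul_cancel₀ _ hbK]
      rw [map_mul, map_mul j Q, ← hQ, mul_assoc, show j (Polynomial.C a) = c a from rfl, ← h1]
      rfl
    have h2 := congrArg (fun p : Polynomial R => p.coeff (D.natDegree + N)) heq
    simp only [Polynomial.coeff_mul_C, Polynomial.coeff_X_pow_mul] at h2
    refine ⟨Q.coeff (D.natDegree + N), ?_⟩
    rw [mul_div_assoc', div_eq_iff hbK, ← map_mul, ← map_mul]
    exact congrArg _ h2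
  let φ : R →ₗ[R] K := (LinearMap.mulLeft R (algebraMap R K l)⁻¹).comp (Algebra.linearMap R K)
  have hle : Subalgebra.toSubmodule (integralClosure R K) ≤ LinearMap.range φ := fun x hx => by
    obtain ⟨r, hr⟩ := hsub x hx
    refine ⟨r, ?_⟩
    show (algebraMap R K l)⁻¹ * algebraMap R K r = x
    rw [← hr, inv_mul_cancel_left₀ hlK]
  haveI : IsNoetherian R (LinearMap.range φ) := isNoetherian_of_surjective φ.rangeRestrict φ.range_rangeRestrict
  exact Module.Finite.of_injective (Submodule.inclusion hle) (Submodule.inclusion_injective hle)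
end Groth.Agent.S9395
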