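import Groth.Statements.S9396
import Groth.Agent.NagataLib.PowerSeries
import Groth.Agent.NagataCompleteLib.Complete

set_option autoImplicit false
universe u
open CAlg

namespace Groth.Agent.S9396

open Groth.Agent.NagataLib
set_option backward.isDefEq.respectTransparency false
set_option maxHeartbeats 1000000


/-- If R is a Noetherian N-2 (Japanese) domain, then the power series ring R[[X]] is an N-2 domain. (R
is not assumed integrally closed.) -/
theorem result (R : Type u) [CommRing R] [IsDomain R] [IsNoetherianRing R]
    (h : CAlg.IsN2 R) : CAlg.IsN2 (PowerSeries R) := by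
  classical
  let K := FractionRing R
  let R' := integralClosure R K
  haveI hfin : Module.Finite R R' := Groth.Agent.N2Lib.finite_of_isN2 h K K
  haveI : IsNoetherianRing R' := IsNoetherianRing.of_finite R R'
  haveI : IsFractionRing R' K := integralClosure.isFractionRing_of_finite_extension K K
  haveI : IsIntegrallyClosed R' := integralClosure.isIntegrallyClosedOfFiniteExtension K
  have hinj : Function.Injective (algebraMap R R') := fun a b e => IsFractionRing.injective R K (congrArg Subtype.val e)
  have hC : CAlg.IsN2 (PowerSeries R') :=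
    isN2_powerSeries R' (Groth.Agent.NagataCompleteLib.isN2_of_finite (R0 := R) hinj h)
  -- conductor
  obtain ⟨T, hT⟩ := hfin.fg_top
  obtain ⟨c, hc⟩ := IsLocalization.exist_integer_multiples (nonZeroDivisors R) T fun z : R' => (z : K)
  have hcR : ∀ z : R', ∃ d : R, algebraMap R R' c * z = algebraMap R R' d := by
    intro z
    have hz : z ∈ Submodule.span R (T : Set R') := by rw [hT]; trivial
    induction hz using Submodule.span_induction with
    | mem z hz =>
      obtain ⟨d, hd⟩ := hc z hz
      refine ⟨d, Subtype.ext ?_⟩
      show algebraMap R K (c : R) * (z : K) = algebraMap R K d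
      rw [← Algebra.smul_def]
      exact hd.symm
    | zero => exact ⟨0, by rw [mul_zero, map_zero]⟩
    | add a b _ _ ha hb =>
      obtain ⟨d, hd⟩ := ha
      obtain ⟨d', hd'⟩ := hb
      exact ⟨d + d', by rw [mul_add, hd, hd', map_add]⟩
    | smul r a _ ha =>
      obtain ⟨d, hd⟩ := ha
      exact ⟨r * d, by rw [Algebra.smul_def, mul_left_comm, hd, map_mul]⟩
  let ι : PowerSeries R →+* PowerSeries R' := PowerSeries.map (algebraMap R R')
  have hι : Function.Injective ι := fun a b e => PowerSeries.ext fun i => hinj (by
    rw [← PowerSeries.coeff_map, ← PowerSeries.coeff_map]; exact congrArg (PowerSeries.coeff i) e)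
  letI aC : Algebra (PowerSeries R) (PowerSeries R') := ι.toAlgebra
  haveI : Module.Finite (PowerSeries R) (PowerSeries R') := by
    refine Module.Finite.iff_fg.1 ?_ |> fun h => ⟨h⟩
    refine Module.Finite.iff_fg.2 ⟨T.image PowerSeries.C, ?_⟩
    rw [eq_top_iff]
    rintro f -
    have hspan : ∀ z : R', ∃ a : T → R, z = ∑ g : T, a g • (g : R') := fun z => by
      have hz : z ∈ Submodule.span R (Set.range fun g : T => (g : R')) := by rw [show (Set.range fun g : T => (g : R')) = ↑T from Subtype.range_coe, hT]; trivial
      obtain ⟨a, ha⟩ := (Submodule.mem_span_range_iff_exists_fun R).1 hz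
      exact ⟨a, ha.symm⟩
    choose a ha using hspan
    have e : f = ∑ g : T, ι (PowerSeries.mk fun i => a (PowerSeries.coeff i f) g) * PowerSeries.C (g : R') := by
      refine PowerSeries.ext fun i => ?_
      rw [map_sum, ha (PowerSeries.coeff i f)]
      refine Finset.sum_congr rfl fun g _ => ?_
      rw [PowerSeries.coeff_mul_C, PowerSeries.coeff_map, PowerSeries.coeff_mk, Algebra.smul_def]
    rw [e]
    refine Submodule.sum_mem _ fun g _ => ?_
    exact Submodule.smul_mem _ _ (Submodule.subset_span (Finset.mem_coe.2 (Finset.mem_image_of_mem _ g.2)))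
  intro L _ _ _ _ hfinL
  let F := FractionRing (PowerSeries R)
  let FC := FractionRing (PowerSeries R')
  have hei : Function.Injective ((algebraMap (PowerSeries R') FC).comp ι) :=
    (IsFractionRing.injective (PowerSeries R') FC).comp hι
  let e : F →+* FC := IsFractionRing.lift hei
  have hc0 : (c : R) ≠ 0 := nonZeroDivisors.ne_zero c.2
  have heS : ∀ w : PowerSeries R', ∃ u, e u = algebraMap (PowerSeries R') FC w := fun w => by
    choose d hd using fun i => hcR (PowerSeries.coeff i w)
    have hw : ι (PowerSeries.C (c : R)) * w = ι (PowerSeries.mk d) := by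
      ext i
      rw [PowerSeries.map_C, PowerSeries.coeff_C_mul, PowerSeries.coeff_map, PowerSeries.coeff_mk, hd]
    refine ⟨algebraMap _ F (PowerSeries.mk d) / algebraMap _ F (PowerSeries.C (c : R)), ?_⟩
    rw [map_div₀, IsFractionRing.lift_algebraMap, IsFractionRing.lift_algebraMap, RingHom.comp_apply, RingHom.comp_apply,
      ← hw, map_mul, mul_div_cancel_left₀]
    rw [map_ne_zero_iff _ (IsFractionRing.injective (PowerSeries R') FC), map_ne_zero_iff _ hι]
    exact fun h0 => hc0 (by simpa using congrArg PowerSeries.constantCoeff h0)
  have hes : Function.Surjective e := fun z => by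
    obtain ⟨u, v, -, rfl⟩ := IsFractionRing.div_surjective (PowerSeries R') z
    obtain ⟨u', hu⟩ := heS u
    obtain ⟨v', hv⟩ := heS v
    exact ⟨u' / v', by rw [map_div₀, hu, hv]⟩
  let ee : F ≃+* FC := RingEquiv.ofBijective e ⟨e.injective, hes⟩
  letI : Algebra FC L := ((algebraMap F L).comp ee.symm.toRingHom).toAlgebra
  letI : Algebra (PowerSeries R') L := ((algebraMap FC L).comp (algebraMap (PowerSeries R') FC)).toAlgebra
  haveI : IsScalarTower (PowerSeries R') FC L := IsScalarTower.of_algebraMap_eq fun _ => rfl
  haveI := hfinL
  haveI : FiniteDimensional FC L := by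
    letI : Algebra F FC := e.toAlgebra
    haveI : IsScalarTower F FC L := IsScalarTower.of_algebraMap_eq fun x => by
      show algebraMap F L x = algebraMap F L (ee.symm (ee x))
      rw [RingEquiv.symm_apply_apply]
    exact Module.Finite.of_restrictScalars_finite F FC L
  haveI tw := IsScalarTower.of_algebraMap_eq (R := PowerSeries R) (S := PowerSeries R') (A := L) fun x => by
    show _ = algebraMap F L (ee.symm (algebraMap (PowerSeries R') FC (ι x)))
    rw [IsScalarTower.algebraMap_apply (PowerSeries R) F L]
    congr 1
    apply ee.injective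
    rw [RingEquiv.apply_symm_apply]
    exact IsFractionRing.lift_algebraMap (K := F) hei x
  haveI : Module.Finite (PowerSeries R') (integralClosure (PowerSeries R') L) :=
    Groth.Agent.N2Lib.finite_of_isN2 hC FC L
  haveI : Module.Finite (PowerSeries R) (integralClosure (PowerSeries R') L) := Module.Finite.trans (PowerSeries R') _
  haveI := isNoetherian_of_isNoetherianRing_of_finite (PowerSeries R) (integralClosure (PowerSeries R') L)
  let j : integralClosure (PowerSeries R) L →ₗ[PowerSeries R] integralClosure (PowerSeries R') L :=
    { toFun := fun y => ⟨y.1, y.2.tower_top⟩, map_add' := fun _ _ => rfl, map_smul' := fun _ _ => rfl }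
  exact Module.Finite.of_injective j fun a b h => Subtype.ext (congrArg Subtype.val h :)

end Groth.Agent.S9396
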