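import Groth.Statements.S9397
import Groth.Agent.N2Lib.Basic

set_option autoImplicit false
universe u
open CAlg

namespace Groth.Agent.S9397
open Groth.Agent Groth.Agent.N2Lib

/-- A ring R is universally Japanese provided that each R-algebra of finite type which is a domain is
N-1. -/
theorem result (R : Type u) [CommRing R]
    (h : ∀ (S : Type u) [CommRing S] [IsDomain S] [Algebra R S], Algebra.FiniteType R S → CAlg.IsN1 S) :
    CAlg.IsUniversallyJapanese R := by
  intro S _ _ _ hS
  refine isN2_of_forall_isN1 fun T _ _ _ hT => ?_
  letI : Algebra R T := ((algebraMap S T).comp (algebraMap R S)).toAlgebra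
  haveI : IsScalarTower R S T := IsScalarTower.of_algebraMap_eq' rfl
  haveI := hT
  exact h T (Algebra.FiniteType.trans hS (inferInstance : Algebra.FiniteType S T))
end Groth.Agent.S9397
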