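import Groth.Statements.S9401
import Groth.Agent.NagataCompleteLib.Unramified
import Groth.Agent.NagataLib.Main
import Groth.Agent.S9407

set_option autoImplicit false
universe u
open CAlg

namespace Groth.Agent.S9401

open Groth.Agent.NagataLib TensorProduct
set_option backward.isDefEq.respectTransparency false
set_option maxHeartbeats 1000000


/-- The Nagata property descends along smooth ring maps that are surjective on spectra. -/
theorem result (R : Type u) [CommRing R] (S : Type u)
    [CommRing S] [Algebra R S] [Algebra.Smooth R S]
    (hs : Function.Surjective (PrimeSpectrum.comap (algebraMap R S))) (hS : CAlg.IsNagata S) :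
    CAlg.IsNagata R := by
  haveI := hS.1
  haveI : Module.Flat R S := inferInstance
  haveI : Module.FaithfullyFlat R S := Module.FaithfullyFlat.of_comap_surjective hs
  haveI : IsNoetherianRing R := by
    have hmono : StrictMono (fun I : Ideal R => I.map (algebraMap R S)) := fun I J h => by
      refine lt_of_le_of_ne (Ideal.map_mono h.le) fun e => h.ne ?_
      rw [← Ideal.comap_map_eq_self_of_faithfullyFlat (B := S) I, ← Ideal.comap_map_eq_self_of_faithfullyFlat (B := S) J]
      exact congrArg _ e
    haveI : WellFoundedGT (Ideal R) := hmono.wellFoundedGT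
    exact isNoetherianRing_iff.2 (isNoetherian_iff'.2 inferInstance)
  refine ⟨inferInstance, fun p _ => ?_⟩
  let A := R ⧸ p
  let B := A ⊗[R] S
  have hsur : Function.Surjective (Algebra.TensorProduct.includeRight : S →ₐ[R] B) := by
    intro z
    induction z using TensorProduct.induction_on with
    | zero => exact ⟨0, map_zero _⟩
    | add x y hx hy =>
      obtain ⟨x', rfl⟩ := hx
      obtain ⟨y', rfl⟩ := hy
      exact ⟨x' + y', map_add _ _ _⟩
    | tmul c b =>
      obtain ⟨a, rfl⟩ := Ideal.Quotient.mk_surjective c
      refine ⟨a • b, ?_⟩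
      show (1 : A) ⊗ₜ[R] (a • b) = _
      rw [← TensorProduct.smul_tmul, Algebra.smul_def, mul_one]
      rfl
  have hB : CAlg.IsNagata B := isNagata_of_surjective (Algebra.TensorProduct.includeRight : S →ₐ[R] B).toRingHom hsur hS
  haveI := hB.1
  intro L _ _ _ _ hfin
  haveI := hfin
  haveI : IsReduced (B ⊗[A] L) := by
    haveI : IsReduced (L ⊗[A] B) := Groth.Agent.S9407.result L (L ⊗[A] B)
    exact isReduced_of_injective (Algebra.TensorProduct.comm A B L).toRingEquiv.toRingHom (AlgEquiv.injective _)
  exact Groth.Agent.NagataCompleteLib.finite_integralClosure_of_reduced A B (fun q _ _ => hB.2 q) L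

end Groth.Agent.S9401
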