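import Groth.Statements.S9402
import Mathlib

set_option autoImplicit false
universe u
open CAlg

namespace Groth.Agent.S9402

/-- Let R → S be a ring map with S a nonzero algebra over the rationals and f ∈ S such that some
S-linear form on the module of differentials of S over R sends df to 1 (that is, df spans a free
direct summand of rank one). Then f is not nilpotent. (The published statement asks only that S·df
be a direct summand of the module of differentials, which also holds for the rationals with a
square-zero element adjoined and for the zero ring, where f is nilpotent; this row asks for an
S-linear form on the differentials sending df to 1, as the published proof uses, and S nonzero.) -/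
theorem result (R : Type u) [CommRing R] (S : Type u)
    [CommRing S] [Nontrivial S] [Algebra R S] [Algebra ℚ S] (f : S)
    (θ : Ω[S⁄R] →ₗ[S] S) (hθ : θ (KaehlerDifferential.D R S f) = 1) : ¬ IsNilpotent f := by
  rintro ⟨n, hn⟩
  induction n with
  | zero => exact one_ne_zero (α := S) (by simpa using hn)
  | succ n ih =>
    refine ih ?_
    have h := congrArg θ (congrArg (KaehlerDifferential.D R S) hn)
    rw [Derivation.leibniz_pow, map_zero, map_zero, map_nsmul, map_smul, hθ, smul_eq_mul, mul_one,
      Nat.add_sub_cancel, nsmul_eq_mul] at h
    have hu : IsUnit ((n + 1 : ℕ) : S) := by
      rw [← map_natCast (algebraMap ℚ S)]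
      exact (Ne.isUnit (Nat.cast_ne_zero.mpr (Nat.succ_ne_zero n))).map _
    exact (hu.mul_right_eq_zero).mp h
end Groth.Agent.S9402
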