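import Groth.Statements.S9403
import Mathlib

set_option autoImplicit false
universe u
open CAlg

namespace Groth.Agent.S9403

/-- Let R → S be a ring map with S a Noetherian local ring which is an algebra over the rationals, and f
∈ S such that some S-linear form on the module of differentials of S over R sends df to 1 (df spans
a free direct summand of rank one). Then f is a nonzerodivisor of S. (The published statement asks
only that S·df be a direct summand of the module of differentials, which also holds for the
rationals with a square-zero element adjoined, where f is a zero divisor; this row asks for an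
S-linear form on the differentials sending df to 1, as the published proof uses.) -/
theorem result (R : Type u) [CommRing R]
    (S : Type u) [CommRing S] [IsLocalRing S] [IsNoetherianRing S] [Algebra R S] [Algebra ℚ S]
    (f : S) (θ : Ω[S⁄R] →ₗ[S] S) (hθ : θ (KaehlerDifferential.D R S f) = 1) : f ∈ nonZeroDivisors S := by
  by_cases hf : IsUnit f
  · exact hf.mem_nonZeroDivisors
  rw [mem_nonZeroDivisors_iff_right]
  intro s hs
  have hk : ∀ k : ℕ, ∃ t, s = f ^ k * t := by
    intro k
    induction k with
    | zero => exact ⟨s, by simp⟩
    | succ k ih =>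
      obtain ⟨t, rfl⟩ := ih
      have h0 : f ^ (k + 1) * t = 0 := by rw [← hs]; ring
      have h := congrArg θ (congrArg (KaehlerDifferential.D R S) h0)
      rw [Derivation.leibniz, Derivation.leibniz_pow, map_zero, map_zero, map_add, map_smul, map_smul, map_nsmul,
        map_smul, hθ, smul_eq_mul, smul_eq_mul, smul_eq_mul, mul_one, Nat.add_sub_cancel, nsmul_eq_mul] at h
      have hu : IsUnit ((k + 1 : ℕ) : S) := by
        rw [← map_natCast (algebraMap ℚ S)]
        exact (Ne.isUnit (Nat.cast_ne_zero.mpr (Nat.succ_ne_zero k))).map _
      obtain ⟨w, hw⟩ := hu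
      refine ⟨-((w⁻¹ : Sˣ) : S) * θ (KaehlerDifferential.D R S t), ?_⟩
      rw [← hw] at h
      have hi : (w : S) * ((w⁻¹ : Sˣ) : S) = 1 := w.mul_inv
      linear_combination ((w⁻¹ : Sˣ) : S) * h - f ^ k * t * hi
  have hmem : s ∈ ⨅ i : ℕ, Ideal.span ({f} : Set S) ^ i := by
    rw [Ideal.mem_iInf]
    intro k
    obtain ⟨t, ht⟩ := hk k
    rw [Ideal.span_singleton_pow, ht]
    exact Ideal.mem_span_singleton.mpr (dvd_mul_right _ _)
  rwa [Ideal.iInf_pow_eq_bot_of_isLocalRing _ (by rwa [Ne, Ideal.span_singleton_eq_top]), Submodule.mem_bot] at hmem
end Groth.Agent.S9403
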