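import Groth.Statements.S9404
import Mathlib

set_option autoImplicit false
universe u
open CAlg

namespace Groth.Agent.S9404

open TensorProduct in
/-- For local homomorphisms of local rings A → B and A → C with A → C integral, if the residue field of
C or that of B is purely inseparable over the residue field of A, then B ⊗_A C is local and both
structure maps into it are local. -/
theorem result (A : Type u) [CommRing A]
    [IsLocalRing A] (B : Type u) [CommRing B] [IsLocalRing B] [Algebra A B]
    [IsLocalHom (algebraMap A B)] (C : Type u) [CommRing C] [IsLocalRing C] [Algebra A C]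
    [IsLocalHom (algebraMap A C)] [Algebra.IsIntegral A C]
    (h : IsPurelyInseparable (IsLocalRing.ResidueField A) (IsLocalRing.ResidueField C) ∨
      IsPurelyInseparable (IsLocalRing.ResidueField A) (IsLocalRing.ResidueField B)) :
    IsLocalRing (B ⊗[A] C) ∧
      IsLocalHom (Algebra.TensorProduct.includeLeft : B →ₐ[A] B ⊗[A] C).toRingHom ∧
      IsLocalHom (Algebra.TensorProduct.includeRight : C →ₐ[A] B ⊗[A] C).toRingHom := by
  let kA := IsLocalRing.ResidueField A
  let kB := IsLocalRing.ResidueField B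
  let kC := IsLocalRing.ResidueField C
  haveI : Nontrivial (kB ⊗[kA] kC) :=
    Algebra.TensorProduct.nontrivial_of_algebraMap_injective_of_flat_left _ _ _ (algebraMap kA kC).injective
  have hsub : Subsingleton (PrimeSpectrum (kB ⊗[kA] kC)) := by
    rcases h with h | h
    · haveI := h
      exact (PrimeSpectrum.isHomeomorph_comap_of_isPurelyInseparable kA kC kB).injective.subsingleton
    · haveI := h
      haveI : Subsingleton (PrimeSpectrum (kC ⊗[kA] kB)) :=
        (PrimeSpectrum.isHomeomorph_comap_of_isPurelyInseparable kA kB kC).injective.subsingleton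
      exact (PrimeSpectrum.isHomeomorph_comap_of_bijective (f := (Algebra.TensorProduct.comm kA kC kB).toRingEquiv.toRingHom)
        (Algebra.TensorProduct.comm kA kC kB).bijective).injective.subsingleton
  let fB : B →ₐ[A] kB ⊗[kA] kC :=
    ((Algebra.TensorProduct.includeLeft : kB →ₐ[kA] kB ⊗[kA] kC).restrictScalars A).comp (IsScalarTower.toAlgHom A B kB)
  let fC : C →ₐ[A] kB ⊗[kA] kC :=
    ((Algebra.TensorProduct.includeRight : kC →ₐ[kA] kB ⊗[kA] kC).restrictScalars A).comp (IsScalarTower.toAlgHom A C kC)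
  let φ : B ⊗[A] C →ₐ[A] kB ⊗[kA] kC := Algebra.TensorProduct.lift fB fC (fun _ _ => mul_comm _ _)
  haveI : Nontrivial (B ⊗[A] C) := φ.toRingHom.domain_nontrivial
  have hcore : ∀ N : Ideal (B ⊗[A] C), N.IsMaximal → ∃ P : PrimeSpectrum (kB ⊗[kA] kC), N = P.asIdeal.comap φ.toRingHom := by
    intro N hN
    letI := Ideal.Quotient.field N
    let iB : B →ₐ[A] (B ⊗[A] C) ⧸ N := (Ideal.Quotient.mkₐ A N).comp Algebra.TensorProduct.includeLeft
    let iC : C →ₐ[A] (B ⊗[A] C) ⧸ N := (Ideal.Quotient.mkₐ A N).comp Algebra.TensorProduct.includeRight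
    haveI : Algebra.IsIntegral B (B ⊗[A] C) := inferInstance
    have hB : IsLocalRing.maximalIdeal B ≤ RingHom.ker iB.toRingHom := by
      have h1 : N.comap (algebraMap B (B ⊗[A] C)) = IsLocalRing.maximalIdeal B :=
        IsLocalRing.eq_maximalIdeal (Ideal.isMaximal_comap_of_isIntegral_of_isMaximal N)
      intro b hb
      exact Ideal.Quotient.eq_zero_iff_mem.mpr (h1.ge hb : b ∈ N.comap (algebraMap B (B ⊗[A] C)))
    have hC : IsLocalRing.maximalIdeal C ≤ RingHom.ker iC.toRingHom := by
      haveI : (RingHom.ker iC.toRingHom).IsPrime := RingHom.ker_isPrime _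
      have h2 : ((RingHom.ker iC.toRingHom).comap (algebraMap A C)).IsMaximal := by
        have heq : (RingHom.ker iC.toRingHom).comap (algebraMap A C) = IsLocalRing.maximalIdeal A := by
          refine le_antisymm (IsLocalRing.le_maximalIdeal (Ideal.IsPrime.ne_top inferInstance)) fun a ha => ?_
          show iC (algebraMap A C a) = 0
          rw [iC.commutes, ← iB.commutes]
          exact hB (show algebraMap A B a ∈ IsLocalRing.maximalIdeal B from fun hu => ha (isUnit_of_map_unit _ _ hu))
        rw [heq]; infer_instance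
      exact (IsLocalRing.eq_maximalIdeal (Ideal.isMaximal_of_isIntegral_of_isMaximal_comap _ h2)).ge
    letI : Algebra kA ((B ⊗[A] C) ⧸ N) :=
      ((Ideal.Quotient.lift _ iB.toRingHom (fun b hb => hB hb) : kB →+* _).comp (algebraMap kA kB)).toAlgebra
    let jB : kB →ₐ[kA] (B ⊗[A] C) ⧸ N :=
      { (Ideal.Quotient.lift _ iB.toRingHom (fun b hb => hB hb) : kB →+* _) with commutes' := fun x => rfl }
    let jC : kC →ₐ[kA] (B ⊗[A] C) ⧸ N :=
      { (Ideal.Quotient.lift _ iC.toRingHom (fun b hb => hC hb) : kC →+* _) with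
        commutes' := fun x => by
          obtain ⟨a, rfl⟩ := IsLocalRing.residue_surjective x
          exact (iC.commutes a).trans (iB.commutes a).symm }
    let ψ : kB ⊗[kA] kC →ₐ[kA] (B ⊗[A] C) ⧸ N := Algebra.TensorProduct.lift jB jC (fun _ _ => mul_comm _ _)
    have hψ : ∀ t, ψ (φ t) = Ideal.Quotient.mk N t := fun t => by
      induction t using TensorProduct.induction_on with
      | zero => simp
      | add x y hx hy => simp [hx, hy]
      | tmul b c =>
        simp only [φ, Algebra.TensorProduct.lift_tmul, map_mul]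
        show ψ (IsLocalRing.residue B b ⊗ₜ 1) * ψ (1 ⊗ₜ IsLocalRing.residue C c) = _
        simp only [ψ, Algebra.TensorProduct.lift_tmul, map_one, mul_one, one_mul]
        show iB b * iC c = _
        simp [iB, iC, ← map_mul]
    refine ⟨⟨RingHom.ker ψ.toRingHom, RingHom.ker_isPrime _⟩, ?_⟩
    ext t
    rw [Ideal.mem_comap, ← Ideal.Quotient.eq_zero_iff_mem, ← hψ t]
    rfl
  obtain ⟨N, hN⟩ := Ideal.exists_maximal (B ⊗[A] C)
  refine ⟨IsLocalRing.of_unique_max_ideal ⟨N, hN, fun N' hN' => ?_⟩, ⟨fun b hb => ?_⟩, ⟨fun c hc => ?_⟩⟩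
  · obtain ⟨P, hP⟩ := hcore N hN
    obtain ⟨P', hP'⟩ := hcore N' hN'
    rw [hP, hP', Subsingleton.elim P P']
  · by_contra hb'
    have h1 : IsLocalRing.residue B b = 0 := (IsLocalRing.residue_eq_zero_iff _).mpr hb'
    have h2 := hb.map φ
    rw [show φ ((Algebra.TensorProduct.includeLeft : B →ₐ[A] B ⊗[A] C).toRingHom b) = 0 by
      show φ (b ⊗ₜ 1) = 0
      simp only [φ, Algebra.TensorProduct.lift_tmul, map_one, mul_one]
      show IsLocalRing.residue B b ⊗ₜ (1 : kC) = 0
      rw [h1, TensorProduct.zero_tmul]] at h2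
    exact not_isUnit_zero h2
  · by_contra hc'
    have h1 : IsLocalRing.residue C c = 0 := (IsLocalRing.residue_eq_zero_iff _).mpr hc'
    have h2 := hc.map φ
    rw [show φ ((Algebra.TensorProduct.includeRight : C →ₐ[A] B ⊗[A] C).toRingHom c) = 0 by
      show φ (1 ⊗ₜ c) = 0
      simp only [φ, Algebra.TensorProduct.lift_tmul, map_one, one_mul]
      show (1 : kB) ⊗ₜ IsLocalRing.residue C c = 0
      rw [h1, TensorProduct.tmul_zero]] at h2
    exact not_isUnit_zero h2

end Groth.Agent.S9404
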