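import Groth.Statements.S9408
import Groth.Agent.RegHomLib.Basic

set_option autoImplicit false
universe u
open CAlg

namespace Groth.Agent.S9408
open TensorProduct


/-- Over a field k, geometric regularity ascends along smooth maps of k-algebras: for A Noetherian and
geometrically regular over k and B smooth over A, B is geometrically regular over k. -/
theorem result (k : Type u) [Field k] (A : Type u) [CommRing A]
    [Algebra k A] [IsNoetherianRing A] (B : Type u) [CommRing B] [Algebra k B] [Algebra A B]
    [IsScalarTower k A B] [Algebra.Smooth A B] (hA : CAlg.IsGeometricallyRegular k A) :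
    CAlg.IsGeometricallyRegular k B := by
  intro k' _ _ hfin
  haveI : IsRegularRing (k' ⊗[k] A) := hA k' hfin
  letI : Algebra A (k' ⊗[k] A) := Algebra.TensorProduct.rightAlgebra
  haveI : IsScalarTower k A (k' ⊗[k] A) := IsScalarTower.of_algebraMap_eq fun r => by
    show algebraMap k (k' ⊗[k] A) r = (1 : k') ⊗ₜ[k] algebraMap k A r
    rw [Algebra.TensorProduct.algebraMap_apply, Algebra.algebraMap_eq_smul_one, Algebra.algebraMap_eq_smul_one,
      TensorProduct.smul_tmul]
  haveI := Groth.Agent.RegHomLib.isRegularRing_of_smooth (k' ⊗[k] A) ((k' ⊗[k] A) ⊗[A] B)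
  exact IsRegularRing.of_ringEquiv (R := (k' ⊗[k] A) ⊗[A] B)
    (((Algebra.TensorProduct.congr (Algebra.TensorProduct.commRight k A k').symm AlgEquiv.refl).restrictScalars k).trans
      (((Algebra.TensorProduct.comm A (A ⊗[k] k') B).restrictScalars k).trans
        (((Algebra.TensorProduct.cancelBaseChange k A A B k').restrictScalars k).trans
          (Algebra.TensorProduct.comm k B k')))).toRingEquiv

end Groth.Agent.S9408
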