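import Groth.Statements.S9412
import Groth.Agent.NormalTensor.Hom
-- import your own Groth.Agent.* helpers here

set_option autoImplicit false
universe u
open EGA4

namespace Groth.Agent.S9412
open TensorProduct

/-- A localization of a geometrically normal algebra over a field k is geometrically normal over k. -/
theorem result (k : Type u) [Field k] (A : Type u) [CommRing A]
    [Algebra k A] (M : Submonoid A) (B : Type u) [CommRing B] [Algebra A B] [IsLocalization M B]
    [Algebra k B] [IsScalarTower k A B] (h : EGA4.IsGeomNormal k A) :
    EGA4.IsGeomNormal k B := by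
  intro K _ _ hfin
  let j : A ⊗[k] K →ₐ[k] B ⊗[k] K := Algebra.TensorProduct.map (IsScalarTower.toAlgHom k A B) (AlgHom.id k K)
  letI := j.toRingHom.toAlgebra
  haveI : IsScalarTower A (A ⊗[k] K) (B ⊗[k] K) := IsScalarTower.of_algebraMap_eq fun a => by
    simp [RingHom.algebraMap_toAlgebra, j, IsScalarTower.algebraMap_apply A B (B ⊗[k] K)]
  haveI := IsLocalization.tensorProduct_tensorProduct k K M B
    (RingHom.ext fun b => by simp [RingHom.algebraMap_toAlgebra, j])
  exact Groth.Agent.NormalTensor.isNormalRing_of_ringEquiv (Algebra.TensorProduct.comm k B K).toRingEquiv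
    (Groth.Agent.NormalTensor.isNormalRing_localization (Algebra.algebraMapSubmonoid (A ⊗[k] K) M)
      (Groth.Agent.NormalTensor.isNormalRing_of_ringEquiv (Algebra.TensorProduct.comm k K A).toRingEquiv (h K hfin)))

end Groth.Agent.S9412
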