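import Groth.Statements.S9414
import Mathlib

set_option autoImplicit false
universe u
open CAlg

namespace Groth.Agent.S9414

open TensorProduct in
/-- For an algebraically closed field k, a finite type k-algebra S and a maximal ideal m of S with
residue field κ = S/m, the κ-vector spaces κ ⊗_S Ω_{S/k} and m/m² have the same dimension. -/
theorem result (k : Type u) [Field k]
    [IsAlgClosed k] (S : Type u) [CommRing S] [Algebra k S] [Algebra.FiniteType k S]
    (m : Ideal S) [m.IsMaximal] :
    Module.finrank (S ⧸ m) ((S ⧸ m) ⊗[S] Ω[S⁄k]) = Module.finrank (S ⧸ m) m.Cotangent := by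
  classical
  haveI : Module.Finite k (S ⧸ m) := by
    letI := Ideal.Quotient.field m
    exact finite_of_finite_type_of_isJacobsonRing k (S ⧸ m)
  haveI : Algebra.IsIntegral k (S ⧸ m) := Algebra.IsIntegral.of_finite k _
  letI : Field (S ⧸ m) := Ideal.Quotient.field m
  let σ : (S ⧸ m) →ₐ[k] k := (AlgEquiv.ofBijective (Algebra.ofId k (S ⧸ m))
    (IsAlgClosed.algebraMap_bijective_of_isIntegral (k := k) (K := S ⧸ m))).symm.toAlgHom
  let c : S →ₐ[k] k := σ.comp (Ideal.Quotient.mkₐ k m)
  have hc : ∀ s, s - algebraMap k S (c s) ∈ m := fun s => by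
    rw [← Ideal.Quotient.eq_zero_iff_mem, map_sub, sub_eq_zero, Ideal.Quotient.mk_algebraMap]
    exact ((AlgEquiv.ofBijective (Algebra.ofId k (S ⧸ m))
      (IsAlgClosed.algebraMap_bijective_of_isIntegral (k := k) (K := S ⧸ m))).apply_symm_apply (Ideal.Quotient.mk m s)).symm
  have hcm : ∀ x ∈ m, c x = 0 := fun x hx => by
    show σ (Ideal.Quotient.mk m x) = 0
    rw [Ideal.Quotient.eq_zero_iff_mem.mpr hx, map_zero]
  let δl : S →ₗ[k] m.Cotangent :=
    { toFun := fun s => m.toCotangent ⟨_, hc s⟩
      map_add' := fun a b => by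
        refine (congrArg _ (Subtype.ext ?_)).trans (map_add m.toCotangent _ _)
        simp only [map_add, Submodule.coe_add]; ring
      map_smul' := fun a b => by
        rw [RingHom.id_apply, ← algebraMap_smul S a (m.toCotangent _), ← map_smul]
        refine congrArg _ (Subtype.ext ?_)
        simp only [map_smul, SetLike.val_smul, smul_eq_mul, Algebra.smul_def, map_mul, AlgHom.commutes, Algebra.algebraMap_self, RingHom.id_apply]
        ring }
  let Dv : Derivation k S m.Cotangent := Derivation.mk' δl fun a b => by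
    show m.toCotangent _ = a • m.toCotangent _ + b • m.toCotangent _
    rw [← map_smul, ← map_smul, ← map_add]
    refine (Ideal.toCotangent_eq _).mpr ?_
    simp only [Submodule.coe_add, SetLike.val_smul, smul_eq_mul, map_mul]
    have := (m ^ 2).neg_mem (pow_two m ▸ Ideal.mul_mem_mul (hc a) (hc b))
    convert this using 1
    ring
  have hkill : m ≤ LinearMap.ker (LinearMap.toSpanSingleton S _ Dv.liftKaehlerDifferential) := fun x hx =>
    LinearMap.ext fun ω => Ideal.Cotangent.smul_eq_zero_of_mem hx _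
  let Φ := TensorProduct.lift (Submodule.liftQ m (LinearMap.toSpanSingleton S _ Dv.liftKaehlerDifferential) hkill)
  have hΦ : ∀ (x : S) (hx : x ∈ m), Φ ((1 : S ⧸ m) ⊗ₜ KaehlerDifferential.D k S x) = m.toCotangent ⟨x, hx⟩ := fun x hx => by
    show (LinearMap.toSpanSingleton S _ Dv.liftKaehlerDifferential (1 : S)) (KaehlerDifferential.D k S x) = _
    rw [LinearMap.toSpanSingleton_apply, one_smul, Derivation.liftKaehlerDifferential_comp_D]
    show m.toCotangent _ = _
    refine congrArg _ (Subtype.ext ?_)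
    simp [hcm x hx]
  have hsm : ∀ (s x : S), x ∈ m → s • ((1 : S ⧸ m) ⊗ₜ[S] KaehlerDifferential.D k S x) = (1 : S ⧸ m) ⊗ₜ KaehlerDifferential.D k S (s * x) := by
    intro s x hx
    rw [Derivation.leibniz, TensorProduct.tmul_add, ← TensorProduct.tmul_smul, ← TensorProduct.smul_tmul x,
      show x • (1 : S ⧸ m) = 0 from (Algebra.algebraMap_eq_smul_one x).symm.trans (Ideal.Quotient.eq_zero_iff_mem.mpr hx),
      TensorProduct.zero_tmul, add_zero]
  let P : Submodule S ((S ⧸ m) ⊗[S] Ω[S⁄k]) :=
    { carrier := {t | ∃ x ∈ m, (1 : S ⧸ m) ⊗ₜ KaehlerDifferential.D k S x = t}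
      add_mem' := by
        rintro _ _ ⟨x, hx, rfl⟩ ⟨y, hy, rfl⟩
        exact ⟨x + y, add_mem hx hy, by rw [map_add, TensorProduct.tmul_add]⟩
      zero_mem' := ⟨0, zero_mem _, by rw [map_zero, TensorProduct.tmul_zero]⟩
      smul_mem' := by
        rintro s _ ⟨x, hx, rfl⟩
        exact ⟨s * x, m.mul_mem_left s hx, (hsm s x hx).symm⟩ }
  have hP : ∀ t, t ∈ P := fun t => by
    induction t using TensorProduct.induction_on with
    | zero => exact zero_mem _
    | add x y hx hy => exact add_mem hx hy
    | tmul a ω =>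
      obtain ⟨a, rfl⟩ := Ideal.Quotient.mk_surjective a
      rw [← Ideal.Quotient.algebraMap_eq, Algebra.algebraMap_eq_smul_one, TensorProduct.smul_tmul]
      generalize a • ω = ω'
      refine (Submodule.span_le.mpr ?_ : _ ≤ P.comap (TensorProduct.mk S (S ⧸ m) _ 1))
        ((KaehlerDifferential.span_range_derivation k S).ge (Submodule.mem_top (x := ω')))
      rintro _ ⟨s, rfl⟩
      exact ⟨_, hc s, by rw [map_sub, Derivation.map_algebraMap, sub_zero]; rfl⟩
  have hinj : Function.Injective Φ := by
    refine (injective_iff_map_eq_zero _).mpr fun t ht => ?_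
    obtain ⟨x, hx, rfl⟩ := hP t
    rw [hΦ x hx, Ideal.toCotangent_eq_zero, pow_two] at ht
    refine Submodule.mul_induction_on (C := fun y => (1 : S ⧸ m) ⊗ₜ[S] KaehlerDifferential.D k S y = 0) ht (fun a ha b hb => ?_) (fun a b ha hb => by rw [map_add, TensorProduct.tmul_add, ha, hb, add_zero])
    rw [← hsm a b hb, TensorProduct.smul_tmul', show a • (1 : S ⧸ m) = 0 from (Algebra.algebraMap_eq_smul_one a).symm.trans (Ideal.Quotient.eq_zero_iff_mem.mpr ha),
      TensorProduct.zero_tmul]
  have hsurj : Function.Surjective Φ := fun v => by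
    obtain ⟨⟨x, hx⟩, rfl⟩ := m.toCotangent_surjective v
    exact ⟨_, hΦ x hx⟩
  exact ((LinearEquiv.ofBijective Φ ⟨hinj, hsurj⟩).extendScalarsOfSurjective
    (S := S ⧸ m) Ideal.Quotient.mk_surjective).finrank_eq

end Groth.Agent.S9414
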