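import Groth.Statements.S9416
import Mathlib

set_option autoImplicit false
universe u
open CAlg

namespace Groth.Agent.S9416

/-- `d ^ N * y` lies in `R` -/
def P {R K : Type u} [CommRing R] [Field K] [Algebra R K] (d : R) (N : ℕ) (y : K) : Prop :=
  ∃ r : R, algebraMap R K r = algebraMap R K d ^ N * y

theorem P.mono {R K : Type u} [CommRing R] [Field K] [Algebra R K] {d : R} {N N' : ℕ} {y : K}
    (h : P d N y) (hle : N ≤ N') : P d N' y := by
  obtain ⟨r, hr⟩ := h
  refine ⟨d ^ (N' - N) * r, ?_⟩
  rw [map_mul, map_pow, hr, ← mul_assoc, ← pow_add, Nat.sub_add_cancel hle]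

theorem core {R K : Type u} [CommRing R] [IsDomain R] [IsIntegrallyClosed R] [Field K]
    [Algebra R K] [IsFractionRing R K] (p : ℕ) [Fact p.Prime] [CharP K p]
    (D : Derivation ℤ K K)
    (hD : ∀ r : R, ∃ s : R, D (algebraMap R K r) = algebraMap R K s)
    (b d : R) (hd0 : d ≠ 0) (hd : D (algebraMap R K b) = algebraMap R K d) :
    ∀ n : ℕ, n ≤ p → ∀ N : ℕ, ∃ M : ℕ, ∀ c : ℕ → K,
      P d N (∑ i ∈ Finset.range n, c i ^ p * algebraMap R K b ^ i) →
      ∀ i < n, P d M (c i) := by
  classical
  have hp : p.Prime := Fact.out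
  let α : K := algebraMap R K b
  let δ : K := algebraMap R K d
  have hδ : δ ≠ 0 := fun h => hd0 (IsFractionRing.injective R K (by rw [map_zero]; exact h))
  have hDp : ∀ y : K, D (y ^ p) = 0 := fun y => by
    rw [Derivation.leibniz_pow, nsmul_eq_mul, CharP.cast_eq_zero K p, zero_mul]
  let E : Derivation ℤ K K := δ⁻¹ • D
  have hEα : E α = 1 := by
    show δ⁻¹ * D α = 1
    rw [hd]
    exact inv_mul_cancel₀ hδ
  have hEp : ∀ y : K, E (y ^ p) = 0 := fun y => by
    show δ⁻¹ * D (y ^ p) = 0
    rw [hDp, mul_zero]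
  -- `E` maps bounded denominators to bounded denominators
  have hPE : ∀ N (y : K), P d N y → P d (p * N + 1) (E y) := by
    intro N y hy
    obtain ⟨r, hr⟩ := hy.mono (Nat.le_mul_of_pos_left N hp.pos)
    obtain ⟨s, hs⟩ := hD r
    refine ⟨s, ?_⟩
    rw [← hs, hr]
    show D (δ ^ (p * N) * y) = δ ^ (p * N + 1) * (δ⁻¹ * D y)
    have h1 : D (δ ^ (p * N)) = 0 := by
      rw [mul_comm p N, pow_mul]
      exact hDp _
    rw [D.leibniz, h1, smul_zero, add_zero, smul_eq_mul]
    field_simp
    ring
  have hPEk : ∀ (k N : ℕ), ∃ N', ∀ y : K, P d N y → P d N' ((⇑E)^[k] y) := by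
    intro k
    induction k with
    | zero => exact fun N => ⟨N, fun y hy => hy⟩
    | succ k ih =>
      intro N
      obtain ⟨N', hN'⟩ := ih N
      refine ⟨p * N' + 1, fun y hy => ?_⟩
      rw [Function.iterate_succ_apply']
      exact hPE _ _ (hN' y hy)
  intro n
  induction n with
  | zero => exact fun _ N => ⟨0, fun c _ i hi => absurd hi (Nat.not_lt_zero i)⟩
  | succ n ih =>
    intro hn N
    obtain ⟨N₁, hN₁⟩ := hPEk n N
    obtain ⟨M, hM⟩ := ih (Nat.le_of_succ_le hn) (N + p * N₁)
    refine ⟨N₁ + M, fun c hc i hi => ?_⟩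
    have hit : ∀ k : ℕ, (⇑E)^[k] (∑ i ∈ Finset.range (n + 1), c i ^ p * α ^ i) =
        ∑ i ∈ Finset.range (n + 1), (Nat.descFactorial i k : K) * (c i ^ p * α ^ (i - k)) := by
      intro k
      induction k with
      | zero => simp
      | succ k ihk =>
        rw [Function.iterate_succ_apply', ihk, map_sum]
        refine Finset.sum_congr rfl fun j _ => ?_
        rw [E.leibniz, Derivation.map_natCast, smul_zero, add_zero, E.leibniz, hEp,
          smul_zero, add_zero, Derivation.leibniz_pow, hEα]
        simp only [smul_eq_mul, nsmul_eq_mul, mul_one, Nat.descFactorial_succ, Nat.cast_mul,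
          Nat.sub_sub]
        ring
    have htop := hN₁ _ hc
    rw [hit n] at htop
    have hsum : ∑ i ∈ Finset.range (n + 1), (Nat.descFactorial i n : K) * (c i ^ p * α ^ (i - n))
        = (Nat.factorial n : K) * c n ^ p := by
      rw [Finset.sum_range_succ]
      rw [Finset.sum_eq_zero (fun j hj => by
        rw [Nat.descFactorial_eq_zero_iff_lt.mpr (Finset.mem_range.mp hj), Nat.cast_zero, zero_mul])]
      rw [Nat.descFactorial_self, Nat.sub_self, pow_zero, mul_one, zero_add]
    rw [hsum] at htop
    -- the leading coefficient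
    have hcn : P d N₁ (c n) := by
      obtain ⟨r, hr⟩ := htop
      haveI : CharP R p :=
        (RingHom.charP_iff (algebraMap R K) (IsFractionRing.injective R K) p).mpr inferInstance
      have hu : IsUnit ((Nat.factorial n : ℕ) : R) := by
        have hne : ((Nat.factorial n : ℕ) : ZMod p) ≠ 0 := by
          rw [Ne, ZMod.natCast_eq_zero_iff, hp.dvd_factorial]
          omega
        have h := (isUnit_iff_ne_zero.mpr hne).map (ZMod.castHom (dvd_refl p) R)
        rwa [map_natCast] at h
      obtain ⟨u, hu⟩ := hu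
      have hint : IsIntegral R ((δ ^ N₁ * c n) ^ p) := by
        have heq : (δ ^ N₁ * c n) ^ p
            = algebraMap R K (d ^ (N₁ * (p - 1)) * (↑u⁻¹ * r)) := by
          rw [map_mul, map_mul, hr, map_pow]
          show (δ ^ N₁ * c n) ^ p = δ ^ (N₁ * (p - 1)) *
            (algebraMap R K ↑u⁻¹ * (δ ^ N₁ * ((Nat.factorial n : K) * c n ^ p)))
          have hf : algebraMap R K ↑u⁻¹ * (Nat.factorial n : K) = 1 := by
            rw [← map_natCast (algebraMap R K), ← hu, ← map_mul, Units.inv_mul, map_one]
          have hp1 : δ ^ (N₁ * (p - 1)) * δ ^ N₁ = (δ ^ N₁) ^ p := by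
            rw [pow_mul, ← pow_succ, Nat.sub_add_cancel hp.one_le]
          rw [mul_pow, ← hp1]
          linear_combination -(δ ^ (N₁ * (p - 1)) * δ ^ N₁ * c n ^ p) * hf
        rw [heq]
        exact isIntegral_algebraMap
      obtain ⟨s, hs⟩ := IsIntegrallyClosed.isIntegral_iff.mp (hint.of_pow hp.pos)
      exact ⟨s, hs⟩
    rcases Nat.lt_succ_iff_lt_or_eq.mp hi with hi' | rfl
    · refine (hM c ?_ i hi').mono (Nat.le_add_left _ _)
      obtain ⟨r, hr⟩ := hc
      obtain ⟨s, hs⟩ := hcn
      refine ⟨d ^ (p * N₁) * r - d ^ N * (s ^ p * b ^ n), ?_⟩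
      rw [map_sub, map_mul, map_pow, map_mul, map_pow, map_mul, map_pow, map_pow, hr, hs,
        Finset.sum_range_succ]
      show δ ^ (p * N₁) * (δ ^ N * _) - δ ^ N * ((δ ^ N₁ * c n) ^ p * α ^ n) = δ ^ (N + p * N₁) * _
      rw [mul_pow, ← pow_mul, mul_comm N₁ p, pow_add]
      ring
    · exact hcn.mono (Nat.le_add_right _ _)


/-- Suppose R is a normal Noetherian domain whose field of fractions K has prime characteristic p > 0, D
a derivation of K preserving R, and a ∈ K with D(a) ≠ 0. For a field L generated over K by an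
element x with x^p = a, the integral closure of R in L is module-finite over R. -/
theorem result (R : Type u) [CommRing R]
    [IsDomain R] [IsNoetherianRing R] [IsIntegrallyClosed R] (K : Type u) [Field K] [Algebra R K]
    [IsFractionRing R K] (p : ℕ) [Fact p.Prime] [CharP K p] (D : Derivation ℤ K K)
    (hD : ∀ r : R, ∃ s : R, D (algebraMap R K r) = algebraMap R K s) (a : K) (ha : D a ≠ 0)
    (L : Type u) [Field L] [Algebra K L] [Algebra R L] [IsScalarTower R K L] (x : L)
    (hx : x ^ p = algebraMap K L a) (hgen : IntermediateField.adjoin K {x} = ⊤) :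
    Module.Finite R (integralClosure R L) := by
  classical
  have hp : p.Prime := Fact.out
  obtain ⟨b₀, s, hs, hab⟩ := IsFractionRing.div_surjective (A := R) (K := K) a
  have hs0 : algebraMap R K s ≠ 0 :=
    IsFractionRing.to_map_ne_zero_of_mem_nonZeroDivisors hs
  let b : R := b₀ * s ^ (p - 1)
  have hb : algebraMap R K b = algebraMap R K s ^ p * a := by
    conv_rhs => rw [← Nat.sub_add_cancel hp.one_le, pow_succ]
    rw [← hab, map_mul, map_pow]
    field_simp
  obtain ⟨d, hd⟩ := hD b
  have hd0 : d ≠ 0 := by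
    intro h
    rw [h, map_zero, hb, D.leibniz, Derivation.leibniz_pow, nsmul_eq_mul, CharP.cast_eq_zero K p,
      zero_mul, smul_zero, add_zero, smul_eq_mul, mul_eq_zero] at hd
    exact hd.elim (pow_ne_zero p hs0) ha
  let y : L := algebraMap R L s * x
  have hy : y ^ p = algebraMap R L b := by
    rw [IsScalarTower.algebraMap_apply R K L b, hb, map_mul, map_pow,
      ← IsScalarTower.algebraMap_apply, ← hx, mul_pow]
  obtain ⟨M, hM⟩ := core p D hD b d hd0 hd p le_rfl 0
  let δ : K := algebraMap R K d
  have hδ : δ ≠ 0 := fun h => hd0 (IsFractionRing.injective R K (by rw [map_zero]; exact h))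
  let T : Submodule R L := Submodule.span R
    (Set.range fun i : Fin p => algebraMap K L (δ ^ M)⁻¹ * y ^ (i : ℕ))
  have hgenerate : ∀ z : L, ∃ c : ℕ → K, z = ∑ i ∈ Finset.range p, algebraMap K L (c i) * y ^ i := by
    intro z
    have hx' : x = algebraMap K L (algebraMap R K s)⁻¹ * y := by
      show x = algebraMap K L (algebraMap R K s)⁻¹ * (algebraMap R L s * x)
      rw [← mul_assoc, IsScalarTower.algebraMap_apply R K L s, ← map_mul, inv_mul_cancel₀ hs0,
        map_one, one_mul]
    have hyint : IsIntegral K y := by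
      refine IsIntegral.of_pow hp.pos ?_
      rw [hy, IsScalarTower.algebraMap_apply R K L b]
      exact isIntegral_algebraMap
    have htop : IntermediateField.adjoin K {y} = ⊤ := by
      rw [eq_top_iff, ← hgen, IntermediateField.adjoin_simple_le_iff, hx']
      exact mul_mem (IntermediateField.algebraMap_mem _ _)
        (IntermediateField.mem_adjoin_simple_self K y)
    have hz : z ∈ Algebra.adjoin K {y} := by
      rw [← IntermediateField.adjoin_simple_toSubalgebra_of_isAlgebraic hyint.isAlgebraic, htop]
      exact IntermediateField.mem_top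
    rw [Algebra.adjoin_singleton_eq_range_aeval] at hz
    obtain ⟨q, rfl⟩ := hz
    let m : Polynomial K := Polynomial.X ^ p - Polynomial.C (algebraMap R K b)
    have hm : m.Monic := Polynomial.monic_X_pow_sub_C _ hp.ne_zero
    have hroot : Polynomial.aeval y m = 0 := by
      simp [m, hy, ← IsScalarTower.algebraMap_apply]
    refine ⟨fun i => (q %ₘ m).coeff i, ?_⟩
    show Polynomial.aeval y q = _
    rw [← Polynomial.aeval_modByMonic_eq_self_of_root (p := q) hroot]
    have hdeg : (q %ₘ m).natDegree < p := by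
      refine lt_of_lt_of_eq (Polynomial.natDegree_modByMonic_lt q hm ?_) ?_
      · intro h1
        have := congrArg Polynomial.natDegree h1
        rw [Polynomial.natDegree_X_pow_sub_C, Polynomial.natDegree_one] at this
        exact hp.ne_zero this
      · exact Polynomial.natDegree_X_pow_sub_C
    rw [Polynomial.aeval_eq_sum_range' hdeg]
    exact Finset.sum_congr rfl fun i _ => Algebra.smul_def _ _
  have hsub : Subalgebra.toSubmodule (integralClosure R L) ≤ T := by
    intro z hz
    obtain ⟨c, rfl⟩ := hgenerate z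
    haveI : CharP L p := charP_of_injective_algebraMap (algebraMap K L).injective p
    have hzp : (∑ i ∈ Finset.range p, algebraMap K L (c i) * y ^ i) ^ p
        = algebraMap K L (∑ i ∈ Finset.range p, c i ^ p * algebraMap R K b ^ i) := by
      rw [sum_pow_char, map_sum]
      refine Finset.sum_congr rfl fun i _ => ?_
      rw [mul_pow, ← pow_mul, mul_comm i p, pow_mul, hy, IsScalarTower.algebraMap_apply R K L b,
        map_mul (algebraMap K L), map_pow (algebraMap K L), map_pow (algebraMap K L)]
    have hint : IsIntegral R (∑ i ∈ Finset.range p, c i ^ p * algebraMap R K b ^ i) := by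
      refine (isIntegral_algebraMap_iff (algebraMap K L).injective).mp ?_
      rw [← hzp]
      exact IsIntegral.pow hz p
    obtain ⟨r, hr⟩ := IsIntegrallyClosed.isIntegral_iff.mp hint
    have hall := hM c ⟨r, by rw [pow_zero, one_mul]; exact hr⟩
    refine Submodule.sum_mem _ fun i hi => ?_
    obtain ⟨t, ht⟩ := hall i (Finset.mem_range.mp hi)
    have heq : algebraMap K L (c i) * y ^ i = t • (algebraMap K L (δ ^ M)⁻¹ * y ^ i) := by
      rw [Algebra.smul_def, IsScalarTower.algebraMap_apply R K L t, ht, ← mul_assoc, ← map_mul]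
      congr 2
      show c i = δ ^ M * c i * (δ ^ M)⁻¹
      field_simp
    rw [heq]
    exact Submodule.smul_mem _ _ (Submodule.subset_span ⟨⟨i, Finset.mem_range.mp hi⟩, rfl⟩)
  haveI : Module.Finite R T := Module.Finite.iff_fg.mpr (Submodule.fg_span (Set.finite_range _))
  exact Module.Finite.of_injective (Submodule.inclusion hsub) (Submodule.inclusion_injective hsub)

end Groth.Agent.S9416
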