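import Groth.Statements.S9417
import Mathlib
import Groth.Agent.AlgSysLib.Basic

set_option autoImplicit false
universe u
open CAlg

namespace Groth.Agent.S9417

open TensorProduct in
/-- Let (A_i) be a directed system of A₀-algebras with colimit A (given by compatible maps A_i → A which
are jointly surjective and whose kernels die in the system), and B₀ → C₀ a homomorphism of
A₀-algebras with C₀ of finite type over B₀. If the base change of B₀ → C₀ along B₀ → B₀ ⊗_{A₀} A is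
finite (module-finite), then already its base change along B₀ → B₀ ⊗_{A₀} A_i is finite for some
index i. -/
theorem result {ι : Type u} [Preorder ι] [IsDirected ι (· ≤ ·)] [Nonempty ι]
    (A₀ : Type u) [CommRing A₀] (G : ι → Type u) [∀ i, CommRing (G i)] [∀ i, Algebra A₀ (G i)]
    (f : ∀ i j, i ≤ j → (G i →ₐ[A₀] G j)) (A : Type u) [CommRing A] [Algebra A₀ A]
    (g : ∀ i, G i →ₐ[A₀] A) (hg : ∀ i j (h : i ≤ j), (g j).comp (f i j h) = g i)
    (hsurj : ∀ a : A, ∃ i, ∃ x : G i, g i x = a)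
    (hker : ∀ i (x : G i), g i x = 0 → ∃ j, ∃ h : i ≤ j, f i j h x = 0)
    (B₀ : Type u) [CommRing B₀] [Algebra A₀ B₀] (C₀ : Type u) [CommRing C₀] [Algebra A₀ C₀]
    [Algebra B₀ C₀] [IsScalarTower A₀ B₀ C₀] [Algebra.FiniteType B₀ C₀]
    (h : Module.Finite (B₀ ⊗[A₀] A) ((B₀ ⊗[A₀] A) ⊗[B₀] C₀)) :
    ∃ i, Module.Finite (B₀ ⊗[A₀] G i) ((B₀ ⊗[A₀] G i) ⊗[B₀] C₀) := by
  classical
  have hB := (Groth.Agent.AlgSysLib.isAlgSys_of_preorder hg hsurj hker).baseChange B₀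
  let gB : ∀ i, (B₀ ⊗[A₀] G i) →ₐ[B₀] B₀ ⊗[A₀] A := fun i => Algebra.TensorProduct.map (AlgHom.id B₀ B₀) (g i)
  obtain ⟨s, hs⟩ := (inferInstance : Algebra.FiniteType B₀ C₀).out
  have hstage : ∀ T : Finset C₀, ∃ i, ∀ c ∈ T, IsIntegral (B₀ ⊗[A₀] G i) ((1 : B₀ ⊗[A₀] G i) ⊗ₜ[B₀] c) := by
    intro T
    induction T using Finset.induction_on with
    | empty => exact ⟨Classical.arbitrary ι, by simp⟩
    | @insert c T _ ih =>
      obtain ⟨i, hi⟩ := ih
      obtain ⟨P, hP, hPc⟩ := Algebra.IsIntegral.isIntegral (R := B₀ ⊗[A₀] A) ((1 : B₀ ⊗[A₀] A) ⊗ₜ[B₀] c)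
      obtain ⟨j, cf, hcf⟩ := hB.exists_lift_fin fun k : Fin P.natDegree => P.coeff k
      obtain ⟨k, φ, ψ, hφ, hψ⟩ := hB.dir i j
      let Q : Polynomial (B₀ ⊗[A₀] G k) := Polynomial.X ^ P.natDegree + ∑ d : Fin P.natDegree, Polynomial.C (ψ (cf d)) * Polynomial.X ^ (d : ℕ)
      have hQ : Q.Monic := by
        refine Polynomial.monic_X_pow_add ?_
        refine lt_of_le_of_lt (Polynomial.degree_sum_le _ _) ((Finset.sup_lt_iff (WithBot.bot_lt_coe _)).mpr fun d _ => ?_)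
        exact lt_of_le_of_lt (Polynomial.degree_C_mul_X_pow_le _ _) (WithBot.coe_lt_coe.mpr d.2)
      let m : ∀ {p q : ι} (θ : (B₀ ⊗[A₀] G p) →ₐ[B₀] B₀ ⊗[A₀] G q), (B₀ ⊗[A₀] G p) ⊗[B₀] C₀ →ₐ[B₀] (B₀ ⊗[A₀] G q) ⊗[B₀] C₀ :=
        fun θ => Algebra.TensorProduct.map θ (AlgHom.id B₀ C₀)
      let z := Polynomial.eval₂ (algebraMap (B₀ ⊗[A₀] G k) ((B₀ ⊗[A₀] G k) ⊗[B₀] C₀)) ((1 : B₀ ⊗[A₀] G k) ⊗ₜ[B₀] c) Q
      have hmQ : Q.map (gB k).toRingHom = P := by
        conv_rhs => rw [hP.as_sum, Finset.sum_range fun d => Polynomial.C (P.coeff d) * Polynomial.X ^ d]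
        simp only [Q, Polynomial.map_add, Polynomial.map_pow, Polynomial.map_X, Polynomial.map_sum, Polynomial.map_mul, Polynomial.map_C]
        congr 1
        refine Finset.sum_congr rfl fun d _ => ?_
        congr 2
        rw [← hcf d]
        exact AlgHom.congr_fun hψ (cf d)
      have hz : (gB k).toLinearMap.rTensor C₀ z = 0 := by
        rw [← hmQ, Polynomial.eval₂_map] at hPc
        show Algebra.TensorProduct.map (gB k) (AlgHom.id B₀ C₀) z = 0
        rw [← hPc]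
        show (Algebra.TensorProduct.map (gB k) (AlgHom.id B₀ C₀)).toRingHom z = _
        rw [Polynomial.hom_eval₂]
        congr 1 <;> first | exact RingHom.ext fun x => by simp | simp
      obtain ⟨l, θ, hθ, h0⟩ := hB.exists_kill_rTensor (X := C₀) k z hz
      refine ⟨l, fun d hd => ?_⟩
      rcases Finset.mem_insert.mp hd with rfl | hd
      · refine ⟨Q.map θ.toRingHom, hQ.map _, ?_⟩
        rw [Polynomial.eval₂_map]
        have h1 : (m θ).toRingHom z = 0 := h0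
        rw [Polynomial.hom_eval₂] at h1
        rw [← h1]
        congr 1 <;> first | exact RingHom.ext fun x => by simp [m] | simp [m]
      · obtain ⟨Q', hQ', he⟩ := hi d hd
        refine ⟨Q'.map (θ.comp φ).toRingHom, hQ'.map _, ?_⟩
        rw [Polynomial.eval₂_map]
        have h1 := congrArg (m (θ.comp φ)).toRingHom he
        rw [map_zero, Polynomial.hom_eval₂] at h1
        rw [← h1]
        congr 1 <;> first | exact RingHom.ext fun x => by simp [m] | simp [m]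
  obtain ⟨i, hi⟩ := hstage s
  refine ⟨i, ?_⟩
  haveI : Algebra.IsIntegral (B₀ ⊗[A₀] G i) ((B₀ ⊗[A₀] G i) ⊗[B₀] C₀) := by
    have hle : Algebra.adjoin B₀ (s : Set C₀) ≤ ((integralClosure (B₀ ⊗[A₀] G i) ((B₀ ⊗[A₀] G i) ⊗[B₀] C₀)).restrictScalars B₀).comap
        (Algebra.TensorProduct.includeRight : C₀ →ₐ[B₀] (B₀ ⊗[A₀] G i) ⊗[B₀] C₀) :=
      Algebra.adjoin_le fun c hc => hi c hc
    refine ⟨fun z => ?_⟩
    induction z using TensorProduct.induction_on with
    | zero => exact isIntegral_zero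
    | tmul b c =>
      have h1 : IsIntegral (B₀ ⊗[A₀] G i) ((1 : B₀ ⊗[A₀] G i) ⊗ₜ[B₀] c) := hle (hs ▸ Algebra.mem_top : c ∈ Algebra.adjoin B₀ (s : Set C₀))
      have := (isIntegral_algebraMap (x := b)).mul h1
      rwa [show algebraMap (B₀ ⊗[A₀] G i) ((B₀ ⊗[A₀] G i) ⊗[B₀] C₀) b = b ⊗ₜ[B₀] (1 : C₀) from rfl,
        Algebra.TensorProduct.tmul_mul_tmul, mul_one, one_mul] at this
    | add u v hu hv => exact hu.add hv
  exact Algebra.IsIntegral.finite
end Groth.Agent.S9417
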