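import Groth.Statements.S9418
import Mathlib
import Groth.Agent.AlgSysLib.Basic

set_option autoImplicit false
universe u
open CAlg

namespace Groth.Agent.S9418

open TensorProduct in
/-- Let (A_i) be a directed system of A₀-algebras with colimit A (given by compatible maps A_i → A which
are jointly surjective and whose kernels die in the system), and B₀ → C₀ a homomorphism of
A₀-algebras with C₀ of finite type over B₀. If the base change of B₀ → C₀ along B₀ → B₀ ⊗_{A₀} A is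
surjective, then already its base change along B₀ → B₀ ⊗_{A₀} A_i is surjective for some index i. -/
theorem result {ι : Type u} [Preorder ι] [IsDirected ι (· ≤ ·)] [Nonempty ι]
    (A₀ : Type u) [CommRing A₀] (G : ι → Type u) [∀ i, CommRing (G i)] [∀ i, Algebra A₀ (G i)]
    (f : ∀ i j, i ≤ j → (G i →ₐ[A₀] G j)) (A : Type u) [CommRing A] [Algebra A₀ A]
    (g : ∀ i, G i →ₐ[A₀] A) (hg : ∀ i j (h : i ≤ j), (g j).comp (f i j h) = g i)
    (hsurj : ∀ a : A, ∃ i, ∃ x : G i, g i x = a)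
    (hker : ∀ i (x : G i), g i x = 0 → ∃ j, ∃ h : i ≤ j, f i j h x = 0)
    (B₀ : Type u) [CommRing B₀] [Algebra A₀ B₀] (C₀ : Type u) [CommRing C₀] [Algebra A₀ C₀]
    [Algebra B₀ C₀] [IsScalarTower A₀ B₀ C₀] [Algebra.FiniteType B₀ C₀]
    (h : Function.Surjective (algebraMap (B₀ ⊗[A₀] A) ((B₀ ⊗[A₀] A) ⊗[B₀] C₀))) :
    ∃ i, Function.Surjective (algebraMap (B₀ ⊗[A₀] G i) ((B₀ ⊗[A₀] G i) ⊗[B₀] C₀)) := by
  classical
  have hB := (Groth.Agent.AlgSysLib.isAlgSys_of_preorder hg hsurj hker).baseChange B₀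
  let gB : ∀ i, (B₀ ⊗[A₀] G i) →ₐ[B₀] B₀ ⊗[A₀] A := fun i => Algebra.TensorProduct.map (AlgHom.id B₀ B₀) (g i)
  obtain ⟨s, hs⟩ := (inferInstance : Algebra.FiniteType B₀ C₀).out
  have hstage : ∀ T : Finset C₀, ∃ i, ∀ c ∈ T, ∃ b : B₀ ⊗[A₀] G i, b ⊗ₜ[B₀] (1 : C₀) = (1 : B₀ ⊗[A₀] G i) ⊗ₜ c := by
    intro T
    induction T using Finset.induction_on with
    | empty => exact ⟨Classical.arbitrary ι, by simp⟩
    | @insert c T _ ih =>
      obtain ⟨i, hi⟩ := ih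
      obtain ⟨b, hb⟩ := h ((1 : B₀ ⊗[A₀] A) ⊗ₜ[B₀] c)
      obtain ⟨j, b', rfl⟩ := hB.surj b
      obtain ⟨k, φ, ψ, hφ, hψ⟩ := hB.dir i j
      obtain ⟨l, θ, hθ, h0⟩ := hB.exists_kill_rTensor (X := C₀) k (ψ b' ⊗ₜ[B₀] (1 : C₀) - (1 : B₀ ⊗[A₀] G k) ⊗ₜ c) (by
        rw [map_sub, LinearMap.rTensor_tmul, LinearMap.rTensor_tmul, AlgHom.toLinearMap_apply, AlgHom.toLinearMap_apply,
          ← AlgHom.comp_apply, hψ, map_one, sub_eq_zero]
        exact hb)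
      rw [map_sub, LinearMap.rTensor_tmul, LinearMap.rTensor_tmul, AlgHom.toLinearMap_apply, AlgHom.toLinearMap_apply, map_one, sub_eq_zero] at h0
      refine ⟨l, fun d hd => ?_⟩
      rcases Finset.mem_insert.mp hd with rfl | hd
      · exact ⟨_, h0⟩
      · obtain ⟨e, he⟩ := hi d hd
        refine ⟨θ (φ e), ?_⟩
        have := congrArg (Algebra.TensorProduct.map (θ.comp φ) (AlgHom.id B₀ C₀)) he
        simpa using this
  have hsurjAt : ∀ i, (∀ c ∈ s, ∃ b : B₀ ⊗[A₀] G i, b ⊗ₜ[B₀] (1 : C₀) = (1 : B₀ ⊗[A₀] G i) ⊗ₜ c) →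
      Function.Surjective (algebraMap (B₀ ⊗[A₀] G i) ((B₀ ⊗[A₀] G i) ⊗[B₀] C₀)) := by
    intro i hi
    let L : (B₀ ⊗[A₀] G i) →ₐ[B₀] (B₀ ⊗[A₀] G i) ⊗[B₀] C₀ := Algebra.TensorProduct.includeLeft
    have hle : Algebra.adjoin B₀ (s : Set C₀) ≤ L.range.comap (Algebra.TensorProduct.includeRight : C₀ →ₐ[B₀] (B₀ ⊗[A₀] G i) ⊗[B₀] C₀) :=
      Algebra.adjoin_le fun c hc => by obtain ⟨b, hb⟩ := hi c hc; exact ⟨b, hb⟩
    intro z
    induction z using TensorProduct.induction_on with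
    | zero => exact ⟨0, map_zero _⟩
    | tmul b c =>
      obtain ⟨b', hb'⟩ := hle (hs ▸ Algebra.mem_top : c ∈ Algebra.adjoin B₀ (s : Set C₀))
      refine ⟨b * b', ?_⟩
      rw [map_mul]
      show b ⊗ₜ[B₀] (1 : C₀) * L b' = _
      rw [show L b' = (1 : B₀ ⊗[A₀] G i) ⊗ₜ c from hb', Algebra.TensorProduct.tmul_mul_tmul, one_mul, mul_one]
    | add u v hu hv =>
      obtain ⟨a, rfl⟩ := hu; obtain ⟨b, rfl⟩ := hv
      exact ⟨a + b, map_add _ a b⟩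
  obtain ⟨i, hi⟩ := hstage s
  exact ⟨i, hsurjAt i hi⟩
end Groth.Agent.S9418
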