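import Groth.Statements.S9419
import Mathlib
import Groth.Agent.AlgSysLib.Basic

set_option autoImplicit false
universe u
open CAlg

namespace Groth.Agent.S9419
open scoped TensorProduct

open TensorProduct in
/-- Let (A_i) be a directed system of A₀-algebras with colimit A (given by compatible maps A_i → A which
are jointly surjective and whose kernels die in the system), and B₀ → C₀ a homomorphism of
A₀-algebras with C₀ of finite type over B₀. If the base change of B₀ → C₀ along B₀ → B₀ ⊗_{A₀} A is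
unramified (formally unramified and of finite type), then already its base change along B₀ → B₀
⊗_{A₀} A_i is unramified for some index i. -/
theorem result {ι : Type u} [Preorder ι] [IsDirected ι (· ≤ ·)] [Nonempty ι]
    (A₀ : Type u) [CommRing A₀] (G : ι → Type u) [∀ i, CommRing (G i)] [∀ i, Algebra A₀ (G i)]
    (f : ∀ i j, i ≤ j → (G i →ₐ[A₀] G j)) (A : Type u) [CommRing A] [Algebra A₀ A]
    (g : ∀ i, G i →ₐ[A₀] A) (hg : ∀ i j (h : i ≤ j), (g j).comp (f i j h) = g i)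
    (hsurj : ∀ a : A, ∃ i, ∃ x : G i, g i x = a)
    (hker : ∀ i (x : G i), g i x = 0 → ∃ j, ∃ h : i ≤ j, f i j h x = 0)
    (B₀ : Type u) [CommRing B₀] [Algebra A₀ B₀] (C₀ : Type u) [CommRing C₀] [Algebra A₀ C₀]
    [Algebra B₀ C₀] [IsScalarTower A₀ B₀ C₀] [Algebra.FiniteType B₀ C₀]
    (h : Algebra.Unramified (B₀ ⊗[A₀] A) ((B₀ ⊗[A₀] A) ⊗[B₀] C₀)) :
    ∃ i, Algebra.Unramified (B₀ ⊗[A₀] G i) ((B₀ ⊗[A₀] G i) ⊗[B₀] C₀) := by
  classical
  have hB := (Groth.Agent.AlgSysLib.isAlgSys_of_preorder hg hsurj hker).baseChange B₀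
  let gB : ∀ i, (B₀ ⊗[A₀] G i) →ₐ[B₀] B₀ ⊗[A₀] A := fun i => Algebra.TensorProduct.map (AlgHom.id B₀ B₀) (g i)
  obtain ⟨s, hs⟩ := (inferInstance : Algebra.FiniteType B₀ C₀).out
  let Y : Type u := KaehlerDifferential B₀ C₀
  let X : ι → Type u := fun i => (B₀ ⊗[A₀] G i) ⊗[B₀] C₀
  letI : ∀ i, Algebra C₀ (X i) := fun i => Algebra.TensorProduct.rightAlgebra
  letI : Algebra C₀ ((B₀ ⊗[A₀] A) ⊗[B₀] C₀) := Algebra.TensorProduct.rightAlgebra
  let up : ∀ {i j : ι}, ((B₀ ⊗[A₀] G i) →ₐ[B₀] B₀ ⊗[A₀] G j) → (X i →ₐ[C₀] X j) := fun φ =>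
    { (Algebra.TensorProduct.map φ (AlgHom.id B₀ C₀)).toRingHom with
      commutes' := fun c => by
        show Algebra.TensorProduct.map φ (AlgHom.id B₀ C₀) ((1 : _) ⊗ₜ c) = (1 : _) ⊗ₜ c
        rw [Algebra.TensorProduct.map_tmul, map_one]; rfl }
  let gC : ∀ i, X i →ₐ[C₀] (B₀ ⊗[A₀] A) ⊗[B₀] C₀ := fun i =>
    { (Algebra.TensorProduct.map (gB i) (AlgHom.id B₀ C₀)).toRingHom with
      commutes' := fun c => by
        show Algebra.TensorProduct.map (gB i) (AlgHom.id B₀ C₀) ((1 : _) ⊗ₜ c) = (1 : _) ⊗ₜ c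
        rw [Algebra.TensorProduct.map_tmul, map_one]; rfl }
  have hup : ∀ {i j : ι} (φ : (B₀ ⊗[A₀] G i) →ₐ[B₀] B₀ ⊗[A₀] G j), (gB j).comp φ = gB i → (gC j).comp (up φ) = gC i := by
    intro i j φ h
    refine AlgHom.ext fun x => ?_
    show Algebra.TensorProduct.map (gB j) (AlgHom.id B₀ C₀) (Algebra.TensorProduct.map φ (AlgHom.id B₀ C₀) x) =
      Algebra.TensorProduct.map (gB i) (AlgHom.id B₀ C₀) x
    rw [← h]
    induction x using TensorProduct.induction_on with
    | zero => simp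
    | tmul a b => simp
    | add a b ha hb => simp only [map_add, ha, hb]
  have hC : Groth.Agent.AlgSysLib.IsAlgSys gC :=
    { ne := inferInstance
      dir := fun i j => by
        obtain ⟨k, φ, ψ, hφ, hψ⟩ := hB.dir i j
        exact ⟨k, up φ, up ψ, hup φ hφ, hup ψ hψ⟩
      surj := fun t => by
        induction t using TensorProduct.induction_on with
        | zero => exact ⟨Classical.arbitrary ι, 0, map_zero _⟩
        | tmul b c =>
          obtain ⟨i, b', rfl⟩ := hB.surj b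
          exact ⟨i, b' ⊗ₜ c, rfl⟩
        | add u v hu hv =>
          obtain ⟨i, a, rfl⟩ := hu; obtain ⟨j, b, rfl⟩ := hv
          obtain ⟨k, φ, ψ, hφ, hψ⟩ := hB.dir i j
          exact ⟨k, up φ a + up ψ b, by rw [map_add, ← AlgHom.comp_apply, hup φ hφ, ← AlgHom.comp_apply, hup ψ hψ]⟩
      ker := fun i x hx => by
        obtain ⟨j, φ, hφ, h0⟩ := hB.exists_kill_rTensor (X := C₀) i x hx
        exact ⟨j, up φ, hup φ hφ, h0⟩ }
  haveI := h.1
  have hΩA : Subsingleton (((B₀ ⊗[A₀] A) ⊗[B₀] C₀) ⊗[C₀] Y) :=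
    (KaehlerDifferential.tensorKaehlerEquiv B₀ (B₀ ⊗[A₀] A) C₀ ((B₀ ⊗[A₀] A) ⊗[B₀] C₀)).toEquiv.subsingleton
  obtain ⟨j, φ, -, hj⟩ := hC.exists_kill_finset_rTensor (X := Y) (Classical.arbitrary ι)
    (s.image fun c => (1 : X (Classical.arbitrary ι)) ⊗ₜ[C₀] KaehlerDifferential.D B₀ C₀ c) fun z _ => Subsingleton.elim _ _
  have h1 : ∀ m : Y, (1 : X j) ⊗ₜ[C₀] m = 0 := by
    let W : Submodule C₀ Y := LinearMap.ker (TensorProduct.mk C₀ (X j) Y 1)
    have hs' : ∀ c : C₀, KaehlerDifferential.D B₀ C₀ c ∈ W := fun c => by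
      have hc : c ∈ Algebra.adjoin B₀ (s : Set C₀) := hs ▸ Algebra.mem_top
      induction hc using Algebra.adjoin_induction with
      | mem c hc =>
        have := hj _ (Finset.mem_image_of_mem _ hc)
        rw [LinearMap.rTensor_tmul, AlgHom.toLinearMap_apply, map_one] at this
        exact this
      | algebraMap r => rw [Derivation.map_algebraMap]; exact W.zero_mem
      | add a b _ _ ha hb => rw [map_add]; exact W.add_mem ha hb
      | mul a b _ _ ha hb => rw [Derivation.leibniz]; exact W.add_mem (W.smul_mem a hb) (W.smul_mem b ha)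
    intro m
    have hm : m ∈ W := (Submodule.span_le.mpr (by rintro _ ⟨c, rfl⟩; exact hs' c) :
      Submodule.span C₀ (Set.range (KaehlerDifferential.D B₀ C₀)) ≤ W) (KaehlerDifferential.span_range_derivation B₀ C₀ ▸ Submodule.mem_top)
    exact hm
  have hsub : Subsingleton (X j ⊗[C₀] Y) := subsingleton_of_forall_eq 0 fun z => by
    induction z using TensorProduct.induction_on with
    | zero => rfl
    | tmul a m =>
      have : a ⊗ₜ[C₀] m = a • ((1 : X j) ⊗ₜ[C₀] m) := by rw [TensorProduct.smul_tmul', smul_eq_mul, mul_one]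
      rw [this, h1, smul_zero]
    | add a b ha hb => rw [ha, hb, add_zero]
  refine ⟨j, ⟨⟨?_⟩, inferInstance⟩⟩
  exact (KaehlerDifferential.tensorKaehlerEquiv B₀ (B₀ ⊗[A₀] G j) C₀ ((B₀ ⊗[A₀] G j) ⊗[B₀] C₀)).symm.toEquiv.subsingleton
end Groth.Agent.S9419
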