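import Groth.Statements.S9425
import Mathlib

set_option autoImplicit false
universe u
open CAlg

namespace Groth.Agent.S9425

/-- A directed colimit of formally étale R-algebras is formally étale over R. The colimit is encoded by
compatible R-algebra maps S_i → S which are jointly surjective and whose kernels die further along
the system. -/
theorem result {ι : Type u} [Preorder ι] [IsDirected ι (· ≤ ·)] [Nonempty ι]
    (R : Type u) [CommRing R] (G : ι → Type u) [∀ i, CommRing (G i)] [∀ i, Algebra R (G i)]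
    (f : ∀ i j, i ≤ j → (G i →ₐ[R] G j)) (S : Type u) [CommRing S] [Algebra R S]
    (g : ∀ i, G i →ₐ[R] S) (hg : ∀ i j (h : i ≤ j), (g j).comp (f i j h) = g i)
    (hsurj : ∀ s : S, ∃ i, ∃ x : G i, g i x = s)
    (hker : ∀ i (x : G i), g i x = 0 → ∃ j, ∃ h : i ≤ j, f i j h x = 0)
    (h : ∀ i, Algebra.FormallyEtale R (G i)) : Algebra.FormallyEtale R S := by
  classical
  rw [Algebra.FormallyEtale.iff_comp_bijective]
  intro B _ _ I hI
  have hbij : ∀ i, Function.Bijective ((Ideal.Quotient.mkₐ R I).comp : (G i →ₐ[R] B) → G i →ₐ[R] B ⧸ I) :=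
    fun i => haveI := h i; Algebra.FormallyEtale.comp_bijective R (G i) I hI
  refine ⟨fun φ ψ e => AlgHom.ext fun s => ?_, fun χ => ?_⟩
  · obtain ⟨i, x, rfl⟩ := hsurj s
    exact DFunLike.congr_fun ((hbij i).1 (a₁ := φ.comp (g i)) (a₂ := ψ.comp (g i))
      (AlgHom.ext fun y => DFunLike.congr_fun e (g i y))) x
  choose φ hφ using fun i => (hbij i).2 (χ.comp (g i))
  have hcomp : ∀ i j (hij : i ≤ j), (φ j).comp (f i j hij) = φ i := fun i j hij => (hbij i).1 (by
    show (Ideal.Quotient.mkₐ R I).comp ((φ j).comp (f i j hij)) = (Ideal.Quotient.mkₐ R I).comp (φ i)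
    rw [← AlgHom.comp_assoc, hφ, hφ, AlgHom.comp_assoc, hg])
  have hwd : ∀ i j (x : G i) (y : G j), g i x = g j y → φ i x = φ j y := by
    intro i j x y hxy
    obtain ⟨k, hik, hjk⟩ := directed_of (· ≤ ·) i j
    obtain ⟨l, hkl, hl⟩ := hker k (f i k hik x - f j k hjk y) (by
      rw [map_sub, ← AlgHom.comp_apply, ← AlgHom.comp_apply, hg, hg, hxy, sub_self])
    have h2 := congrArg (φ l) hl
    rw [map_zero, ← AlgHom.comp_apply, hcomp, map_sub, ← AlgHom.comp_apply, ← AlgHom.comp_apply, hcomp, hcomp,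
      sub_eq_zero] at h2
    exact h2
  choose idx el hel using hsurj
  have hev : ∀ i (x : G i), φ (idx (g i x)) (el (g i x)) = φ i x := fun i x => hwd _ _ _ _ (hel _)
  refine ⟨{ toFun := fun s => φ (idx s) (el s), map_one' := ?_, map_mul' := fun s t => ?_, map_zero' := ?_,
            map_add' := fun s t => ?_, commutes' := fun r => ?_ }, ?_⟩
  · have := hev (Classical.arbitrary ι) 1
    rwa [map_one, map_one] at this
  · obtain ⟨k, hik, hjk⟩ := directed_of (· ≤ ·) (idx s) (idx t)
    have := hev k (f _ k hik (el s) * f _ k hjk (el t))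
    rw [map_mul, ← AlgHom.comp_apply, ← AlgHom.comp_apply, hg, hg, hel, hel, map_mul,
      ← AlgHom.comp_apply, ← AlgHom.comp_apply, hcomp, hcomp] at this
    exact this
  · have := hev (Classical.arbitrary ι) 0
    rwa [map_zero, map_zero] at this
  · obtain ⟨k, hik, hjk⟩ := directed_of (· ≤ ·) (idx s) (idx t)
    have := hev k (f _ k hik (el s) + f _ k hjk (el t))
    rw [map_add, ← AlgHom.comp_apply, ← AlgHom.comp_apply, hg, hg, hel, hel, map_add,
      ← AlgHom.comp_apply, ← AlgHom.comp_apply, hcomp, hcomp] at this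
    exact this
  · have := hev (Classical.arbitrary ι) (algebraMap R _ r)
    rwa [AlgHom.commutes, AlgHom.commutes] at this
  · refine AlgHom.ext fun s => ?_
    show Ideal.Quotient.mkₐ R I (φ (idx s) (el s)) = χ s
    rw [← AlgHom.comp_apply, hφ, AlgHom.comp_apply, hel]
end Groth.Agent.S9425
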