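import Groth.Statements.S9428
import Mathlib

set_option autoImplicit false
universe u
open CAlg

namespace Groth.Agent.S9428

/-- If R → S is formally étale and J ⊆ S is an ideal with R → S/J surjective, I ⊆ R its kernel (the
preimage of J), then R/I^n → S/J^n is bijective for all n. (The published statement adds that the
associated graded rings are then isomorphic, which follows from these bijections.) -/
theorem result (R : Type u) [CommRing R] (S : Type u)
    [CommRing S] [Algebra R S] [Algebra.FormallyEtale R S] (J : Ideal S)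
    (hJ : Function.Surjective (algebraMap R (S ⧸ J))) (n : ℕ) :
    Function.Bijective (Ideal.quotientMap (J ^ n) (algebraMap R S)
      (le_of_le_of_eq (Ideal.le_comap_pow (algebraMap R S) n) rfl :
        (J.comap (algebraMap R S)) ^ n ≤ (J ^ n).comap (algebraMap R S))) := by
  set I := J.comap (algebraMap R S) with hI
  rcases Nat.eq_zero_or_pos n with rfl | hn
  · haveI : Subsingleton (R ⧸ I ^ 0) := Ideal.Quotient.subsingleton_iff.mpr (by simp)
    haveI : Subsingleton (S ⧸ J ^ 0) := Ideal.Quotient.subsingleton_iff.mpr (by simp)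
    exact ⟨fun a b _ => Subsingleton.elim _ _, fun b => ⟨0, Subsingleton.elim _ _⟩⟩
  have hle : I ^ n ≤ (J ^ n).comap (algebraMap R S) := Ideal.le_comap_pow (algebraMap R S) n
  have hmemI : ∀ r, algebraMap R (S ⧸ J) r = 0 ↔ r ∈ I := fun r => Ideal.Quotient.eq_zero_iff_mem
  let π : (R ⧸ I ^ n) →ₐ[R] S ⧸ J := Ideal.Quotient.liftₐ _ (Algebra.ofId R (S ⧸ J)) fun r hr =>
    (hmemI r).mpr (Ideal.pow_le_self hn.ne' hr)
  have hπ : Function.Surjective π := fun t => by
    obtain ⟨r, hr⟩ := hJ t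
    exact ⟨Ideal.Quotient.mk _ r, hr⟩
  have hker : RingHom.ker (π : (R ⧸ I ^ n) →+* S ⧸ J) = I.map (Ideal.Quotient.mk (I ^ n)) := by
    refine le_antisymm (fun t ht => ?_) (Ideal.map_le_iff_le_comap.mpr fun r hr => (hmemI r).mpr hr)
    obtain ⟨r, rfl⟩ := Ideal.Quotient.mk_surjective t
    exact Ideal.mem_map_of_mem _ ((hmemI r).mp ht)
  have hnil : IsNilpotent (RingHom.ker (π : (R ⧸ I ^ n) →+* S ⧸ J)) :=
    ⟨n, by rw [hker, ← Ideal.map_pow, Ideal.map_quotient_self]; rfl⟩
  let σ : S →ₐ[R] R ⧸ I ^ n := Algebra.FormallySmooth.liftOfSurjective (Ideal.Quotient.mkₐ R J) π hπ hnil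
  have hσ : π.comp σ = Ideal.Quotient.mkₐ R J := Algebra.FormallySmooth.comp_liftOfSurjective _ _ _ _
  have hσJ : ∀ s ∈ J ^ n, σ s = 0 := by
    have h1 : J.map σ ≤ I.map (Ideal.Quotient.mk (I ^ n)) := by
      rw [← hker, Ideal.map_le_iff_le_comap]
      intro s hs
      show π (σ s) = 0
      rw [← AlgHom.comp_apply, hσ]
      exact Ideal.Quotient.eq_zero_iff_mem.mpr hs
    intro s hs
    have h2 := Ideal.pow_right_mono h1 n (Ideal.map_pow σ J n ▸ Ideal.mem_map_of_mem σ hs)
    rwa [← Ideal.map_pow, Ideal.map_quotient_self, Ideal.mem_bot] at h2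
  let σ' : (S ⧸ J ^ n) →ₐ[R] R ⧸ I ^ n := Ideal.Quotient.liftₐ _ σ hσJ
  let q : (R ⧸ I ^ n) →ₐ[R] S ⧸ J ^ n :=
    { Ideal.quotientMap (J ^ n) (algebraMap R S) hle with commutes' := fun r => rfl }
  have h1 : ∀ t, σ' (q t) = t := fun t => by
    obtain ⟨r, rfl⟩ := Ideal.Quotient.mk_surjective t
    exact (σ'.comp q).commutes r
  have h2 : q.comp σ = Ideal.Quotient.mkₐ R (J ^ n) := by
    refine Algebra.FormallyUnramified.lift_unique' (Ideal.Quotient.factorₐ R (Ideal.pow_le_self hn.ne' : J ^ n ≤ J)) ⟨n, ?_⟩ _ _ ?_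
    · have : RingHom.ker (Ideal.Quotient.factorₐ R (Ideal.pow_le_self hn.ne' : J ^ n ≤ J) : (S ⧸ J ^ n) →+* S ⧸ J) = J.map (Ideal.Quotient.mk (J ^ n)) := by
        refine le_antisymm (fun t ht => ?_) (Ideal.map_le_iff_le_comap.mpr fun r hr => Ideal.Quotient.eq_zero_iff_mem.mpr hr)
        obtain ⟨r, rfl⟩ := Ideal.Quotient.mk_surjective t
        exact Ideal.mem_map_of_mem _ (Ideal.Quotient.eq_zero_iff_mem.mp ht)
      rw [this, ← Ideal.map_pow, Ideal.map_quotient_self]; rfl
    · refine AlgHom.ext fun s => ?_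
      obtain ⟨r, hr⟩ := Ideal.Quotient.mk_surjective (σ s)
      have h3 : π (σ s) = Ideal.Quotient.mk J s := AlgHom.congr_fun hσ s
      simp only [AlgHom.comp_apply, ← hr] at h3 ⊢
      exact h3
  refine ⟨fun t t' htt => ?_, fun t => ?_⟩
  · rw [← h1 t, ← h1 t']; exact congrArg σ' htt
  · obtain ⟨s, rfl⟩ := Ideal.Quotient.mk_surjective t
    exact ⟨σ s, AlgHom.congr_fun h2 s⟩
end Groth.Agent.S9428
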