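import Groth.Statements.S9429
import Groth.Agent.GrpSchLib.DimLie
import Mathlib.RingTheory.QuasiFinite.Basic

set_option autoImplicit false
universe u
open Synt

namespace Groth.Agent.S9429

open MvPolynomial in
theorem isGlobalCI_of_isStandardSmooth (k A : Type u) [Field k] [CommRing A] [Algebra k A]
    [Algebra.IsStandardSmooth k A] : Synt.IsGlobalCI k A := by
  classical
  rcases subsingleton_or_nontrivial A with h | h
  · exact Or.inl h
  obtain ⟨ι, σ, hσ, hι, ⟨P₀⟩⟩ := (‹Algebra.IsStandardSmooth k A›).out
  haveI := hσ
  haveI := hι
  letI := Fintype.ofFinite ι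
  letI := Fintype.ofFinite σ
  let P := P₀.reindex (Fintype.equivFin ι).symm (Fintype.equivFin σ).symm
  let N := Fintype.card ι
  let c := Fintype.card σ
  have hcN : c ≤ N := by simpa using Fintype.card_le_of_injective P.map P.map_inj
  haveI : Algebra.IsStandardSmoothOfRelativeDimension (N - c) k A :=
    P.isStandardSmoothOfRelativeDimension (by simp [Algebra.Presentation.dimension, N, c])
  obtain ⟨f, hf⟩ := Algebra.IsStandardSmoothOfRelativeDimension.exists_etale_mvPolynomial (n := N - c) k A
  refine Or.inr ⟨N, c, hcN, MvPolynomial.aeval P.val, P.relation, P.aeval_val_surjective, ?_, le_antisymm ?_ ?_⟩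
  · rw [P.span_range_relation_eq_ker]
    exact P.toGenerators.ker_eq_ker_aeval_val.symm
  · letI := f.toRingHom.toAlgebra
    haveI : Algebra.Etale (MvPolynomial (Fin (N - c)) k) A := hf
    haveI : Algebra.QuasiFinite (MvPolynomial (Fin (N - c)) k) A := inferInstance
    calc ringKrullDim A ≤ ringKrullDim (MvPolynomial (Fin (N - c)) k) :=
          Order.krullDim_le_of_strictMono (PrimeSpectrum.comap f.toRingHom) fun p q hpq =>
            lt_of_le_of_ne (Ideal.comap_mono hpq.le) fun e => hpq.ne (PrimeSpectrum.ext
              (Algebra.QuasiFinite.eq_of_le_of_under_eq (R := MvPolynomial (Fin (N - c)) k) p.asIdeal q.asIdeal hpq.le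
                (congrArg PrimeSpectrum.asIdeal e)))
      _ = _ := by simp
  · letI := f.toRingHom.toAlgebra
    haveI : Algebra.Etale (MvPolynomial (Fin (N - c)) k) A := hf
    refine Groth.Agent.GrSegreLib.le_ringKrullDim_of_algIndep (k := k) (z := fun i => f (MvPolynomial.X i)) ?_
    rw [algebraicIndependent_iff_injective_aeval]
    have hinj : Function.Injective f := by
      refine (injective_iff_map_eq_zero f).mpr fun q hq => ?_
      by_contra hne
      have hreg : IsSMulRegular A q :=
        Module.Flat.isSMulRegular_of_nonZeroDivisors (mem_nonZeroDivisors_of_ne_zero hne)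
      refine one_ne_zero (hreg ?_ : (1 : A) = 0)
      show q • (1 : A) = q • 0
      rw [smul_zero, Algebra.smul_def, _root_.mul_one]
      exact hq
    convert hinj using 2
    exact MvPolynomial.algHom_ext fun i => by simp

/-- A smooth algebra over a field k is a local complete intersection over k (finite type, and locally on
Spec S by principal opens a global complete intersection). -/
theorem result (k : Type u) [Field k] (S : Type u) [CommRing S] [Algebra k S]
    [Algebra.Smooth k S] : Synt.IsLCIOver k S := by
  refine ⟨inferInstance, fun p => ?_⟩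
  haveI : Algebra.IsSmoothAt k p.asIdeal := inferInstance
  obtain ⟨g, hg, hs⟩ := Algebra.IsSmoothAt.exists_notMem_isStandardSmooth k p.asIdeal
  haveI := hs
  exact ⟨g, hg, isGlobalCI_of_isStandardSmooth k _⟩

end Groth.Agent.S9429
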