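import Groth.Statements.S9430
import Groth.Agent.CILib.LCIPoint

set_option autoImplicit false
universe u
open Synt

set_option backward.isDefEq.respectTransparency false

namespace Groth.Agent.S9430

/-- For a field extension K/k, every finite subset of K lies in a k-subalgebra of K which is a global
complete intersection over k; so K is the directed union of its k-subalgebras that are global
complete intersections over k. -/
theorem result (k : Type u) [Field k] (K : Type u)
    [Field K] [Algebra k K] (E : Finset K) :
    ∃ A : Subalgebra k K, (↑E : Set K) ⊆ (A : Set K) ∧ Synt.IsGlobalCI k A := by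
  classical
  let A₀ : Subalgebra k K := Algebra.adjoin k (E : Set K)
  haveI : Algebra.FiniteType k A₀ := A₀.fg_iff_finiteType.1 (Subalgebra.fg_adjoin_finset E)
  haveI : IsDomain (Localization.AtPrime (⊥ : Ideal A₀)) :=
    IsLocalization.isDomain_localization (Ideal.primeCompl_le_nonZeroDivisors _)
  have hm : IsLocalRing.maximalIdeal (Localization.AtPrime (⊥ : Ideal A₀)) = ⊥ := by
    rw [← Localization.AtPrime.map_eq_maximalIdeal, Ideal.map_bot]
  letI : Field (Localization.AtPrime (⊥ : Ideal A₀)) :=
    (IsLocalRing.isField_iff_maximalIdeal_eq.2 hm).toField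
  have hci : Synt.IsCIOver k (Localization.AtPrime (⊥ : Ideal A₀)) := by
    refine ⟨Localization.AtPrime (⊥ : Ideal A₀), inferInstance, inferInstance, inferInstance,
      Algebra.EssFiniteType.comp k A₀ _, [], by simp, ⟨RingTheory.Sequence.IsWeaklyRegular.nil _ _, fun h => ?_⟩, ⟨?_⟩⟩
    · rw [Ideal.ofList_nil, Submodule.bot_smul] at h
      exact bot_ne_top h.symm
    · exact ((Ideal.quotientEquivAlgOfEq k (Ideal.ofList_nil)).trans (AlgEquiv.quotientBot k _)).symm
  obtain ⟨g, hg, hgci⟩ := Groth.Agent.CILib.exists_away_of_isCIOver (⊥ : Ideal A₀) hci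
  have hg0 : (g : K) ≠ 0 := fun h => hg (Ideal.mem_bot.2 (Subtype.ext h))
  have hu : ∀ y : Submonoid.powers g, IsUnit (A₀.val y) := by
    rintro ⟨_, m, rfl⟩
    rw [map_pow]
    exact (isUnit_iff_ne_zero.2 hg0).pow m
  let f : Localization.Away g →ₐ[k] K := IsLocalization.liftAlgHom (M := Submonoid.powers g) (f := A₀.val) hu
  have hf : Function.Injective f := by
    show Function.Injective (IsLocalization.lift hu)
    refine (IsLocalization.lift_injective_iff _).2 fun x y => ⟨fun h => ?_, fun h => ?_⟩
    · have := congrArg (IsLocalization.lift (S := Localization.Away g) hu) h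
      rwa [IsLocalization.lift_eq, IsLocalization.lift_eq] at this
    · exact congrArg _ (Subtype.ext h)
  refine ⟨f.range, fun x hx => ?_, Groth.Agent.CILib.isGlobalCI_congr (AlgEquiv.ofInjective f hf) hgci⟩
  refine ⟨algebraMap A₀ _ ⟨x, Algebra.subset_adjoin hx⟩, ?_⟩
  exact IsLocalization.lift_eq _ _

end Groth.Agent.S9430
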