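import Groth.Statements.S9431
import Mathlib
import Groth.Agent.FieldExtLib.Separable

set_option autoImplicit false
universe u
open CAlg

namespace Groth.Agent.S9431

/-- For a separable (geometrically reduced) field extension K/k, every finite subset of K lies in a
k-subalgebra of K which is smooth over k; in particular K is a filtered colimit of smooth
k-algebras. -/
theorem result (k : Type u) [Field k]
    (K : Type u) [Field K] [Algebra k K] [Algebra.IsGeometricallyReduced k K] (E : Finset K) :
    ∃ A : Subalgebra k K, (↑E : Set K) ⊆ (A : Set K) ∧ Algebra.Smooth k A := by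
  classical
  let A0 := Algebra.adjoin k (E : Set K)
  haveI : Algebra.FiniteType k A0 := A0.fg_iff_finiteType.1 (Subalgebra.fg_adjoin_finset E)
  haveI : Algebra.FinitePresentation k A0 := Algebra.FinitePresentation.of_finiteType.1 inferInstance
  let φ : FractionRing A0 →ₐ[k] K := IsFractionRing.liftAlgHom (g := A0.val) Subtype.val_injective
  haveI := Algebra.IsGeometricallyReduced.of_injective φ φ.injective
  haveI hfs := Groth.Agent.FieldExtLib.formallySmooth_of_isGeometricallyReduced (k := k) (K := FractionRing A0) inferInstance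
  have hpc : (⊥ : Ideal A0).primeCompl = nonZeroDivisors A0 := by
    ext x
    rw [mem_nonZeroDivisors_iff_ne_zero, Ideal.primeCompl, Submonoid.mem_mk]
    simp
  haveI : IsLocalization (⊥ : Ideal A0).primeCompl (FractionRing A0) := IsLocalization.of_le (M := nonZeroDivisors A0) (S := FractionRing A0) _ hpc.ge fun r hr => IsLocalization.map_units (FractionRing A0) ⟨r, hpc ▸ hr⟩
  haveI : Algebra.IsSmoothAt k (⊥ : Ideal A0) :=
    Algebra.FormallySmooth.of_equiv ((IsLocalization.algEquiv (⊥ : Ideal A0).primeCompl (FractionRing A0)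
      (Localization.AtPrime (⊥ : Ideal A0))).restrictScalars k)
  obtain ⟨f, hf, hsm⟩ := Algebra.IsSmoothAt.exists_notMem_smooth k (⊥ : Ideal A0)
  have hf0 : (f : K) ≠ 0 := fun h => hf (Ideal.mem_bot.2 (Subtype.ext h))
  have hu : ∀ y : Submonoid.powers f, IsUnit (A0.val y.1) := fun y => by
    obtain ⟨n, hn⟩ := y.2
    rw [← hn, map_pow]
    exact (isUnit_iff_ne_zero.2 hf0).pow n
  let ψ : Localization.Away f →ₐ[k] K := IsLocalization.liftAlgHom (M := Submonoid.powers f) (f := A0.val) hu
  have hψ : Function.Injective ψ := (injective_iff_map_eq_zero ψ).2 fun x hx => by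
    obtain ⟨a, s, rfl⟩ := IsLocalization.exists_mk'_eq (Submonoid.powers f) x
    have : A0.val a = 0 := by
      have h2 : ψ (algebraMap A0 (Localization.Away f) a) = ψ (IsLocalization.mk' _ a s) * ψ (algebraMap A0 _ s.1) := by
        rw [← map_mul, IsLocalization.mk'_spec]
      rw [hx, zero_mul] at h2
      rwa [show ψ (algebraMap A0 (Localization.Away f) a) = A0.val a from IsLocalization.lift_eq _ a] at h2
    rw [show a = 0 from Subtype.ext this, IsLocalization.mk'_zero]
  refine ⟨ψ.range, fun x hx => ⟨algebraMap A0 _ ⟨x, Algebra.subset_adjoin hx⟩, IsLocalization.lift_eq _ _⟩, ?_⟩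
  exact Algebra.Smooth.of_equiv (AlgEquiv.ofInjective ψ hψ)

end Groth.Agent.S9431
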