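import Groth.Statements.S9433
import Mathlib
-- import your own Groth.Agent.* helpers here

set_option autoImplicit false
set_option linter.style.haveILetI false
universe u
open CAlg

namespace Groth.Agent.S9433

/-- Let R → S be a local homomorphism of local rings with S the localization of an étale R-algebra at a
prime, inducing an isomorphism of residue fields. Then for some t in the maximal ideal of R the maps
R/t^nR → S/t^nS are bijective for all n ≥ 1. -/
theorem result (R : Type u) [CommRing R] [IsLocalRing R] (T : Type u) [CommRing T] [Algebra R T]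
    [Algebra.Etale R T] (q : Ideal T) [q.IsPrime] (S : Type u) [CommRing S] [IsLocalRing S]
    [Algebra T S] [IsLocalization.AtPrime S q] [Algebra R S] [IsScalarTower R T S]
    [IsLocalHom (algebraMap R S)]
    (hres : Function.Bijective (IsLocalRing.ResidueField.map (algebraMap R S))) :
    ∃ t ∈ IsLocalRing.maximalIdeal R, ∀ n : ℕ, 1 ≤ n →
      Function.Bijective (Ideal.quotientMap ((Ideal.span {t ^ n}).map (algebraMap R S))
        (algebraMap R S) Ideal.le_comap_map) := by
  classical
  obtain ⟨f, hf, hstd⟩ := Algebra.IsEtaleAt.exists_isStandardEtale (R := R) (Q := q)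
  let Tf := Localization.Away f
  have P : StandardEtalePresentation R Tf := hstd.nonempty_standardEtalePresentation.some
  have hfu : IsUnit (algebraMap T S f) := IsLocalization.map_units S (⟨f, hf⟩ : q.primeCompl)
  let ι : Tf →ₐ[R] S :=
    { IsLocalization.Away.lift f hfu with
      commutes' := fun r => by
        show IsLocalization.Away.lift f hfu (algebraMap R Tf r) = _
        rw [IsScalarTower.algebraMap_apply R T Tf, IsLocalization.Away.lift_eq, ← IsScalarTower.algebraMap_apply] }
  have hιT : ∀ b : T, ι (algebraMap T Tf b) = algebraMap T S b := fun b => IsLocalization.Away.lift_eq f hfu b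
  have hext : ∀ {A : Type u} [CommRing A] [Algebra R A] (φ₁ φ₂ : Tf →ₐ[R] A), φ₁ P.x = φ₂ P.x → φ₁ = φ₂ := by
    intro A _ _ φ₁ φ₂ h
    have h1 : φ₁.comp (P.lift P.x P.hasMap) = φ₂.comp (P.lift P.x P.hasMap) :=
      StandardEtalePair.hom_ext (by simpa using h)
    apply AlgHom.ext
    intro z
    obtain ⟨w, rfl⟩ := P.lift_bijective.surjective z
    exact AlgHom.congr_fun h1 w
  let s := ι P.x
  have hs := P.hasMap.map ι
  let κ := IsLocalRing.ResidueField S
  obtain ⟨ā, hā⟩ := hres.2 (IsLocalRing.residue S s)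
  obtain ⟨a, rfl⟩ := IsLocalRing.residue_surjective ā
  rw [IsLocalRing.ResidueField.map_residue] at hā
  let res : S →ₐ[R] κ := { IsLocalRing.residue S with commutes' := fun _ => rfl }
  have hev : ∀ p : Polynomial R, res (Polynomial.aeval s p) = res (algebraMap R S (Polynomial.aeval a p)) := fun p => by
    rw [← Polynomial.aeval_algebraMap_apply,
      ← Polynomial.aeval_algHom_apply, ← Polynomial.aeval_algHom_apply, show res s = res (algebraMap R S a) from hā.symm]
  have hunit : ∀ p : Polynomial R, IsUnit (Polynomial.aeval s p) → IsUnit (Polynomial.aeval a p) := fun p hp => by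
    by_contra hn
    have h1 : algebraMap R S (Polynomial.aeval a p) ∈ IsLocalRing.maximalIdeal S :=
      (IsLocalRing.mem_maximalIdeal _).2 fun hu => hn (isUnit_of_map_unit _ _ hu)
    have h2 : res (Polynomial.aeval s p) = 0 := by rw [hev]; exact (IsLocalRing.residue_eq_zero_iff _).2 h1
    exact ((IsLocalRing.residue_eq_zero_iff _).1 h2 : _ ∈ IsLocalRing.maximalIdeal S) hp
  let t := Polynomial.aeval a P.f
  have ht : t ∈ IsLocalRing.maximalIdeal R := by
    refine (IsLocalRing.mem_maximalIdeal _).2 fun hu => ?_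
    have h1 : res (algebraMap R S t) = 0 := by rw [← hev, hs.1, map_zero]
    exact ((IsLocalRing.residue_eq_zero_iff _).1 h1 : _ ∈ IsLocalRing.maximalIdeal S) (hu.map _)
  refine ⟨t, ht, fun n hn => ?_⟩
  let I : Ideal R := Ideal.span {t ^ n}
  have hI : I ≠ ⊤ := fun h => by
    rw [Ideal.span_singleton_eq_top] at h
    exact ht ((isUnit_pow_iff (by omega)).1 h)
  haveI : Nontrivial (R ⧸ I) := Ideal.Quotient.nontrivial_iff.2 hI
  haveI : IsLocalRing (R ⧸ I) := .of_surjective' (Ideal.Quotient.mk I) Ideal.Quotient.mk_surjective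
  have hq : ∀ p : Polynomial R, Polynomial.aeval (Ideal.Quotient.mk I a) p = Ideal.Quotient.mk I (Polynomial.aeval a p) :=
    fun p => Polynomial.aeval_algHom_apply (Ideal.Quotient.mkₐ R I) a p
  obtain ⟨r, ⟨hr1, hr2⟩, -⟩ := Polynomial.existsUnique_nilpotent_sub_and_aeval_eq_zero (S := R ⧸ I) (P := P.f)
    (x := Ideal.Quotient.mk I a) (by
      refine ⟨n, ?_⟩
      rw [hq, ← map_pow, Ideal.Quotient.eq_zero_iff_mem]
      exact Ideal.subset_span rfl) (by
      rw [hq]
      exact (hunit _ hs.isUnit_derivative_f).map _)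
  have hP : P.HasMap r := ⟨hr2, by
    obtain ⟨d, hd⟩ := Polynomial.sub_dvd_eval_sub r (Ideal.Quotient.mk I a) (P.g.map (algebraMap R (R ⧸ I)))
    have hu : IsUnit (Polynomial.aeval (Ideal.Quotient.mk I a) P.g) := by rw [hq]; exact (hunit _ hs.2).map _
    rw [Polynomial.eval_map, Polynomial.eval_map, ← Polynomial.aeval_def, ← Polynomial.aeval_def, sub_eq_iff_eq_add] at hd
    rw [hd]
    have h9 : IsNilpotent ((r - Ideal.Quotient.mk I a) * d) := by
      refine (Commute.all _ _).isNilpotent_mul_right ?_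
      rw [← neg_sub]
      exact hr1.neg
    by_contra hn'
    have h10 : (r - Ideal.Quotient.mk I a) * d ∈ IsLocalRing.maximalIdeal (R ⧸ I) :=
      (IsLocalRing.mem_maximalIdeal _).2 h9.not_isUnit
    have h11 := sub_mem ((IsLocalRing.mem_maximalIdeal _).2 hn') h10
    rw [add_sub_cancel_left] at h11
    exact h11 hu⟩
  let ψ : Tf →ₐ[R] R ⧸ I := (P.P.lift r hP).comp P.equivRing.toAlgHom
  have hψx : ψ P.x = r := by simp [ψ]
  let J := Ideal.map (algebraMap R S) I
  have hJ : J ≤ IsLocalRing.maximalIdeal S := by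
    refine Ideal.map_le_iff_le_comap.2 ((Ideal.span_singleton_le_iff_mem _).2 ?_)
    exact (IsLocalRing.mem_maximalIdeal _).2 fun hu => ((IsLocalRing.mem_maximalIdeal _).1 (Ideal.pow_mem_of_mem _ ht n hn)) (isUnit_of_map_unit _ _ hu)
  haveI : Nontrivial (S ⧸ J) := Ideal.Quotient.nontrivial_iff.2 fun h => (IsLocalRing.maximalIdeal.isMaximal S).ne_top (top_le_iff.1 (h ▸ hJ))
  haveI : IsLocalRing (S ⧸ J) := .of_surjective' (Ideal.Quotient.mk J) Ideal.Quotient.mk_surjective
  let Q : R ⧸ I →ₐ[R] S ⧸ J := { Ideal.quotientMap J (algebraMap R S) Ideal.le_comap_map with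
    commutes' := fun x => rfl }
  let jκ : R ⧸ I →ₐ[R] κ := (Ideal.Quotient.liftₐ J res fun x hx => (IsLocalRing.residue_eq_zero_iff _).2 (hJ hx)).comp Q
  have hjr : jκ r = res s := by
    have h1 : IsNilpotent (jκ (Ideal.Quotient.mk I a) - jκ r) := by rw [← map_sub]; exact hr1.map jκ
    rw [show res s = jκ (Ideal.Quotient.mk I a) from hā.symm]
    exact (sub_eq_zero.1 h1.eq_zero).symm
  have hcomp : jκ.comp ψ = res.comp ι := hext _ _ (by rw [AlgHom.comp_apply, hψx, hjr]; rfl)
  have hψu : ∀ b : q.primeCompl, IsUnit (ψ (algebraMap T Tf b)) := fun b => by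
    by_contra hn'
    have h1 : jκ (ψ (algebraMap T Tf b)) ≠ 0 := by
      rw [← AlgHom.comp_apply, hcomp, AlgHom.comp_apply, hιT]
      exact fun h => (IsLocalRing.residue_eq_zero_iff _).1 h (IsLocalization.map_units S b)
    obtain ⟨c, hc⟩ := Ideal.Quotient.mk_surjective (I := I) (ψ (algebraMap T Tf b))
    refine h1 ?_
    rw [← hc]
    show res (algebraMap R S c) = 0
    refine (IsLocalRing.residue_eq_zero_iff _).2 ((IsLocalRing.mem_maximalIdeal _).2 fun hu => hn' ?_)
    rw [← hc]
    exact (isUnit_of_map_unit _ _ hu).map _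
  let χ : S →ₐ[R] R ⧸ I := IsLocalization.liftAlgHom (M := q.primeCompl) (f := ψ.comp (IsScalarTower.toAlgHom R T Tf)) hψu
  have hQχ : Q.comp χ = Ideal.Quotient.mkₐ R J := by
    have hx : Q r = Ideal.Quotient.mk J s := by
      have hρ := P.hasMap.map ((Ideal.Quotient.mkₐ R J).comp ι)
      let y := Q r - Ideal.Quotient.mk J s
      have hy : y ∈ IsLocalRing.maximalIdeal (S ⧸ J) := by
        refine (IsLocalRing.mem_maximalIdeal _).2 fun hu => ?_
        have h2 : Ideal.Quotient.liftₐ J res (fun x hx => (IsLocalRing.residue_eq_zero_iff _).2 (hJ hx)) y = 0 := by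
          rw [map_sub, sub_eq_zero]; exact hjr
        exact not_isUnit_zero (h2 ▸ hu.map (Ideal.Quotient.liftₐ J res (fun x hx => (IsLocalRing.residue_eq_zero_iff _).2 (hJ hx))))
      let pJ := P.f.map (algebraMap R (S ⧸ J))
      obtain ⟨k, hk⟩ := Polynomial.binomExpansion pJ (Ideal.Quotient.mk J s) y
      have e1 : pJ.eval (Ideal.Quotient.mk J s + y) = 0 := by
        rw [add_sub_cancel, Polynomial.eval_map, ← Polynomial.aeval_def, Polynomial.aeval_algHom_apply, hP.1, map_zero]
      have e2 : pJ.eval (Ideal.Quotient.mk J s) = 0 := by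
        rw [Polynomial.eval_map, ← Polynomial.aeval_def]; exact hρ.1
      have e3 : IsUnit (pJ.derivative.eval (Ideal.Quotient.mk J s) + k * y) := by
        have h3 : IsUnit (pJ.derivative.eval (Ideal.Quotient.mk J s)) := by
          rw [Polynomial.derivative_map, Polynomial.eval_map, ← Polynomial.aeval_def]; exact hρ.isUnit_derivative_f
        by_contra hn'
        have h4 := sub_mem ((IsLocalRing.mem_maximalIdeal _).2 hn') (Ideal.mul_mem_left _ k hy)
        rw [add_sub_cancel_right] at h4
        exact h4 h3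
      rw [e1, e2, zero_add] at hk
      have h5 : (pJ.derivative.eval (Ideal.Quotient.mk J s) + k * y) * y = 0 := by
        rw [hk]; ring
      exact sub_eq_zero.1 (e3.mul_right_eq_zero.1 h5)
    have h6 : Q.comp ψ = (Ideal.Quotient.mkₐ R J).comp ι := hext _ _ (by rw [AlgHom.comp_apply, hψx, hx]; rfl)
    refine IsLocalization.algHom_ext q.primeCompl ?_
    ext b
    show Q (χ (algebraMap T S b)) = Ideal.Quotient.mk J (algebraMap T S b)
    rw [show χ (algebraMap T S b) = ψ (algebraMap T Tf b) from IsLocalization.lift_eq hψu b, ← hιT]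
    exact AlgHom.congr_fun h6 _
  show Function.Bijective Q
  refine ⟨Function.HasLeftInverse.injective ⟨Ideal.Quotient.liftₐ J χ fun x hx => ?_, fun x => ?_⟩, fun y => ?_⟩
  · have h1 : Ideal.map (algebraMap R S) I ≤ RingHom.ker χ := by
      refine Ideal.map_le_iff_le_comap.2 ((Ideal.span_singleton_le_iff_mem _).2 ?_)
      show χ (algebraMap R S (t ^ n)) = 0
      rw [AlgHom.commutes, Ideal.Quotient.algebraMap_eq, Ideal.Quotient.eq_zero_iff_mem]
      exact Ideal.subset_span rfl
    exact h1 hx
  · obtain ⟨c, rfl⟩ := Ideal.Quotient.mk_surjective x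
    exact χ.commutes c
  · obtain ⟨z, rfl⟩ := Ideal.Quotient.mk_surjective y
    exact ⟨χ z, AlgHom.congr_fun hQχ z⟩

end Groth.Agent.S9433
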