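import Groth.Statements.S9439
import Mathlib
import Groth.Agent.RegLocal.Completion

set_option autoImplicit false
universe u
open CAlg

namespace Groth.Agent.S9439
/-- In a reduced quotient an associated prime is minimal. -/
theorem mem_of_min {C : Type u} [CommRing C] {I q P : Ideal C} [IsNoetherianRing C]
    (hIrad : I.IsRadical) (hq : q ∈ associatedPrimes C (C ⧸ I)) (hP : P.IsPrime) (hIP : I ≤ P)
    (hPq : P ≤ q) {c : C} (hc : c ∈ q) : c ∈ P := by
  obtain ⟨hqp, x, hx⟩ := hq
  obtain ⟨x, rfl⟩ := Ideal.Quotient.mk_surjective x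
  -- q annihilates x, and x lies outside some prime containing I
  have hmem : ∀ d ∈ q, d * x ∈ I := fun d hd => by
    rw [hx] at hd
    obtain ⟨n, hn⟩ := hd
    rw [Submodule.mem_colon_singleton, Submodule.mem_bot] at hn
    have h2 : d ^ n * x ∈ I := by
      rw [← Ideal.Quotient.eq_zero_iff_mem, map_mul]
      exact hn
    refine hIrad ⟨n + 1, ?_⟩
    rw [show (d * x) ^ (n + 1) = (d ^ n * x) * (d * x ^ n) by ring]
    exact I.mul_mem_right _ h2
  by_contra hcP
  have hxP : x ∈ P := (hP.mem_or_mem (hIP (hmem c hc))).resolve_left hcP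
  have hxI : x ∈ I := by
    refine hIrad ⟨2, ?_⟩
    rw [pow_two]
    exact hmem x (hPq hxP)
  refine hqp.ne_top ((Ideal.eq_top_iff_one q).mpr ?_)
  rw [hx]
  refine Ideal.le_radical ?_
  rw [Submodule.mem_colon_singleton, one_smul, Ideal.Quotient.eq_zero_iff_mem.mpr hxI]
  exact zero_mem _

/-- A Noetherian local ring whose maximal ideal is generated by a regular element is a domain. -/
theorem isDomain_of_maximalIdeal_eq_span {D : Type u} [CommRing D] [IsLocalRing D] [IsNoetherianRing D]
    (t : D) (ht : IsLocalRing.maximalIdeal D = Ideal.span {t}) (hreg : IsSMulRegular D t) : IsDomain D := by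
  have hdec : ∀ x : D, x ≠ 0 → ∃ (n : ℕ) (u : D), IsUnit u ∧ x = t ^ n * u := by
    intro x hx
    have h1 : x ∉ ⨅ n : ℕ, IsLocalRing.maximalIdeal D ^ n := by
      rw [Ideal.iInf_pow_eq_bot_of_isLocalRing _ (IsLocalRing.maximalIdeal.isMaximal D).ne_top]
      simpa using hx
    simp only [Ideal.mem_iInf, not_forall, ht, Ideal.span_singleton_pow, Ideal.mem_span_singleton] at h1
    classical
    obtain ⟨n, hn⟩ : ∃ n, Nat.find h1 = n + 1 := by
      refine Nat.exists_eq_succ_of_ne_zero fun h0 => ?_
      have := Nat.find_spec h1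
      rw [h0, pow_zero] at this
      exact this (one_dvd _)
    obtain ⟨u, rfl⟩ : t ^ n ∣ x := not_not.mp (Nat.find_min h1 (by omega))
    refine ⟨n, u, not_not.mp fun hu => Nat.find_spec h1 ?_, rfl⟩
    have hmem : u ∈ IsLocalRing.maximalIdeal D := (IsLocalRing.mem_maximalIdeal u).mpr hu
    rw [ht, Ideal.mem_span_singleton] at hmem
    rw [hn, pow_succ]
    exact mul_dvd_mul_left _ hmem
  haveI : NoZeroDivisors D := ⟨fun {a b} hab => by
    by_contra hcon
    push Not at hcon
    obtain ⟨n, u, hu, rfl⟩ := hdec a hcon.1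
    obtain ⟨m, v, hv, rfl⟩ := hdec b hcon.2
    have h0 : t ^ (n + m) • (u * v) = 0 := by rw [smul_eq_mul, ← hab, pow_add]; ring
    have h1 := ((hreg.pow (n + m)).right_eq_zero_of_smul h0)
    have h2 := hu.mul hv
    rw [h1] at h2
    exact not_isUnit_zero h2⟩
  exact NoZeroDivisors.to_isDomain D

/-- Above a codimension one regular prime with reduced fibre the localizations are discrete
valuation rings. -/
theorem dvr_of_flat {R C : Type u} [CommRing R] [CommRing C] [Algebra R C]
    [IsNoetherianRing C] [Module.Flat R C] (p : Ideal R) [p.IsPrime]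
    [IsDomain (Localization.AtPrime p)] [IsDiscreteValuationRing (Localization.AtPrime p)]
    (hp : IsReduced (C ⧸ p.map (algebraMap R C))) (q : Ideal C) [q.IsPrime]
    (hq : q ∈ associatedPrimes C (C ⧸ p.map (algebraMap R C))) :
    ∃ _ : IsDomain (Localization.AtPrime q), IsDiscreteValuationRing (Localization.AtPrime q) := by
  set I := p.map (algebraMap R C)
  have hIrad : I.IsRadical := Ideal.isRadical_iff_quotient_reduced I |>.mpr hp
  have hIq : I ≤ q := by
    have h := hq.annihilator_le
    rwa [Submodule.annihilator_top, Ideal.annihilator_quotient] at h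
  have hqmin : ∀ P : Ideal C, P.IsPrime → I ≤ P → P ≤ q → P = q := by
    intro P hP hIP hPq
    refine le_antisymm hPq fun c hc => ?_
    exact mem_of_min hIrad hq hP hIP hPq hc
  have hunder : q.under R = p := by
    haveI : (q.under R).IsPrime := inferInstance
    haveI : q.LiesOver (q.under R) := ⟨rfl⟩
    obtain ⟨P, hPq, hP, hPp⟩ := Ideal.exists_ideal_le_liesOver_of_le (R := R) (p := p)
      (q := q.under R) q (Ideal.map_le_iff_le_comap.mp hIq)
    have := hqmin P hP (Ideal.map_le_iff_le_comap.mpr hPp.over.le) hPq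
    rw [← this]
    exact hPp.over.symm
  haveI : q.LiesOver p := ⟨hunder.symm⟩
  let Rp := Localization.AtPrime p
  let D := Localization.AtPrime q
  letI := Localization.AtPrime.algebraOfLiesOver p q
  have hmap : (IsLocalRing.maximalIdeal Rp).map (algebraMap Rp D) = I.map (algebraMap C D) := by
    rw [← Localization.AtPrime.map_eq_maximalIdeal, Ideal.map_map, Ideal.map_map,
      ← IsScalarTower.algebraMap_eq, ← IsScalarTower.algebraMap_eq]
  have hmax : IsLocalRing.maximalIdeal D = I.map (algebraMap C D) := by
    refine le_antisymm ?_ ?_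
    · rw [← Localization.AtPrime.map_eq_maximalIdeal, Ideal.map_le_iff_le_comap]
      intro c hc
      by_contra hcon
      obtain ⟨P, hP, hle, hdis⟩ := Ideal.exists_le_prime_disjoint (I := I ⊔ ⊥)
        (S := Submonoid.powers c ⊔ q.primeCompl) (by
          rw [sup_bot_eq, Set.disjoint_right]
          intro z hz hzI
          obtain ⟨y, ⟨n, rfl⟩, z', hz', rfl⟩ := Submonoid.mem_sup.mp hz
          apply hcon
          rw [Ideal.mem_comap, IsLocalization.algebraMap_mem_map_algebraMap_iff q.primeCompl]
          refine ⟨z', hz', ?_⟩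
          have h2 : (z' * c) ^ (n + 1) ∈ I := by
            rw [show (z' * c) ^ (n + 1) = (c ^ n * z') * (z' ^ n * c) by ring]
            exact I.mul_mem_right _ hzI
          exact hIrad ⟨_, h2⟩)
      have hcP : c ∉ P := fun h => Set.disjoint_left.mp hdis h
        ((le_sup_left : Submonoid.powers c ≤ _) (Submonoid.mem_powers c))
      have hPq : P ≤ q := fun z hz => by
        by_contra hzq
        exact Set.disjoint_left.mp hdis hz ((le_sup_right : q.primeCompl ≤ _) hzq)
      exact hcP (hqmin P hP (le_sup_left.trans hle) hPq ▸ hc)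
    · rw [← Localization.AtPrime.map_eq_maximalIdeal]
      exact Ideal.map_mono hIq
  obtain ⟨w, hw⟩ := IsDiscreteValuationRing.exists_irreducible Rp
  have hspan : IsLocalRing.maximalIdeal D = Ideal.span {algebraMap Rp D w} := by
    rw [hmax, ← hmap, hw.maximalIdeal_eq, Ideal.map_span, Set.image_singleton]
  have hreg : IsSMulRegular D (algebraMap Rp D w) := by
    have h1 : IsSMulRegular Rp w := IsSMulRegular.of_ne_zero hw.ne_zero
    exact h1.of_flat
  haveI hdom := isDomain_of_maximalIdeal_eq_span _ hspan hreg
  refine ⟨hdom, ?_⟩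
  have hne : algebraMap Rp D w ≠ 0 := fun h0 =>
    one_ne_zero (hreg.right_eq_zero_of_smul (x := (1 : D)) (by rw [smul_eq_mul, h0, zero_mul]))
  have hfield : ¬ IsField D := fun hF => by
    rw [IsLocalRing.isField_iff_maximalIdeal_eq, hspan, Ideal.span_singleton_eq_bot] at hF
    exact hne hF
  have hpr : (IsLocalRing.maximalIdeal D).IsPrincipal := ⟨⟨algebraMap Rp D w, hspan⟩⟩
  exact ((IsDiscreteValuationRing.TFAE D hfield).out 4 0).mp hpr



/-- Let R be a Noetherian local ring, R^ its completion and p a prime with R_p a discrete valuation ring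
and with R^/pR^ reduced (p analytically unramified: the completion of R/p, which is R^/pR^, is
reduced). Then the localization of R^ at any associated prime of R^/pR^ is a discrete valuation
ring. -/
theorem result
    (R : Type u) [CommRing R] [IsLocalRing R] [IsNoetherianRing R] (p : Ideal R) [p.IsPrime]
    [IsDomain (Localization.AtPrime p)] [IsDiscreteValuationRing (Localization.AtPrime p)]
    (hp : IsReduced (AdicCompletion (IsLocalRing.maximalIdeal R) R ⧸
      p.map (algebraMap R (AdicCompletion (IsLocalRing.maximalIdeal R) R))))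
    (q : Ideal (AdicCompletion (IsLocalRing.maximalIdeal R) R)) [q.IsPrime]
    (hq : q ∈ associatedPrimes (AdicCompletion (IsLocalRing.maximalIdeal R) R)
      (AdicCompletion (IsLocalRing.maximalIdeal R) R ⧸
        p.map (algebraMap R (AdicCompletion (IsLocalRing.maximalIdeal R) R)))) :
    ∃ _ : IsDomain (Localization.AtPrime q), IsDiscreteValuationRing (Localization.AtPrime q) := by
  haveI : IsNoetherianRing (AdicCompletion (IsLocalRing.maximalIdeal R) R) := Groth.Agent.RegLocal.isNoetherianRing_completion _ _
  exact dvr_of_flat p hp q hq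

end Groth.Agent.S9439
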