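import Groth.Statements.S9440
import Groth.Agent.NagataLib.Completion
import Groth.Agent.NagataCompleteLib.Tate

set_option autoImplicit false
universe u
open CAlg

namespace Groth.Agent.S9440

open Groth.Agent.NagataLib
set_option backward.isDefEq.respectTransparency false
set_option maxHeartbeats 1000000


/-- (1) ⇔ (3): a Noetherian local ring R is a Nagata ring if and only if for every finite local
homomorphism R → S of local rings with S a domain, the completion of S is reduced. -/
theorem result (R : Type u) [CommRing R]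
    [IsLocalRing R] [IsNoetherianRing R] :
    CAlg.IsNagata R ↔ ∀ (S : Type u) [CommRing S] [IsDomain S] [IsLocalRing S] [Algebra R S]
      [IsLocalHom (algebraMap R S)] [Module.Finite R S],
      IsReduced (AdicCompletion (IsLocalRing.maximalIdeal S) S) := by
  classical
  constructor
  · intro hR S _ _ _ _ _ _
    haveI : IsNoetherianRing S := IsNoetherianRing.of_finite R S
    have hle : (IsLocalRing.maximalIdeal R).map (algebraMap R S) ≤ IsLocalRing.maximalIdeal S :=
      ((IsLocalRing.local_hom_TFAE (algebraMap R S)).out 0 2).1 (inferInstance : IsLocalHom (algebraMap R S))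
    haveI : IsArtinianRing (S ⧸ (IsLocalRing.maximalIdeal R).map (algebraMap R S)) := by
      let I := (IsLocalRing.maximalIdeal R).map (algebraMap R S)
      letI : Algebra (R ⧸ IsLocalRing.maximalIdeal R) (S ⧸ I) := (Ideal.quotientMap I (algebraMap R S) Ideal.le_comap_map).toAlgebra
      haveI : IsScalarTower R (R ⧸ IsLocalRing.maximalIdeal R) (S ⧸ I) := IsScalarTower.of_algebraMap_eq fun _ => rfl
      haveI : Module.Finite R (S ⧸ I) := Module.Finite.trans S _
      haveI : Module.Finite (R ⧸ IsLocalRing.maximalIdeal R) (S ⧸ I) := Module.Finite.of_restrictScalars_finite R _ _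
      letI := Ideal.Quotient.field (IsLocalRing.maximalIdeal R)
      exact IsArtinianRing.of_finite (R ⧸ IsLocalRing.maximalIdeal R) (S ⧸ I)
    obtain ⟨k, hk⟩ := IsArtinianRing.isNilpotent_jacobson_bot (R := S ⧸ (IsLocalRing.maximalIdeal R).map (algebraMap R S))
    refine isReduced_adicCompletion hR S _ hle (k := k) ?_
    have h1 : (IsLocalRing.maximalIdeal S).map (Ideal.Quotient.mk ((IsLocalRing.maximalIdeal R).map (algebraMap R S))) ≤
        (⊥ : Ideal (S ⧸ (IsLocalRing.maximalIdeal R).map (algebraMap R S))).jacobson := by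
      refine Ideal.map_le_iff_le_comap.2 fun c hc => ?_
      exact mem_jacobson_of_finite (Ideal.Quotient.mk _) (RingHom.Finite.of_surjective _ Ideal.Quotient.mk_surjective)
        (IsLocalRing.maximalIdeal_le_jacobson _ hc)
    have h2 := Ideal.pow_right_mono h1 k
    rw [← Ideal.map_pow, hk, Ideal.zero_eq_bot, le_bot_iff, Ideal.map_eq_bot_iff_le_ker, Ideal.mk_ker] at h2
    exact h2
  · intro h
    refine ⟨inferInstance, fun P _ => ?_⟩
    refine Groth.Agent.NagataCompleteLib.isN2_of_purelyInseparable (R ⧸ P) fun L _ _ _ _ _ _ => ?_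
    let K := FractionRing (R ⧸ P)
    letI : Algebra R L := ((algebraMap (R ⧸ P) L).comp (Ideal.Quotient.mk P)).toAlgebra
    haveI : IsScalarTower R (R ⧸ P) L := IsScalarTower.of_algebraMap_eq fun _ => rfl
    haveI : IsLocalRing (R ⧸ P) := IsLocalRing.of_surjective' _ Ideal.Quotient.mk_surjective
    have hinj : Function.Injective (algebraMap (R ⧸ P) L) := by
      rw [IsScalarTower.algebraMap_eq (R ⧸ P) K L]
      exact (algebraMap K L).injective.comp (IsFractionRing.injective (R ⧸ P) K)
    obtain ⟨q, hq⟩ := ExpChar.exists K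
    haveI : ExpChar L q := expChar_of_injective_algebraMap (algebraMap K L).injective q
    obtain ⟨s, b, hb⟩ := FiniteDimensional.exists_is_basis_integral (R ⧸ P) K L
    have hscale : ∀ i, ∃ (n : ℕ) (d : R ⧸ P), d ≠ 0 ∧ ∃ c, (algebraMap (R ⧸ P) L d * b i) ^ q ^ n = algebraMap (R ⧸ P) L c := by
      intro i
      obtain ⟨n, k, hk⟩ := IsPurelyInseparable.pow_mem K q (b i)
      obtain ⟨c, d, hd, hcd⟩ := IsFractionRing.div_surjective (R ⧸ P) k
      refine ⟨n, d, nonZeroDivisors.ne_zero hd, d ^ (q ^ n - 1) * c, ?_⟩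
      have hd0 : algebraMap (R ⧸ P) L d ≠ 0 := (map_ne_zero_iff _ hinj).2 (nonZeroDivisors.ne_zero hd)
      have hq1 : q ^ n = (q ^ n - 1) + 1 := (Nat.succ_pred_eq_of_pos (pow_pos (expChar_pos K q) n)).symm
      rw [mul_pow, ← hk, ← hcd, map_div₀, ← IsScalarTower.algebraMap_apply, ← IsScalarTower.algebraMap_apply,
        map_mul, map_pow]
      conv_lhs => rw [hq1, pow_succ, mul_assoc, mul_div_cancel₀ _ hd0]
    choose n d hd c hc using hscale
    let g : s → L := fun i => algebraMap (R ⧸ P) L (d i) * b i
    let S : Subalgebra (R ⧸ P) L := Algebra.adjoin (R ⧸ P) (Set.range g)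
    haveI : Module.Finite (R ⧸ P) S := Module.Finite.iff_fg.2
      (fg_adjoin_of_finite (Set.finite_range g) (by rintro _ ⟨i, rfl⟩; exact isIntegral_algebraMap.mul (hb i)))
    haveI : IsNoetherianRing S := IsNoetherianRing.of_finite (R ⧸ P) S
    have hpow : ∀ x ∈ S, ∃ (N : ℕ) (r : R ⧸ P), x ^ q ^ N = algebraMap (R ⧸ P) L r := by
      intro x hx
      induction hx using Algebra.adjoin_induction with
      | mem x hx =>
        obtain ⟨i, rfl⟩ := hx
        exact ⟨n i, c i, hc i⟩
      | algebraMap r => exact ⟨0, r, by simp⟩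
      | add x y _ _ hx hy =>
        obtain ⟨N, r, hr⟩ := hx
        obtain ⟨M, t, ht⟩ := hy
        refine ⟨N + M, r ^ q ^ M + t ^ q ^ N, ?_⟩
        rw [add_pow_expChar_pow, map_add, map_pow, map_pow, ← hr, ← ht, ← pow_mul, ← pow_mul, ← pow_add, ← pow_add,
          add_comm M N]
      | mul x y _ _ hx hy =>
        obtain ⟨N, r, hr⟩ := hx
        obtain ⟨M, t, ht⟩ := hy
        refine ⟨N + M, r ^ q ^ M * t ^ q ^ N, ?_⟩
        rw [mul_pow, map_mul, map_pow, map_pow, ← hr, ← ht, ← pow_mul, ← pow_mul, ← pow_add, ← pow_add, add_comm M N]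
    haveI : IsLocalRing S := IsLocalRing.of_isUnit_or_isUnit_one_sub_self fun x => by
      obtain ⟨N, r, hr⟩ := hpow x x.2
      have hq0 : q ^ N ≠ 0 := pow_ne_zero _ (expChar_pos K q).ne'
      rcases IsLocalRing.isUnit_or_isUnit_one_sub_self r with hu | hu
      · refine Or.inl ((isUnit_pow_iff hq0).1 ?_)
        rw [show x ^ q ^ N = algebraMap (R ⧸ P) S r from Subtype.ext hr]
        exact hu.map _
      · refine Or.inr ((isUnit_pow_iff hq0).1 ?_)
        rw [show (1 - x) ^ q ^ N = algebraMap (R ⧸ P) S (1 - r) from Subtype.ext (by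
          show (1 - (x : L)) ^ q ^ N = algebraMap (R ⧸ P) L (1 - r)
          rw [sub_pow_expChar_pow, one_pow, hr, map_sub, map_one])]
        exact hu.map _
    haveI : Module.Finite R S := Module.Finite.trans (R ⧸ P) S
    have hinjS : Function.Injective (algebraMap (R ⧸ P) S) := fun a a' h => hinj (congrArg Subtype.val h)
    haveI : IsLocalHom (algebraMap R S) := ⟨fun r hr => by
      haveI : FaithfulSMul (R ⧸ P) S := (faithfulSMul_iff_algebraMap_injective _ _).2 hinjS
      have h1 : IsUnit (algebraMap (R ⧸ P) S (Ideal.Quotient.mk P r)) := hr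
      have h2 : IsUnit (Ideal.Quotient.mk P r) := IsLocalHom.map_nonunit _ h1
      haveI : IsLocalHom (Ideal.Quotient.mk P) := IsLocalHom.of_surjective _ Ideal.Quotient.mk_surjective
      exact IsLocalHom.map_nonunit r h2⟩
    haveI := h S
    have hN1 : CAlg.IsN1 S := isN1_of_isReduced_completion
    haveI : IsFractionRing S L := IsFractionRing.of_field S L fun z => by
      have hz : z ∈ Submodule.span K (Set.range g) := by
        have : Submodule.span K (Set.range b) ≤ Submodule.span K (Set.range g) := by
          rw [Submodule.span_le]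
          rintro _ ⟨i, rfl⟩
          have h1 : b i = (algebraMap (R ⧸ P) K (d i))⁻¹ • g i := by
            have hd0 : algebraMap (R ⧸ P) L (d i) ≠ 0 := (map_ne_zero_iff _ hinj).2 (hd i)
            rw [Algebra.smul_def, map_inv₀, ← IsScalarTower.algebraMap_apply, inv_mul_cancel_left₀ hd0]
          rw [h1]
          exact Submodule.smul_mem _ _ (Submodule.subset_span ⟨i, rfl⟩)
        exact this (by rw [b.span_eq]; trivial)
      induction hz using Submodule.span_induction with
      | mem z hz => exact ⟨⟨z, Algebra.subset_adjoin hz⟩, 1, by rw [map_one, div_one]; rfl⟩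
      | zero => exact ⟨0, 1, by rw [map_zero, zero_div]⟩
      | add u v _ _ hu hv =>
        obtain ⟨a, a', rfl⟩ := hu
        obtain ⟨e, e', rfl⟩ := hv
        by_cases ha : (algebraMap S L a') = 0
        · exact ⟨e, e', by rw [ha, div_zero, zero_add]⟩
        by_cases he : (algebraMap S L e') = 0
        · exact ⟨a, a', by rw [he, div_zero, add_zero]⟩
        exact ⟨a * e' + a' * e, a' * e', by rw [map_add, map_mul, map_mul, map_mul, div_add_div _ _ ha he]⟩
      | smul k u _ hu =>
        obtain ⟨a, a', rfl⟩ := hu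
        obtain ⟨x, y, hy, rfl⟩ := IsFractionRing.div_surjective (R ⧸ P) k
        refine ⟨algebraMap (R ⧸ P) S x * a, algebraMap (R ⧸ P) S y * a', ?_⟩
        rw [Algebra.smul_def, map_div₀, map_mul, map_mul, ← IsScalarTower.algebraMap_apply,
          ← IsScalarTower.algebraMap_apply, ← IsScalarTower.algebraMap_apply, ← IsScalarTower.algebraMap_apply,
          div_mul_div_comm]
    haveI : Module.Finite S (integralClosure S L) := Groth.Agent.N2Lib.finite_of_isN1 hN1 L
    haveI : Module.Finite (R ⧸ P) (integralClosure S L) := Module.Finite.trans S _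
    haveI : IsNoetherian (R ⧸ P) (integralClosure S L) := isNoetherian_of_isNoetherianRing_of_finite _ _
    let ι : integralClosure (R ⧸ P) L →ₗ[R ⧸ P] integralClosure S L :=
      { toFun := fun y => ⟨y.1, y.2.tower_top⟩, map_add' := fun _ _ => rfl, map_smul' := fun _ _ => rfl }
    exact Module.Finite.of_injective ι fun a a' h => Subtype.ext (congrArg Subtype.val h :)

end Groth.Agent.S9440
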