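import Groth.Statements.S9441
import Groth.Agent.CILib.JacTensor
import Groth.Agent.CILib.RelGCISyntomic
import Groth.Agent.S2463
import Groth.Agent.SMT.Rank

set_option autoImplicit false
universe u
open Synt

set_option backward.isDefEq.respectTransparency false

namespace Groth.Agent.S9441

open TensorProduct KaehlerDifferential

theorem injective_conormal_iff_minor {R P C κ : Type u} [CommRing R] [CommRing P] [CommRing C] [Field κ]
    [Algebra R P] [Algebra P C] [Algebra P κ] [Algebra C κ] [IsScalarTower P C κ]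
    (hsurj : Function.Surjective (algebraMap P C)) {n c : ℕ}
    (b : Module.Basis (Fin n) P Ω[P⁄R]) (f : Fin c → P) (hf : ∀ j, f j ∈ RingHom.ker (algebraMap P C))
    (hli : LinearIndependent (P ⧸ RingHom.ker (algebraMap P C)) fun j => (RingHom.ker (algebraMap P C)).toCotangent ⟨f j, hf j⟩)
    (hsp : Submodule.span P (Set.range fun j => (RingHom.ker (algebraMap P C)).toCotangent ⟨f j, hf j⟩) = ⊤) :
    Function.Injective ((kerCotangentToTensor R P C).lTensor κ) ↔
      ∃ I : Fin c ↪ Fin n, algebraMap P κ (Matrix.det (Matrix.of fun j i => b.repr (D R P (f j)) (I i))) ≠ 0 := by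
  classical
  set J := RingHom.ker (algebraMap P C) with hJ
  let ψ : (P ⧸ J) →+* C := Ideal.Quotient.lift J (algebraMap P C) fun a ha => ha
  let θ : (P ⧸ J) ≃+* C := RingHom.quotientKerEquivOfSurjective hsurj
  letI : Algebra (P ⧸ J) κ := ((algebraMap C κ).comp θ.toRingHom).toAlgebra
  haveI : IsScalarTower P (P ⧸ J) κ := IsScalarTower.of_algebraMap_eq fun a => by
    show algebraMap P κ a = algebraMap C κ (θ (Ideal.Quotient.mk J a))
    rw [IsScalarTower.algebraMap_apply P C κ]
    rfl
  let bJ : Module.Basis (Fin c) (P ⧸ J) J.Cotangent := Module.Basis.mk hli (by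
    rintro x -
    exact Submodule.span_subset_span P (P ⧸ J) _ (hsp ▸ Submodule.mem_top))
  obtain ⟨e₁, he₁⟩ := Groth.Agent.CILib.exists_coord_equiv (P := P) (C := P ⧸ J) (κ := κ) Ideal.Quotient.mk_surjective bJ
  obtain ⟨e₂, he₂⟩ := Groth.Agent.CILib.exists_coord_equiv (P := P) (C := C) (κ := κ) hsurj (b.baseChange C)
  let M : Matrix (Fin c) (Fin n) κ := Matrix.of fun j i => algebraMap P κ (b.repr (D R P (f j)) i)
  let L := (kerCotangentToTensor R P C).lTensor κ
  have hcomm : ∀ v, L (e₁ v) = e₂ (Matrix.vecMul v M) := by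
    intro v
    rw [he₁, he₂, map_sum]
    have h1 : ∀ j, L (v j ⊗ₜ[P] bJ j) = ∑ i, (v j * M j i) ⊗ₜ[P] (b.baseChange C i) := by
      intro j
      rw [show L (v j ⊗ₜ[P] bJ j) = v j ⊗ₜ[P] kerCotangentToTensor R P C (bJ j) from LinearMap.lTensor_tmul _ _ _ _,
        Module.Basis.mk_apply, kerCotangentToTensor_toCotangent]
      show v j ⊗ₜ[P] ((1 : C) ⊗ₜ[P] D R P (f j)) = _
      conv_lhs => rw [← b.sum_repr (D R P (f j)), TensorProduct.tmul_sum, TensorProduct.tmul_sum]
      refine Finset.sum_congr rfl fun i _ => ?_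
      rw [TensorProduct.tmul_smul, TensorProduct.tmul_smul, TensorProduct.smul_tmul', Algebra.smul_def, mul_comm,
        Module.Basis.baseChange_apply]
      rfl
    simp only [h1]
    rw [Finset.sum_comm]
    refine Finset.sum_congr rfl fun i _ => ?_
    rw [← TensorProduct.sum_tmul]
    rfl
  have hinj : Function.Injective L ↔ Function.Injective fun v => Matrix.vecMul v M := by
    constructor
    · intro h v w hvw
      exact e₁.injective (h (by rw [hcomm, hcomm]; exact congrArg e₂ hvw))
    · intro h x y hxy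
      obtain ⟨v, rfl⟩ := e₁.surjective x
      obtain ⟨w, rfl⟩ := e₁.surjective y
      rw [hcomm, hcomm] at hxy
      exact congrArg e₁ (h (e₂.injective hxy))
  have hdet : ∀ I : Fin c ↪ Fin n,
      algebraMap P κ (Matrix.det (Matrix.of fun j i => b.repr (D R P (f j)) (I i))) = Matrix.det (M.submatrix id I) := by
    intro I
    rw [RingHom.map_det]
    rfl
  rw [hinj, Matrix.vecMul_injective_iff]
  constructor
  · intro h
    obtain ⟨θ', hθ'⟩ := Groth.Agent.SMT.exists_minor_ne_zero M.transpose (by rwa [Matrix.transpose_transpose])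
    refine ⟨⟨θ'.1, θ'.2.injective⟩, ?_⟩
    rw [hdet, ← Matrix.det_transpose, Matrix.transpose_submatrix]
    exact hθ'
  · rintro ⟨I, hI⟩
    rw [hdet] at hI
    rw [← Matrix.vecMul_injective_iff]
    intro v w hvw
    have hu : Function.Injective fun v => Matrix.vecMul v (M.submatrix id I) :=
      Matrix.vecMul_injective_iff_isUnit.2 ((Matrix.isUnit_iff_isUnit_det _).2 (isUnit_iff_ne_zero.2 hI))
    refine hu ?_
    funext i
    exact congrFun hvw (I i)


/-- For a relative global complete intersection S = R[x_1, …, x_n]/(f_1, …, f_c) and a prime q of S, the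
map R → S is smooth at q if and only if some c × c minor of the Jacobian matrix (∂f_j/∂x_i), taken
on c distinct variables, has image outside q. -/
theorem result (R : Type u) [CommRing R] (n c : ℕ)
    (F : Fin c → MvPolynomial (Fin n) R) (hF : Synt.IsRelGCI R n c F)
    (q : Ideal (Synt.RelGCIRing R n c F)) [q.IsPrime] :
    Algebra.IsSmoothAt R q ↔ ∃ I : Fin c ↪ Fin n,
      Ideal.Quotient.mk (Ideal.span (Set.range F))
        (Matrix.det (Matrix.of fun j i => MvPolynomial.pderiv (I i) (F j))) ∉ q := by
  classical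
  have hk : RingHom.ker (algebraMap (MvPolynomial (Fin n) R) (Synt.RelGCIRing R n c F)) = Ideal.span (Set.range F) :=
    Ideal.mk_ker
  have hf : ∀ j, F j ∈ RingHom.ker (algebraMap (MvPolynomial (Fin n) R) (Synt.RelGCIRing R n c F)) :=
    fun j => hk.symm ▸ Ideal.subset_span ⟨j, rfl⟩
  haveI : Module.Finite (MvPolynomial (Fin n) R)
      (RingHom.ker (algebraMap (MvPolynomial (Fin n) R) (Synt.RelGCIRing R n c F))).Cotangent := by
    haveI : Module.Finite (MvPolynomial (Fin n) R)
        (RingHom.ker (algebraMap (MvPolynomial (Fin n) R) (Synt.RelGCIRing R n c F))) :=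
      Module.Finite.of_fg (by rw [hk]; exact ⟨Finset.univ.image F, by simp⟩)
    exact Module.Finite.of_surjective _ (Ideal.toCotangent_surjective _)
  have hli : LinearIndependent (MvPolynomial (Fin n) R ⧸ RingHom.ker (algebraMap (MvPolynomial (Fin n) R) (Synt.RelGCIRing R n c F)))
      fun j => (RingHom.ker (algebraMap (MvPolynomial (Fin n) R) (Synt.RelGCIRing R n c F))).toCotangent ⟨F j, hf j⟩ := by
    revert hf
    rw [hk]
    intro hf
    exact Groth.Agent.CILib.linearIndependent_cotangent F hF
  have hsp : Submodule.span (MvPolynomial (Fin n) R) (Set.range fun j =>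
      (RingHom.ker (algebraMap (MvPolynomial (Fin n) R) (Synt.RelGCIRing R n c F))).toCotangent ⟨F j, hf j⟩) = ⊤ := by
    revert hf
    rw [hk]
    intro _ hf
    exact Groth.Agent.QRegLib.span_toCotangent_eq_top F (Ideal.span (Set.range F)) rfl
  have h12 := (Groth.Agent.S2463.result (A := R) (B := MvPolynomial (Fin n) R) Ideal.Quotient.mk_surjective q).out 0 1
  show Algebra.FormallySmooth R (Localization.AtPrime q) ↔ _
  rw [h12, injective_conormal_iff_minor (R := R) (P := MvPolynomial (Fin n) R) (κ := q.ResidueField)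
    Ideal.Quotient.mk_surjective (KaehlerDifferential.mvPolynomialBasis R (Fin n)) F hf hli hsp]
  refine exists_congr fun I => ?_
  rw [IsScalarTower.algebraMap_apply (MvPolynomial (Fin n) R) (Synt.RelGCIRing R n c F) q.ResidueField, ne_eq,
    Ideal.algebraMap_residueField_eq_zero]
  simp only [KaehlerDifferential.mvPolynomialBasis_repr_apply]
  rfl

end Groth.Agent.S9441
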