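import Groth.Statements.S9445
import Mathlib

set_option autoImplicit false
universe u
open CAlg

namespace Groth.Agent.S9445
open TensorProduct in
theorem Helper.key (R : Type u) [CommRing R]
    (S : Type u) [CommRing S] [Algebra R S] (S' : Type u) [CommRing S'] [Algebra R S']
    [Algebra S S'] [IsScalarTower R S S'] [Algebra.FormallyEtale S S'] (k : ℕ) :
    Function.Bijective (Ideal.quotientMap (KaehlerDifferential.ideal R S' ^ (k + 1))
      (Algebra.TensorProduct.map (AlgHom.id S' S') (IsScalarTower.toAlgHom R S S')).toRingHom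
      (Ideal.le_comap_pow
        (Algebra.TensorProduct.map (AlgHom.id S' S') (IsScalarTower.toAlgHom R S S')).toRingHom
        (K := KaehlerDifferential.ideal R S') (k + 1))) := by
  classical
  set φ : S' ⊗[R] S →+* S' ⊗[R] S' :=
    (Algebra.TensorProduct.map (AlgHom.id S' S') (IsScalarTower.toAlgHom R S S')).toRingHom with hφdef
  have hφ : ∀ (a : S') (s : S), φ (a ⊗ₜ[R] s) = a ⊗ₜ[R] algebraMap S S' s := fun a s => by
    simp [hφdef]
  set J : Ideal (S' ⊗[R] S') := KaehlerDifferential.ideal R S' with hJdef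
  set I : Ideal (S' ⊗[R] S) := Ideal.comap φ J with hIdef
  set f : _ ⧸ I ^ (k + 1) →+* _ := Ideal.quotientMap (J ^ (k + 1)) φ (Ideal.le_comap_pow φ (K := J) (k + 1)) with hfdef
  let μ : S' ⊗[R] S' →+* S' := (Algebra.TensorProduct.lmul' R : S' ⊗[R] S' →ₐ[R] S').toRingHom
  have hμ : ∀ a b : S', μ (a ⊗ₜ[R] b) = a * b := fun a b => Algebra.TensorProduct.lmul'_apply_tmul a b
  have hJ : ∀ x, x ∈ J ↔ μ x = 0 := fun x => RingHom.mem_ker
  -- the source quotient
  let mkP := Ideal.Quotient.mk (I ^ (k + 1))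
  let mkQ := Ideal.Quotient.mk (J ^ (k + 1))
  have hfmk : ∀ x, f (mkP x) = mkQ (φ x) := fun x => by
    rw [hfdef]; exact Ideal.quotientMap_mk (f := φ) (H := Ideal.le_comap_pow φ (K := J) (k + 1))
  let π : (S' ⊗[R] S) ⧸ I ^ (k + 1) →+* S' := Ideal.Quotient.lift (I ^ (k + 1)) (μ.comp φ) (by
    intro x hx
    have : x ∈ I := Ideal.pow_le_self (Nat.succ_ne_zero k) hx
    exact (hJ _).1 this)
  have hπmk : ∀ x, π (mkP x) = μ (φ x) := fun x => Ideal.Quotient.lift_mk _ _ _
  letI algP : Algebra S ((S' ⊗[R] S) ⧸ I ^ (k + 1)) :=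
    (mkP.comp (Algebra.TensorProduct.includeRight : S →ₐ[R] S' ⊗[R] S).toRingHom).toAlgebra
  have halgP : ∀ s : S, algebraMap S ((S' ⊗[R] S) ⧸ I ^ (k + 1)) s = mkP ((1 : S') ⊗ₜ[R] s) :=
    fun s => rfl
  let πS : ((S' ⊗[R] S) ⧸ I ^ (k + 1)) →ₐ[S] S' :=
    { π with
      commutes' := fun s => by
        show π (algebraMap S _ s) = _
        rw [halgP, hπmk, hφ, hμ, one_mul] }
  have hπs : Function.Surjective πS := fun a => ⟨mkP (a ⊗ₜ[R] (1 : S)), by
    show π (mkP _) = a
    rw [hπmk, hφ, hμ, map_one, mul_one]⟩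
  have hker : RingHom.ker π = Ideal.map mkP I := by
    refine le_antisymm (fun x hx => ?_) (Ideal.map_le_iff_le_comap.2 fun x hx => ?_)
    · obtain ⟨y, rfl⟩ := Ideal.Quotient.mk_surjective x
      exact Ideal.mem_map_of_mem _ ((hJ _).2 (by rw [← hπmk]; exact hx))
    · exact RingHom.mem_ker.2 (by rw [hπmk]; exact (hJ _).1 hx)
  have hkerpow : RingHom.ker π ^ (k + 1) = ⊥ := by
    rw [hker, ← Ideal.map_pow, Ideal.map_quotient_self]
  have hnil : IsNilpotent (RingHom.ker (πS : ((S' ⊗[R] S) ⧸ I ^ (k + 1)) →+* S')) := ⟨k + 1, hkerpow⟩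
  let χ := Algebra.FormallySmooth.liftOfSurjective (AlgHom.id S S') πS hπs hnil
  have hχ : ∀ b, π (χ b) = b := fun b =>
    Algebra.FormallySmooth.liftOfSurjective_apply (AlgHom.id S S') πS hπs hnil b
  have hχalg : ∀ s : S, χ (algebraMap S S' s) = mkP ((1 : S') ⊗ₜ[R] s) := fun s => by
    rw [χ.commutes, halgP]
  let χR : S' →ₐ[R] (S' ⊗[R] S) ⧸ I ^ (k + 1) :=
    { (χ : S' →+* (S' ⊗[R] S) ⧸ I ^ (k + 1)) with
      commutes' := fun r => by
        show χ (algebraMap R S' r) = _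
        rw [IsScalarTower.algebraMap_apply R S S', hχalg,
          ← Algebra.TensorProduct.algebraMap_apply']
        rfl }
  let α : S' →ₐ[R] (S' ⊗[R] S) ⧸ I ^ (k + 1) :=
    (Ideal.Quotient.mkₐ R (I ^ (k + 1))).comp Algebra.TensorProduct.includeLeft
  let g := Algebra.TensorProduct.lift α χR (fun _ _ => Commute.all _ _)
  have hg : ∀ a b : S', g (a ⊗ₜ[R] b) = mkP (a ⊗ₜ[R] (1 : S)) * χ b := fun a b =>
    Algebra.TensorProduct.lift_tmul _ _ _ a b
  have hπg : ∀ x, π (g x) = μ x := by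
    intro x
    induction x using TensorProduct.induction_on with
    | zero => simp only [map_zero]
    | tmul a b => rw [hg, map_mul, hχ, hπmk, hφ, hμ, hμ, map_one, mul_one]
    | add x y hx hy => simp only [map_add, hx, hy]
  let G : (S' ⊗[R] S') ⧸ J ^ (k + 1) →+* (S' ⊗[R] S) ⧸ I ^ (k + 1) :=
    Ideal.Quotient.lift (J ^ (k + 1)) g.toRingHom (by
      intro x hx
      have h1 : g.toRingHom x ∈ RingHom.ker π ^ (k + 1) := by
        have h2 : Ideal.map g.toRingHom (J ^ (k + 1)) ≤ RingHom.ker π ^ (k + 1) := by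
          rw [Ideal.map_pow]
          refine Ideal.pow_right_mono (Ideal.map_le_iff_le_comap.2 fun y hy => ?_) _
          exact RingHom.mem_ker.2 ((hπg y).trans ((hJ y).1 hy))
        exact h2 (Ideal.mem_map_of_mem _ hx)
      rw [hkerpow] at h1
      exact h1)
  have hG : ∀ x, G (mkQ x) = g x := fun x => Ideal.Quotient.lift_mk _ _ _
  -- uniqueness in the target
  let ρ : (S' ⊗[R] S') ⧸ J ^ (k + 1) →+* S' := Ideal.Quotient.lift (J ^ (k + 1)) μ (by
    intro x hx
    exact (hJ _).1 (Ideal.pow_le_self (Nat.succ_ne_zero k) hx))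
  have hρ : ∀ x, ρ (mkQ x) = μ x := fun x => Ideal.Quotient.lift_mk _ _ _
  have hρnil : IsNilpotent (RingHom.ker ρ) := by
    refine ⟨k + 1, ?_⟩
    have : RingHom.ker ρ = Ideal.map mkQ J := by
      refine le_antisymm (fun x hx => ?_) (Ideal.map_le_iff_le_comap.2 fun x hx => ?_)
      · obtain ⟨y, rfl⟩ := Ideal.Quotient.mk_surjective x
        exact Ideal.mem_map_of_mem _ ((hJ _).2 (by rw [← hρ]; exact hx))
      · exact RingHom.mem_ker.2 (by rw [hρ]; exact (hJ _).1 hx)
    rw [this, ← Ideal.map_pow, Ideal.map_quotient_self]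
    rfl
  letI algQ : Algebra S ((S' ⊗[R] S') ⧸ J ^ (k + 1)) :=
    (f.comp (algebraMap S ((S' ⊗[R] S) ⧸ I ^ (k + 1)))).toAlgebra
  have halgQ : ∀ s : S, algebraMap S ((S' ⊗[R] S') ⧸ J ^ (k + 1)) s
      = mkQ ((1 : S') ⊗ₜ[R] algebraMap S S' s) := fun s => by
    show f (algebraMap S ((S' ⊗[R] S) ⧸ I ^ (k + 1)) s) = _
    rw [halgP, hfmk, hφ]
  let ι₁ : S' →ₐ[S] (S' ⊗[R] S') ⧸ J ^ (k + 1) :=
    { mkQ.comp (Algebra.TensorProduct.includeRight : S' →ₐ[R] S' ⊗[R] S').toRingHom with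
      commutes' := fun s => (halgQ s).symm }
  let ι₂ : S' →ₐ[S] (S' ⊗[R] S') ⧸ J ^ (k + 1) :=
    { f.comp (χ : S' →+* _) with
      commutes' := fun s => by
        show f (χ (algebraMap S S' s)) = _
        rw [hχalg, halgQ, hfmk, hφ] }
  have hρf : ∀ x, ρ (f x) = π x := by
    intro x
    obtain ⟨y, rfl⟩ := Ideal.Quotient.mk_surjective x
    rw [hfmk, hρ, hπmk]
  have heq : ι₁ = ι₂ := by
    refine Algebra.FormallyUnramified.ext' ρ hρnil ι₁ ι₂ fun x => ?_
    show ρ (mkQ ((1 : S') ⊗ₜ[R] x)) = ρ (f (χ x))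
    rw [hρ, hρf, hχ, hμ, one_mul]
  have hfχ : ∀ b, f (χ b) = mkQ ((1 : S') ⊗ₜ[R] b) := fun b =>
    (AlgHom.congr_fun heq b).symm
  have h1 : ∀ x, G (f x) = x := by
    intro x
    obtain ⟨y, rfl⟩ := Ideal.Quotient.mk_surjective x
    rw [hfmk, hG]
    induction y using TensorProduct.induction_on with
    | zero => simp only [map_zero]
    | tmul a s =>
      rw [hφ, hg, hχalg, ← map_mul, Algebra.TensorProduct.tmul_mul_tmul, mul_one, one_mul]
    | add x y hx hy => simp only [map_add, hx, hy]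
  have h2 : ∀ x, f (G x) = x := by
    intro x
    obtain ⟨y, rfl⟩ := Ideal.Quotient.mk_surjective x
    rw [hG]
    induction y using TensorProduct.induction_on with
    | zero => simp only [map_zero]
    | tmul a b =>
      rw [hg, map_mul, hfmk, hφ, hfχ, map_one, ← map_mul,
        Algebra.TensorProduct.tmul_mul_tmul, mul_one, one_mul]
    | add x y hx hy => simp only [map_add, hx, hy]
  exact ⟨fun x y h => by rw [← h1 x, ← h1 y, h], fun x => ⟨G x, h2 x⟩⟩


open TensorProduct in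
/-- For ring maps R → S → S' with S → S' formally étale and k ≥ 0, let J' ⊆ S' ⊗_R S' be the kernel of
multiplication and I ⊆ S' ⊗_R S its preimage under the map induced by S → S' (I is the kernel of S'
⊗_R S → S', and (S' ⊗_R S)/I^{k+1} is S' ⊗_S P^k_{S/R}); then (S' ⊗_R S)/I^{k+1} → (S' ⊗_R
S')/J'^{k+1} is bijective. (The consequence S' ⊗_S Ω_{S/R} ≅ Ω_{S'/R} is Mathlib's
KaehlerDifferential.isBaseChange_of_formallyEtale.) -/
theorem result (R : Type u) [CommRing R]
    (S : Type u) [CommRing S] [Algebra R S] (S' : Type u) [CommRing S'] [Algebra R S']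
    [Algebra S S'] [IsScalarTower R S S'] [Algebra.FormallyEtale S S'] (k : ℕ) :
    Function.Bijective (Ideal.quotientMap (KaehlerDifferential.ideal R S' ^ (k + 1))
      (Algebra.TensorProduct.map (AlgHom.id S' S') (IsScalarTower.toAlgHom R S S')).toRingHom
      (Ideal.le_comap_pow
        (Algebra.TensorProduct.map (AlgHom.id S' S') (IsScalarTower.toAlgHom R S S')).toRingHom
        (K := KaehlerDifferential.ideal R S') (k + 1))) := by
  refine Helper.key R S S' k

end Groth.Agent.S9445
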