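import Groth.Statements.S9446
import Mathlib

set_option autoImplicit false
universe u
open CAlg

namespace Groth.Agent.S9446
open TensorProduct

/-- Tensor relations over an algebra descend to a finitely presented algebra. -/
theorem exists_fp_stage {R S B : Type u} [CommRing R] [CommRing S] [Algebra R S] [CommRing B]
    [Algebra R B] (T : Finset S) (z : MvPolynomial T R ⊗[R] B)
    (hz : Algebra.TensorProduct.map (MvPolynomial.aeval (fun s : T => (s : S))) (AlgHom.id R B) z = 0) :
    ∃ (A' : Type u) (_ : CommRing A') (_ : Algebra R A'), Algebra.FinitePresentation R A' ∧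
      ∃ (α : MvPolynomial T R →ₐ[R] A') (β : A' →ₐ[R] S),
        β.comp α = MvPolynomial.aeval (fun s : T => (s : S)) ∧
        Algebra.TensorProduct.map α (AlgHom.id R B) z = 0 := by
  classical
  let ev : MvPolynomial S R →ₐ[R] S := MvPolynomial.aeval (fun s : S => s)
  have hev : Function.Surjective ev := fun s => ⟨MvPolynomial.X s, by simp [ev]⟩
  let incl : MvPolynomial T R →ₐ[R] MvPolynomial S R :=
    MvPolynomial.rename (fun s : T => (s : S))
  set w := Algebra.TensorProduct.map incl (AlgHom.id R B) z
  have hcomp : ev.comp incl = MvPolynomial.aeval (fun s : T => (s : S)) :=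
    MvPolynomial.algHom_ext fun s => by simp [ev, incl]
  have hw : ev.toLinearMap.rTensor B w = 0 := by
    rw [← hcomp] at hz
    have : Algebra.TensorProduct.map ev (AlgHom.id R B) w = 0 := by
      rw [← AlgHom.comp_apply, ← Algebra.TensorProduct.map_comp, AlgHom.comp_id]
      exact hz
    exact this
  obtain ⟨v, hv⟩ := (rTensor_exact B
    (LinearMap.exact_subtype_ker_map ev.toLinearMap) hev w).mp hw
  obtain ⟨k, j, b, rfl⟩ := TensorProduct.exists_sum_tmul_eq v
  let T' : Finset S := T ∪ Finset.univ.biUnion fun i => (j i : MvPolynomial S R).vars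
  have hTT' : ∀ s : T, (s : S) ∈ T' := fun s => Finset.mem_union_left _ s.2
  have hj : ∀ i, ∃ p : MvPolynomial T' R,
      MvPolynomial.rename (fun s : T' => (s : S)) p = (j i : MvPolynomial S R) := fun i => by
    refine MvPolynomial.exists_rename_eq_of_vars_subset_range (j i : MvPolynomial S R)
      (fun s : T' => (s : S)) Subtype.val_injective ?_
    intro s hs
    exact ⟨⟨s, Finset.mem_union_right _ (Finset.mem_biUnion.mpr ⟨i, Finset.mem_univ i, hs⟩)⟩, rfl⟩
  choose p hp using hj
  let J : Ideal (MvPolynomial T' R) := Ideal.span (Set.range p)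
  let ev' : MvPolynomial T' R →ₐ[R] S := MvPolynomial.aeval (fun s : T' => (s : S))
  have hevp : ∀ i, ev' (p i) = 0 := fun i => by
    have := (j i).2
    rw [LinearMap.mem_ker, ← hp i] at this
    simpa [ev, ev', MvPolynomial.aeval_rename, Function.comp_def] using this
  let α : MvPolynomial T R →ₐ[R] MvPolynomial T' R ⧸ J :=
    (Ideal.Quotient.mkₐ R J).comp (MvPolynomial.rename (fun s : T => ⟨s, hTT' s⟩))
  have hJ : J ≤ RingHom.ker ev' := by
    rw [Ideal.span_le]; rintro _ ⟨i, rfl⟩; exact hevp i
  refine ⟨MvPolynomial T' R ⧸ J, inferInstance, inferInstance,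
    Algebra.FinitePresentation.quotient (Submodule.fg_span (Set.finite_range p)), α,
    Ideal.Quotient.liftₐ J ev' hJ, MvPolynomial.algHom_ext fun s => by simp [α, ev'], ?_⟩
  -- a retraction from all variables to the finite set
  let ρ : MvPolynomial S R →ₐ[R] MvPolynomial T' R ⧸ J :=
    (Ideal.Quotient.mkₐ R J).comp
      (MvPolynomial.killCompl (f := fun s : T' => (s : S)) Subtype.val_injective)
  have hρ : ρ.comp incl = α := MvPolynomial.algHom_ext fun s => by
    show Ideal.Quotient.mkₐ R J (MvPolynomial.killCompl Subtype.val_injective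
      (incl (MvPolynomial.X s))) = α (MvPolynomial.X s)
    have h1 : incl (MvPolynomial.X s) =
        MvPolynomial.rename (fun s : T' => (s : S)) (MvPolynomial.X ⟨s, hTT' s⟩) := by simp [incl]
    rw [h1, MvPolynomial.killCompl_rename_app]
    simp [α]
  rw [← hρ, ← AlgHom.comp_id (AlgHom.id R B), Algebra.TensorProduct.map_comp, AlgHom.comp_apply]
  show Algebra.TensorProduct.map ρ (AlgHom.id R B) w = 0
  rw [← hv, map_sum, map_sum]
  refine Finset.sum_eq_zero fun i _ => ?_
  rw [LinearMap.rTensor_tmul]
  show ρ (j i : MvPolynomial S R) ⊗ₜ[R] b i = 0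
  rw [show ρ (j i : MvPolynomial S R) = 0 from ?_, zero_tmul]
  show Ideal.Quotient.mk J (MvPolynomial.killCompl Subtype.val_injective (j i : MvPolynomial S R)) = 0
  rw [← hp i, MvPolynomial.killCompl_rename_app, Ideal.Quotient.eq_zero_iff_mem]
  exact Ideal.subset_span ⟨i, rfl⟩

/-- Finitely many tensors over an algebra come from a finitely generated free algebra. -/
theorem exists_lift {R S B : Type u} [CommRing R] [CommRing S] [Algebra R S] [CommRing B]
    [Algebra R B] (z : S ⊗[R] B) :
    ∃ T₀ : Finset S, ∀ T, T₀ ⊆ T → ∃ z₀ : MvPolynomial T R ⊗[R] B,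
      Algebra.TensorProduct.map (MvPolynomial.aeval (fun s : T => (s : S))) (AlgHom.id R B) z₀ = z := by
  classical
  obtain ⟨k, s, b, rfl⟩ := TensorProduct.exists_sum_tmul_eq z
  refine ⟨Finset.univ.image s, fun T hT => ⟨∑ i, MvPolynomial.X ⟨s i, hT
    (Finset.mem_image_of_mem s (Finset.mem_univ i))⟩ ⊗ₜ[R] b i, ?_⟩⟩
  rw [map_sum]
  exact Finset.sum_congr rfl fun i _ => by simp

/-- Integral elements over the base after tensoring come from a stage. -/
theorem mem_range_stage {R S B Tm : Type u} [CommRing R] [CommRing S] [Algebra R S] [CommRing B]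
    [Algebra R B] [CommRing Tm] [Algebra R Tm] (hT : Function.Bijective (toIntegralClosure R Tm B))
    (h : Tm →ₐ[R] S) (p : Polynomial Tm) (hp : p.Monic) (y₀ : Tm ⊗[R] B)
    (h0 : p.eval₂ (algebraMap Tm (Tm ⊗[R] B)) y₀ = 0) :
    ∃ x : S ⊗[R] integralClosure R B,
      (toIntegralClosure R S B x : S ⊗[R] B) =
        Algebra.TensorProduct.map h (AlgHom.id R B) y₀ := by
  obtain ⟨x, hx⟩ := hT.2 ⟨y₀, p, hp, h0⟩
  refine ⟨Algebra.TensorProduct.map h (AlgHom.id R (integralClosure R B)) x, ?_⟩
  have hy : (toIntegralClosure R Tm B x : Tm ⊗[R] B) = y₀ := congrArg Subtype.val hx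
  rw [← hy]
  clear hx hy
  induction x using TensorProduct.induction_on with
  | zero => simp
  | add x y hx hy => simp only [map_add, AddMemClass.coe_add, hx, hy]
  | tmul a c => simp [toIntegralClosure]



/-- If S is ind-smooth over R (every R-algebra map into S from a finitely presented R-algebra factors
through a smooth R-algebra) then for every R-algebra B the canonical map S ⊗_R A → A', from the base
change of the integral closure A of R in B to the integral closure A' of S in S ⊗_R B, is bijective. -/
theorem result (R : Type u) [CommRing R] (S : Type u)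
    [CommRing S] [Algebra R S] (hS : Smoothing.IndSmooth R S) (B : Type u) [CommRing B]
    [Algebra R B] : Function.Bijective (TensorProduct.toIntegralClosure R S B) := by
  classical
  have hflatmap : ∀ (T : Finset S) (A' : Type u) (_ : CommRing A') (_ : Algebra R A'),
      Algebra.FinitePresentation R A' → ∀ (α : MvPolynomial T R →ₐ[R] A') (β : A' →ₐ[R] S),
      ∃ (Tm : Type u) (_ : CommRing Tm) (_ : Algebra R Tm),
        Algebra.Smooth R Tm ∧ ∃ (γ : A' →ₐ[R] Tm) (h : Tm →ₐ[R] S),
          h.comp (γ.comp α) = β.comp α := by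
    intro T A' _ _ hfp α β
    obtain ⟨Tm, i1, i2, hsm, γ, h, hcomp⟩ := hS A' hfp β
    exact ⟨Tm, i1, i2, hsm, γ, h, by rw [← AlgHom.comp_assoc, hcomp]⟩
  refine ⟨(injective_iff_map_eq_zero _).mpr fun z hz => ?_, fun y => ?_⟩
  · obtain ⟨T, hT⟩ := exists_lift (B := integralClosure R B) z
    obtain ⟨z₀, rfl⟩ := hT T subset_rfl
    set ev := MvPolynomial.aeval (R := R) (fun s : T => (s : S))
    have hz' : Algebra.TensorProduct.map ev (AlgHom.id R B)
        (Algebra.TensorProduct.map (AlgHom.id R (MvPolynomial T R)) (integralClosure R B).val z₀) = 0 := by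
      have h1 : (toIntegralClosure R S B
          (Algebra.TensorProduct.map ev (AlgHom.id R (integralClosure R B)) z₀) : S ⊗[R] B) = 0 := by
        rw [hz]; rfl
      rw [← h1]
      clear hz h1 hT
      induction z₀ using TensorProduct.induction_on with
      | zero => simp
      | add x y hx hy => simp only [map_add, AddMemClass.coe_add, hx, hy]
      | tmul a c => simp [toIntegralClosure]
    obtain ⟨A', i1, i2, hfp, α, β, hβα, hzero⟩ := exists_fp_stage T _ hz'
    obtain ⟨Tm, i3, i4, hsm, γ, h, hh⟩ := hflatmap T A' i1 i2 hfp α β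
    have hT0 : Algebra.TensorProduct.map (γ.comp α) (AlgHom.id R (integralClosure R B)) z₀ = 0 := by
      refine (toIntegralClosure_bijective_of_smooth (R := R) (S := Tm) (B := B)).1 ?_
      rw [map_zero]
      apply Subtype.ext
      have h2 : Algebra.TensorProduct.map γ (AlgHom.id R B) (Algebra.TensorProduct.map α (AlgHom.id R B)
          (Algebra.TensorProduct.map (AlgHom.id R (MvPolynomial T R)) (integralClosure R B).val z₀)) = 0 := by
        rw [hzero, map_zero]
      show _ = (0 : Tm ⊗[R] B)
      rw [← h2]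
      clear h2 hzero hz' hz hT
      induction z₀ using TensorProduct.induction_on with
      | zero => simp
      | add x y hx hy => simp only [map_add, AddMemClass.coe_add, hx, hy]
      | tmul a c => simp [toIntegralClosure]
    have h3 : Algebra.TensorProduct.map (h.comp (γ.comp α)) (AlgHom.id R (integralClosure R B)) z₀ = 0 := by
      rw [← AlgHom.comp_id (AlgHom.id R (integralClosure R B)), Algebra.TensorProduct.map_comp,
        AlgHom.comp_apply, hT0, map_zero]
    rwa [hh, hβα] at h3
  · obtain ⟨p, hp, hpy⟩ := y.2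
    obtain ⟨T₁, hT₁⟩ := exists_lift (B := B) y.1
    let T := T₁ ∪ (Finset.range (p.natDegree + 1)).image p.coeff
    obtain ⟨y₀, hy₀⟩ := hT₁ T Finset.subset_union_left
    set ev := MvPolynomial.aeval (R := R) (fun s : T => (s : S))
    let c : Fin p.natDegree → MvPolynomial T R := fun i => MvPolynomial.X ⟨p.coeff i,
      Finset.mem_union_right _ (Finset.mem_image_of_mem _ (Finset.mem_range.mpr (by omega)))⟩
    let p₀ : Polynomial (MvPolynomial T R) :=
      Polynomial.X ^ p.natDegree + ∑ i : Fin p.natDegree, Polynomial.C (c i) * Polynomial.X ^ (i : ℕ)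
    have hp₀ : p₀.Monic := Polynomial.monic_X_pow_add (Polynomial.degree_sum_fin_lt _)
    have hp₀map : p₀.map ev.toRingHom = p := by
      conv_rhs => rw [hp.as_sum]
      rw [← Fin.sum_univ_eq_sum_range fun i => Polynomial.C (p.coeff i) * Polynomial.X ^ i]
      simp [p₀, c, ev, Polynomial.map_sum]
    have hz : Algebra.TensorProduct.map ev (AlgHom.id R B)
        (p₀.eval₂ (algebraMap _ (MvPolynomial T R ⊗[R] B)) y₀) = 0 := by
      have h1 := Polynomial.hom_eval₂ p₀ (algebraMap _ (MvPolynomial T R ⊗[R] B))
        (Algebra.TensorProduct.map ev (AlgHom.id R B)).toRingHom y₀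
      refine h1.trans ?_
      rw [show (Algebra.TensorProduct.map ev (AlgHom.id R B)).toRingHom y₀ = y.1 from hy₀,
        show ((Algebra.TensorProduct.map ev (AlgHom.id R B)).toRingHom).comp
          (algebraMap _ (MvPolynomial T R ⊗[R] B)) = (algebraMap S (S ⊗[R] B)).comp ev.toRingHom
          from RingHom.ext fun a => by simp [Algebra.TensorProduct.algebraMap_apply],
        ← Polynomial.eval₂_map, hp₀map]
      exact hpy
    obtain ⟨A', i1, i2, hfp, α, β, hβα, hzero⟩ := exists_fp_stage T _ hz
    obtain ⟨Tm, i3, i4, hsm, γ, h, hh⟩ := hflatmap T A' i1 i2 hfp α β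
    have hT0 : (p₀.map (γ.comp α).toRingHom).eval₂ (algebraMap Tm (Tm ⊗[R] B))
        (Algebra.TensorProduct.map (γ.comp α) (AlgHom.id R B) y₀) = 0 := by
      have h2 : Algebra.TensorProduct.map (γ.comp α) (AlgHom.id R B)
          (p₀.eval₂ (algebraMap _ (MvPolynomial T R ⊗[R] B)) y₀) = 0 := by
        rw [← AlgHom.comp_id (AlgHom.id R B), Algebra.TensorProduct.map_comp, AlgHom.comp_apply,
          hzero, map_zero]
      rw [Polynomial.eval₂_map]
      refine (Eq.trans ?_ h2)
      refine Eq.trans ?_ (Polynomial.hom_eval₂ p₀ (algebraMap _ (MvPolynomial T R ⊗[R] B))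
        (Algebra.TensorProduct.map (γ.comp α) (AlgHom.id R B)).toRingHom y₀).symm
      congr 1
    obtain ⟨x, hx⟩ := mem_range_stage (toIntegralClosure_bijective_of_smooth (R := R) (S := Tm) (B := B))
      h (p₀.map (γ.comp α).toRingHom) (hp₀.map _) _ hT0
    refine ⟨x, Subtype.ext (hx.trans ?_)⟩
    rw [← hy₀, ← AlgHom.comp_apply, ← Algebra.TensorProduct.map_comp, AlgHom.comp_id, hh, hβα]

end Groth.Agent.S9446
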