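import Groth.Statements.S9447
import Mathlib
import Groth.Agent.MLProjLib.Descent

set_option autoImplicit false
universe u
open CAlg

namespace Groth.Agent.S9447

open TensorProduct in
/-- Formal smoothness descends along faithfully flat base change: for R → S arbitrary and R → R'
faithfully flat, the R-algebra S is formally smooth exactly when the R'-algebra R' ⊗_R S is formally
smooth. No finiteness hypothesis on S. -/
theorem result (R : Type u) [CommRing R]
    (S : Type u) [CommRing S] [Algebra R S] (R' : Type u) [CommRing R'] [Algebra R R']
    [Module.FaithfullyFlat R R'] :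
    Algebra.FormallySmooth R S ↔ Algebra.FormallySmooth R' (R' ⊗[R] S) := by
  refine ⟨fun h => inferInstance, fun h => ?_⟩
  let B := R' ⊗[R] S
  letI : Algebra S B := Algebra.TensorProduct.rightAlgebra
  haveI : IsScalarTower R S B := IsScalarTower.of_algebraMap_eq fun r => by
    show algebraMap R (R' ⊗[R] S) r = (1 : R') ⊗ₜ[R] algebraMap R S r
    rw [Algebra.TensorProduct.algebraMap_apply, Algebra.algebraMap_eq_smul_one, Algebra.algebraMap_eq_smul_one,
      TensorProduct.smul_tmul]
  haveI : Algebra.IsPushout R R' S B := inferInstance
  haveI : Module.FaithfullyFlat S B := by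
    refine Module.FaithfullyFlat.of_linearEquiv S (S ⊗[R] R') ?_
    exact ((Algebra.TensorProduct.commRight R S R').toLinearEquiv).symm
  constructor
  · haveI : Module.Projective B (B ⊗[S] Ω[S⁄R]) :=
      Module.Projective.of_equiv (KaehlerDifferential.tensorKaehlerEquiv R R' S B).symm
    exact Groth.Agent.MLProjLib.projective_of_baseChange (R := S) B
  · haveI : Subsingleton (R' ⊗[R] Algebra.H1Cotangent R S) :=
      (Algebra.tensorH1CotangentOfFlat R S R').toEquiv.subsingleton
    exact Module.FaithfullyFlat.lTensor_reflects_triviality R R' _

end Groth.Agent.S9447
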