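import Groth.Statements.S9450
import Mathlib

set_option autoImplicit false
universe u
open CAlg

namespace Groth.Agent.S9450
open scoped TensorProduct

/-- For ring maps A → B → C with A → C surjective and A → B formally smooth, writing I = ker(A → C) and
J = ker(B → C), the sequence 0 → I/I² → J/J² → C ⊗_B Ω_{B/A} → 0 is split exact: the first map is
injective and admits an A-linear retraction, its range is the kernel of the second map (class of x ↦
1 ⊗ dx), and the second map is surjective. -/
theorem result (A : Type u) [CommRing A]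
    (B : Type u) [CommRing B] [Algebra A B] [Algebra.FormallySmooth A B] (C : Type u) [CommRing C]
    [Algebra B C] [Algebra A C] [IsScalarTower A B C] (hC : Function.Surjective (algebraMap A C)) :
    Function.Injective (Ideal.mapCotangent (RingHom.ker (algebraMap A C))
        (RingHom.ker (algebraMap B C)) (Algebra.ofId A B)
        (le_of_eq (congrArg RingHom.ker (IsScalarTower.algebraMap_eq A B C)))) ∧
      (∃ r : (RingHom.ker (algebraMap B C)).Cotangent →ₗ[A] (RingHom.ker (algebraMap A C)).Cotangent,
        r ∘ₗ (Ideal.mapCotangent (RingHom.ker (algebraMap A C)) (RingHom.ker (algebraMap B C))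
          (Algebra.ofId A B)
          (le_of_eq (congrArg RingHom.ker (IsScalarTower.algebraMap_eq A B C)))) = LinearMap.id) ∧
      LinearMap.range (Ideal.mapCotangent (RingHom.ker (algebraMap A C))
          (RingHom.ker (algebraMap B C)) (Algebra.ofId A B)
          (le_of_eq (congrArg RingHom.ker (IsScalarTower.algebraMap_eq A B C)))) =
        LinearMap.ker ((KaehlerDifferential.kerCotangentToTensor A B C).restrictScalars A) ∧
      Function.Surjective (KaehlerDifferential.kerCotangentToTensor A B C) := by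
  classical
  let I := RingHom.ker (algebraMap A C)
  let J := RingHom.ker (algebraMap B C)
  have hI2 : ∀ a ∈ I ^ 2, Algebra.ofId A C a = 0 := fun a ha => (Ideal.pow_le_self two_ne_zero ha : a ∈ I)
  let π : A ⧸ I ^ 2 →ₐ[A] C := Ideal.Quotient.liftₐ (I ^ 2) (Algebra.ofId A C) hI2
  have hπ : Function.Surjective π := fun c => by
    obtain ⟨a, rfl⟩ := hC c
    exact ⟨Ideal.Quotient.mk _ a, rfl⟩
  have hkerπ : RingHom.ker (π : A ⧸ I ^ 2 →+* C) ≤ I.map (Ideal.Quotient.mk (I ^ 2)) := fun x hx => by
    obtain ⟨a, rfl⟩ := Ideal.Quotient.mk_surjective x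
    exact Ideal.mem_map_of_mem _ (hx : algebraMap A C a = 0)
  have hsq : I.map (Ideal.Quotient.mk (I ^ 2)) ^ 2 = ⊥ := by
    rw [← Ideal.map_pow, Ideal.map_quotient_self]
  have hnil : IsNilpotent (RingHom.ker (π : A ⧸ I ^ 2 →+* C)) :=
    ⟨2, le_bot_iff.mp ((Ideal.pow_right_mono hkerπ 2).trans hsq.le)⟩
  let g : B →ₐ[A] A ⧸ I ^ 2 := Algebra.FormallySmooth.liftOfSurjective (IsScalarTower.toAlgHom A B C) π hπ hnil
  have hπg : ∀ b, π (g b) = algebraMap B C b := fun b =>
    AlgHom.congr_fun (Algebra.FormallySmooth.comp_liftOfSurjective (IsScalarTower.toAlgHom A B C) π hπ hnil) b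
  choose av hav using fun b => Ideal.Quotient.mk_surjective (g b)
  have hmem : ∀ b a, Ideal.Quotient.mk (I ^ 2) a = g b → b - algebraMap A B a ∈ J := fun b a h => by
    rw [RingHom.mem_ker, map_sub, ← IsScalarTower.algebraMap_apply, ← hπg, ← h]
    exact sub_self _
  let δ : B → J.Cotangent := fun b => J.toCotangent ⟨_, hmem b (av b) (hav b)⟩
  have hIJ : I.map (algebraMap A B) ≤ J := Ideal.map_le_iff_le_comap.mpr
    (le_of_eq (congrArg RingHom.ker (IsScalarTower.algebraMap_eq A B C)))
  have hδ : ∀ b a (h : Ideal.Quotient.mk (I ^ 2) a = g b), δ b = J.toCotangent ⟨_, hmem b a h⟩ := fun b a h => by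
    refine (Ideal.toCotangent_eq _).mpr ?_
    have h1 : a - av b ∈ I ^ 2 := Ideal.Quotient.eq.mp (h.trans (hav b).symm)
    have h2 := Ideal.mem_map_of_mem (algebraMap A B) h1
    rw [Ideal.map_pow] at h2
    rw [map_sub] at h2
    have h3 := Ideal.pow_right_mono hIJ 2 h2
    show b - algebraMap A B (av b) - (b - algebraMap A B a) ∈ J ^ 2
    rwa [sub_sub_sub_cancel_left]
  let δl : B →ₗ[A] J.Cotangent :=
    { toFun := δ
      map_add' := fun b b' => by
        refine (hδ (b + b') (av b + av b') (by rw [map_add, map_add, hav, hav])).trans ?_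
        refine (congrArg _ (Subtype.ext ?_)).trans (map_add J.toCotangent _ _)
        simp only [map_add, Submodule.coe_add]; ring
      map_smul' := fun c b => by
        have hcb : Ideal.Quotient.mk (I ^ 2) (c * av b) = g (c • b) := by
          rw [map_smul, Algebra.smul_def, map_mul, hav]; rfl
        rw [RingHom.id_apply, hδ (c • b) (c * av b) hcb, ← algebraMap_smul B c (δ b), ← map_smul]
        exact congrArg _ (Subtype.ext (by simp only [map_mul, Algebra.smul_def, SetLike.val_smul, smul_eq_mul, Algebra.algebraMap_self, RingHom.id_apply]; ring)) }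
  let Dv : Derivation A B J.Cotangent := Derivation.mk' δl fun b b' => by
    show δ (b * b') = b • δ b' + b' • δ b
    rw [hδ (b * b') (av b * av b') (by rw [map_mul, map_mul, hav, hav]), ← map_smul, ← map_smul, ← map_add]
    refine (Ideal.toCotangent_eq _).mpr ?_
    simp only [Submodule.coe_add, SetLike.val_smul, smul_eq_mul, map_mul]
    have := Ideal.mul_mem_mul (hmem b (av b) (hav b)) (hmem b' (av b') (hav b'))
    rw [← pow_two] at this
    have := (J ^ 2).neg_mem this
    convert this using 1
    ring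
  have hav_mem : ∀ j : J, av j.1 ∈ I := fun j => by
    have h := hπg j.1
    rw [← hav, RingHom.mem_ker.mp j.2] at h
    exact h
  have hkill : J ≤ LinearMap.ker (LinearMap.toSpanSingleton B _ Dv.liftKaehlerDifferential) := fun x hx => by
    exact LinearMap.ext fun ω => Ideal.Cotangent.smul_eq_zero_of_mem hx _
  let e : (B ⧸ J) ≃ₗ[B] C :=
    (Ideal.quotientKerAlgEquivOfSurjective (f := Algebra.ofId B C)
      (fun c => (hC c).elim fun a ha => ⟨algebraMap A B a, by rw [← ha, IsScalarTower.algebraMap_apply A B C]; rfl⟩)).toLinearEquiv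
  let Φ := TensorProduct.lift (Submodule.liftQ J (LinearMap.toSpanSingleton B _ Dv.liftKaehlerDifferential) hkill ∘ₗ e.symm.toLinearMap)
  have hΦ : ∀ b, Φ ((1 : C) ⊗ₜ KaehlerDifferential.D A B b) = δ b := fun b => by
    have he : e.symm 1 = Submodule.Quotient.mk 1 := by
      rw [LinearEquiv.symm_apply_eq]
      exact (map_one (algebraMap B C)).symm
    show (Submodule.liftQ J _ hkill (e.symm 1)) (KaehlerDifferential.D A B b) = δ b
    rw [he, Submodule.liftQ_apply, LinearMap.toSpanSingleton_apply, one_smul, Derivation.liftKaehlerDifferential_comp_D]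
    rfl
  let mapI := Ideal.mapCotangent I J (Algebra.ofId A B) (le_of_eq (congrArg RingHom.ker (IsScalarTower.algebraMap_eq A B C)))
  have hmap : ∀ (a : A) (ha : a ∈ I), mapI (I.toCotangent ⟨a, ha⟩) = J.toCotangent ⟨algebraMap A B a, hIJ (Ideal.mem_map_of_mem _ ha)⟩ :=
    fun a ha => rfl
  obtain ⟨r, hr⟩ : ∃ r : J.Cotangent →ₗ[A] I.Cotangent, ∀ j : J, r (J.toCotangent j) = I.toCotangent ⟨av j.1, hav_mem j⟩ := by
    have hgJ : J.map g ≤ I.map (Ideal.Quotient.mk (I ^ 2)) := Ideal.map_le_iff_le_comap.mpr fun x hx => hkerπ (by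
      show π (g x) = 0
      rw [hπg]; exact hx)
    have hwd : ∀ (x : B), x ∈ J ^ 2 → g x = 0 := fun x hx => by
      have := Ideal.pow_right_mono hgJ 2 (Ideal.map_pow g J 2 ▸ Ideal.mem_map_of_mem g hx)
      rwa [hsq] at this
    choose rep hrep using J.toCotangent_surjective
    have hrr : ∀ j j' : J, J.toCotangent j = J.toCotangent j' → I.toCotangent ⟨av j.1, hav_mem j⟩ = I.toCotangent ⟨av j'.1, hav_mem j'⟩ :=
      fun j j' h => (Ideal.toCotangent_eq _).mpr (Ideal.Quotient.eq.mp (by
        rw [hav, hav, ← sub_eq_zero, ← map_sub]; exact hwd _ ((Ideal.toCotangent_eq _).mp h)))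
    refine ⟨{ toFun := fun x => I.toCotangent ⟨av (rep x).1, hav_mem (rep x)⟩, map_add' := fun x y => ?_, map_smul' := fun c x => ?_ },
      fun j => hrr _ _ (hrep _)⟩
    · rw [← map_add, hrr (rep (x + y)) (rep x + rep y) (by rw [map_add, hrep, hrep, hrep])]
      refine (Ideal.toCotangent_eq _).mpr (Ideal.Quotient.eq.mp ?_)
      simp [hav]
    · rw [RingHom.id_apply, ← map_smul,
        hrr (rep (c • x)) ((algebraMap A B c) • rep x) (by rw [map_smul, hrep, hrep, algebraMap_smul])]
      refine (Ideal.toCotangent_eq _).mpr (Ideal.Quotient.eq.mp ?_)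
      simp [hav, Algebra.smul_def]
  refine ⟨?_, ⟨r, ?_⟩, ?_, ?_⟩
  rotate_left
  · refine LinearMap.ext fun x => ?_
    obtain ⟨⟨a, ha⟩, rfl⟩ := I.toCotangent_surjective x
    show r (mapI (I.toCotangent ⟨a, ha⟩)) = _
    rw [hmap, hr]
    refine (Ideal.toCotangent_eq _).mpr (Ideal.Quotient.eq.mp ?_)
    rw [hav]
    exact g.commutes a
  · refine le_antisymm ?_ fun x hx => ?_
    · rintro _ ⟨x, rfl⟩
      obtain ⟨⟨a, ha⟩, rfl⟩ := I.toCotangent_surjective x
      show KaehlerDifferential.kerCotangentToTensor A B C (mapI (I.toCotangent ⟨a, ha⟩)) = 0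
      rw [hmap, KaehlerDifferential.kerCotangentToTensor_toCotangent, Derivation.map_algebraMap, TensorProduct.tmul_zero]
    · obtain ⟨j, rfl⟩ := J.toCotangent_surjective x
      have h0 : δ j.1 = 0 := by
        rw [← hΦ, ← KaehlerDifferential.kerCotangentToTensor_toCotangent A B C j, show KaehlerDifferential.kerCotangentToTensor A B C (J.toCotangent j) = 0 from hx, map_zero]
      refine ⟨I.toCotangent ⟨_, hav_mem j⟩, ?_⟩
      show mapI _ = _
      rw [hmap]
      exact ((Ideal.toCotangent_eq _).mpr ((Ideal.toCotangent_eq_zero _ _).mp h0)).symm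
  · intro t
    suffices h : (⊤ : Submodule B (TensorProduct B C Ω[B⁄A])) ≤ LinearMap.range (KaehlerDifferential.kerCotangentToTensor A B C) from
      h Submodule.mem_top
    rintro t -
    induction t using TensorProduct.induction_on with
    | zero => exact zero_mem _
    | add x y hx hy => exact add_mem hx hy
    | tmul c ω =>
      obtain ⟨a, rfl⟩ := hC c
      rw [IsScalarTower.algebraMap_apply A B C, Algebra.algebraMap_eq_smul_one, TensorProduct.smul_tmul]
      generalize algebraMap A B a • ω = ω'
      have := (KaehlerDifferential.span_range_derivation A B).ge (Submodule.mem_top (x := ω'))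
      refine (Submodule.span_le.mpr ?_ : _ ≤ (LinearMap.range (KaehlerDifferential.kerCotangentToTensor A B C)).comap (TensorProduct.mk B C _ 1)) this
      rintro _ ⟨b, rfl⟩
      refine ⟨δ b, ?_⟩
      rw [KaehlerDifferential.kerCotangentToTensor_toCotangent]
      show _ = (1 : C) ⊗ₜ KaehlerDifferential.D A B b
      rw [map_sub, Derivation.map_algebraMap, sub_zero]
  · intro x y hxy
    have hrx : ∀ z, r (mapI z) = z := fun z => by
      obtain ⟨⟨a, ha⟩, rfl⟩ := I.toCotangent_surjective z
      rw [hmap, hr]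
      exact (Ideal.toCotangent_eq _).mpr (Ideal.Quotient.eq.mp (by rw [hav]; exact g.commutes a))
    rw [← hrx x, ← hrx y]
    exact congrArg r hxy

end Groth.Agent.S9450
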