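import Groth.Statements.S9451
import Mathlib

set_option autoImplicit false
universe u
open CategoryTheory CategoryTheory.Limits TensorProduct
open CAlg

namespace Groth.Agent.S9451
open scoped TensorProduct

/-- Let (A_i) be a filtered system of rings with colimit A and B a smooth A-algebra. Then some stage A_i
carries a smooth A_i-algebra B_i with B isomorphic to A ⊗_{A_i} B_i as A-algebras (the base change
along the colimit map A_i → A; existence of an isomorphism). -/
theorem result {I : Type u} [SmallCategory I] [IsFiltered I]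
    (D : I ⥤ CommRingCat.{u}) (c : Cocone D) (hc : IsColimit c) (B : Type u) [CommRing B]
    [Algebra c.pt B] [Algebra.Smooth c.pt B] :
    ∃ (i : I) (Bi : Type u) (_ : CommRing Bi) (_ : Algebra (D.obj i) Bi),
      Algebra.Smooth (D.obj i) Bi ∧
      (letI : Algebra (D.obj i) c.pt := (c.ι.app i).hom.toAlgebra
       Nonempty (B ≃ₐ[c.pt] (c.pt ⊗[D.obj i] Bi))) := by
  classical
  obtain ⟨A₀, B₀, _, _, hfg, hsm, ⟨e⟩⟩ := Algebra.Smooth.exists_subalgebra_fg ℤ c.pt B
  have hFT : Algebra.FiniteType ℤ A₀ := A₀.fg_iff_finiteType.1 hfg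
  let Z := CommRingCat.of (ULift.{u} ℤ)
  let zhom : ∀ X : CommRingCat.{u}, Z ⟶ X := fun X =>
    CommRingCat.ofHom ((Int.castRingHom X).comp (ULift.ringEquiv : ULift.{u} ℤ ≃+* ℤ).toRingHom)
  have huniq : ∀ (X : CommRingCat.{u}) (f g : Z ⟶ X), f = g := fun X f g => by
    refine CommRingCat.hom_ext (RingHom.ext fun z => ?_)
    have h := RingHom.congr_fun (RingHom.ext_int (f.hom.comp (ULift.ringEquiv : ULift.{u} ℤ ≃+* ℤ).symm.toRingHom)
      (g.hom.comp (ULift.ringEquiv : ULift.{u} ℤ ≃+* ℤ).symm.toRingHom)) z.down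
    exact h
  let α : (Functor.const I).obj Z ⟶ D := { app := fun j => zhom (D.obj j), naturality := fun _ _ _ => huniq _ _ _ }
  have hfp : (zhom (CommRingCat.of A₀)).hom.FinitePresentation := by
    show RingHom.FinitePresentation ((Int.castRingHom A₀).comp (ULift.ringEquiv : ULift.{u} ℤ ≃+* ℤ).toRingHom)
    refine RingHom.FinitePresentation.comp ?_ (RingHom.FinitePresentation.of_surjective _ (RingEquiv.surjective _) ?_)
    · rw [show Int.castRingHom A₀ = algebraMap ℤ A₀ from RingHom.ext_int _ _, RingHom.finitePresentation_algebraMap]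
      exact Algebra.FinitePresentation.of_finiteType.1 hFT
    · rw [show RingHom.ker (ULift.ringEquiv : ULift.{u} ℤ ≃+* ℤ).toRingHom = ⊥ from
        (RingHom.injective_iff_ker_eq_bot _).1 (ULift.ringEquiv : ULift.{u} ℤ ≃+* ℤ).injective]
      exact Submodule.fg_bot
  obtain ⟨i, g', -, hg'⟩ := RingHom.EssFiniteType.exists_eq_comp_ι_app_of_isColimit Z D α (zhom (CommRingCat.of A₀)) c hc hfp
    (CommRingCat.ofHom (A₀.val.toRingHom) : CommRingCat.of A₀ ⟶ c.pt) (fun j => huniq _ _ _)
  let : Algebra A₀ (D.obj i) := g'.hom.toAlgebra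
  let : Algebra (D.obj i) c.pt := (c.ι.app i).hom.toAlgebra
  have : IsScalarTower A₀ (D.obj i) c.pt := IsScalarTower.of_algebraMap_eq' (congrArg CommRingCat.Hom.hom hg')
  exact ⟨i, (D.obj i) ⊗[A₀] B₀, inferInstance, inferInstance, inferInstance,
    ⟨e.trans (Algebra.TensorProduct.cancelBaseChange A₀ (D.obj i) c.pt c.pt B₀).symm⟩⟩

end Groth.Agent.S9451
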