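import Groth.Statements.S9455
import Mathlib
import Groth.Agent.FieldExtLib.Imperfection

set_option autoImplicit false
universe u
open CAlg

namespace Groth.Agent.S9455
open TensorProduct in
theorem flat_quot {Λ : Type u} [CommRing Λ] [IsDomain Λ] (p : ℕ) (hp : p.Prime) (hp0 : (p : Λ) ≠ 0)
    (n : ℕ) [Algebra (ZMod (p ^ n)) (Λ ⧸ Ideal.span {((p : Λ) ^ n)})] :
    Module.Flat (ZMod (p ^ n)) (Λ ⧸ Ideal.span {((p : Λ) ^ n)}) := by
  refine Module.Flat.iff_rTensor_injective'.mpr fun J => ?_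
  obtain ⟨d, hd⟩ : ∃ d : ℕ, J = Ideal.span {(d : ZMod (p ^ n))} ∧ d ∣ p ^ n := by
    obtain ⟨z, hz⟩ := (IsPrincipalIdealRing.principal (J.comap (Int.castRingHom (ZMod (p ^ n))))).principal
    refine ⟨z.natAbs, ?_, ?_⟩
    · rw [← Ideal.map_comap_of_surjective (Int.castRingHom (ZMod (p ^ n))) ZMod.intCast_surjective J, hz]
      rw [← Ideal.span, Ideal.map_span, Set.image_singleton]
      rcases Int.natAbs_eq z with h | h
      · rw [h]; simp
      · rw [h]; simp
    · have : ((p ^ n : ℕ) : ℤ) ∈ Submodule.span ℤ {z} := by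
        rw [← hz, Ideal.mem_comap]
        rw [map_natCast, ZMod.natCast_self]
        exact J.zero_mem
      obtain ⟨c, hc⟩ := Submodule.mem_span_singleton.mp this
      exact Int.natCast_dvd_natCast.mp ((Int.natAbs_dvd).mpr ⟨c, by rw [← hc, smul_eq_mul, mul_comm]⟩)
  obtain ⟨rfl, hd⟩ := hd
  obtain ⟨i, hi, rfl⟩ := (Nat.dvd_prime_pow hp).mp hd
  let g : (Ideal.span {((p ^ i : ℕ) : ZMod (p ^ n))} : Ideal (ZMod (p ^ n))) :=
    ⟨_, Ideal.mem_span_singleton_self _⟩
  have hgen : ∀ t : (Ideal.span {((p ^ i : ℕ) : ZMod (p ^ n))} : Ideal (ZMod (p ^ n))) ⊗[ZMod (p ^ n)]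
      (Λ ⧸ Ideal.span {((p : Λ) ^ n)}), ∃ m, t = g ⊗ₜ m := by
    intro t
    induction t using TensorProduct.induction_on with
    | zero => exact ⟨0, by rw [TensorProduct.tmul_zero]⟩
    | tmul a m =>
      obtain ⟨c, hc⟩ := Ideal.mem_span_singleton'.mp a.2
      exact ⟨c • m, by rw [← TensorProduct.smul_tmul]; congr 1; exact Subtype.ext hc.symm⟩
    | add a b ha hb =>
      obtain ⟨m, rfl⟩ := ha
      obtain ⟨m', rfl⟩ := hb
      exact ⟨m + m', (TensorProduct.tmul_add _ _ _).symm⟩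
  refine (injective_iff_map_eq_zero _).mpr fun t ht => ?_
  obtain ⟨m, rfl⟩ := hgen t
  obtain ⟨l, rfl⟩ := Ideal.Quotient.mk_surjective m
  have h1 : Ideal.Quotient.mk (Ideal.span {((p : Λ) ^ n)}) ((p : Λ) ^ i * l) = 0 := by
    have h := congrArg (TensorProduct.lid _ _) ht
    rw [LinearMap.rTensor_tmul, TensorProduct.lid_tmul, map_zero] at h
    rw [map_mul, map_pow, map_natCast]
    rw [Algebra.smul_def] at h
    simpa [g] using h
  rw [Ideal.Quotient.eq_zero_iff_mem, Ideal.mem_span_singleton] at h1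
  obtain ⟨c, hc⟩ := h1
  have hl : l = (p : Λ) ^ (n - i) * c := mul_left_cancel₀ (pow_ne_zero i hp0) (by
    rw [hc, ← mul_assoc, ← pow_add, Nat.add_sub_cancel' hi])
  rw [hl, map_mul, map_pow, map_natCast]
  have h2 : ((p : Λ ⧸ Ideal.span {((p : Λ) ^ n)}) ^ (n - i) * Ideal.Quotient.mk _ c) =
      ((p ^ (n - i) : ℕ) : ZMod (p ^ n)) • Ideal.Quotient.mk _ c := by
    rw [Algebra.smul_def, map_natCast]; push_cast; rfl
  rw [h2, ← TensorProduct.smul_tmul]
  have h3 : ((p ^ (n - i) : ℕ) : ZMod (p ^ n)) • g = 0 := by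
    apply Subtype.ext
    show ((p ^ (n - i) : ℕ) : ZMod (p ^ n)) * ((p ^ i : ℕ) : ZMod (p ^ n)) = 0
    rw [← Nat.cast_mul, ← pow_add, Nat.sub_add_cancel hi, ZMod.natCast_self]
  rw [h3, TensorProduct.zero_tmul]


/-- If Λ is a Cohen ring (a complete discrete valuation ring with maximal ideal generated by a prime
number p) then Λ/p^nΛ is formally smooth over ℤ/p^nℤ for every n ≥ 1; the ℤ/p^nℤ-algebra structure
on Λ/p^nΛ is the unique one and is taken as a hypothesis. -/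
theorem result (Λ : Type u) [CommRing Λ] [IsDomain Λ]
    [IsDiscreteValuationRing Λ] [IsAdicComplete (IsLocalRing.maximalIdeal Λ) Λ] (p : ℕ)
    (hp : p.Prime) (hm : IsLocalRing.maximalIdeal Λ = Ideal.span {(p : Λ)}) (n : ℕ) (hn : 1 ≤ n)
    [Algebra (ZMod (p ^ n)) (Λ ⧸ Ideal.span {((p : Λ) ^ n)})] :
    Algebra.FormallySmooth (ZMod (p ^ n)) (Λ ⧸ Ideal.span {((p : Λ) ^ n)}) := by
  have hp0 : (p : Λ) ≠ 0 := fun h => IsDiscreteValuationRing.not_a_field Λ (by rw [hm, h, Ideal.span_singleton_eq_bot])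
  rename_i inst
  revert inst
  induction n, hn using Nat.le_induction with
  | base =>
    intro inst
    haveI : (Ideal.span {((p : Λ) ^ 1)}).IsMaximal := by
      rw [pow_one, ← hm]; exact IsLocalRing.maximalIdeal.isMaximal Λ
    letI := Ideal.Quotient.field (Ideal.span {((p : Λ) ^ 1)})
    haveI : Fact (p ^ 1).Prime := ⟨by rw [pow_one]; exact hp⟩
    exact Groth.Agent.FieldExtLib.formallySmooth_field_of_perfectField _ _
  | succ n hn ih =>
    intro inst
    haveI := flat_quot (Λ := Λ) p hp hp0 (n + 1)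
    have hle : Ideal.span {((p : Λ) ^ (n + 1))} ≤ Ideal.span {((p : Λ) ^ n)} :=
      Ideal.span_singleton_le_span_singleton.mpr (pow_dvd_pow _ n.le_succ)
    have hdvd : p ^ n ∣ p ^ (n + 1) := pow_dvd_pow p n.le_succ
    haveI : CharP (Λ ⧸ Ideal.span {((p : Λ) ^ n)}) (ringChar (Λ ⧸ Ideal.span {((p : Λ) ^ n)})) := ringChar.charP _
    have hchar : ringChar (Λ ⧸ Ideal.span {((p : Λ) ^ n)}) ∣ p ^ n := by
      apply ringChar.dvd
      push_cast
      rw [← map_natCast (Ideal.Quotient.mk (Ideal.span {((p : Λ) ^ n)})), ← map_pow]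
      exact Ideal.Quotient.eq_zero_iff_mem.mpr (Ideal.mem_span_singleton_self _)
    letI alg0 : Algebra (ZMod (p ^ n)) (Λ ⧸ Ideal.span {((p : Λ) ^ n)}) := ZMod.algebra' _ _ hchar
    letI : Algebra (ZMod (p ^ (n + 1))) (ZMod (p ^ n)) := (ZMod.castHom hdvd _).toAlgebra
    letI : Algebra (Λ ⧸ Ideal.span {((p : Λ) ^ (n + 1))}) (Λ ⧸ Ideal.span {((p : Λ) ^ n)}) :=
      (Ideal.Quotient.factor hle).toAlgebra
    letI : Algebra (ZMod (p ^ (n + 1))) (Λ ⧸ Ideal.span {((p : Λ) ^ n)}) :=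
      ((algebraMap (ZMod (p ^ n)) _).comp (ZMod.castHom hdvd _)).toAlgebra
    haveI : IsScalarTower (ZMod (p ^ (n + 1))) (ZMod (p ^ n)) (Λ ⧸ Ideal.span {((p : Λ) ^ n)}) :=
      IsScalarTower.of_algebraMap_eq fun _ => rfl
    haveI : IsScalarTower (ZMod (p ^ (n + 1))) (Λ ⧸ Ideal.span {((p : Λ) ^ (n + 1))}) (Λ ⧸ Ideal.span {((p : Λ) ^ n)}) :=
      IsScalarTower.of_algebraMap_eq' (Subsingleton.elim _ _)
    have surj : Function.Surjective (algebraMap (ZMod (p ^ (n + 1))) (ZMod (p ^ n))) :=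
      ZMod.castHom_surjective hdvd
    have surjS : Function.Surjective
        (algebraMap (Λ ⧸ Ideal.span {((p : Λ) ^ (n + 1))}) (Λ ⧸ Ideal.span {((p : Λ) ^ n)})) :=
      Ideal.Quotient.factor_surjective hle
    have hker : RingHom.ker (algebraMap (ZMod (p ^ (n + 1))) (ZMod (p ^ n))) =
        Ideal.span {((p ^ n : ℕ) : ZMod (p ^ (n + 1)))} := by
      ext x
      obtain ⟨z, rfl⟩ := ZMod.intCast_surjective x
      rw [RingHom.mem_ker, map_intCast, ZMod.intCast_zmod_eq_zero_iff_dvd, Ideal.mem_span_singleton]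
      constructor
      · rintro ⟨c, rfl⟩
        exact ⟨(c : ZMod (p ^ (n + 1))), by push_cast; ring⟩
      · rintro ⟨c, hc⟩
        obtain ⟨c, rfl⟩ := ZMod.intCast_surjective c
        rw [← Int.cast_natCast (p ^ n), ← Int.cast_mul, ZMod.intCast_eq_intCast_iff_dvd_sub] at hc
        have h1 : ((p ^ n : ℕ) : ℤ) ∣ ((p ^ (n + 1) : ℕ) : ℤ) := Int.natCast_dvd_natCast.mpr hdvd
        have h2 := h1.trans hc
        have h3 : ((p ^ n : ℕ) : ℤ) ∣ ((p ^ n : ℕ) : ℤ) * c := Dvd.intro c rfl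
        simpa using dvd_sub h3 h2
    refine Algebra.FormallySmooth.of_surjective_of_ker_eq_map_of_flat surj surjS ?_ ?_ ih
    · rw [hker, Ideal.map_span, Set.image_singleton, map_natCast]
      show RingHom.ker (Ideal.Quotient.factor hle) = _
      rw [Ideal.Quotient.factor_ker, Ideal.map_span, Set.image_singleton, map_pow, map_natCast]
      push_cast
      rfl
    · rw [hker, Ideal.span_singleton_pow, Ideal.span_singleton_eq_bot, ← Nat.cast_pow,
        CharP.cast_eq_zero_iff (ZMod (p ^ (n + 1))) (p ^ (n + 1)), ← pow_mul]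
      exact pow_dvd_pow p (by omega)

end Groth.Agent.S9455
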