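import Groth.Statements.S9456
import Groth.Agent.FppfSrc.FlatModel

set_option autoImplicit false
universe u
open CAlg

namespace Groth.Agent.S9456
open Groth.Agent.FppfSrc Groth.Agent.GenFree Groth.Agent.FlatLocus TensorProduct


/-- Let R → S be of finite presentation and M a finitely presented S-module which is flat over R. Then
the triple descends to a finite type ℤ-algebra: there are R₀ of finite type over ℤ with R₀ → R, a
finite type R₀-algebra S₀ with a compatible map S₀ → S making S the base change R ⊗_{R₀} S₀, and a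
finite S₀-module M₀ flat over R₀ with an S₀-linear map M₀ → M making M the base change S ⊗_{S₀} M₀. -/
theorem result (R : Type u) [CommRing R]
    (S : Type u) [CommRing S] [Algebra R S] [Algebra.FinitePresentation R S] (M : Type u)
    [AddCommGroup M] [Module S M] [Module R M] [IsScalarTower R S M]
    [Module.FinitePresentation S M] [Module.Flat R M] :
    ∃ (R₀ : Type u) (_ : CommRing R₀) (_ : Algebra R₀ R) (S₀ : Type u) (_ : CommRing S₀)
      (_ : Algebra R₀ S₀) (_ : Algebra S₀ S) (_ : Algebra R₀ S) (_ : IsScalarTower R₀ R S)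
      (_ : IsScalarTower R₀ S₀ S) (M₀ : Type u) (_ : AddCommGroup M₀) (_ : Module S₀ M₀)
      (_ : Module R₀ M₀) (_ : IsScalarTower R₀ S₀ M₀) (_ : Module S₀ M) (_ : IsScalarTower S₀ S M)
      (f : M₀ →ₗ[S₀] M),
      Algebra.FiniteType ℤ R₀ ∧ Algebra.FiniteType R₀ S₀ ∧ Module.Finite S₀ M₀ ∧ Module.Flat R₀ M₀ ∧
        Algebra.IsPushout R₀ R S₀ S ∧ IsBaseChange S f := by
  classical
  obtain ⟨n, π, hπ, G, hG⟩ := Algebra.FinitePresentation.out (R := R) (A := S)
  let P := MvPolynomial (Fin n) R
  letI algPS : Algebra P S := π.toRingHom.toAlgebra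
  haveI : IsScalarTower R P S := .of_algebraMap_eq fun r => (π.commutes r).symm
  letI modPM : Module P M := Module.compHom M (algebraMap P S)
  haveI : IsScalarTower P S M := .of_algebraMap_smul fun _ _ => rfl
  haveI : IsScalarTower R P M := .of_algebraMap_smul fun r m => by
    show algebraMap P S (algebraMap R P r) • m = r • m
    rw [← IsScalarTower.algebraMap_apply, algebraMap_smul]
  haveI : Module.FinitePresentation P S := by
    refine Module.finitePresentation_of_surjective (Algebra.linearMap P S) hπ ?_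
    show (RingHom.ker π.toRingHom : Ideal P).FG
    exact ⟨G, hG⟩
  haveI : Module.FinitePresentation P M := Module.FinitePresentation.trans P M S
  obtain ⟨b, q, hq⟩ := Module.Finite.exists_fin' P M
  obtain ⟨V, hV⟩ : (LinearMap.ker q).FG := Module.FinitePresentation.fg_ker q hq
  let F := FreeMod R b n
  -- coefficients
  let T : Finset F := V ∪ ((G ×ˢ (Finset.univ : Finset (Fin b))).image fun gj => Pi.single gj.2 gj.1)
  have hTker : Submodule.span P (T : Set F) = LinearMap.ker q := by
    refine le_antisymm (Submodule.span_le.2 fun v hv => ?_) (hV ▸ Submodule.span_mono (by simp [T]))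
    rcases Finset.mem_union.1 (Finset.mem_coe.1 hv) with h | h
    · exact hV.le (Submodule.subset_span h)
    · obtain ⟨⟨g, j⟩, hgj, rfl⟩ := Finset.mem_image.1 h
      show q (Pi.single j g) = 0
      have hg : π g = 0 := hG.le (Submodule.subset_span (Finset.mem_product.1 hgj).1)
      rw [show (Pi.single j g : F) = g • Pi.single j 1 by rw [← Pi.single_smul, smul_eq_mul, mul_one],
        map_smul, ← algebraMap_smul S g (q _)]
      rw [show algebraMap P S g = 0 from hg, zero_smul]
  let cs : Finset R := (G.biUnion fun g => g.support.image fun m => MvPolynomial.coeff m g) ∪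
    (T.biUnion fun v => Finset.univ.biUnion fun j => (v j).support.image fun m => MvPolynomial.coeff m (v j))
  let A₁ : Subalgebra ℤ R := Algebra.adjoin ℤ (cs : Set R)
  have hA₁ : A₁.FG := Subalgebra.fg_adjoin_finset _
  choose g0 hg0 using fun g : G => exists_map_eq' A₁ (g : P) fun m =>
    show MvPolynomial.coeff m (g : P) ∈ A₁ by
      by_cases hm : MvPolynomial.coeff m (g : P) = 0
      · rw [hm]; exact A₁.zero_mem
      · exact Algebra.subset_adjoin (Finset.mem_union_left _ (Finset.mem_biUnion.mpr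
          ⟨g, g.2, Finset.mem_image_of_mem _ (MvPolynomial.mem_support_iff.mpr hm)⟩))
  choose v0 hv0 using fun (v : T) (j : Fin b) => exists_map_eq' A₁ ((v : F) j) fun m =>
    show MvPolynomial.coeff m ((v : F) j) ∈ A₁ by
      by_cases hm : MvPolynomial.coeff m ((v : F) j) = 0
      · rw [hm]; exact A₁.zero_mem
      · exact Algebra.subset_adjoin (Finset.mem_union_right _ (Finset.mem_biUnion.mpr
          ⟨v, v.2, Finset.mem_biUnion.mpr ⟨j, Finset.mem_univ _,
            Finset.mem_image_of_mem _ (MvPolynomial.mem_support_iff.mpr hm)⟩⟩))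
  let N₁ : Submodule (MvPolynomial (Fin n) A₁) (FreeMod A₁ b n) :=
    Submodule.span _ ((Set.range v0) ∪ Set.range fun gj : G × Fin b => Pi.single gj.2 (g0 gj.1))
  have hsingle : ∀ (g : G) (j : Fin b), GenFree.phi R (Pi.single j (g0 g) : FreeMod A₁ b n) = Pi.single j (g : P) := by
    intro g j
    funext s
    rw [GenFree.phi_apply]
    by_cases h : s = j
    · subst h; rw [Pi.single_eq_same, Pi.single_eq_same, hg0]
    · rw [Pi.single_eq_of_ne h, Pi.single_eq_of_ne h, map_zero]
  have hphiT : ∀ v : T, GenFree.phi R (v0 v) = (v : F) := fun v => funext fun j =>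
    (GenFree.phi_apply R (v0 v) j).trans (hv0 v j)
  have hphi_smul : ∀ (C : Type u) [CommRing C] [Algebra A₁ C] (p : MvPolynomial (Fin n) A₁) (v : FreeMod A₁ b n),
      GenFree.phi C (p • v) = MvPolynomial.map (algebraMap A₁ C) p • GenFree.phi C v := fun C _ _ p v => funext fun s => by
    rw [GenFree.phi_apply, Pi.smul_apply, Pi.smul_apply, GenFree.phi_apply, smul_eq_mul, smul_eq_mul, map_mul]
  have hker : GenFree.locN R N₁ = LinearMap.ker q := by
    rw [← hTker]
    refine le_antisymm (Submodule.span_le.2 ?_) (Submodule.span_le.2 fun v hv => ?_)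
    · rintro _ ⟨w, hw, rfl⟩
      induction hw using Submodule.span_induction with
      | mem x hx =>
        rcases hx with ⟨v, rfl⟩ | ⟨⟨g, j⟩, rfl⟩
        · rw [hphiT]; exact Submodule.subset_span v.2
        · rw [hsingle]
          exact Submodule.subset_span (Finset.mem_union_right _ (Finset.mem_image.2
            ⟨⟨g, j⟩, Finset.mem_product.2 ⟨g.2, Finset.mem_univ _⟩, rfl⟩))
      | zero => rw [map_zero]; exact zero_mem _
      | add x y _ _ hx hy => rw [map_add]; exact add_mem hx hy
      | smul p x _ hx => rw [hphi_smul]; exact Submodule.smul_mem _ _ hx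
    · exact Submodule.subset_span ⟨v0 ⟨v, hv⟩, Submodule.subset_span (Or.inl ⟨_, rfl⟩), hphiT _⟩
  haveI : Module.Flat R (FreeMod R b n ⧸ GenFree.locN R N₁) :=
    Module.Flat.of_linearEquiv ((Submodule.quotEquivOfEq _ _ hker ≪≫ₗ q.quotKerEquivOfSurjective hq).restrictScalars R)
  obtain ⟨R₀, hle, hR₀, hflat⟩ := exists_flat_enlarge A₁ hA₁ N₁
  letI algA : Algebra A₁ R₀ := (Subalgebra.inclusion hle).toRingHom.toAlgebra
  haveI : IsScalarTower A₁ R₀ R := .of_algebraMap_eq fun _ => rfl
  let I' : Ideal (MvPolynomial (Fin n) R₀) :=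
    (Ideal.span (Set.range g0)).map (MvPolynomial.map (algebraMap A₁ R₀))
  let N' := GenFree.locN R₀ N₁
  let M₀ := FreeMod R₀ b n ⧸ N'
  have hflat' : Module.Flat R₀ M₀ := flat_quotient_of_flatSet _ hflat
  have hI'N : ∀ x ∈ I', ∀ v : FreeMod R₀ b n, x • v ∈ N' := by
    intro x hx v
    have hv : v = ∑ j, v j • (Pi.single j 1 : FreeMod R₀ b n) := by
      funext s
      rw [Finset.sum_apply, Finset.sum_eq_single s (fun j _ hj => by
        rw [Pi.smul_apply, Pi.single_eq_of_ne (Ne.symm hj), smul_zero]) (by simp),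
        Pi.smul_apply, Pi.single_eq_same, smul_eq_mul, mul_one]
    rw [hv, Finset.smul_sum]
    refine sum_mem fun j _ => ?_
    rw [smul_comm]
    refine Submodule.smul_mem _ _ ?_
    have hx' : x ∈ Ideal.span (MvPolynomial.map (algebraMap A₁ R₀) '' Set.range g0) := by
      rwa [← Ideal.map_span]
    clear hx
    induction hx' using Submodule.span_induction with
    | mem z hz =>
      obtain ⟨_, ⟨g, rfl⟩, rfl⟩ := hz
      refine Submodule.subset_span ⟨Pi.single j (g0 g), Submodule.subset_span (Or.inr ⟨⟨g, j⟩, rfl⟩), ?_⟩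
      funext s
      rw [GenFree.phi_apply, Pi.smul_apply]
      by_cases h : s = j
      · subst h; rw [Pi.single_eq_same, Pi.single_eq_same, smul_eq_mul, mul_one]
      · rw [Pi.single_eq_of_ne h, Pi.single_eq_of_ne h, map_zero, smul_zero]
    | zero => rw [zero_smul]; exact zero_mem _
    | add a c _ _ ha hc => rw [add_smul]; exact add_mem ha hc
    | smul c a _ ha => rw [smul_assoc]; exact Submodule.smul_mem _ _ ha
  have htor : Module.IsTorsionBySet (MvPolynomial (Fin n) R₀) M₀ (I' : Set (MvPolynomial (Fin n) R₀)) := by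
    rintro m ⟨x, hx⟩
    obtain ⟨v, rfl⟩ := Submodule.Quotient.mk_surjective _ m
    exact (Submodule.Quotient.mk_eq_zero N').2 (hI'N x hx v)
  let S₀ := MvPolynomial (Fin n) R₀ ⧸ I'
  letI crS₀ : CommRing S₀ := Ideal.Quotient.commRing I'
  letI modS₀ : Module S₀ M₀ := htor.module
  haveI : IsScalarTower (MvPolynomial (Fin n) R₀) S₀ M₀ := htor.isScalarTower
  haveI : IsScalarTower R₀ S₀ M₀ := htor.isScalarTower
  -- the comparison maps
  let μ : MvPolynomial (Fin n) R₀ →+* MvPolynomial (Fin n) R := MvPolynomial.map (algebraMap R₀ R)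
  have hμg : ∀ g : G, μ (MvPolynomial.map (algebraMap A₁ R₀) (g0 g)) = (g : P) := fun g => by
    show MvPolynomial.map _ (MvPolynomial.map _ (g0 g)) = _
    rw [MvPolynomial.map_map, ← IsScalarTower.algebraMap_eq, hg0]
  let χ : S₀ →+* S := Ideal.Quotient.lift I' (π.toRingHom.comp μ) (by
    intro x hx
    have hle' : I' ≤ RingHom.ker (π.toRingHom.comp μ) := by
      refine Ideal.map_le_iff_le_comap.2 (Ideal.span_le.2 ?_)
      rintro _ ⟨g, rfl⟩
      show π (μ _) = 0
      rw [hμg]
      exact hG.le (Submodule.subset_span g.2)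
    exact hle' hx)
  letI algS₀S : Algebra S₀ S := χ.toAlgebra
  haveI tR₀ : IsScalarTower R₀ S₀ S := IsScalarTower.of_algebraMap_eq (R := R₀) (S := S₀) (A := S) fun r => by
    show algebraMap R₀ S r = π (μ (MvPolynomial.C r))
    rw [show μ (MvPolynomial.C r) = MvPolynomial.C (algebraMap R₀ R r) from MvPolynomial.map_C _ r,
      IsScalarTower.algebraMap_apply R₀ R S, ← MvPolynomial.algebraMap_eq, π.commutes]
  letI modS₀M : Module S₀ M := Module.compHom M χ
  haveI : IsScalarTower S₀ S M := .of_algebraMap_smul fun _ _ => rfl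
  -- the map of modules
  have hphi_smul' : ∀ (p : MvPolynomial (Fin n) R₀) (v : FreeMod R₀ b n),
      GenFree.phi R (p • v) = μ p • GenFree.phi R v := fun p v => funext fun s => by
    rw [GenFree.phi_apply, Pi.smul_apply, Pi.smul_apply, GenFree.phi_apply, smul_eq_mul, smul_eq_mul, map_mul]
  have hphiN : ∀ v ∈ N', GenFree.phi R v ∈ LinearMap.ker q := by
    intro v hv
    induction hv using Submodule.span_induction with
    | mem x hx =>
      obtain ⟨w, hw, rfl⟩ := hx
      rw [← hker]
      refine Submodule.subset_span ⟨w, hw, funext fun s => ?_⟩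
      rw [GenFree.phi_apply, GenFree.phi_apply, GenFree.phi_apply, MvPolynomial.map_map,
        ← IsScalarTower.algebraMap_eq]
    | zero => rw [map_zero]; exact zero_mem _
    | add x y _ _ hx hy => rw [map_add]; exact add_mem hx hy
    | smul p x _ hx => rw [hphi_smul']; exact Submodule.smul_mem _ _ hx
  let f₀ : M₀ →+ M := QuotientAddGroup.lift N'.toAddSubgroup
    (q.toAddMonoidHom.comp (GenFree.phi R (R := R₀) (a := b) (n := n)).toAddMonoidHom)
    (fun v hv => LinearMap.mem_ker.1 (hphiN v hv))
  have hf₀ : ∀ v, f₀ (Submodule.Quotient.mk v) = q (GenFree.phi R v) := fun v => rfl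
  let f : M₀ →ₗ[S₀] M :=
    { toFun := f₀
      map_add' := map_add f₀
      map_smul' := fun s m => by
        obtain ⟨p, rfl⟩ := Ideal.Quotient.mk_surjective s
        obtain ⟨v, rfl⟩ := Submodule.Quotient.mk_surjective _ m
        show f₀ (Submodule.Quotient.mk (p • v)) = χ (Ideal.Quotient.mk I' p) • f₀ (Submodule.Quotient.mk v)
        rw [hf₀, hf₀, hphi_smul', map_smul]
        rfl }
  -- the inverse of the comparison
  let ι : MvPolynomial (Fin n) R₀ →+* S₀ := Ideal.Quotient.mk I'
  let ē : Fin b → M₀ := fun j => Submodule.Quotient.mk (Pi.single j 1)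
  let r : FreeMod R b n →ₗ[P] TensorProduct S₀ S M₀ :=
    ∑ j, (LinearMap.toSpanSingleton P (TensorProduct S₀ S M₀) ((1 : S) ⊗ₜ[S₀] ē j)) ∘ₗ LinearMap.proj j
  have hr : ∀ v : FreeMod R₀ b n, r (GenFree.phi R v) = (1 : S) ⊗ₜ[S₀] (Submodule.Quotient.mk v : M₀) := by
    intro v
    simp only [r, LinearMap.coe_sum, Finset.sum_apply, LinearMap.comp_apply, LinearMap.proj_apply,
      LinearMap.toSpanSingleton_apply]
    have hv : (Submodule.Quotient.mk v : M₀) = ∑ j, ι (v j) • ē j := by
      have hv' : v = ∑ j, v j • (Pi.single j 1 : FreeMod R₀ b n) := by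
        funext s
        rw [Finset.sum_apply, Finset.sum_eq_single s (fun j _ hj => by
          rw [Pi.smul_apply, Pi.single_eq_of_ne (Ne.symm hj), smul_zero]) (by simp),
          Pi.smul_apply, Pi.single_eq_same, smul_eq_mul, mul_one]
      conv_lhs => rw [hv']
      rw [← Submodule.mkQ_apply, map_sum]
      exact Finset.sum_congr rfl fun j _ => rfl
    rw [hv, TensorProduct.tmul_sum]
    refine Finset.sum_congr rfl fun j _ => ?_
    rw [TensorProduct.tmul_smul, ← algebraMap_smul S (GenFree.phi R v j) ((1 : S) ⊗ₜ[S₀] ē j),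
      ← algebraMap_smul S (ι (v j)) ((1 : S) ⊗ₜ[S₀] ē j), GenFree.phi_apply]
    rfl
  have hrker : LinearMap.ker q ≤ LinearMap.ker r := by
    rw [← hker, GenFree.locN, Submodule.span_le]
    rintro _ ⟨w, hw, rfl⟩
    have e : GenFree.phi R w = GenFree.phi R (GenFree.phi R₀ w) := funext fun s => by
      rw [GenFree.phi_apply, GenFree.phi_apply, GenFree.phi_apply, MvPolynomial.map_map,
        ← IsScalarTower.algebraMap_eq]
    show r _ = 0
    rw [e, hr, (Submodule.Quotient.mk_eq_zero N').2 (GenFree.phi_mem R₀ N₁ hw), TensorProduct.tmul_zero]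
  let back : M →ₗ[P] TensorProduct S₀ S M₀ :=
    (LinearMap.ker q).liftQ r hrker ∘ₗ (q.quotKerEquivOfSurjective hq).symm.toLinearMap
  have hback : ∀ v, back (q v) = r v := fun v => by
    show (LinearMap.ker q).liftQ r hrker ((q.quotKerEquivOfSurjective hq).symm (q v)) = r v
    rw [show (q.quotKerEquivOfSurjective hq).symm (q v) = Submodule.Quotient.mk v from
      (q.quotKerEquivOfSurjective hq).injective ((LinearEquiv.apply_symm_apply _ _).trans rfl)]
    rfl
  let h : TensorProduct S₀ S M₀ →ₗ[S] M := f.liftBaseChange S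
  have hh : ∀ (s : S) (m : M₀), h (s ⊗ₜ[S₀] m) = s • f m := fun s m => LinearMap.liftBaseChange_tmul ..
  have hbij : Function.Bijective h := by
    refine ⟨Function.LeftInverse.injective (g := back) fun x => ?_, fun m => ?_⟩
    · induction x using TensorProduct.induction_on with
      | zero => simp
      | add x y hx hy => rw [map_add, map_add, hx, hy]
      | tmul s m =>
        obtain ⟨p, rfl⟩ := hπ s
        obtain ⟨v, rfl⟩ := Submodule.Quotient.mk_surjective _ m
        rw [hh]
        show back (algebraMap P S p • q (GenFree.phi R v)) = _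
        rw [algebraMap_smul, ← map_smul, hback, map_smul, hr, ← algebraMap_smul S p,
          TensorProduct.smul_tmul', smul_eq_mul, mul_one]
        rfl
    · obtain ⟨v, rfl⟩ := hq m
      refine ⟨∑ j, (algebraMap P S (v j)) ⊗ₜ[S₀] ē j, ?_⟩
      rw [map_sum]
      have hv' : v = ∑ j, v j • (Pi.single j 1 : FreeMod R b n) := by
        funext s
        rw [Finset.sum_apply, Finset.sum_eq_single s (fun j _ hj => by
          rw [Pi.smul_apply, Pi.single_eq_of_ne (Ne.symm hj), smul_zero]) (by simp),
          Pi.smul_apply, Pi.single_eq_same, smul_eq_mul, mul_one]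
      conv_rhs => rw [hv', map_sum]
      refine Finset.sum_congr rfl fun j _ => ?_
      rw [hh, map_smul, algebraMap_smul]
      show v j • q (GenFree.phi R (Pi.single j 1 : FreeMod R₀ b n)) = _
      congr 2
      funext s
      rw [GenFree.phi_apply]
      by_cases hs : s = j
      · subst hs; rw [Pi.single_eq_same, Pi.single_eq_same, map_one]
      · rw [Pi.single_eq_of_ne hs, Pi.single_eq_of_ne hs, map_zero]
  have hbc : IsBaseChange S f := IsBaseChange.of_equiv (LinearEquiv.ofBijective h hbij) fun m => by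
    show h (1 ⊗ₜ[S₀] m) = f m
    rw [hh, one_smul]
  -- the algebra is a base change
  have hpo : Algebra.IsPushout R₀ R S₀ S := by
    let e3 : TensorProduct R₀ R S₀ ≃ₐ[R] (TensorProduct R₀ R (MvPolynomial (Fin n) R₀)) ⧸
        I'.map (Algebra.TensorProduct.includeRight :
          MvPolynomial (Fin n) R₀ →ₐ[R₀] TensorProduct R₀ R (MvPolynomial (Fin n) R₀)) :=
      Algebra.TensorProduct.tensorQuotientEquiv (R := R₀) R (MvPolynomial (Fin n) R₀) R I'
    let e4 : TensorProduct R₀ R (MvPolynomial (Fin n) R₀) ≃ₐ[R] MvPolynomial (Fin n) R :=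
      MvPolynomial.algebraTensorAlgEquiv R₀ R
    have he4 : ∀ p : MvPolynomial (Fin n) R₀, e4 (1 ⊗ₜ[R₀] p) = μ p := by
      intro p
      simp [e4, μ]
    have hmap : RingHom.ker π.toRingHom =
        (I'.map (Algebra.TensorProduct.includeRight :
          MvPolynomial (Fin n) R₀ →ₐ[R₀] TensorProduct R₀ R (MvPolynomial (Fin n) R₀))).map
            (e4 : TensorProduct R₀ R (MvPolynomial (Fin n) R₀) →+* MvPolynomial (Fin n) R) := by
      refine Eq.trans ?_ (Eq.symm (Ideal.map_map _ _))
      show RingHom.ker π.toRingHom = Ideal.map _ ((Ideal.span (Set.range g0)).map _)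
      rw [Ideal.map_map, Ideal.map_span, ← hG, ← Set.range_comp]
      congr 1
      ext z
      refine ⟨fun hz => ⟨⟨z, hz⟩, ?_⟩, ?_⟩
      · show e4 (1 ⊗ₜ[R₀] MvPolynomial.map (algebraMap A₁ R₀) (g0 ⟨z, hz⟩)) = z
        rw [he4, hμg]
      · rintro ⟨g, rfl⟩
        show e4 (1 ⊗ₜ[R₀] MvPolynomial.map (algebraMap A₁ R₀) (g0 g)) ∈ (G : Set P)
        rw [he4, hμg]
        exact g.2
    let e : TensorProduct R₀ R S₀ ≃ₐ[R] S :=
      (e3.trans (Ideal.quotientEquivAlg _ _ e4 hmap)).trans (Ideal.quotientKerAlgEquivOfSurjective hπ)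
    refine ⟨IsBaseChange.of_equiv e.toLinearEquiv fun x => ?_⟩
    obtain ⟨p, rfl⟩ := Ideal.Quotient.mk_surjective x
    show e (1 ⊗ₜ[R₀] Ideal.Quotient.mk I' p) = π (μ p)
    rw [← he4]
    rfl
  haveI : Algebra.FiniteType ℤ R₀ := (Subalgebra.fg_iff_finiteType R₀).1 hR₀
  haveI : Module.Finite S₀ M₀ := Module.Finite.of_restrictScalars_finite (MvPolynomial (Fin n) R₀) S₀ M₀
  exact ⟨R₀, inferInstance, inferInstance, S₀, inferInstance, inferInstance, algS₀S, inferInstance,
    inferInstance, tR₀, M₀, inferInstance, modS₀, inferInstance, inferInstance, modS₀M, inferInstance, f,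
    inferInstance, inferInstance, inferInstance, hflat', hpo, hbc⟩

end Groth.Agent.S9456
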