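import Groth.Statements.S9457
import Groth.Agent.EtaleDec.Main
-- import your own Groth.Agent.* helpers here

set_option autoImplicit false
universe u
open CAlg

namespace Groth.Agent.S9457

theorem closure_range_algebraMap_residueField (R : Type u) [CommRing R] (p : Ideal R) [p.IsPrime] :
    Subfield.closure (Set.range (algebraMap R p.ResidueField)) = ⊤ := by
  rw [eq_top_iff]
  rintro x -
  obtain ⟨a, b, hb, rfl⟩ := IsFractionRing.div_surjective (A := R ⧸ p) x
  obtain ⟨a, rfl⟩ := Ideal.Quotient.mk_surjective a
  obtain ⟨b, rfl⟩ := Ideal.Quotient.mk_surjective b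
  refine div_mem (Subfield.subset_closure ⟨a, ?_⟩) (Subfield.subset_closure ⟨b, ?_⟩) <;>
    exact IsScalarTower.algebraMap_apply R (R ⧸ p) p.ResidueField _

open TensorProduct in
/-- For a finite type ring map R → S and a prime p of R there are an étale R-algebra R', a prime p' of
R' over p with trivial residue field extension κ(p) = κ(p') (the image of R generates κ(p') as a
field), and a decomposition R' ⊗_R S ≅ A_1 × ⋯ × A_n × B of R'-algebras in which every A_i is finite
over R' with exactly one prime lying over p' and R' → B is quasi-finite at no prime of B lying over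
p'. -/
theorem result (R : Type u) [CommRing R]
    (S : Type u) [CommRing S] [Algebra R S] [Algebra.FiniteType R S] (p : Ideal R) [p.IsPrime] :
    ∃ (R' : Type u) (_ : CommRing R') (_ : Algebra R R') (_ : Algebra.Etale R R') (p' : Ideal R')
      (_ : p'.IsPrime) (_ : p'.LiesOver p) (n : ℕ) (A : Fin n → Type u) (_ : ∀ i, CommRing (A i))
      (_ : ∀ i, Algebra R' (A i)) (B : Type u) (_ : CommRing B) (_ : Algebra R' B),
      Subfield.closure (Set.range (algebraMap R p'.ResidueField)) = ⊤ ∧
      Nonempty ((R' ⊗[R] S) ≃ₐ[R'] ((∀ i, A i) × B)) ∧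
        (∀ i, Module.Finite R' (A i) ∧
          ∃! r : Ideal (A i), r.IsPrime ∧ r.comap (algebraMap R' (A i)) = p') ∧
        ∀ (q : Ideal B) [q.IsPrime], q.comap (algebraMap R' B) = p' →
          ¬ Algebra.QuasiFiniteAt R' q := by
  obtain ⟨R', _, _, hEt, P, _, _, ι, hι, A, _, _, B, _, _, hbij, ⟨E⟩, hA, hB⟩ :=
    Groth.Agent.EtaleDec.hasDec _ R S p rfl
  let e := Fintype.equivFin ι
  refine ⟨R', inferInstance, inferInstance, hEt, P, inferInstance, inferInstance, Fintype.card ι,
    fun i => A (e.symm i), inferInstance, inferInstance, B, inferInstance, inferInstance, ?_,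
    ⟨E.trans (AlgEquiv.prodCongr (AlgEquiv.piCongrLeft' R' A e) AlgEquiv.refl)⟩,
    fun i => hA (e.symm i), fun q hq hqP hqf => ?_⟩
  · let φ : p.ResidueField →+* P.ResidueField :=
      (Ideal.ResidueField.mapₐ p P (Algebra.ofId _ _) (P.over_def p)).toRingHom
    have hrange : Set.range (algebraMap R P.ResidueField) =
        φ '' Set.range (algebraMap R p.ResidueField) := by
      rw [← Set.range_comp]
      exact congrArg Set.range (funext fun r =>
        ((Ideal.ResidueField.mapₐ p P (Algebra.ofId _ _) (P.over_def p)).commutes r).symm)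
    rw [hrange, ← RingHom.map_field_closure, closure_range_algebraMap_residueField,
      ← RingHom.fieldRange_eq_map]
    exact φ.fieldRange_eq_top_iff.mpr hbij.2
  · haveI : Algebra.FiniteType R' B := by
      haveI : Algebra.FiniteType R' ((∀ i, A i) × B) :=
        (inferInstance : Algebra.FiniteType R' (R' ⊗[R] S)).equiv E
      exact Algebra.FiniteType.of_surjective (AlgHom.snd R' (∀ i, A i) B) Prod.snd_surjective
    have hmem := (Groth.Agent.EtaleDec.quasiFiniteAt_iff_isoPrimes P
      ⟨q, hq, ⟨hqP.symm⟩⟩).mp hqf
    rw [hB] at hmem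
    exact hmem

end Groth.Agent.S9457
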