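import Groth.Statements.S9462
import Mathlib
import Groth.Agent.EtDescent.Smooth

set_option autoImplicit false
universe u
open CAlg

namespace Groth.Agent.S9462

open TensorProduct in
/-- Consider surjections A' → A and B' → B with square-zero kernels I and J and a commutative square A'
→ B', A → B. If A → B is étale and J = I ⊗_A B — that is, J = IB' and the multiplication map B'
⊗_{A'} I → B' is injective — then A' → B' is étale. -/
theorem result (A' : Type u) [CommRing A'] (A : Type u) [CommRing A]
    [Algebra A' A] (hA : Function.Surjective (algebraMap A' A))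
    (hI : RingHom.ker (algebraMap A' A) ^ 2 = ⊥)
    (B' : Type u) [CommRing B'] [Algebra A' B'] (B : Type u) [CommRing B] [Algebra B' B]
    [Algebra A B] [Algebra A' B] [IsScalarTower A' A B] [IsScalarTower A' B' B]
    (hB : Function.Surjective (algebraMap B' B)) (hJ : RingHom.ker (algebraMap B' B) ^ 2 = ⊥)
    [Algebra.Etale A B]
    (hJI : RingHom.ker (algebraMap B' B) = (RingHom.ker (algebraMap A' A)).map (algebraMap A' B'))
    (hinj : Function.Injective ((RingHom.ker (algebraMap A' A)).subtype.baseChange B')) :
    Algebra.Etale A' B' := by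
  classical
  set I := RingHom.ker (algebraMap A' A)
  obtain ⟨Q, _, _, φ, hQ, hφ, hkerφ⟩ := Groth.Agent.EtDescent.exists_etale_lift A' A B hA
  let π : B' →ₐ[A'] B := IsScalarTower.toAlgHom A' B' B
  let e : (B' ⧸ RingHom.ker π) ≃ₐ[A'] B := Ideal.quotientKerAlgEquivOfSurjective (f := π) hB
  obtain ⟨ψ, hψ⟩ := (Algebra.FormallyEtale.comp_bijective (R := A') (A := Q) (RingHom.ker π)
    (by exact hJ)).2 (e.symm.toAlgHom.comp φ)
  have hπψ : ∀ q, algebraMap B' B (ψ q) = φ q := fun q => by
    have := congrArg e (AlgHom.congr_fun hψ q)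
    exact this.trans (e.apply_symm_apply (φ q))
  let f : Q →ₗ[A'] B' := ψ.toLinearMap
  have hIJ : ∀ a ∈ I, ∀ y ∈ RingHom.ker (algebraMap B' B), algebraMap A' B' a * y = 0 := by
    intro a ha y hy
    have h2 : algebraMap A' B' a * y ∈ RingHom.ker (algebraMap B' B) ^ 2 := by
      rw [pow_two]
      refine Ideal.mul_mem_mul ?_ hy
      rw [hJI]; exact Ideal.mem_map_of_mem _ ha
    rwa [hJ, Ideal.mem_bot] at h2
  have hψsurj : Function.Surjective ψ := by
    intro b
    obtain ⟨q, hq⟩ := hφ (algebraMap B' B b)
    have hbq : b - ψ q ∈ I.map (algebraMap A' B') := by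
      rw [← hJI, RingHom.mem_ker, map_sub, hπψ, hq, sub_self]
    have key : ∀ y ∈ I.map (algebraMap A' B'), ∀ s, ∃ t, ψ t = s * y := by
      intro y hy
      induction hy using Submodule.span_induction with
      | mem c hc =>
        obtain ⟨a, ha, rfl⟩ := hc
        intro s
        obtain ⟨r, hr⟩ := hφ (algebraMap B' B s)
        refine ⟨r * algebraMap A' Q a, ?_⟩
        rw [map_mul, AlgHom.commutes, ← sub_eq_zero, ← sub_mul, mul_comm]
        exact hIJ a ha _ (by rw [RingHom.mem_ker, map_sub, hπψ, hr, sub_self])
      | zero => intro s; exact ⟨0, by rw [map_zero, mul_zero]⟩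
      | add u v _ _ hu hv =>
        intro s; obtain ⟨t, ht⟩ := hu s; obtain ⟨t', ht'⟩ := hv s
        exact ⟨t + t', by rw [map_add, ht, ht', mul_add]⟩
      | smul c u _ hu => intro s; obtain ⟨t, ht⟩ := hu (s * c); exact ⟨t, by rw [ht, smul_eq_mul, mul_assoc]⟩
    obtain ⟨t, ht⟩ := key _ hbq 1
    exact ⟨q + t, by rw [map_add, ht, one_mul, add_sub_cancel]⟩
  have hker : ∀ q ∈ LinearMap.ker f, q ∈ I.map (algebraMap A' Q) := fun q hq => by
    rw [← hkerφ]
    show φ q = 0
    rw [← hπψ, show ψ q = 0 from hq, map_zero]
  -- `ψ ⊗ I` is injective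
  have hinj' : Function.Injective (f.rTensor I) := by
    have hex : Function.Exact ((LinearMap.ker f).subtype.rTensor I) (f.rTensor I) :=
      rTensor_exact I (LinearMap.exact_subtype_ker_map f) hψsurj
    rw [injective_iff_map_eq_zero]
    intro z hz
    obtain ⟨w, rfl⟩ := (hex z).1 hz
    induction w using TensorProduct.induction_on with
    | zero => rw [map_zero]
    | add u v hu hv =>
      have h0 : ∀ w, f.rTensor I ((LinearMap.ker f).subtype.rTensor I w) = 0 := fun w => (hex _).2 ⟨w, rfl⟩
      rw [map_add, hu (h0 u), hv (h0 v), add_zero]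
    | tmul q i =>
      rw [LinearMap.rTensor_tmul, Submodule.subtype_apply]
      obtain ⟨q, hq⟩ := q
      have h1 := hker q hq
      clear hz
      suffices ∀ x ∈ I.map (algebraMap A' Q), ∀ s : Q, (s * x) ⊗ₜ[A'] i = 0 by simpa using this q h1 1
      intro x hx
      induction hx using Submodule.span_induction with
      | mem c hc =>
        obtain ⟨a, ha, rfl⟩ := hc
        intro s
        rw [mul_comm, ← Algebra.smul_def, TensorProduct.smul_tmul]
        have h2 : a • i = 0 := Subtype.ext (by
          have : a * (i : A') ∈ I ^ 2 := by rw [pow_two]; exact Ideal.mul_mem_mul ha i.2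
          rw [hI, Ideal.mem_bot] at this
          exact this)
        rw [h2, TensorProduct.tmul_zero]
      | zero => intro s; rw [mul_zero, TensorProduct.zero_tmul]
      | add u v _ _ hu hv => intro s; rw [mul_add, TensorProduct.add_tmul, hu, hv, add_zero]
      | smul c u _ hu => intro s; rw [smul_eq_mul, ← mul_assoc, hu]
  have hψinj : Function.Injective ψ := by
    rw [injective_iff_map_eq_zero]
    intro q hq
    let μ : ∀ (C : Type u) [CommRing C] [Algebra A' C], TensorProduct A' C I →ₗ[A'] C := fun C _ _ =>
      TensorProduct.lift ((LinearMap.lsmul A' C).comp I.subtype).flip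
    have hμ : ∀ (C : Type u) [CommRing C] [Algebra A' C] (c : C) (i : I),
        μ C (c ⊗ₜ i) = (i : A') • c := fun C _ _ c i => rfl
    obtain ⟨z, rfl⟩ : ∃ z, μ Q z = q := by
      have h1 := hker q hq
      suffices ∀ x ∈ I.map (algebraMap A' Q), ∀ s, ∃ z, μ Q z = s * x by simpa using this q h1 1
      intro x hx
      induction hx using Submodule.span_induction with
      | mem c hc =>
        obtain ⟨a, ha, rfl⟩ := hc
        intro s
        exact ⟨s ⊗ₜ ⟨a, ha⟩, by rw [hμ, Algebra.smul_def, mul_comm]⟩
      | zero => intro s; exact ⟨0, by rw [map_zero, mul_zero]⟩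
      | add u v _ _ hu hv =>
        intro s; obtain ⟨t, ht⟩ := hu s; obtain ⟨t', ht'⟩ := hv s
        exact ⟨t + t', by rw [map_add, ht, ht', mul_add]⟩
      | smul c u _ hu => intro s; obtain ⟨t, ht⟩ := hu (s * c); exact ⟨t, by rw [ht, smul_eq_mul, mul_assoc]⟩
    have hnat : ∀ z, ψ (μ Q z) = μ B' (f.rTensor I z) := by
      intro z
      induction z using TensorProduct.induction_on with
      | zero => simp
      | tmul c i => rw [LinearMap.rTensor_tmul, hμ, hμ, map_smul]; rfl
      | add u v hu hv => simp only [map_add, hu, hv]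
    rw [hnat] at hq
    have h0 : f.rTensor I z = 0 := by
      apply hinj
      rw [map_zero]
      refine (TensorProduct.AlgebraTensorModule.rid A' B' B').injective ?_
      rw [map_zero, ← hq]
      generalize f.rTensor I z = w
      induction w using TensorProduct.induction_on with
      | zero => simp
      | tmul c i => rw [LinearMap.baseChange_tmul, hμ]; simp
      | add u v hu hv => simp only [map_add, hu, hv]
    rw [show z = 0 from hinj' (h0.trans (map_zero _).symm), map_zero]
  exact Algebra.Etale.of_equiv (AlgEquiv.ofBijective ψ ⟨hψinj, hψsurj⟩)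

end Groth.Agent.S9462
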