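import Groth.Statements.S9470
import Groth.Agent.SHTensor.HenselColim
-- import your own Groth.Agent.* helpers here

set_option autoImplicit false
universe u
open Hensel

namespace Groth.Agent.S9470

/-- Let R be a ring, p a prime of R and R^h a henselization of the local ring R_p, regarded as an
R-algebra through R_p. For pairs (S, q) with S an étale R-algebra and q a prime of S over p such
that κ(p) → κ(q) is bijective: (a) there is exactly one R-algebra map f : S → R^h under which the
maximal ideal pulls back to q; (b) every element of R^h is f(s) for some such pair, map f and s ∈ S;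
(c) if such an f sends s to 0, then some R-algebra map S → S' to another such pair (S', q'), pulling
q' back to q, already sends s to 0. Together with filteredness of the category of pairs this
expresses that R^h is canonically the colimit of S over all pairs (S, q). (The published statement
also records the equal colimit of the local rings S_q.) -/
theorem result (R : Type u) [CommRing R]
    (p : Ideal R) [p.IsPrime] (Rh : Type u) [CommRing Rh] [IsLocalRing Rh]
    [Algebra (Localization.AtPrime p) Rh] [IsLocalHom (algebraMap (Localization.AtPrime p) Rh)]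
    [Hensel.IsHenselization (Localization.AtPrime p) Rh] [Algebra R Rh]
    [IsScalarTower R (Localization.AtPrime p) Rh] :
    (∀ (S : Type u) [CommRing S] [Algebra R S] [Algebra.Etale R S] (q : Ideal S) [q.IsPrime]
        (hq : p = q.comap (algebraMap R S)),
        Function.Bijective (Ideal.ResidueField.map p q (algebraMap R S) hq) →
          ∃! f : S →ₐ[R] Rh, (IsLocalRing.maximalIdeal Rh).comap f.toRingHom = q) ∧
    (∀ x : Rh, ∃ (S : Type u) (_ : CommRing S) (_ : Algebra R S) (_ : Algebra.Etale R S) (q : Ideal S)
        (_ : q.IsPrime) (hq : p = q.comap (algebraMap R S)),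
        Function.Bijective (Ideal.ResidueField.map p q (algebraMap R S) hq) ∧
          ∃ (f : S →ₐ[R] Rh) (s : S), (IsLocalRing.maximalIdeal Rh).comap f.toRingHom = q ∧ f s = x) ∧
    (∀ (S : Type u) [CommRing S] [Algebra R S] [Algebra.Etale R S] (q : Ideal S) [q.IsPrime]
        (hq : p = q.comap (algebraMap R S)),
        Function.Bijective (Ideal.ResidueField.map p q (algebraMap R S) hq) →
          ∀ (f : S →ₐ[R] Rh), (IsLocalRing.maximalIdeal Rh).comap f.toRingHom = q → ∀ s : S, f s = 0 →
            ∃ (S' : Type u) (_ : CommRing S') (_ : Algebra R S') (_ : Algebra.Etale R S') (q' : Ideal S')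
              (_ : q'.IsPrime) (hq' : p = q'.comap (algebraMap R S')),
              Function.Bijective (Ideal.ResidueField.map p q' (algebraMap R S') hq') ∧
                ∃ φ : S →ₐ[R] S', q'.comap φ.toRingHom = q ∧ φ s = 0) := by
  obtain ⟨e₀⟩ := SHTensor.algEquiv_of_isHenselization (Localization.AtPrime p) (SHTensor.Colim.H R p) Rh
  let e : SHTensor.Colim.H R p ≃ₐ[R] Rh := e₀.restrictScalars R
  have hm : (IsLocalRing.maximalIdeal Rh).comap e.toAlgHom.toRingHom = IsLocalRing.maximalIdeal _ :=
    IsLocalRing.eq_maximalIdeal (Ideal.comap_isMaximal_of_surjective _ e.surjective)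
  have hker : ∀ {S : Type u} [CommRing S] [Algebra R S] (f : S →ₐ[R] Rh) (q : Ideal S),
      (IsLocalRing.maximalIdeal Rh).comap f.toRingHom = q →
        RingHom.ker ((Henselization.εH R p.ResidueField).comp (e.symm.toAlgHom.comp f)).toRingHom = q := by
    intro S _ _ f q hf
    rw [SHTensor.Colim.ker_εH_comp, ← hm, ← hf, Ideal.comap_comap]
    congr 1
    exact RingHom.ext fun x => e.apply_symm_apply (f x)
  refine ⟨fun S _ _ _ q _ hq hκ => ?_, fun x => ?_, fun S _ _ _ q _ hq hκ f hf s hs => ?_⟩
  · obtain ⟨π, hπ⟩ := EtAlgEasy.exists_point q hq hκ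
    obtain ⟨g, hg, hgu⟩ := SHTensor.Colim.existsUnique_algHom π
    refine ⟨e.toAlgHom.comp g, ?_, fun f hf => ?_⟩
    · show (IsLocalRing.maximalIdeal Rh).comap (e.toAlgHom.toRingHom.comp g.toRingHom) = q
      rw [← Ideal.comap_comap, hm, ← SHTensor.Colim.ker_εH_comp, hg, hπ]
    · have h1 := hgu (e.symm.toAlgHom.comp f)
        (SHTensor.Colim.point_unique _ _ ((hker f q hf).trans hπ.symm))
      exact AlgHom.ext fun x => (e.apply_symm_apply (f x)).symm.trans (congrArg e (AlgHom.congr_fun h1 x))
  · obtain ⟨S, _, _, _, π, f, s, hf, hs⟩ := SHTensor.Colim.exists_eq_algHom (e.symm x)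
    haveI : (RingHom.ker π.toRingHom).IsPrime := RingHom.ker_isPrime _
    obtain ⟨hq, hκ⟩ := EtAlgEasy.bijective_of_point π (RingHom.ker π.toRingHom) rfl
    refine ⟨S, inferInstance, inferInstance, inferInstance, RingHom.ker π.toRingHom, inferInstance, hq, hκ,
      e.toAlgHom.comp f, s, ?_, (congrArg e hs).trans (e.apply_symm_apply x)⟩
    show (IsLocalRing.maximalIdeal Rh).comap (e.toAlgHom.toRingHom.comp f.toRingHom) = _
    rw [← Ideal.comap_comap, hm, ← SHTensor.Colim.ker_εH_comp, hf]
  · obtain ⟨S', _, _, _, π', φ, hφ, hφs⟩ := SHTensor.Colim.exists_kill (e.symm.toAlgHom.comp f) s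
      ((congrArg e.symm hs).trans (map_zero e.symm))
    haveI : (RingHom.ker π'.toRingHom).IsPrime := RingHom.ker_isPrime _
    obtain ⟨hq', hκ'⟩ := EtAlgEasy.bijective_of_point π' (RingHom.ker π'.toRingHom) rfl
    refine ⟨S', inferInstance, inferInstance, inferInstance, RingHom.ker π'.toRingHom, inferInstance, hq', hκ',
      φ, ?_, hφs⟩
    rw [← hker f q hf, ← hφ]
    exact RingHom.comap_ker _ _

end Groth.Agent.S9470
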