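import Groth.Statements.S9472
import Groth.Agent.DiffOp.Etale
import Mathlib.LinearAlgebra.TensorProduct.Tower

set_option autoImplicit false
universe u
open Diff16

namespace Groth.Agent.S9472

open TensorProduct in
/-- Let R → S → S' be ring maps with S → S' formally étale, M an S-module and (P, D_u) a module of
principal parts of order k of M relative to R → S, i.e. D_u : M → P is a differential operator of
order at most k through which every differential operator of order at most k from M to an S-module
factors by a unique S-linear map. If D_u' : S' ⊗_S M → S' ⊗_S P is a differential operator of order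
at most k relative to R → S' with D_u'(1 ⊗ m) = 1 ⊗ D_u(m), then (S' ⊗_S P, D_u') is a module of
principal parts of order k of S' ⊗_S M relative to R → S'. (The published statement writes this as
an identification of S' ⊗_S P^k_{S/R}(M) with P^k_{S'/R}(M') and forms M' by base change over R
rather than over S; with base change over R the identification fails already for k = 0, R the
rationals, S = S' a polynomial ring in one variable and M = S, and the published proof computes with
the base change over S, used here. Target modules are taken in one universe.) -/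
theorem result (R S S' : Type u) [CommRing R]
    [CommRing S] [CommRing S'] [Algebra R S] [Algebra R S'] [Algebra S S'] [IsScalarTower R S S']
    [Algebra.FormallyEtale S S'] (M : Type u) [AddCommGroup M] [Module S M] [Module R M]
    [IsScalarTower R S M] (k : ℕ) (P : Type u) [AddCommGroup P] [Module S P] [Module R P]
    [IsScalarTower R S P] (Du : M →ₗ[R] P) (hDu : Diff16.IsDiffOpLE R S M P k Du)
    (huniv : ∀ (N : Type u) [AddCommGroup N] [Module S N] [Module R N] [IsScalarTower R S N]
      (D : M →ₗ[R] N), Diff16.IsDiffOpLE R S M N k D → ∃! α : P →ₗ[S] N, α.restrictScalars R ∘ₗ Du = D)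
    (Du' : S' ⊗[S] M →ₗ[R] S' ⊗[S] P) (hDu' : Diff16.IsDiffOpLE R S' (S' ⊗[S] M) (S' ⊗[S] P) k Du')
    (hext : Du' ∘ₗ (TensorProduct.mk S S' M 1).restrictScalars R =
      (TensorProduct.mk S S' P 1).restrictScalars R ∘ₗ Du) :
    ∀ (N' : Type u) [AddCommGroup N'] [Module S' N'] [Module R N'] [IsScalarTower R S' N']
      (D' : S' ⊗[S] M →ₗ[R] N'), Diff16.IsDiffOpLE R S' (S' ⊗[S] M) N' k D' →
        ∃! α : S' ⊗[S] P →ₗ[S'] N', α.restrictScalars R ∘ₗ Du' = D' := by
  intro N' _ _ _ _ D' hD'
  let _ : Module S N' := Module.compHom N' (algebraMap S S')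
  have : IsScalarTower S S' N' := IsScalarTower.of_algebraMap_smul fun _ _ => rfl
  have : IsScalarTower R S N' := IsScalarTower.of_algebraMap_smul fun r n => by
    show algebraMap S S' (algebraMap R S r) • n = r • n
    rw [← IsScalarTower.algebraMap_apply, algebraMap_smul]
  have hres : Diff16.IsDiffOpLE R S M N' k (D' ∘ₗ (TensorProduct.mk S S' M 1).restrictScalars R) := by
    rw [Groth.Agent.DiffOp.isDiffOpLE_iff']
    intro x hx
    let φ : S ⊗[R] S →ₐ[R] S' ⊗[R] S' :=
      Algebra.TensorProduct.map (IsScalarTower.toAlgHom R S S') (IsScalarTower.toAlgHom R S S')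
    have hφ : ∀ x, Groth.Agent.DiffOp.act R S M N' x
        (D' ∘ₗ (TensorProduct.mk S S' M 1).restrictScalars R) =
        Groth.Agent.DiffOp.act R S' (S' ⊗[S] M) N' (φ x) D' ∘ₗ
          (TensorProduct.mk S S' M 1).restrictScalars R := by
      intro x
      induction x using TensorProduct.induction_on with
      | zero => simp
      | tmul a b =>
        refine LinearMap.ext fun m => ?_
        simp only [φ, Algebra.TensorProduct.map_tmul, LinearMap.comp_apply,
          LinearMap.restrictScalars_apply, TensorProduct.mk_apply, IsScalarTower.coe_toAlgHom',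
          Groth.Agent.DiffOp.act_tmul, algebraMap_smul, TensorProduct.tmul_smul]
      | add x y hx hy => simp [map_add, hx, hy, LinearMap.add_comp]
    rw [hφ, (Groth.Agent.DiffOp.isDiffOpLE_iff' k D').1 hD' (φ x) ?_, LinearMap.zero_comp]
    have hle : KaehlerDifferential.ideal R S ≤ (KaehlerDifferential.ideal R S').comap φ.toRingHom := by
      intro y hy
      show Algebra.TensorProduct.lmul' R (φ y) = 0
      have e : (Algebra.TensorProduct.lmul' R).comp φ =
          (IsScalarTower.toAlgHom R S S').comp (Algebra.TensorProduct.lmul' R) := by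
        ext a <;> simp [φ]
      rw [show Algebra.TensorProduct.lmul' R (φ y) = algebraMap S S'
        (Algebra.TensorProduct.lmul' R y) from AlgHom.congr_fun e y,
        show Algebra.TensorProduct.lmul' R y = 0 from hy, map_zero]
    exact Ideal.le_comap_pow _ _ (Ideal.pow_right_mono hle _ hx)
  obtain ⟨α₀, hα₀, huniq⟩ := huniv N' _ hres
  refine ⟨α₀.liftBaseChange S', ?_, fun β hβ => ?_⟩
  · refine Groth.Agent.DiffOp.extension_unique (hDu'.comp_linear_left (α₀.liftBaseChange S')) hD'
      fun m => ?_
    have h1 : Du' (1 ⊗ₜ m) = 1 ⊗ₜ Du m := LinearMap.congr_fun hext m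
    simp only [LinearMap.comp_apply, LinearMap.restrictScalars_apply, h1,
      LinearMap.liftBaseChange_tmul, one_smul]
    exact LinearMap.congr_fun hα₀ m
  · let β₀ : P →ₗ[S] N' := (β.restrictScalars S).comp (TensorProduct.mk S S' P 1)
    have h2 : β₀ = α₀ := huniq β₀ (LinearMap.ext fun m => by
      have h3 := LinearMap.congr_fun hβ ((1 : S') ⊗ₜ[S] m)
      have h1 : Du' (1 ⊗ₜ m) = 1 ⊗ₜ Du m := LinearMap.congr_fun hext m
      rw [LinearMap.comp_apply, h1] at h3
      exact h3)
    refine TensorProduct.AlgebraTensorModule.ext fun t p => ?_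
    rw [LinearMap.liftBaseChange_tmul, ← h2,
      show t ⊗ₜ[S] p = t • ((1 : S') ⊗ₜ[S] p) by simp [TensorProduct.smul_tmul'], LinearMap.map_smul]
    rfl

end Groth.Agent.S9472
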