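import Groth.Statements.S9485
import Groth.Agent.HyperFEt.Complete
-- import your own Groth.Agent.* helpers here

set_option autoImplicit false
universe u
open Pi1

open Groth.Agent
set_option backward.isDefEq.respectTransparency false
namespace Groth.Agent.S9485

open AlgebraicGeometry CategoryTheory CategoryTheory.Limits in
/-- Let A be a Noetherian local ring with maximal ideal m and f ∈ m, U the punctured spectrum of A and
U₀ that of A/fA (realised as U ×_{Spec A} Spec(A/fA)). Let U' ⊆ U be an open through which U₀ ⟶ Spec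
A factors (as u'). If dim(A/p) ≥ 2 for every minimal prime p of A which lies in U' and does not
contain f, then restriction of finite etale covers along u' is faithful. (Such U' exist, e.g. the
complement in U of the one-dimensional irreducible components not meeting U₀, and the condition
passes to smaller such opens, so restriction from the system of these opens is faithful.) -/
theorem result (A : Type u) [CommRing A] [IsNoetherianRing A] [IsLocalRing A] (f : A) (hf : f ∈ IsLocalRing.maximalIdeal A)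
    (U' : (Spec (CommRingCat.of A)).Opens) (hU' : U' ≤ FEt.puncturedSpec A)
    (u' : pullback (FEt.puncturedSpec A).ι (Spec.map (CommRingCat.ofHom (Ideal.Quotient.mk (Ideal.span {f})))) ⟶ (U' : Scheme.{u})) (hu' : u' ≫ U'.ι = (pullback.fst (FEt.puncturedSpec A).ι (Spec.map (CommRingCat.ofHom (Ideal.Quotient.mk (Ideal.span {f})))) ≫ (FEt.puncturedSpec A).ι))
    (hdim : ∀ p : PrimeSpectrum A, p.asIdeal ∈ minimalPrimes A → p ∈ U' → f ∉ p.asIdeal →
      (2 : WithBot ℕ∞) ≤ ringKrullDim (A ⧸ p.asIdeal)) :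
    (FEt.restrict u').Faithful := by
  refine FEtLib.faithful u' fun S hS ⟨x, hx⟩ => ?_
  let P : PrimeSpectrum A := U'.ι x
  obtain ⟨p, hp, hpP⟩ := Ideal.exists_minimalPrimes_le (bot_le : (⊥ : Ideal A) ≤ P.asIdeal)
  let p' : PrimeSpectrum A := ⟨p, hp.1.1⟩
  have hsp : p' ⤳ P := (PrimeSpectrum.le_iff_specializes p' P).1 hpP
  have hpU : p' ∈ U' := hsp.mem_open U'.2 x.2
  have hxp : (⟨p', hpU⟩ : (U' : Scheme.{u})) ∈ S := by
    have hs : (⟨p', hpU⟩ : (U' : Scheme.{u})) ⤳ x := U'.ι.isOpenEmbedding.isInducing.specializes_iff.1 hsp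
    exact hs.mem_open hS.2 hx
  obtain ⟨q, hpq, hqU, hfq⟩ : ∃ q : PrimeSpectrum A, p' ⤳ q ∧ q ∈ FEt.puncturedSpec A ∧ f ∈ q.asIdeal := by
    by_cases hfp : f ∈ p
    · exact ⟨p', specializes_rfl, hU' hpU, hfp⟩
    have h2 := hdim p' hp hpU hfp
    haveI : p.IsPrime := hp.1.1
    let B := A ⧸ p
    haveI : IsLocalRing B := IsLocalRing.of_surjective' _ Ideal.Quotient.mk_surjective
    let b : B := Ideal.Quotient.mk p f
    haveI : IsLocalHom (Ideal.Quotient.mk p) := IsLocalHom.of_surjective _ Ideal.Quotient.mk_surjective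
    have hb : ¬ ∀ q : PrimeSpectrum B, b ∈ q.asIdeal → q.asIdeal = IsLocalRing.maximalIdeal B := by
      intro hall
      have hbm : b ∈ IsLocalRing.maximalIdeal B := fun hu => hf (by
        by_contra hfu
        exact hfu ((isUnit_map_iff (Ideal.Quotient.mk p) f).1 hu))
      have hrad : IsLocalRing.maximalIdeal B ∈ (Ideal.span {b}).minimalPrimes := by
        refine ⟨⟨inferInstance, (Ideal.span_singleton_le_iff_mem _).2 hbm⟩, fun Q hQ _ => ?_⟩
        exact (hall ⟨Q, hQ.1⟩ ((Ideal.span_singleton_le_iff_mem _).1 hQ.2)).ge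
      have hh := Ideal.height_le_one_of_isPrincipal_of_mem_minimalPrimes _ _ hrad
      have := h2.trans_eq (IsLocalRing.maximalIdeal_height_eq_ringKrullDim (R := B)).symm
      have h21 : (2 : WithBot ℕ∞) ≤ (1 : ℕ∞) := this.trans (WithBot.coe_le_coe.2 hh)
      norm_num at h21
    push Not at hb
    obtain ⟨Q, hbQ, hQ⟩ := hb
    refine ⟨PrimeSpectrum.comap (Ideal.Quotient.mk p) Q, (PrimeSpectrum.le_iff_specializes _ _).1 ?_, ?_, hbQ⟩
    · intro a ha
      show Ideal.Quotient.mk p a ∈ Q.asIdeal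
      rw [Ideal.Quotient.eq_zero_iff_mem.2 ha]
      exact zero_mem _
    · intro hc
      rw [Set.mem_singleton_iff] at hc
      have hc' : Q.asIdeal.comap (Ideal.Quotient.mk p) = IsLocalRing.maximalIdeal A :=
        congrArg PrimeSpectrum.asIdeal hc
      exact hQ (IsLocalRing.eq_maximalIdeal (by
        rw [← Ideal.map_comap_of_surjective _ Ideal.Quotient.mk_surjective Q.asIdeal, hc']
        refine (Ideal.map_eq_top_or_isMaximal_of_surjective _ Ideal.Quotient.mk_surjective inferInstance).resolve_left ?_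
        intro ht
        have := congrArg (Ideal.comap (Ideal.Quotient.mk p)) ht
        rw [Ideal.comap_map_of_surjective' _ Ideal.Quotient.mk_surjective, Ideal.mk_ker, Ideal.comap_top,
          sup_eq_left.2 (IsLocalRing.le_maximalIdeal ‹p.IsPrime›.ne_top)] at this
        exact Ideal.IsMaximal.ne_top inferInstance this))
  obtain ⟨u₀, hu₀⟩ : ∃ u₀, (pullback.fst (FEt.puncturedSpec A).ι
      (Spec.map (CommRingCat.ofHom (Ideal.Quotient.mk (Ideal.span {f}))))) u₀ = ⟨q, hqU⟩ :=
    (HyperFEt.range_r0 A f).ge (show (⟨q, hqU⟩ : (FEt.puncturedSpec A : Scheme.{u})) ∈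
      (FEt.puncturedSpec A).ι ⁻¹' {q : PrimeSpectrum A | f ∈ q.asIdeal} from hfq)
  refine ⟨u₀, ?_⟩
  have hv : U'.ι (u' u₀) = q := by
    rw [← Scheme.Hom.comp_apply, hu', Scheme.Hom.comp_apply, hu₀]
    rfl
  have hsq : (⟨p', hpU⟩ : (U' : Scheme.{u})) ⤳ u' u₀ :=
    U'.ι.isOpenEmbedding.isInducing.specializes_iff.1 (show p' ⤳ U'.ι (u' u₀) from hv ▸ hpq)
  exact hsq.mem_closed hS.1 hxp

end Groth.Agent.S9485
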