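import Groth.Statements.S9491
import Groth.Agent.NormEssIm.Main
-- import your own Groth.Agent.* helpers here

set_option autoImplicit false
set_option backward.isDefEq.respectTransparency false
universe u
open Pi1

namespace Groth.Agent.S9491

open AlgebraicGeometry CategoryTheory CategoryTheory.Limits in
/-- The essential image of restriction of finite etale covers from a normal integral scheme X to its
generic point Spec K consists of the finite etale K-schemes whose points are spectra of finite
extensions L of K in which X is unramified. Precisely: let L be a finite field extension of K and Y₀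
the object Spec L → Spec K of the category of finite etale covers of Spec K; then Y₀ is isomorphic
to the restriction of a finite etale cover of X if and only if the normalization of X in Spec L is
finite etale over X. (With full faithfulness of this restriction functor for normal X, this says
that the fundamental group of X is the Galois group of the union M of all finite subextensions of a
separable closure in which X is unramified.) -/
theorem result {X : Scheme.{u}} [IsIntegral X] (hX : Pi1.IsNormalScheme X)
    (L : Type u) [Field L] [Algebra X.functionField L] [FiniteDimensional X.functionField L]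
    [QuasiCompact (Spec.map (CommRingCat.ofHom (algebraMap X.functionField L)) ≫ X.fromSpecStalk (genericPoint X))] [QuasiSeparated (Spec.map (CommRingCat.ofHom (algebraMap X.functionField L)) ≫ X.fromSpecStalk (genericPoint X))]
    (Y₀ : FEt.Cat (Spec X.functionField)) (e : Y₀.left ≅ Spec (CommRingCat.of L))
    (he : e.hom ≫ Spec.map (CommRingCat.ofHom (algebraMap X.functionField L)) = Y₀.hom) :
    (FEt.restrict (X.fromSpecStalk (genericPoint X))).essImage Y₀ ↔
      (Etale (Spec.map (CommRingCat.ofHom (algebraMap X.functionField L)) ≫ X.fromSpecStalk (genericPoint X)).fromNormalization ∧ IsFinite (Spec.map (CommRingCat.ofHom (algebraMap X.functionField L)) ≫ X.fromSpecStalk (genericPoint X)).fromNormalization) := by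
  set φ := algebraMap X.functionField L with hφ
  constructor
  · rintro ⟨Y, ⟨i⟩⟩
    have hw := MorphismProperty.Over.w i.inv
    refine Groth.Agent.NormEssIm.of_extends L φ _ rfl hX Y
      (e.symm ≪≫ (MorphismProperty.Over.forget _ _ _ ⋙ Over.forget _).mapIso i.symm) ?_
    simp only [Iso.trans_hom, Category.assoc]
    change e.inv ≫ i.inv.left ≫ ((FEt.restrict _).obj Y).hom = _
    rw [hw, ← he, Iso.inv_hom_id_assoc]
  · rintro ⟨h1, h2⟩
    haveI := h1
    haveI := h2
    obtain ⟨ε, hε⟩ := Groth.Agent.NormEssIm.extends_of L φ _ rfl
      (fun x => Algebra.IsIntegral.isIntegral x)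
    refine ⟨MorphismProperty.Over.mk ⊤ (Spec.map (CommRingCat.ofHom φ) ≫
      X.fromSpecStalk (genericPoint X)).fromNormalization ⟨h2, h1⟩, ⟨?_⟩⟩
    refine MorphismProperty.Over.isoMk (ε.symm ≪≫ e.symm) ?_
    simp only [Iso.trans_hom, Iso.symm_hom, Category.assoc]
    rw [← he, Iso.inv_hom_id_assoc]
    exact (Iso.inv_comp_eq ε).mpr hε.symm

end Groth.Agent.S9491
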