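import Groth.Statements.S9493
import Groth.Agent.LeffEtLib.Complete
-- import your own Groth.Agent.* helpers here

set_option autoImplicit false
universe u
open Lef

namespace Groth.Agent.S9493

open AlgebraicGeometry CategoryTheory CategoryTheory.Limits in
/-- Let X be a Noetherian scheme and 𝓘 a quasi-coherent ideal sheaf with closed subscheme Y = V(𝓘).
Assume the completion functor along 𝓘 restricts to an equivalence between finite locally free
O_X-modules and levelwise finite locally free systems of modules on the completion of X along 𝓘:
Hom(F, G) → Hom(F^, G^) is bijective for all finite locally free F, G, and every system of modules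
all of whose levels are finite locally free is isomorphic to F^ for some finite locally free F. Then
restriction of finite etale covers from X to Y is an equivalence of categories. -/
theorem result (X : Scheme.{u}) [IsNoetherian X] (𝓘 : X.IdealSheafData)
    (h : (∀ F G : X.Modules, FlatMod.IsFinLocFree F → FlatMod.IsFinLocFree G →
      Function.Bijective (fun φ : F ⟶ G => FSch.complModMap 𝓘 φ)))
    (hess : ∀ 𝔐 : FSch.ModSys (FSch.completionAlong X 𝓘), LefX.LevelwiseFinLocFree 𝔐 →
      ∃ F : X.Modules, FlatMod.IsFinLocFree F ∧ Nonempty (FSch.complMod 𝓘 F ≅ 𝔐)) :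
    (FEt.restrict 𝓘.subschemeι).IsEquivalence := by
  have hP : ∀ D : X.Modules, FlatMod.IsFinLocFree D → Lef.HomToFormalBijective 𝓘 D := fun D hD =>
    LefEtaleLib.homToFormalBijective_of_completion 𝓘 (h D _ hD (BCLib.isFinLocFree_structureModule X))
  obtain ⟨_, _⟩ := LefEtaleLib.fullyFaithful_restrict 𝓘 hP
  haveI : (FEt.restrict 𝓘.subschemeι).EssSurj := ⟨fun R => by
    obtain ⟨R', e⟩ := LeffEtLib.exists_extension_of_completion 𝓘 hP hess R
    exact ⟨R', e⟩⟩
  exact {}

end Groth.Agent.S9493
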