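import Groth.Statements.S9494
import Mathlib
import Groth.Prelude.Def_PBC
import Groth.Agent.InertiaEtaleLib.Main
import Groth.Agent.FPSysLib.Algebra

universe u
namespace Groth.Agent.S9494
open CategoryTheory CategoryTheory.Limits

/-- An algebra in which every finite subset lies in an étale subalgebra is ind-étale. -/
theorem isIndEtale_of_subalgebras (A B : Type u) [CommRing A] [CommRing B] [Algebra A B]
    (h : ∀ s : Finset B, ∃ E : Subalgebra A B, (s : Set B) ⊆ E ∧ Algebra.Etale A E) :
    EtPBC.IsIndEtale A B := by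
  classical
  let J := {E : Subalgebra A B // Algebra.Etale A E}
  haveI : Nonempty J := by obtain ⟨E, -, hE⟩ := h ∅; exact ⟨⟨E, hE⟩⟩
  haveI : IsDirected J (· ≤ ·) := ⟨fun p q => by
    haveI := p.2
    haveI := q.2
    obtain ⟨sp, hsp⟩ := ((Subalgebra.fg_iff_finiteType p.1).2 inferInstance : p.1.FG)
    obtain ⟨sq, hsq⟩ := ((Subalgebra.fg_iff_finiteType q.1).2 inferInstance : q.1.FG)
    obtain ⟨E, hE, hEt⟩ := h (sp ∪ sq)
    rw [Finset.coe_union, Set.union_subset_iff] at hE
    refine ⟨⟨E, hEt⟩, ?_, ?_⟩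
    · show p.1 ≤ E
      rw [← hsp, Algebra.adjoin_le_iff]; exact hE.1
    · show q.1 ≤ E
      rw [← hsq, Algebra.adjoin_le_iff]; exact hE.2⟩
  let D : J ⥤ Under (CommRingCat.of A) :=
    { obj := fun p => Under.mk (CommRingCat.ofHom (algebraMap A p.1))
      map := fun {p q} f => Under.homMk
        (CommRingCat.ofHom (Subalgebra.inclusion (show p.1 ≤ q.1 from f.le)).toRingHom)
        (CommRingCat.hom_ext (Subalgebra.inclusion (show p.1 ≤ q.1 from f.le)).comp_algebraMap)
      map_id := fun p => Under.UnderMorphism.ext (CommRingCat.hom_ext (RingHom.ext fun x => rfl))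
      map_comp := fun {p q r} f g => Under.UnderMorphism.ext (CommRingCat.hom_ext (RingHom.ext fun x => rfl)) }
  let c : Cocone D :=
    { pt := Under.mk (CommRingCat.ofHom (algebraMap A B))
      ι :=
        { app := fun p => Under.homMk (CommRingCat.ofHom p.1.val.toRingHom)
            (CommRingCat.hom_ext p.1.val.comp_algebraMap)
          naturality := fun p q f => Under.UnderMorphism.ext (CommRingCat.hom_ext (RingHom.ext fun x => rfl)) } }
  obtain ⟨hc⟩ := Groth.Agent.FPSysLib.Alg.nonempty_isColimit c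
    (fun x => by
      obtain ⟨E, hE, hEt⟩ := h {(show B from x)}
      exact ⟨⟨E, hEt⟩, (⟨x, hE (Finset.mem_singleton_self _)⟩ : E), rfl⟩)
    (fun p x y hxy => ⟨p, le_rfl, congrArg (D.map (homOfLE le_rfl)).right (Subtype.ext hxy)⟩)
  refine ⟨J, inferInstance, inferInstance, D, c, hc, fun p => ?_, ⟨Iso.refl _⟩⟩
  exact RingHom.etale_algebraMap.2 p.2

/-- An étale subalgebra of a localization containing given fractions. -/
theorem exists_etale_subalgebra {A T Bi : Type u} [CommRing A] [CommRing T] [CommRing Bi] [IsDomain Bi]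
    [Algebra A T] [Algebra A Bi] (jT : T →ₐ[A] Bi) (hjT : Function.Injective jT)
    (Qi : Ideal Bi) [Qi.IsPrime] (g : T) (het : Algebra.Etale A (Localization.Away g)) (h : T)
    (hnq : jT (g * h) ∉ Qi) (s : Finset (Localization.AtPrime Qi))
    (hs : ∀ z ∈ s, ∃ a d : T, d ∣ h ∧
      z * algebraMap Bi (Localization.AtPrime Qi) (jT d) = algebraMap Bi _ (jT a)) :
    ∃ E : Subalgebra A (Localization.AtPrime Qi),
      (s : Set (Localization.AtPrime Qi)) ⊆ E ∧ Algebra.Etale A E := by
  haveI := het
  let W := Localization.Away (algebraMap T (Localization.Away g) h)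
  haveI : IsLocalization.Away (g * h) W := IsLocalization.Away.mul' (Localization.Away g) W g _
  haveI : Algebra.Etale (Localization.Away g) W :=
    Algebra.Etale.of_isLocalizationAway (algebraMap T (Localization.Away g) h)
  haveI : Algebra.Etale A W := Algebra.Etale.comp A (Localization.Away g) W
  let f : T →ₐ[A] Localization.AtPrime Qi :=
    (IsScalarTower.toAlgHom A Bi (Localization.AtPrime Qi)).comp jT
  have hu : IsUnit (f (g * h)) :=
    IsLocalization.map_units (Localization.AtPrime Qi) (⟨jT (g * h), hnq⟩ : Qi.primeCompl)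
  let v : W →ₐ[A] Localization.AtPrime Qi :=
    IsLocalization.liftAlgHom (M := Submonoid.powers (g * h)) (f := f) (fun y => by
      obtain ⟨k, hk⟩ := y.2
      rw [← hk, map_pow]
      exact hu.pow k)
  have hvalg : ∀ w : T, v (algebraMap T W w) = algebraMap Bi (Localization.AtPrime Qi) (jT w) := fun w => by
    simp [v, f]
  have hinjBi : Function.Injective (algebraMap Bi (Localization.AtPrime Qi)) :=
    IsLocalization.injective _ Qi.primeCompl_le_nonZeroDivisors
  have hvinj : Function.Injective v := by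
    rw [injective_iff_map_eq_zero]
    intro z hz
    obtain ⟨⟨w, m⟩, hw⟩ := IsLocalization.surj (Submonoid.powers (g * h)) z
    have h1 : v (algebraMap T W w) = 0 := by rw [← hw, map_mul, hz, zero_mul]
    rw [hvalg] at h1
    have h2 : w = 0 := hjT ((hinjBi (h1.trans (map_zero _).symm)).trans (map_zero jT).symm)
    rw [h2, map_zero] at hw
    exact (IsLocalization.map_units W m).mul_left_eq_zero.1 hw
  refine ⟨v.range, fun z hz => ?_, Algebra.Etale.of_equiv (AlgEquiv.ofInjective v hvinj)⟩
  obtain ⟨a, d, hd, hzd⟩ := hs z hz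
  have hud : IsUnit (algebraMap T W d) :=
    isUnit_of_dvd_unit (map_dvd _ (hd.mul_left g)) (IsLocalization.Away.algebraMap_isUnit (g * h))
  obtain ⟨di, hdi⟩ := hud.exists_right_inv
  refine ⟨algebraMap T W a * di, ?_⟩
  show v (algebraMap T W a * di) = z
  have h3 : v (algebraMap T W d) * v di = 1 := by rw [← map_mul, hdi, map_one]
  rw [map_mul, hvalg, ← hzd, ← hvalg, mul_assoc, h3, mul_one]

variable {A K L : Type u} [CommRing A] [IsDomain A] [IsIntegrallyClosed A]
    [Field K] [Field L] [Algebra A K] [IsFractionRing A K] [Algebra K L] [Algebra A L] [IsScalarTower A K L]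
    [IsGalois K L]

theorem key (q : Ideal (integralClosure A L)) [q.IsPrime]
    (I : Subgroup (L ≃ₐ[K] L))
    (hI : ∀ σ : L ≃ₐ[K] L, σ ∈ I ↔ ∀ b : integralClosure A L, ∃ c ∈ q, (c : L) = σ b - b)
    (Bi : Subalgebra A L) (hBi : ∀ x : L, x ∈ Bi ↔ IsIntegral A x ∧ x ∈ IntermediateField.fixedField I)
    (ι : Bi →ₐ[A] integralClosure A L) (hι : ∀ x : Bi, ((ι x : integralClosure A L) : L) = x)
    (s : Finset (Localization.AtPrime (q.comap ι))) :
    ∃ E : Subalgebra A (Localization.AtPrime (q.comap ι)),
      (s : Set (Localization.AtPrime (q.comap ι))) ⊆ E ∧ Algebra.Etale A E := by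
  classical
  set Qi := q.comap ι with hQi
  -- numerators and denominators
  have hsurj := fun z : Localization.AtPrime Qi => IsLocalization.surj Qi.primeCompl z
  choose num hnum using hsurj
  let S : Finset L := s.image (fun z => ((num z).1 : L)) ∪ s.image (fun z => ((num z).2.1 : L))
  have hSBi : ∀ x ∈ S, IsIntegral A x ∧ x ∈ IntermediateField.fixedField I := by
    intro x hx
    rcases Finset.mem_union.1 hx with h | h
    · obtain ⟨z, -, rfl⟩ := Finset.mem_image.1 h
      exact (hBi _).1 (num z).1.2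
    · obtain ⟨z, -, rfl⟩ := Finset.mem_image.1 h
      exact (hBi _).1 (num z).2.1.2
  -- compactness
  let fixS : Set (L ≃ₐ[K] L) := {σ | ∀ x ∈ S, σ x = x}
  let bad : integralClosure A L → Set (L ≃ₐ[K] L) := fun b => {σ | ¬ ∃ c ∈ q, (c : L) = σ b - b}
  have hopen : ∀ (T : Finset L) (P : (L ≃ₐ[K] L) → Prop),
      (∀ σ τ : L ≃ₐ[K] L, (∀ x ∈ T, σ x = τ x) → P σ → P τ) → IsOpen {σ | P σ} := by
    intro T P hP
    rw [isOpen_iff_forall_mem_open]
    intro σ hσ
    let F := IntermediateField.adjoin K (T : Set L)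
    haveI : FiniteDimensional K F :=
      IntermediateField.finiteDimensional_adjoin fun x _ => Algebra.IsIntegral.isIntegral x
    refine ⟨(Homeomorph.mulLeft σ) '' (F.fixingSubgroup : Set (L ≃ₐ[K] L)), ?_,
      (Homeomorph.mulLeft σ).isOpen_image.2 (IntermediateField.fixingSubgroup_isOpen F),
      ⟨1, one_mem _, mul_one σ⟩⟩
    rintro _ ⟨τ, hτ, rfl⟩
    refine hP σ _ (fun x hx => ?_) hσ
    show σ x = σ (τ x)
    rw [(IntermediateField.mem_fixingSubgroup_iff F τ).1 hτ x (IntermediateField.subset_adjoin K _ hx)]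
  have hcov : Set.univ ⊆ fixS ∪ ⋃ b, bad b := by
    intro σ _
    by_cases hσ : σ ∈ I
    · exact Or.inl fun x hx => (IntermediateField.mem_fixedField_iff _ x).1 (hSBi x hx).2 σ hσ
    · rw [hI] at hσ
      push Not at hσ
      obtain ⟨b, hb⟩ := hσ
      exact Or.inr (Set.mem_iUnion.2 ⟨b, fun ⟨c, hc, hc'⟩ => hb c hc hc'⟩)
  let U : Option (integralClosure A L) → Set (L ≃ₐ[K] L) := fun o => o.elim fixS bad
  obtain ⟨t, ht⟩ := isCompact_univ.elim_finite_subcover U
    (fun o => by
      cases o with
      | none => exact hopen S _ fun σ τ h hσ x hx => (h x hx).symm.trans (hσ x hx)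
      | some b =>
        exact hopen {(b : L)} (fun σ => ¬ ∃ c ∈ q, (c : L) = σ b - b) fun σ τ h hσ => by
          rwa [← h b (Finset.mem_singleton_self _)])
    (fun σ hσ => by
      rcases hcov hσ with h | h
      · exact Set.mem_iUnion.2 ⟨none, h⟩
      · obtain ⟨b, hb⟩ := Set.mem_iUnion.1 h
        exact Set.mem_iUnion.2 ⟨some b, hb⟩)
  let bs : Finset (integralClosure A L) := t.eraseNone
  -- a finite Galois extension
  let M₀ := IntermediateField.adjoin K ((S ∪ Finset.image (Subtype.val : integralClosure A L → L) bs : Finset L) : Set L)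
  haveI : FiniteDimensional K M₀ :=
    IntermediateField.finiteDimensional_adjoin fun x _ => Algebra.IsIntegral.isIntegral x
  let M := IntermediateField.normalClosure K M₀ L
  haveI : IsGalois K M := IsGalois.normalClosure K M₀ L
  have hM₀M : M₀ ≤ M := M₀.le_normalClosure
  have hS_M : ∀ x ∈ S, x ∈ M := fun x hx =>
    hM₀M (IntermediateField.subset_adjoin K _ (Finset.mem_coe.2 (Finset.mem_union_left _ hx)))
  have hb_M : ∀ b ∈ bs, (b : L) ∈ M := fun b hb =>
    hM₀M (IntermediateField.subset_adjoin K _ (Finset.mem_coe.2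
      (Finset.mem_union_right _ (Finset.mem_image_of_mem _ hb))))
  let R := integralClosure A M
  letI : MulSemiringAction (M ≃ₐ[K] M) R := IsIntegralClosure.MulSemiringAction A K M R
  have hact : ∀ (σ : M ≃ₐ[K] M) (r : R), ((σ • r : R) : M) = σ (r : M) := fun σ r =>
    algebraMap_galRestrict_apply A σ r
  let j : R →ₐ[A] integralClosure A L :=
    ((M.val.restrictScalars A).comp R.val).codRestrict _ fun r => (r.2 : IsIntegral A (r : M)).map (M.val.restrictScalars A)
  have hj : ∀ r : R, ((j r : integralClosure A L) : L) = ((r : M) : L) := fun r => rfl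
  let qM : Ideal R := q.comap j
  have hres : ∀ σ ∈ qM.inertia (M ≃ₐ[K] M), ∀ x ∈ S, ∀ (hx : x ∈ M), σ ⟨x, hx⟩ = ⟨x, hx⟩ := by
    intro σ hσ x hx hxM
    obtain ⟨σ', hσ'⟩ := AlgEquiv.restrictNormalHom_surjective L σ
    have hcomm : ∀ y : M, σ' (y : L) = ((σ y : M) : L) := fun y => by
      rw [← hσ']; exact (AlgEquiv.restrictNormal_commutes σ' M y).symm
    obtain ⟨o, ho⟩ := Set.mem_iUnion₂.1 (ht (Set.mem_univ σ'))
    obtain ⟨ho, hmem⟩ := ho
    cases o with
    | none =>
      apply Subtype.ext
      rw [← hcomm]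
      exact hmem x hx
    | some b =>
      exfalso
      have hbs : b ∈ bs := Finset.mem_eraseNone.2 ho
      let bR : R := ⟨⟨b, hb_M b hbs⟩, (isIntegral_algHom_iff (M.val.restrictScalars A)
        (fun x y h => Subtype.ext h)).1 b.2⟩
      refine hmem ⟨j (σ • bR - bR), hσ bR, ?_⟩
      rw [hj, AddSubgroupClass.coe_sub, AddSubgroupClass.coe_sub, hact, ← hcomm]
  -- invariants
  let T : Subalgebra A R :=
    { carrier := {r | ∀ σ ∈ qM.inertia (M ≃ₐ[K] M), σ • r = r}
      mul_mem' := fun {a b} ha hb σ hσ => by rw [smul_mul', ha σ hσ, hb σ hσ]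
      add_mem' := fun {a b} ha hb σ hσ => by rw [smul_add, ha σ hσ, hb σ hσ]
      algebraMap_mem' := fun a σ hσ => Subtype.ext (by
        rw [hact]
        show σ (algebraMap A M a) = algebraMap A M a
        rw [IsScalarTower.algebraMap_apply A K M, σ.commutes]) }
  haveI : SMulCommClass (M ≃ₐ[K] M) A R := ⟨fun σ a r => Subtype.ext (by
    rw [hact, Algebra.smul_def, Algebra.smul_def]
    show σ (algebraMap A M a * (r : M)) = algebraMap A M a * _
    rw [map_mul, hact, IsScalarTower.algebraMap_apply A K M, σ.commutes])⟩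
  haveI : Algebra.IsInvariant A R (M ≃ₐ[K] M) := ⟨fun r hr => by
    have hK : (r : M) ∈ (⊥ : IntermediateField K M) := by
      rw [IsGalois.mem_bot_iff_fixed]
      intro σ
      rw [← hact, hr]
    obtain ⟨k, hk⟩ := IntermediateField.mem_bot.1 hK
    have hint : IsIntegral A k := by
      rw [← isIntegral_algHom_iff (IsScalarTower.toAlgHom A K M) (algebraMap K M).injective]
      show IsIntegral A (algebraMap K M k)
      rw [hk]
      exact r.2
    obtain ⟨a, ha⟩ := IsIntegrallyClosed.isIntegral_iff.1 hint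
    refine ⟨a, Subtype.ext ?_⟩
    show algebraMap A M a = (r : M)
    rw [IsScalarTower.algebraMap_apply A K M, ha, hk]⟩
  have hinjA : Function.Injective (algebraMap A R) := by
    intro a b h
    have h' : algebraMap A M a = algebraMap A M b := congrArg Subtype.val h
    rw [IsScalarTower.algebraMap_apply A K M, IsScalarTower.algebraMap_apply A K M] at h'
    exact IsFractionRing.injective A K ((algebraMap K M).injective h')
  obtain ⟨g, hg, het⟩ := Groth.Agent.InertiaEtaleLib.exists_etale_away_inertia (G := M ≃ₐ[K] M)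
    (S := A) (T := T) hinjA Subtype.val_injective qM
    (fun r => ⟨fun h => ⟨⟨r, h⟩, rfl⟩, by rintro ⟨w, rfl⟩; exact w.2⟩)
  -- the map to `Bi`
  let jT : T →ₐ[A] Bi := ((integralClosure A L).val.comp (j.comp T.val)).codRestrict Bi fun w => by
    rw [hBi]
    refine ⟨(j w.1).2, ?_⟩
    rw [IntermediateField.mem_fixedField_iff]
    intro σ hσ
    show σ (algebraMap M L (w.1 : M)) = algebraMap M L (w.1 : M)
    rw [← AlgEquiv.restrictNormal_commutes σ M (w.1 : M)]
    have hin : σ.restrictNormal M ∈ qM.inertia (M ≃ₐ[K] M) := by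
      intro r
      obtain ⟨c, hc, hc'⟩ := (hI σ).1 hσ (j r)
      have : j (σ.restrictNormal M • r - r) = c := Subtype.ext (by
        rw [hc', hj, hj, AddSubgroupClass.coe_sub, AddSubgroupClass.coe_sub, hact]
        congr 1
        exact AlgEquiv.restrictNormal_commutes σ M (r : M))
      show j (σ.restrictNormal M • r - r) ∈ q
      rw [this]; exact hc
    have h2 := congrArg (fun r : R => ((r : M) : L)) (w.2 _ hin)
    simp only [hact] at h2
    exact h2
  have hjT : ∀ w : T, ι (jT w) = j w.1 := fun w => Subtype.ext (hι _)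
  have hjTinj : Function.Injective jT := fun w w' h => Subtype.ext (Subtype.ext (Subtype.ext
    (congrArg (fun z : Bi => (z : L)) h)))
  -- denominators
  have hTmem : ∀ x ∈ S, ∃ w : T, ((jT w : Bi) : L) = x := by
    intro x hx
    have hxM := hS_M x hx
    let xR : R := ⟨⟨x, hxM⟩, (isIntegral_algHom_iff (M.val.restrictScalars A)
      (fun x y h => Subtype.ext h)).1 (hSBi x hx).1⟩
    exact ⟨⟨xR, fun σ hσ => Subtype.ext (by rw [hact]; exact hres σ hσ x hx hxM)⟩, rfl⟩
  choose wv hwv using hTmem
  let den : (z : Localization.AtPrime Qi) → z ∈ s → T := fun z hz =>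
    wv ((num z).2.1 : L) (Finset.mem_union_right _ (Finset.mem_image_of_mem _ hz))
  have hden : ∀ z hz, jT (den z hz) = (num z).2.1 := fun z hz => Subtype.ext (hwv _ _)
  let n : T := g * ∏ z ∈ s.attach, den z.1 z.2
  have hnq : jT n ∉ Qi := by
    intro h
    rw [hQi, Ideal.mem_comap, map_mul, map_mul] at h
    rcases Ideal.IsPrime.mem_or_mem inferInstance h with h | h
    · rw [hjT] at h
      exact hg h
    · rw [map_prod, map_prod, Ideal.IsPrime.prod_mem_iff] at h
      obtain ⟨z, -, hz⟩ := h
      rw [hden z.1 z.2] at hz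
      exact (num z.1).2.2 hz
  refine exists_etale_subalgebra jT hjTinj Qi g het (∏ z ∈ s.attach, den z.1 z.2) hnq s
    fun z hz => ?_
  exact ⟨wv ((num z).1 : L) (Finset.mem_union_left _ (Finset.mem_image_of_mem _ hz)), den z hz,
    Finset.dvd_prod_of_mem (fun y => den y.1 y.2) (Finset.mem_attach s ⟨z, hz⟩), by
      rw [hden z hz, (Subtype.ext (hwv _ _) : jT (wv _ _) = (num z).1)]
      exact hnum z⟩

end Groth.Agent.S9494


set_option autoImplicit false
open Pi1

namespace Groth.Agent.S9494

/-- Let A be an integrally closed domain with fraction field K, L/K a (possibly infinite) Galois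
extension with group G = Gal(L/K), B the integral closure of A in L and q a prime of B. Let I ⊆ G be
the inertia group of q: the automorphisms σ with σ(b) - b ∈ q for every b ∈ B. Then the localization
of the ring of invariants B^I = B ∩ L^I at the prime q ∩ B^I is an ind-etale A-algebra, i.e. a
filtered colimit of etale A-algebras. -/
theorem result (A K L : Type u) [CommRing A] [IsDomain A] [IsIntegrallyClosed A]
    [Field K] [Field L] [Algebra A K] [IsFractionRing A K] [Algebra K L] [Algebra A L] [IsScalarTower A K L]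
    [IsGalois K L] (q : Ideal (integralClosure A L)) [q.IsPrime]
    (I : Subgroup (L ≃ₐ[K] L))
    (hI : ∀ σ : L ≃ₐ[K] L, σ ∈ I ↔ ∀ b : integralClosure A L, ∃ c ∈ q, (c : L) = σ b - b) :
    EtPBC.IsIndEtale A (Localization.AtPrime
      (q.comap (Subalgebra.inclusion
        (inf_le_left : integralClosure A L ⊓ (IntermediateField.fixedField I).toSubalgebra.restrictScalars A ≤
          integralClosure A L)))) := by
  refine isIndEtale_of_subalgebras _ _ fun s => ?_
  exact key q I hI _ (fun x => by
    rw [Algebra.mem_inf]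
    exact Iff.rfl) _ (fun x => rfl) s

end Groth.Agent.S9494
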