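import Groth.Statements.S9498
import Groth.Agent.TildeD.Exact

set_option autoImplicit false
universe u
open AffSch

namespace Groth.Agent.S9498

open AlgebraicGeometry in
open CategoryTheory Limits in
/-- For a commutative ring A, the functor M ↦ M~ from the category of A-modules to the category of
O-modules on Spec A is exact, i.e. it preserves finite limits and finite colimits. -/
theorem result
    (A : Type u) [CommRing A] :
    PreservesFiniteLimits (tilde.functor (CommRingCat.of A)) ∧
      PreservesFiniteColimits (tilde.functor (CommRingCat.of A)) := by
  constructor
  · exact TildeD.preservesFiniteLimits_tilde
  · haveI : PreservesColimitsOfSize.{u, u} (tilde.functor (CommRingCat.of A)) := tilde.adjunction.leftAdjoint_preservesColimits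
    haveI : PreservesColimitsOfSize.{0, 0} (tilde.functor (CommRingCat.of A)) := preservesColimitsOfSize_shrink _
    exact PreservesColimitsOfSize.preservesFiniteColimits _

end Groth.Agent.S9498
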