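import Groth.Statements.S9502
import Mathlib

set_option autoImplicit false
universe u
open SchMor

namespace Groth.Agent.S9502

open AlgebraicGeometry in
open CategoryTheory in
/-- Let f : X → Y be a morphism of schemes such that (1) the underlying continuous map of f is a
homeomorphism onto a closed subset of Y and (2) the map of sheaves of rings O_Y → f_*O_X is
surjective (locally surjective on sections). Then f is a closed immersion in the sense of locally
ringed spaces: (1) and (2) hold and (3) the kernel of O_Y → f_*O_X is locally generated by sections,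
i.e. around every point of Y there are sections of O_Y killed in f_*O_X whose germs generate the
kernel of the stalk map O_{Y,y} → (f_*O_X)_y at every nearby point y. (For a morphism of schemes (1)
and (2) alone already give surjective stalk maps; the content of this row is condition (3).) -/
theorem result
    {X Y : Scheme.{u}} (f : X ⟶ Y) (h1 : Topology.IsClosedEmbedding f)
    (h2 : TopCat.Presheaf.IsLocallySurjective f.c) :
    LRSImm.IsClosedImmersion f.toLRSHom := by
  haveI : SurjectiveOnStalks f := ⟨fun x z => by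
    obtain ⟨W, hxW, s, rfl⟩ := X.presheaf.exists_germ_eq z
    obtain ⟨W', hW', hWW'⟩ := h1.isEmbedding.isInducing.isOpen_iff.1 W.2
    let Wo : Y.Opens := ⟨W', hW'⟩
    have hWo : f ⁻¹ᵁ Wo = W := TopologicalSpace.Opens.ext hWW'
    subst hWo
    obtain ⟨V, i, ⟨t, ht⟩, hxV⟩ := (TopCat.Presheaf.isLocallySurjective_iff _).1 h2 Wo s (f x) hxW
    refine ⟨Y.presheaf.germ V (f x) hxV t, ?_⟩
    rw [Scheme.Hom.germ_stalkMap_apply]
    exact (congrArg (X.presheaf.germ (f ⁻¹ᵁ V) x hxV) ht).trans
      (X.presheaf.germ_res_apply _ x hxV s)⟩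
  haveI : IsPreimmersion f := { isEmbedding := h1.isEmbedding }
  haveI : IsClosedImmersion f := IsClosedImmersion.of_isPreimmersion f h1.isClosed_range
  refine ⟨h1, h2, fun x => ?_⟩
  obtain ⟨U, hU, hxU, -⟩ := exists_isAffineOpen_mem_and_subset (x := x) (U := (⊤ : Y.Opens)) trivial
  refine ⟨U, hxU, RingHom.ker (f.app U).hom, Subtype.val, fun j => j.2, fun x' hx' => ?_⟩
  let φ : Y.presheaf.stalk x' ⟶ (f.base _* X.presheaf).stalk x' :=
    (TopCat.Presheaf.stalkFunctor CommRingCat x').map f.c
  have hφ : ∀ (W : Y.Opens) (hW : x' ∈ W) (a : Γ(Y, W)), φ (Y.presheaf.germ W x' hW a) =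
      (f.base _* X.presheaf).germ W x' hW (f.app W a) := fun W hW a =>
    TopCat.Presheaf.stalkFunctor_map_germ_apply W x' hW f.c a
  refine le_antisymm (Ideal.span_le.2 ?_) fun z hz => ?_
  · rintro _ ⟨⟨a, ha⟩, rfl⟩
    show φ (Y.presheaf.germ U x' hx' a) = 0
    rw [hφ, show f.app U a = 0 from ha, map_zero]
  haveI := hU.isLocalization_stalk ⟨x', hx'⟩
  letI := Y.presheaf.algebra_section_stalk (U := U) ⟨x', hx'⟩
  obtain ⟨a, s, rfl⟩ := IsLocalization.exists_mk'_eq (hU.primeIdealOf ⟨x', hx'⟩).asIdeal.primeCompl z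
  rw [IsLocalization.mk'_eq_mul_mk'_one]
  refine Ideal.mul_mem_right _ _ ?_
  have ha : φ (Y.presheaf.germ U x' hx' a) = 0 := by
    have := congrArg φ (IsLocalization.mk'_spec (Y.presheaf.stalk x') a s)
    rw [map_mul, show φ (IsLocalization.mk' (Y.presheaf.stalk x') a s) = 0 from hz, zero_mul] at this
    exact this.symm
  rw [hφ] at ha
  obtain ⟨W, hW, i₁, i₂, hres⟩ := TopCat.Presheaf.germ_eq (f.base _* X.presheaf) x' hx' hx' (f.app U a) 0
    (ha.trans (map_zero _).symm)
  obtain ⟨t, ht, hxt⟩ := hU.exists_basicOpen_le (V := W) ⟨x', hW⟩ hx'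
  have hmem : (Y.presheaf.map (homOfLE (Y.basicOpen_le t)).op a) ∈ f.ker.ideal (Y.affineBasicOpen (U := ⟨U, hU⟩) t) := by
    rw [Scheme.Hom.ker_apply]
    show f.app (Y.basicOpen t) (Y.presheaf.map (homOfLE (Y.basicOpen_le t)).op a) = 0
    have h3 : (f.base _* X.presheaf).map (homOfLE ht).op ((f.base _* X.presheaf).map i₁.op (f.app U a)) = 0 := by
      rw [hres, map_zero, map_zero]
    rw [← h3, ← CommRingCat.comp_apply, Scheme.Hom.naturality, CommRingCat.comp_apply,
      ← CommRingCat.comp_apply _ ((f.base _* X.presheaf).map (homOfLE ht).op), ← Functor.map_comp]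
    rfl
  rw [← f.ker.map_ideal_basicOpen ⟨U, hU⟩ t, Scheme.Hom.ker_apply] at hmem
  have := Ideal.mem_map_of_mem (Y.presheaf.germ (Y.basicOpen t) x' hxt).hom hmem
  rw [Ideal.map_map] at this
  rw [show algebraMap Γ(Y, U) (Y.presheaf.stalk x') a =
    Y.presheaf.germ (Y.basicOpen t) x' hxt (Y.presheaf.map (homOfLE (Y.basicOpen_le t)).op a) from
      (Y.presheaf.germ_res_apply _ x' hxt a).symm]
  refine (Ideal.map_le_iff_le_comap.2 fun b hb => ?_) this
  refine Ideal.subset_span ⟨⟨b, hb⟩, ?_⟩
  exact (Y.presheaf.germ_res_apply _ x' hxt b).symm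

end Groth.Agent.S9502
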