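import Groth.Statements.S9504
import Groth.Agent.ExtPowLib.Exist
import Groth.Agent.ExtPowLib.Unique
open Groth.Agent.ExtPowLib CategoryTheory AlgebraicGeometry
set_option backward.isDefEq.respectTransparency false
set_option maxHeartbeats 800000
-- import your own Groth.Agent.* helpers here

set_option autoImplicit false
universe u
open AffSch

namespace Groth.Agent.S9504

theorem isExtPow_of_iso {X : Scheme.{u}} {n : ℕ} {E L L' : X.Modules} (i : L' ≅ L)
    (h : ExtPow.IsExtPow n E L) : ExtPow.IsExtPow n E L' := by
  obtain ⟨φ, hφ⟩ := h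
  let ι := fun U : X.affineOpens => i.hom.app U.1
  have hb : ∀ U, Function.Bijective (ι U) := fun U => ConcreteCategory.bijective_of_isIso _
  let ψ := fun U : X.affineOpens => (LinearEquiv.ofBijective
      ({ toFun := ι U, map_add' := map_add _, map_smul' := fun r x => Scheme.Modules.Hom.app_smul i.hom r x } :
        Γ(L', U.1) →ₗ[Γ(X, U.1)] Γ(L, U.1)) (hb U)).trans (φ U)
  refine ⟨ψ, fun U V h v => ?_⟩
  apply (hb V).1
  refine (Groth.Agent.QCohLib.app_res i.hom h _).trans ?_
  refine (congrArg (L.presheaf.map (homOfLE h).op) ?_).trans ((hφ U V h v).trans ?_)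
  · exact (LinearEquiv.ofBijective _ (hb U)).apply_symm_apply _
  · exact ((LinearEquiv.ofBijective _ (hb V)).apply_symm_apply _).symm

/-- Semilinear bijections induce semilinear bijections of exterior powers. -/
theorem res_bijective {R R' M M' : Type u} [CommRing R] [CommRing R'] [AddCommGroup M] [Module R M]
    [AddCommGroup M'] [Module R' M'] {n : ℕ} (φ : R →+* R') (g : M →+ M')
    (hg : ∀ r m, g (r • m) = φ r • g m) (hφ : Function.Bijective φ) (hgb : Function.Bijective g) :
    Function.Bijective (res n φ g hg) := by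
  let ai := RingEquiv.ofBijective φ hφ
  let gi := AddEquiv.ofBijective g hgb
  have hgi : ∀ r m, gi.symm (r • m) = ai.symm.toRingHom r • gi.symm.toAddMonoidHom m := fun r m => by
    apply gi.injective
    rw [gi.apply_symm_apply]
    refine Eq.trans ?_ (hg (ai.symm r) (gi.symm m)).symm
    rw [show g (gi.symm m) = m from gi.apply_symm_apply m, show φ (ai.symm r) = r from ai.apply_symm_apply r]
  refine Function.bijective_iff_has_inverse.2 ⟨res n ai.symm.toRingHom gi.symm.toAddMonoidHom hgi, fun x => ?_, fun x => ?_⟩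
  · induction x using induction_ιMulti with
    | h0 => rw [map_zero, map_zero]
    | hadd p q hp hq => rw [map_add, map_add, hp, hq]
    | hsmul r v =>
      rw [res_smul, res_ιMulti, res_smul, res_ιMulti,
        show ai.symm.toRingHom (φ r) = r from ai.symm_apply_apply r]
      congr 2
      exact funext fun j => gi.symm_apply_apply (v j)
  · induction x using induction_ιMulti with
    | h0 => rw [map_zero, map_zero]
    | hadd p q hp hq => rw [map_add, map_add, hp, hq]
    | hsmul r v =>
      rw [res_smul, res_ιMulti, res_smul, res_ιMulti,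
        show φ (ai.symm.toRingHom r) = r from ai.apply_symm_apply r]
      congr 2
      exact funext fun j => gi.apply_symm_apply (v j)

theorem sections_iso {R : CommRingCat.{u}} (N : ModuleCat.{u} R) (n : ℕ) (L : (Spec R).Modules)
    (φ : Γ(L, ⊤) ≃ₗ[Γ(Spec R, ⊤)] ↥(⋀[Γ(Spec R, ⊤)]^n Γ(tilde N, ⊤))) :
    Nonempty ((ModuleCat.of R ↥(⋀[R]^n N)) ≅ (moduleSpecΓFunctor (R := R)).obj L) := by
  let a : R →+* Γ(Spec R, ⊤) := (Scheme.ΓSpecIso R).inv.hom
  let g : N →+ Γ(tilde N, ⊤) := (tilde.toOpen N ⊤).hom.toAddMonoidHom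
  have hg : ∀ r m, g (r • m) = a r • g m := fun r m => (tilde.toOpen N ⊤).hom.map_smul r m
  have hgb : Function.Bijective g :=
    haveI : IsIso (tilde.toOpen N ⊤) := tilde.isIso_toOpen_top
    ConcreteCategory.bijective_of_isIso (tilde.toOpen N ⊤)
  let E : ↥(⋀[R]^n N) →ₗ[R] ((moduleSpecΓFunctor (R := R)).obj L) :=
    { toFun := fun x => φ.symm (res n a g hg x)
      map_add' := fun p q => (congrArg φ.symm (map_add (res n a g hg) p q)).trans (φ.symm.map_add _ _)
      map_smul' := fun r x => (congrArg φ.symm (res_smul n a g hg r x)).trans (φ.symm.map_smul _ _) }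
  exact ⟨(LinearEquiv.ofBijective E (φ.symm.bijective.comp
    (res_bijective a g hg (ConcreteCategory.bijective_of_isIso (Scheme.ΓSpecIso R).inv) hgb))).toModuleIso⟩

theorem isExtPow_tilde {R : CommRingCat.{u}} (N : ModuleCat.{u} R) (n : ℕ) :
    ExtPow.IsExtPow n (tilde N) (tilde (ModuleCat.of R ↥(⋀[R]^n N))) := by
  haveI : Coh.IsQCoh (tilde N) := inferInstanceAs (tilde N).IsQuasicoherent
  obtain ⟨L, hq, φ, hφ⟩ := exists_isExtPow (tilde N) n
  haveI := hq
  obtain ⟨e⟩ := sections_iso N n L (φ ⟨⊤, isAffineOpen_top _⟩)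
  haveI : IsIso L.fromTildeΓ := Scheme.Modules.isIso_fromTildeΓ_of_isQuasicoherent _
  exact isExtPow_of_iso ((tilde.functor R).mapIso e ≪≫ asIso L.fromTildeΓ) ⟨φ, hφ⟩

/-- Let A be a commutative ring, M an A-module and n a natural number. On X = Spec A the O_X-module
associated to the A-module ⋀^n M is an n-th exterior power of M~: on every affine open U its
sections are identified, linearly over Γ(U, O_X), with the n-th exterior power of the sections of M~
over U, compatibly with restrictions on decomposable elements. -/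
theorem result
    (A : Type u) [CommRing A] (M : Type u) [AddCommGroup M] [Module A M] (n : ℕ) :
    ExtPow.IsExtPow n (tilde (R := CommRingCat.of A) (ModuleCat.of A M))
      (tilde (R := CommRingCat.of A) (ModuleCat.of A ↥(⋀[A]^n M))) := by
  exact isExtPow_tilde (R := CommRingCat.of A) (ModuleCat.of A M) n

end Groth.Agent.S9504
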