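import Groth.Statements.S9506
import Groth.Agent.LRSImmLib.Scheme

set_option autoImplicit false
universe u
set_option backward.isDefEq.respectTransparency false
open LRSImm

namespace Groth.Agent.S9506

open AlgebraicGeometry in
open CategoryTheory Opposite in
/-- Let R be a commutative ring and i : Z → Spec R a closed immersion of locally ringed spaces (a
homeomorphism onto a closed subset such that O → i_*O_Z is surjective as a map of sheaves with
kernel locally generated by sections). Let I ⊆ R be the kernel of the composite R = Γ(Spec R, O) →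
Γ(Z, O_Z). Then Z is identified with Spec(R/I) over Spec R: there is an isomorphism of locally
ringed spaces Z ≅ Spec(R/I) whose composite with the morphism Spec(R/I) → Spec R induced by R → R/I
is i (in particular the ideal I with this property is unique). -/
theorem result
    (R : Type u) [CommRing R] (Z : LocallyRingedSpace.{u})
    (i : Z ⟶ (Spec (CommRingCat.of R)).toLocallyRingedSpace) (hi : LRSImm.IsClosedImmersion i)
    (I : Ideal R)
    (hI : I = RingHom.ker ((Scheme.ΓSpecIso (CommRingCat.of R)).inv ≫ i.c.app (op ⊤)).hom) :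
    ∃ e : Z ≅ (Spec (CommRingCat.of (R ⧸ I))).toLocallyRingedSpace,
      e.hom ≫ (Spec.map (CommRingCat.ofHom (Ideal.Quotient.mk I))).toLRSHom = i := by
  obtain ⟨Z', e, hc⟩ := Groth.Agent.LRSImmLib.exists_scheme hi
  let f : Z' ⟶ Spec (CommRingCat.of R) := Scheme.Hom.mk (e.hom ≫ i)
  haveI : AlgebraicGeometry.IsClosedImmersion f := hc
  obtain ⟨h₁, h₂⟩ := IsClosedImmersion.isAffine_surjective_of_isAffine f
  let φ := (Scheme.ΓSpecIso (CommRingCat.of R)).inv ≫ f.appTop
  have key : ∀ {A B C : LocallyRingedSpace.{u}} (a : A ⟶ B) (b : B ⟶ C) (r : C.presheaf.obj (op ⊤)),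
      b.c.app (op ⊤) r = 0 → (a ≫ b).c.app (op ⊤) r = 0 := fun a b r hr => by
    show a.c.app _ (b.c.app (op ⊤) r) = 0
    rw [hr]
    exact map_zero _
  obtain rfl : I = RingHom.ker φ.hom := by
    rw [hI]
    ext r
    refine ⟨fun hr => key e.hom i _ hr, fun hr => ?_⟩
    have h := key e.inv (e.hom ≫ i) _ hr
    rw [Iso.inv_hom_id_assoc] at h
    exact h
  have hφ : Function.Surjective φ.hom :=
    h₂.comp (Scheme.ΓSpecIso (CommRingCat.of R)).commRingCatIsoToRingEquiv.symm.surjective
  let e₂ : Z' ≅ Spec (CommRingCat.of (R ⧸ RingHom.ker φ.hom)) := Z'.isoSpec ≪≫ Scheme.Spec.mapIso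
    (RingEquiv.ofBijective φ.hom.kerLift
      ⟨φ.hom.kerLift_injective, Ideal.Quotient.lift_surjective_of_surjective _ _ hφ⟩).toCommRingCatIso.op
  have he₂ : e₂.hom ≫ Spec.map (CommRingCat.ofHom (Ideal.Quotient.mk (RingHom.ker φ.hom))) = f := by
    simp only [e₂, Iso.trans_hom, Functor.mapIso_hom, Iso.op_hom, Scheme.Spec_map,
      Quiver.Hom.unop_op, Category.assoc, ← Spec.map_comp]
    change Z'.isoSpec.hom ≫ Spec.map φ = f
    simp only [Scheme.isoSpec, asIso_hom, Spec.map_comp, ← Scheme.toSpecΓ_naturality_assoc,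
      ← SpecMap_ΓSpecIso_hom, φ]
    simp
  refine ⟨e.symm ≪≫ Scheme.forgetToLocallyRingedSpace.mapIso e₂, ?_⟩
  show (e.inv ≫ e₂.hom.toLRSHom) ≫ _ = i
  rw [Category.assoc]
  exact (congrArg (e.inv ≫ ·) (congrArg Scheme.Hom.toLRSHom he₂)).trans (Iso.inv_hom_id_assoc e i)

end Groth.Agent.S9506
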