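import Groth.Statements.S9508
import Mathlib

set_option autoImplicit false
universe u
open SchMor

namespace Groth.Agent.S9508

open AlgebraicGeometry in
open CategoryTheory in
/-- (1) ⇔ (2): A morphism of schemes f : X → S is quasi-separated if and only if, whenever two affine
opens U and V of X both lie in the preimage f⁻¹(W) of one affine open W of S, their intersection U ∩
V is quasi-compact (equivalently, is covered by finitely many affine opens). -/
theorem result
    {X S : Scheme.{u}} (f : X ⟶ S) :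
    QuasiSeparated f ↔
      ∀ (U V : X.affineOpens) (W : S.affineOpens),
        (U : X.Opens) ≤ f ⁻¹ᵁ (W : S.Opens) → (V : X.Opens) ≤ f ⁻¹ᵁ (W : S.Opens) →
          IsCompact ((U : Set X) ∩ (V : Set X)) := by
  constructor
  · intro hf U V W hU hV
    haveI : IsAffine (W : S.Opens).toScheme := W.2
    have hq : IsQuasiSeparated ((f ⁻¹ᵁ (W : S.Opens) : X.Opens) : Set X) :=
      (isQuasiSeparated_iff_quasiSeparatedSpace _ (f ⁻¹ᵁ (W : S.Opens)).isOpen).2
        (quasiSeparatedSpace_of_quasiSeparated (f ∣_ (W : S.Opens)))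
    exact hq U V hU U.1.2 U.2.isCompact hV V.1.2 V.2.isCompact
  · intro h
    rw [IsZariskiLocalAtTarget.iff_of_iSup_eq_top (P := @QuasiSeparated) (fun W : S.affineOpens => (W : S.Opens))
      (iSup_affineOpens_eq_top S)]
    intro W
    haveI : IsAffine (W : S.Opens).toScheme := W.2
    rw [HasAffineProperty.iff_of_isAffine (P := @QuasiSeparated), quasiSeparatedSpace_iff_forall_affineOpens]
    intro U V
    rw [(f ⁻¹ᵁ (W : S.Opens)).ι.isOpenEmbedding.isCompact_iff,
      Set.image_inter (f ⁻¹ᵁ (W : S.Opens)).ι.isOpenEmbedding.injective]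
    exact h ⟨_, U.2.image_of_isOpenImmersion (f ⁻¹ᵁ (W : S.Opens)).ι⟩
      ⟨_, V.2.image_of_isOpenImmersion (f ⁻¹ᵁ (W : S.Opens)).ι⟩ W
      (Scheme.Opens.ι_image_le _ _) (Scheme.Opens.ι_image_le _ _)

end Groth.Agent.S9508
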