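import Groth.Statements.S9509
import Mathlib

set_option autoImplicit false
universe u
open SchMor

namespace Groth.Agent.S9509

open AlgebraicGeometry in
open CategoryTheory in
/-- (3) ⇒ (1): Let f : X → S be a morphism of schemes. Suppose S is covered by affine opens W_i, each
preimage f⁻¹(W_i) is covered by affine opens V_{i,j}, and any two V_{i,j}, V_{i,j'} with the same
index i meet in a quasi-compact open (one covered by finitely many affine opens). Then f is
quasi-separated. -/
theorem result
    {X S : Scheme.{u}} (f : X ⟶ S) {ι : Type u} (W : ι → S.affineOpens)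
    (hW : ⨆ i, (W i : S.Opens) = ⊤) {κ : ι → Type u} (V : ∀ i, κ i → X.affineOpens)
    (hV : ∀ i, ⨆ j, (V i j : X.Opens) = f ⁻¹ᵁ (W i : S.Opens))
    (hVV : ∀ i (j j' : κ i), IsCompact ((V i j : Set X) ∩ (V i j' : Set X))) :
    QuasiSeparated f := by
  rw [IsZariskiLocalAtTarget.iff_of_iSup_eq_top (P := @QuasiSeparated) (fun i => (W i : S.Opens)) hW]
  intro i
  haveI : IsAffine (W i : S.Opens).toScheme := (W i).2
  rw [HasAffineProperty.iff_of_isAffine (P := @QuasiSeparated)]
  let ι' := (f ⁻¹ᵁ (W i : S.Opens)).ι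
  have hle : ∀ j, ((V i j : X.Opens) : Set X) ⊆ Set.range ι' := fun j => by
    rw [Scheme.Opens.range_ι]
    exact SetLike.coe_subset_coe.2 ((le_iSup (fun j => (V i j : X.Opens)) j).trans (hV i).le)
  refine Scheme.quasiSeparatedSpace_of_isOpenCover (fun j => ι' ⁻¹ᵁ (V i j : X.Opens)) ?_
    (fun j => (V i j).2.preimage_of_isOpenImmersion ι' (by simpa [← SetLike.coe_subset_coe] using hle j))
    fun j j' => ?_
  · exact (ι'.preimage_iSup (fun j => (V i j : X.Opens))).symm.trans
      ((congrArg (ι' ⁻¹ᵁ ·) (hV i)).trans (Scheme.Opens.ι_preimage_self _))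
  · exact ι'.isOpenEmbedding.isEmbedding.isInducing.isCompact_preimage' (hVV i j j')
      (Set.inter_subset_left.trans (hle j))

end Groth.Agent.S9509
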