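import Groth.Statements.S9511
import Mathlib

set_option autoImplicit false
set_option backward.isDefEq.respectTransparency false
universe u
open LRSImm

namespace Groth.Agent.S9511

open AlgebraicGeometry in
open CategoryTheory TopologicalSpace in
/-- Let X be a locally ringed space and U, V ⊆ X open with X = U ⊔ V (they cover X and are disjoint),
such that the open subspaces X|_U and X|_V are affine schemes. Then X is an affine scheme: the
canonical morphism X → Spec Γ(X, O_X) is an isomorphism of locally ringed spaces. -/
theorem result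
    (X : LocallyRingedSpace.{u}) (U V : Opens X.toTopCat) (hUV : IsCompl U V)
    (A B : CommRingCat.{u})
    (eU : X.restrict U.isOpenEmbedding ≅ (Spec A).toLocallyRingedSpace)
    (eV : X.restrict V.isOpenEmbedding ≅ (Spec B).toLocallyRingedSpace) :
    IsIso X.toΓSpec := by
  let Y : Scheme.{u} :=
    { toLocallyRingedSpace := X
      local_affine := fun x => by
        have hx : x ∈ U ⊔ V := by rw [hUV.sup_eq_top]; trivial
        rcases (TopologicalSpace.Opens.mem_sup.1 hx) with h | h
        · exact ⟨⟨U, h⟩, A, ⟨eU⟩⟩
        · exact ⟨⟨V, h⟩, B, ⟨eV⟩⟩ }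
  have key : ∀ (W : Y.Opens) (R : CommRingCat.{u})
      (e : X.restrict W.isOpenEmbedding ≅ (Spec R).toLocallyRingedSpace), IsAffineOpen W := fun W R e => by
    let g : W.toScheme ≅ Spec R := (Scheme.fullyFaithfulForgetToLocallyRingedSpace).preimageIso e
    exact IsAffine.of_isIso g.hom
  have h : IsAffineOpen (⊤ : Y.Opens) := by
    have h1 := (key U A eU).sup_of_disjoint (key V B eV) hUV.disjoint
    rwa [hUV.sup_eq_top] at h1
  haveI : IsAffine (⊤ : Y.Opens).toScheme := h
  haveI : IsAffine Y := IsAffine.of_isIso Y.topIso.inv
  haveI : IsIso Y.toSpecΓ := IsAffine.affine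
  exact inferInstanceAs (IsIso (Scheme.forgetToLocallyRingedSpace.map Y.toSpecΓ))

end Groth.Agent.S9511
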