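import Groth.Statements.S9512
import Mathlib

set_option autoImplicit false
universe u
open LRSImm

namespace Groth.Agent.S9512

open AlgebraicGeometry in
open CategoryTheory Opposite in
/-- Let X be a locally ringed space, Y = Spec R an affine scheme and f : X → Y a morphism of locally
ringed spaces. Given a point x of X, the image f(x) is the prime of R obtained as the inverse image
of the maximal ideal of O_{X,x} under the composite R = Γ(Y, O_Y) → Γ(X, O_X) → O_{X,x}. -/
theorem result
    (X : LocallyRingedSpace.{u}) (R : CommRingCat.{u})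
    (f : X ⟶ (Spec R).toLocallyRingedSpace) (x : X.toTopCat) :
    f.base x = PrimeSpectrum.comap
      ((Scheme.ΓSpecIso R).inv ≫ f.c.app (op ⊤) ≫ X.presheaf.germ ⊤ x trivial).hom
      (IsLocalRing.closedPoint (X.presheaf.stalk x)) := by
  let g := X.presheaf.germ ⊤ x trivial
  have h := f.stalkMap x
  apply PrimeSpectrum.ext
  ext a
  have hgerm : (Spec R).toLocallyRingedSpace.presheaf.germ ⊤ (f.base x) trivial ≫ f.stalkMap x =
      f.c.app (op ⊤) ≫ X.presheaf.germ ⊤ x trivial :=
    LocallyRingedSpace.stalkMap_germ f ⊤ x trivial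
  rw [PrimeSpectrum.comap_asIdeal, ← hgerm]
  simp only [CommRingCat.hom_comp, RingHom.coe_comp, Function.comp_apply, Ideal.mem_comap]
  show _ ↔ (f.stalkMap x).hom _ ∈ IsLocalRing.maximalIdeal (X.presheaf.stalk x)
  rw [IsLocalRing.mem_maximalIdeal, mem_nonunits_iff]
  haveI := f.prop x
  rw [isUnit_map_iff (f.stalkMap x).hom]
  have hb : f.base x ∈ (Spec R).basicOpen ((Scheme.ΓSpecIso R).inv.hom a) ↔ a ∉ (f.base x).asIdeal := by
    rw [basicOpen_eq_of_affine]
    exact Iff.rfl
  rw [Scheme.mem_basicOpen_top] at hb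
  exact iff_not_comm.mp hb

end Groth.Agent.S9512
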