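import Groth.Statements.S9513
import Mathlib

set_option backward.isDefEq.respectTransparency false
set_option backward.isDefEq.respectTransparency.types false

set_option autoImplicit false
universe u
open SchMor

namespace Groth.Agent.S9513

open AlgebraicGeometry CategoryTheory TopologicalSpace Opposite

variable {X : Scheme.{u}}

variable (X) in
/-- The inclusion of the affine opens. -/
abbrev inc : X.affineOpens ⥤ X.Opens :=
  Monotone.functor (f := fun U : X.affineOpens => (U : X.Opens)) (fun _ _ h => h)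

instance : (inc X).Full := ⟨fun f => ⟨homOfLE f.le, Subsingleton.elim _ _⟩⟩

instance : (inc X).Faithful := ⟨fun _ => Subsingleton.elim _ _⟩

instance : (inc X).IsCoverDense (Opens.grothendieckTopology X) where
  is_cover := by
    intro U x hx
    obtain ⟨_, ⟨V, hV, rfl⟩, hxV, hVU⟩ := X.isBasis_affineOpens.exists_subset_of_mem_open hx U.2
    exact ⟨V, homOfLE hVU, ⟨⟨V, hV⟩, 𝟙 _, homOfLE hVU, Subsingleton.elim _ _⟩, hxV⟩

variable (X) in
/-- The topology on the affine opens. -/
abbrev topo : GrothendieckTopology X.affineOpens := (inc X).inducedTopology (Opens.grothendieckTopology X)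

instance : (inc X).IsDenseSubsite (topo X) (Opens.grothendieckTopology X) where
  functorPushforward_mem_iff := by simp [topo]

theorem mem_topo {U : X.affineOpens} {S : Sieve U} :
    S ∈ topo X U ↔ ∀ x ∈ (U : X.Opens), ∃ (V : X.affineOpens) (h : V ≤ U), S.arrows (homOfLE h) ∧ x ∈ (V : X.Opens) := by
  rw [Functor.mem_inducedTopology_iff_of_isCoverDense]
  apply forall₂_congr fun x hx => ⟨?_, ?_⟩
  · rintro ⟨V, f, ⟨W, g, h, hg, -⟩, hxV⟩
    exact ⟨W, g.le, hg, h.le hxV⟩
  · rintro ⟨W, h, hg, hxW⟩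
    exact ⟨(W : X.Opens), homOfLE h, ⟨W, homOfLE h, 𝟙 _, hg, Subsingleton.elim _ _⟩, hxW⟩

variable {F : (X.affineOpens)ᵒᵖ ⥤ Type u}

/-- Restriction maps. -/
abbrev res (F : (X.affineOpens)ᵒᵖ ⥤ Type u) {V U : X.affineOpens} (h : V ≤ U) (s : F.obj (op U)) : F.obj (op V) :=
  F.map (homOfLE h).op s

theorem res_res {W V U : X.affineOpens} (h : W ≤ V) (h' : V ≤ U) (s : F.obj (op U)) :
    res F h (res F h' s) = res F (h.trans h') s :=
  (FunctorToTypes.map_comp_apply F (homOfLE h').op (homOfLE h).op s).symm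

theorem res_self {U : X.affineOpens} (h : U ≤ U) (s : F.obj (op U)) : res F h s = s :=
  FunctorToTypes.map_id_apply F s

variable (F) in
/-- The glueing conditions. -/
def Glue (E : X.affineOpens) : Prop :=
    ((Nonempty (F.obj (op E)) ∧ Subsingleton (F.obj (op E))) ∧
      ∀ (U V W VW : X.affineOpens) (f g : Γ(X, (U : X.Opens))),
        (V : X.Opens) = X.basicOpen f → (W : X.Opens) = X.basicOpen g →
        (VW : X.Opens) = X.basicOpen (f * g) → (U : X.Opens) = (V : X.Opens) ⊔ (W : X.Opens) →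
        ∀ (hV : V ≤ U) (hW : W ≤ U) (h1 : VW ≤ V) (h2 : VW ≤ W),
        Function.Injective (fun s : F.obj (op U) => (F.map (homOfLE hV).op s, F.map (homOfLE hW).op s)) ∧
        Set.range (fun s : F.obj (op U) => (F.map (homOfLE hV).op s, F.map (homOfLE hW).op s)) =
          {p | F.map (homOfLE h1).op p.1 = F.map (homOfLE h2).op p.2})

/-- The trace of a principal open on a smaller affine open. -/
def cut (U₀ : X.affineOpens) (f : Γ(X, (U₀ : X.Opens))) (V : X.affineOpens) (h : V ≤ U₀) : X.affineOpens :=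
  ⟨(V : X.Opens) ⊓ X.basicOpen f, by
    rw [← X.basicOpen_res f (homOfLE (show (V : X.Opens) ≤ U₀ from h)).op]
    exact V.2.basicOpen _⟩

theorem cut_le {U₀ : X.affineOpens} {f : Γ(X, (U₀ : X.Opens))} {V : X.affineOpens} {h : V ≤ U₀} :
    cut U₀ f V h ≤ V := (inf_le_left : (V : X.Opens) ⊓ X.basicOpen f ≤ V)

variable {E : X.affineOpens}

/-- The two element case inside a fixed affine open. -/
theorem two (hG : Glue F E) {U₀ V A B C : X.affineOpens} (hV : V ≤ U₀) (f g : Γ(X, (U₀ : X.Opens)))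
    (hA : (A : X.Opens) = (V : X.Opens) ⊓ X.basicOpen f) (hB : (B : X.Opens) = (V : X.Opens) ⊓ X.basicOpen g)
    (hC : (C : X.Opens) = (A : X.Opens) ⊓ B) (hcov : (V : X.Opens) ≤ X.basicOpen f ⊔ X.basicOpen g) :
    ∃ (hAV : A ≤ V) (hBV : B ≤ V) (h1 : C ≤ A) (h2 : C ≤ B),
      (∀ s s' : F.obj (op V), res F hAV s = res F hAV s' → res F hBV s = res F hBV s' → s = s') ∧
        ∀ (a : F.obj (op A)) (b : F.obj (op B)), res F h1 a = res F h2 b →
          ∃ s, res F hAV s = a ∧ res F hBV s = b := by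
  have hAV : A ≤ V := show (A : X.Opens) ≤ V from hA.le.trans inf_le_left
  have hBV : B ≤ V := show (B : X.Opens) ≤ V from hB.le.trans inf_le_left
  have h1 : C ≤ A := show (C : X.Opens) ≤ A from hC.le.trans inf_le_left
  have h2 : C ≤ B := show (C : X.Opens) ≤ B from hC.le.trans inf_le_right
  let i := (homOfLE (show (V : X.Opens) ≤ U₀ from hV)).op
  have key := hG.2 V A B C (X.presheaf.map i f) (X.presheaf.map i g)
    (by rw [X.basicOpen_res]; exact hA) (by rw [X.basicOpen_res]; exact hB)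
    (by rw [X.basicOpen_mul, X.basicOpen_res, X.basicOpen_res, hC, hA, hB])
    (by rw [hA, hB, ← inf_sup_left, inf_eq_left.2 hcov]) hAV hBV h1 h2
  refine ⟨hAV, hBV, h1, h2, fun s s' e e' => key.1 (Prod.ext e e'), fun a b e => ?_⟩
  obtain ⟨s, hs⟩ := key.2.ge (show (a, b) ∈ {p : F.obj (op A) × F.obj (op B) | _} from e)
  exact ⟨s, congrArg Prod.fst hs, congrArg Prod.snd hs⟩

variable (F) in
/-- Finite covers by traces of principal opens. -/
def Fin' (n : ℕ) : Prop :=
  ∀ (U₀ V : X.affineOpens) (_ : V ≤ U₀) (f : Fin n → Γ(X, (U₀ : X.Opens))) (W : Fin n → X.affineOpens),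
    (∀ i, (W i : X.Opens) = (V : X.Opens) ⊓ X.basicOpen (f i)) → (V : X.Opens) ≤ ⨆ i, X.basicOpen (f i) →
    ∀ (hW : ∀ i, W i ≤ V),
      (∀ s s' : F.obj (op V), (∀ i, res F (hW i) s = res F (hW i) s') → s = s') ∧
      ∀ (a : ∀ i, F.obj (op (W i))),
        (∀ i j (Z : X.affineOpens) (hi : Z ≤ W i) (hj : Z ≤ W j), res F hi (a i) = res F hj (a j)) →
        ∃ s, ∀ i, res F (hW i) s = a i

theorem exists_lin_comb {U : X.affineOpens} {n : ℕ} (f : Fin (n + 1) → Γ(X, (U : X.Opens)))
    (h : (U : X.Opens) ≤ ⨆ i, X.basicOpen (f i)) :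
    ∃ g : Γ(X, (U : X.Opens)), (U : X.Opens) ≤ X.basicOpen (f 0) ⊔ X.basicOpen g ∧ X.basicOpen g ≤ ⨆ i : Fin n, X.basicOpen (f i.succ) := by
  have hs : Ideal.span (Set.range f) = ⊤ := by
    rw [← U.2.self_le_iSup_basicOpen_iff]
    exact h.trans (iSup_le fun i => le_iSup_of_le (⟨f i, i, rfl⟩ : Set.range f) le_rfl)
  obtain ⟨c, hc⟩ := (Ideal.mem_span_range_iff_exists_fun).1 (hs ▸ Submodule.mem_top (x := (1 : Γ(X, (U : X.Opens)))))
  rw [Fin.sum_univ_succ] at hc
  refine ⟨∑ i : Fin n, c i.succ * f i.succ, ?_, ?_⟩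
  · calc (U : X.Opens) = X.basicOpen (c 0 * f 0 + ∑ i : Fin n, c i.succ * f i.succ) := by
          rw [hc, Scheme.basicOpen_of_isUnit _ isUnit_one]
      _ ≤ X.basicOpen (c 0 * f 0) ⊔ X.basicOpen (∑ i : Fin n, c i.succ * f i.succ) := X.basicOpen_add_le _ _
      _ ≤ _ := sup_le_sup_right (by rw [X.basicOpen_mul]; exact inf_le_right) _
  · refine Finset.sum_induction _ (fun z => X.basicOpen z ≤ ⨆ i : Fin n, X.basicOpen (f i.succ))
      (fun a b ha hb => (X.basicOpen_add_le a b).trans (sup_le ha hb)) (by simp) fun i _ => ?_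
    rw [X.basicOpen_mul]
    exact inf_le_right.trans (le_iSup (fun i : Fin n => X.basicOpen (f i.succ)) i)

theorem fin' (hG : Glue F E) (hE : (E : X.Opens) = ⊥) : ∀ n, Fin' F n := by
  intro n
  induction n with
  | zero =>
    intro U₀ V hV f W hW hcov hWle
    have hVE : V = E := Subtype.ext ((le_bot_iff.1 (hcov.trans (by simp))).trans hE.symm)
    subst hVE
    haveI := hG.1.2
    exact ⟨fun s s' _ => Subsingleton.elim _ _, fun a _ => ⟨hG.1.1.some, fun i => i.elim0⟩⟩
  | succ n ih =>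
    intro U₀ V hV f W hW hcov hWle
    let i := (homOfLE (show (V : X.Opens) ≤ U₀ from hV)).op
    obtain ⟨g, hg1, hg2⟩ := exists_lin_comb (U := V) (fun k => X.presheaf.map i (f k))
      (by simp only [X.basicOpen_res]; rw [← inf_iSup_eq]; exact le_inf le_rfl hcov)
    let A := W 0
    let B : X.affineOpens := ⟨X.basicOpen g, V.2.basicOpen g⟩
    let C : X.affineOpens := ⟨(A : X.Opens) ⊓ B, by
      rw [show (A : X.Opens) ⊓ B = X.basicOpen (X.presheaf.map i (f 0) * g) by
        rw [X.basicOpen_mul, X.basicOpen_res, show (A : X.Opens) = _ from hW 0]]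
      exact V.2.basicOpen _⟩
    have hA : (A : X.Opens) = (V : X.Opens) ⊓ X.basicOpen (X.presheaf.map i (f 0)) := by
      rw [X.basicOpen_res, ← inf_assoc, inf_idem]; exact hW 0
    have hB : (B : X.Opens) = (V : X.Opens) ⊓ X.basicOpen g := (inf_eq_right.2 (X.basicOpen_le g)).symm
    obtain ⟨hAV, hBV, h1, h2, sep, glue⟩ := two hG (C := C) le_rfl (X.presheaf.map i (f 0)) g hA hB rfl hg1
    let P (k : Fin n) : X.affineOpens := cut U₀ (f k.succ) B (le_trans hBV hV)
    let Q (k : Fin n) : X.affineOpens := cut U₀ (f k.succ) C ((le_trans h2 hBV).trans hV)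
    have hPW : ∀ k, P k ≤ W k.succ := fun k => show (B : X.Opens) ⊓ _ ≤ (W k.succ : X.Opens) by
      rw [hW]; exact inf_le_inf_right _ hBV
    have hQP : ∀ k, Q k ≤ P k := fun k => show (C : X.Opens) ⊓ _ ≤ (B : X.Opens) ⊓ _ from inf_le_inf_right _ h2
    have hcovB : (B : X.Opens) ≤ ⨆ k : Fin n, X.basicOpen (f k.succ) :=
      hg2.trans (iSup_mono fun k => by simp only [X.basicOpen_res]; exact inf_le_right)
    obtain ⟨sepB, glueB⟩ := ih U₀ B (hBV.trans hV) (fun k => f k.succ) P (fun k => rfl) hcovB fun k => cut_le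
    obtain ⟨sepC, -⟩ := ih U₀ C ((h2.trans hBV).trans hV) (fun k => f k.succ) Q (fun k => rfl)
      (le_trans h2 hcovB) fun k => cut_le
    refine ⟨fun s s' e => sep s s' ?_ (sepB _ _ fun k => ?_), fun a ha => ?_⟩
    · exact e 0
    · rw [res_res, res_res, ← res_res (hPW k) (hWle k.succ), ← res_res (hPW k) (hWle k.succ), e]
    · obtain ⟨b, hb⟩ := glueB (fun k => res F (hPW k) (a k.succ)) fun k l Z hk hl => by
        rw [res_res, res_res]; exact ha _ _ _ _ _
      have hab : res F h1 (a 0) = res F h2 b := sepC _ _ fun k => by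
        rw [res_res, res_res, ← res_res (hQP k) cut_le, hb k, res_res]
        exact ha _ _ _ _ _
      obtain ⟨s, hs0, hsB⟩ := glue (a 0) b hab
      refine ⟨s, Fin.cases hs0 fun k => ?_⟩
      have hC' : ((cut U₀ (f k.succ) C ((h2.trans hBV).trans hV) : X.affineOpens) : X.Opens) =
          ((cut U₀ (f k.succ) A (hAV.trans hV) : X.affineOpens) : X.Opens) ⊓
          ((cut U₀ (f k.succ) B (hBV.trans hV) : X.affineOpens) : X.Opens) := inf_inf_distrib_right _ _ _
      obtain ⟨hAW, hBW, h1', h2', sepW, -⟩ := two hG (C := cut U₀ (f k.succ) C ((h2.trans hBV).trans hV))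
        (V := W k.succ) (A := cut U₀ (f k.succ) A (hAV.trans hV)) (B := cut U₀ (f k.succ) B (hBV.trans hV))
        (hWle k.succ) (X.presheaf.map i (f 0)) g
        (by show (A : X.Opens) ⊓ _ = _; rw [hA, hW k.succ, inf_right_comm])
        (by show (B : X.Opens) ⊓ _ = _; rw [hW k.succ, inf_right_comm, ← hB])
        hC' (le_trans (hWle k.succ) hg1)
      refine sepW _ _ ?_ ?_
      · rw [res_res, ← res_res (cut_le) hAV, hs0]
        exact ha _ _ _ _ _
      · rw [res_res, ← res_res (cut_le) hBV, hsB, hb k]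

theorem isSheaf_of_glue (hG : Glue F E) (hE : (E : X.Opens) = ⊥) : Presieve.IsSheaf (topo X) F := by
  intro U S hS x hx
  rw [mem_topo] at hS
  have hc : ∀ p : (U : X.Opens), ∃ f : Γ(X, (U : X.Opens)), p.1 ∈ X.basicOpen f ∧
      S.arrows (homOfLE (cut_le (U₀ := U) (f := f) (V := U) (h := le_rfl))) := fun p => by
    obtain ⟨V, h, hV, hp⟩ := hS p.1 p.2
    obtain ⟨f, hfV, hpf⟩ := U.2.exists_basicOpen_le ⟨p.1, hp⟩ p.2
    refine ⟨f, hpf, ?_⟩
    have h' : cut U f U le_rfl ≤ V := show (U : X.Opens) ⊓ _ ≤ (V : X.Opens) from inf_le_right.trans hfV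
    convert S.downward_closed hV (homOfLE h') using 1
    exact Subsingleton.elim _ _
  choose f hpf hfS using hc
  obtain ⟨T, hT⟩ := U.2.isCompact.elim_finite_subcover (fun p => (X.basicOpen (f p) : Set X))
    (fun p => (X.basicOpen (f p)).2) fun p hp => Set.mem_iUnion.2 ⟨⟨p, hp⟩, hpf ⟨p, hp⟩⟩
  let e := T.equivFin.symm
  have hcov : (U : X.Opens) ≤ ⨆ i, X.basicOpen (f (e i)) := fun p hp => by
    obtain ⟨q, hqT, hq⟩ := Set.mem_iUnion₂.1 (hT hp)
    exact TopologicalSpace.Opens.mem_iSup.2 ⟨T.equivFin ⟨q, hqT⟩, by simpa [e] using hq⟩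
  obtain ⟨sep, glue⟩ := fin' hG hE _ U U le_rfl (fun i => f (e i)) (fun i => cut U (f (e i)) U le_rfl)
    (fun i => rfl) hcov fun i => cut_le
  obtain ⟨t, ht⟩ := glue (fun i => x _ (hfS (e i))) fun i j Z hi hj =>
    hx (homOfLE hi) (homOfLE hj) (hfS (e i)) (hfS (e j)) (Subsingleton.elim _ _)
  refine ⟨t, fun V g hg => ?_, fun t' ht' => sep _ _ fun i => ?_⟩
  · obtain ⟨sepV, -⟩ := fin' hG hE _ U V g.le (fun i => f (e i)) (fun i => cut U (f (e i)) V g.le)
      (fun i => rfl) (le_trans g.le hcov) fun i => cut_le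
    refine sepV _ _ fun i => ?_
    have h' : cut U (f (e i)) V g.le ≤ cut U (f (e i)) U le_rfl :=
      show (V : X.Opens) ⊓ _ ≤ (U : X.Opens) ⊓ _ from inf_le_inf_right _ g.le
    show res F cut_le (res F g.le t) = res F cut_le (x g hg)
    rw [res_res, ← res_res h' cut_le, ht i]
    exact hx (homOfLE h') (homOfLE cut_le) (hfS (e i)) hg (Subsingleton.elim _ _)
  · rw [ht i]
    exact ht' _ (hfS (e i))

theorem glue_of_isSheaf (h : Presieve.IsSheaf (topo X) F) (hE : (E : X.Opens) = ⊥) : Glue F E := by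
  refine ⟨?_, fun U V W VW f g hV hW hVW hU hVU hWU h1 h2 => ?_⟩
  · have hS : (⊥ : Sieve E) ∈ topo X E := mem_topo.2 fun x hx => by rw [hE] at hx; exact hx.elim
    have hh := h _ hS
    obtain ⟨t, -, ht⟩ := hh (fun _ g hg => False.elim hg) fun _ _ _ _ _ _ _ hg => False.elim hg
    exact ⟨⟨t⟩, ⟨fun a b => (ht a fun _ _ hg => False.elim hg).trans (ht b fun _ _ hg => False.elim hg).symm⟩⟩
  · let S : Sieve U :=
      { arrows := fun Z _ => Z ≤ V ∨ Z ≤ W
        downward_closed := fun hZ g => hZ.imp g.le.trans g.le.trans }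
    have hS : S ∈ topo X U := mem_topo.2 fun x hx => by
      rw [hU] at hx
      exact hx.elim (fun hx => ⟨V, hVU, Or.inl le_rfl, hx⟩) fun hx => ⟨W, hWU, Or.inr le_rfl, hx⟩
    have hinf : ∀ {Z : X.affineOpens}, Z ≤ V → Z ≤ W → Z ≤ VW := fun {Z} a b =>
      show (Z : X.Opens) ≤ (VW : X.Opens) by
        rw [hVW, X.basicOpen_mul, ← hV, ← hW]; exact le_inf a b
    refine ⟨fun s s' e => (h.isSeparated S hS).ext fun Z g hg => ?_, Set.ext fun p => ⟨?_, fun hp => ?_⟩⟩
    · rcases hg with hg | hg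
      · show res F g.le s = res F g.le s'
        rw [← res_res hg hVU, ← res_res hg hVU]
        exact congrArg (res F hg) (congrArg Prod.fst e)
      · show res F g.le s = res F g.le s'
        rw [← res_res hg hWU, ← res_res hg hWU]
        exact congrArg (res F hg) (congrArg Prod.snd e)
    · rintro ⟨s, rfl⟩
      show res F h1 (res F hVU s) = res F h2 (res F hWU s)
      rw [res_res, res_res]
    · classical
      have both : ∀ {Z : X.affineOpens} (a : Z ≤ V) (b : Z ≤ W), res F a p.1 = res F b p.2 := fun {Z} a b => by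
        rw [← res_res (hinf a b) h1, ← res_res (hinf a b) h2]
        exact congrArg (res F (hinf a b)) hp
      let x : Presieve.FamilyOfElements F S.arrows := fun Z g hg =>
        if a : Z ≤ V then res F a p.1 else res F (hg.resolve_left a) p.2
      have xV : ∀ {Z} (g : Z ⟶ U) hg (a : Z ≤ V), x g hg = res F a p.1 := fun g hg a => dif_pos a
      have xW : ∀ {Z} (g : Z ⟶ U) hg (b : Z ≤ W), x g hg = res F b p.2 := fun {Z} g hg b => by
        by_cases a : Z ≤ V
        · rw [xV g hg a]; exact both a b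
        · exact dif_neg a
      have hx : x.Compatible := fun Y₁ Y₂ Z g₁ g₂ f₁ f₂ hf₁ hf₂ _ => by
        show res F g₁.le (x f₁ hf₁) = res F g₂.le (x f₂ hf₂)
        rcases hf₁ with a | a <;> rcases hf₂ with b | b
        · rw [xV f₁ (Or.inl a) a, xV f₂ (Or.inl b) b, res_res, res_res]
        · rw [xV f₁ (Or.inl a) a, xW f₂ (Or.inr b) b, res_res, res_res]; exact both _ _
        · rw [xW f₁ (Or.inr a) a, xV f₂ (Or.inl b) b, res_res, res_res]; exact (both _ _).symm
        · rw [xW f₁ (Or.inr a) a, xW f₂ (Or.inr b) b, res_res, res_res]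
      obtain ⟨t, ht, -⟩ := h S hS x hx
      refine ⟨t, Prod.ext ?_ ?_⟩
      · exact (ht (homOfLE hVU) (Or.inl le_rfl)).trans ((xV (homOfLE hVU) (Or.inl le_rfl) le_rfl).trans (res_self _ _))
      · exact (ht (homOfLE hWU) (Or.inr le_rfl)).trans ((xW (homOfLE hWU) (Or.inr le_rfl) le_rfl).trans (res_self _ _))


open AlgebraicGeometry in
open CategoryTheory TopologicalSpace Opposite in
/-- (1) ⇔ (3): Let X be a scheme and B the set of affine opens of X, ordered by inclusion; let F be a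
presheaf of sets on B (a functor on Bᵒᵖ) and E ∈ B the empty open. Then F is isomorphic to the
restriction to B of a sheaf of sets on X if and only if (a) F(∅) is a singleton and (b) for all U ∈
B and sections f, g of O_X over U with U = D(f) ∪ D(g), writing V = D(f), W = D(g) and V ∩ W = D(fg)
(all in B), the map F(U) → F(V) × F(W) is injective with image exactly the pairs (s, t) whose
restrictions to D(fg) agree. (The order relations V, W ≤ U and D(fg) ≤ V, W are supplied as
hypotheses; they follow from the equations.) -/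
theorem result (X : Scheme.{u})
    (F : (X.affineOpens)ᵒᵖ ⥤ Type u) (E : X.affineOpens) (hE : (E : X.Opens) = ⊥) :
    (∃ G : TopCat.Sheaf (Type u) X.carrier,
        Nonempty ((Monotone.functor (f := fun U : X.affineOpens => (U : X.Opens)) (fun _ _ h => h)).op ⋙ G.1 ≅ F)) ↔
    ((Nonempty (F.obj (op E)) ∧ Subsingleton (F.obj (op E))) ∧
      ∀ (U V W VW : X.affineOpens) (f g : Γ(X, (U : X.Opens))),
        (V : X.Opens) = X.basicOpen f → (W : X.Opens) = X.basicOpen g →
        (VW : X.Opens) = X.basicOpen (f * g) → (U : X.Opens) = (V : X.Opens) ⊔ (W : X.Opens) →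
        ∀ (hV : V ≤ U) (hW : W ≤ U) (h1 : VW ≤ V) (h2 : VW ≤ W),
        Function.Injective (fun s : F.obj (op U) => (F.map (homOfLE hV).op s, F.map (homOfLE hW).op s)) ∧
        Set.range (fun s : F.obj (op U) => (F.map (homOfLE hV).op s, F.map (homOfLE hW).op s)) =
          {p | F.map (homOfLE h1).op p.1 = F.map (homOfLE h2).op p.2}) := by
  refine ⟨fun ⟨G, ⟨e⟩⟩ => glue_of_isSheaf ?_ hE, fun hG => ?_⟩
  · exact Presieve.isSheaf_iso _ e ((inc X).op_comp_isSheaf_of_isSheaf_type (topo X) (K := Opens.grothendieckTopology X)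
      ((isSheaf_iff_isSheaf_of_type _ _).1 G.2))
  · let F' : Sheaf (topo X) (Type u) := ⟨F, (isSheaf_iff_isSheaf_of_type _ _).2 (isSheaf_of_glue hG hE)⟩
    let Φ := (inc X).sheafInducedTopologyEquivOfIsCoverDense (Opens.grothendieckTopology X) (Type u)
    exact ⟨Φ.functor.obj F', ⟨(sheafToPresheaf _ _).mapIso (Φ.unitIso.app F').symm⟩⟩

end Groth.Agent.S9513
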