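import Groth.Statements.S9516
import Groth.Agent.IdealMulLib.Killed
import Groth.Agent.ExtShLib.Depth
import Groth.Agent.QCohLib.FiniteType
import Groth.Agent.QCohLib.Coherent
import Mathlib.RingTheory.Finiteness.Ideal


set_option autoImplicit false
universe u
open CategoryTheory CategoryTheory.Limits AlgebraicGeometry
attribute [local instance] HasDerivedCategory.standard
open Coherent

namespace Groth.Agent.S9516

open CategoryTheory CategoryTheory.Limits AlgebraicGeometry

set_option backward.isDefEq.respectTransparency false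

/-- Let X be a Noetherian scheme, F a quasi-coherent O_X-module, G a coherent O_X-module and I a
quasi-coherent sheaf of ideals, with U the open complement of the closed subset cut out by I. If a
morphism ψ : I^n G → F restricts to zero on U, then ψ vanishes on I^N G for some N: there is a
morphism ι : I^N G → I^n G commuting with the inclusions into G and with ι ≫ ψ = 0. (Together with
the surjectivity statement this says that colim_n Hom(I^n G, F) → Hom(G|_U, F|_U) is bijective.) -/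
theorem result (X : Scheme.{u}) [IsNoetherian X] (F G : X.Modules)
    (hF : Coh.IsQCoh F) (hG : Coh.IsCoh G) (I : X.IdealSheafData)
    (U : X.Opens) (hU : (U : Set X) = (I.support : Set X)ᶜ) (n : ℕ)
    (ψ : (Dual3.idealMul (I ^ n)).obj G ⟶ F)
    (hψ : (Scheme.Modules.restrictFunctor U.ι).map ψ = 0) :
    ∃ (N : ℕ) (ι : (Dual3.idealMul (I ^ N)).obj G ⟶ (Dual3.idealMul (I ^ n)).obj G),
      ι ≫ Dual3.idealMulι (I ^ n) G = Dual3.idealMulι (I ^ N) G ∧ ι ≫ ψ = 0 := by
  haveI := hF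
  haveI := hG.1
  haveI : ∀ m, Coh.IsQCoh ((Dual3.idealMul (I ^ m)).obj G) := fun m => Groth.Agent.IdealMulLib.isQCoh_idealMul _ G
  have hA : Coh.IsCoh ((Dual3.idealMul (I ^ n)).obj G) :=
    Groth.Agent.QCohLib.isCoh_of_mono (Dual3.idealMulι (I ^ n) G) hG inferInstance
  have key : ∀ y : X, ∃ (W : X.Opens) (k : ℕ), IsAffineOpen W ∧ y ∈ W ∧ ∀ hW : IsAffineOpen W,
      ∀ s ∈ I.ideal ⟨W, hW⟩ ^ k • (⊤ : Submodule Γ(X, W) Γ((Dual3.idealMul (I ^ n)).obj G, W)), ψ.app W s = 0 := fun y => by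
    obtain ⟨_, ⟨W : X.Opens, hW, rfl⟩, hy, -⟩ :=
      X.isBasis_affineOpens.exists_subset_of_mem_open (Set.mem_univ y) isOpen_univ
    obtain ⟨k, hk⟩ := Groth.Agent.IdealMulLib.exists_pow_app_eq_zero hA I U hU ψ hψ hW
    exact ⟨W, k, hW, hy, fun _ => hk⟩
  choose W k hW hyW hk using key
  obtain ⟨t, ht⟩ := IsCompact.elim_finite_subcover (isCompact_univ : IsCompact (Set.univ : Set X))
    (fun y => (W y : Set X)) (fun y => (W y).2) fun y _ => Set.mem_iUnion.2 ⟨y, hyW y⟩
  let N := n + t.sup k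
  let a := Dual3.idealMulι (I ^ N) G
  let b := Dual3.idealMulι (I ^ n) G
  have hz : a ≫ cokernel.π b = 0 := by
    refine (Groth.Agent.PullbackMod.eq_zero_iff_stalk _).2 fun y => LinearMap.ext fun z => ?_
    have hle : IntMult.stalkIdeal (I ^ N) y ≤ IntMult.stalkIdeal (I ^ n) y := by
      obtain ⟨_, ⟨V : X.Opens, hV, rfl⟩, hy, -⟩ :=
        X.isBasis_affineOpens.exists_subset_of_mem_open (Set.mem_univ y) isOpen_univ
      rw [Groth.Agent.IdealStalkLib.stalkIdeal_eq _ ⟨V, hV⟩ y hy, Groth.Agent.IdealStalkLib.stalkIdeal_eq _ ⟨V, hV⟩ y hy]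
      exact Ideal.map_mono (Ideal.pow_le_pow_right (Nat.le_add_right n _))
    obtain ⟨w, hw⟩ := (Groth.Agent.IdealMulLib.mem_range_idealMulι_iff (I ^ n) G y _).2
      (Submodule.smul_mono hle le_rfl ((Groth.Agent.IdealMulLib.mem_range_idealMulι_iff (I ^ N) G y _).1 ⟨z, rfl⟩))
    rw [Groth.Agent.PullbackMod.stalkLin_comp, LinearMap.comp_apply, ← hw, ← LinearMap.comp_apply,
      ← Groth.Agent.PullbackMod.stalkLin_comp, cokernel.condition,
      (Groth.Agent.PullbackMod.eq_zero_iff_stalk (0 : (Dual3.idealMul (I ^ n)).obj G ⟶ cokernel b)).mp rfl y]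
    rfl
  refine ⟨N, Abelian.monoLift b a hz, Abelian.monoLift_comp _ _ _, ?_⟩
  refine (Groth.Agent.PullbackMod.eq_zero_iff_stalk _).2 fun y => LinearMap.ext fun z => ?_
  obtain ⟨p, hp, hyp⟩ := Set.mem_iUnion₂.1 (ht (Set.mem_univ y))
  have hWp := hW p
  letI := Module.compHom (((Dual3.idealMul (I ^ N)).obj G).presheaf.stalk y) (X.presheaf.germ (W p) y hyp).hom
  haveI := Groth.Agent.FlatLocus.isLocalizedModule_germL ((Dual3.idealMul (I ^ N)).obj G) hWp y hyp
  obtain ⟨⟨m, r⟩, hm⟩ := IsLocalizedModule.surj (hWp.primeIdealOf ⟨y, hyp⟩).asIdeal.primeCompl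
    (Groth.Agent.FlatLocus.germL ((Dual3.idealMul (I ^ N)).obj G) (W p) y hyp) z
  letI := TopCat.Presheaf.algebra_section_stalk X.presheaf (⟨y, hyp⟩ : W p)
  haveI := hWp.isLocalization_stalk ⟨y, hyp⟩
  have hu : IsUnit (X.presheaf.germ (W p) y hyp (r : Γ(X, W p))) := IsLocalization.map_units (X.presheaf.stalk y) r
  refine hu.smul_left_cancel.1 (Eq.trans ?_ (smul_zero _).symm)
  rw [← map_smul]
  refine (congrArg (Groth.Agent.PullbackMod.stalkLin (Abelian.monoLift b a hz ≫ ψ) y)
    (show X.presheaf.germ (W p) y hyp (r : Γ(X, W p)) • z =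
      ((Dual3.idealMul (I ^ N)).obj G).presheaf.germ (W p) y hyp m from hm)).trans ?_
  rw [Groth.Agent.PullbackMod.stalkLin_germ]
  suffices h : ψ.app (W p) ((Abelian.monoLift b a hz).app (W p) m) = 0 by
    exact (congrArg _ h).trans (map_zero _)
  refine hk p hWp _ ?_
  -- the image of `m` lies in `I^k · (I^n G)`
  have hinj : Function.Injective (Groth.Agent.QCohLib.appLinear b (W p)) :=
    Groth.Agent.CohBase.sections_injective ((Groth.Agent.QCohLib.toAbF X).map b) (W p)
  have h1 : a.app (W p) m ∈ I.ideal ⟨W p, hWp⟩ ^ N • (⊤ : Submodule Γ(X, W p) Γ(G, W p)) :=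
    (Groth.Agent.IdealMulLib.range_app_idealMulι (I ^ N) G hWp _).1 ⟨m, rfl⟩
  have h2 : I.ideal ⟨W p, hWp⟩ ^ N • (⊤ : Submodule Γ(X, W p) Γ(G, W p)) ≤
      Submodule.map (Groth.Agent.QCohLib.appLinear b (W p))
        (I.ideal ⟨W p, hWp⟩ ^ k p • (⊤ : Submodule Γ(X, W p) Γ((Dual3.idealMul (I ^ n)).obj G, W p))) := by
    rw [Submodule.map_smul'', Submodule.map_top,
      show LinearMap.range (Groth.Agent.QCohLib.appLinear b (W p)) = I.ideal ⟨W p, hWp⟩ ^ n • ⊤ from
        SetLike.ext fun x => Groth.Agent.IdealMulLib.range_app_idealMulι (I ^ n) G hWp x,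
      ← Submodule.mul_smul, ← pow_add]
    exact Submodule.smul_mono_left (Ideal.pow_le_pow_right (by
      have := Finset.le_sup (f := k) hp
      omega))
  obtain ⟨q, hq, hqe⟩ := h2 h1
  have : (Abelian.monoLift b a hz).app (W p) m = q := hinj (hqe.trans (ConcreteCategory.congr_hom
    (congrArg (fun f => Scheme.Modules.Hom.app f (W p)) (Abelian.monoLift_comp b a hz).symm) m)).symm
  rw [this]
  exact hq

end Groth.Agent.S9516
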