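import Groth.Statements.S9517
import Groth.Agent.IdealMulLib.Sub
import Groth.Agent.QCohLib.FiniteType
import Groth.Agent.QCohLib.Coherent
import Mathlib.RingTheory.Filtration


set_option autoImplicit false
universe u
open CategoryTheory CategoryTheory.Limits AlgebraicGeometry
attribute [local instance] HasDerivedCategory.standard
open Coherent

namespace Groth.Agent.S9517

open CategoryTheory CategoryTheory.Limits AlgebraicGeometry

set_option backward.isDefEq.respectTransparency false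

theorem aux_ar {R M : Type u} [CommRing R] [AddCommGroup M] [Module R M] [IsNoetherianRing R] [Module.Finite R M]
    (I : Ideal R) (N : Submodule R M) :
    ∃ k : ℕ, ∀ c ≥ k, ∀ n ≥ c, I ^ n • ⊤ ⊓ N = I ^ (n - c) • (I ^ c • ⊤ ⊓ N) := by
  obtain ⟨k, hk⟩ := Ideal.exists_pow_inf_eq_pow_smul I N
  refine ⟨k, fun c hc n hn => ?_⟩
  rw [hk n (hc.trans hn), hk c hc, ← Submodule.mul_smul, ← pow_add, Nat.sub_add_sub_cancel hn hc]

/-- Let X be a Noetherian scheme, F a coherent O_X-module, G ⊆ F a quasi-coherent submodule (given by a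
monomorphism ι : G → F) and I a quasi-coherent sheaf of ideals. Then there is c ≥ 0 such that for
every n ≥ c the two subobjects I^(n-c)·(I^c F ∩ G) and I^n F ∩ G of F are equal. (Products J·M are
the submodule sheaves Dual3.idealMul J M; intersections are taken in the lattice of subobjects of
F.) -/
theorem result (X : Scheme.{u}) [IsNoetherian X] (F G : X.Modules) (hF : Coh.IsCoh F)
    (hG : Coh.IsQCoh G) (ι : G ⟶ F) [Mono ι] (I : X.IdealSheafData) :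
    ∃ c : ℕ, ∀ n : ℕ, c ≤ n →
      Subobject.mk (Dual3.idealMulι (I ^ (n - c))
          (Subobject.underlying.obj (Subobject.mk (Dual3.idealMulι (I ^ c) F) ⊓ Subobject.mk ι)) ≫
        (Subobject.mk (Dual3.idealMulι (I ^ c) F) ⊓ Subobject.mk ι).arrow) =
      Subobject.mk (Dual3.idealMulι (I ^ n) F) ⊓ Subobject.mk ι := by
  haveI := hG
  haveI := hF.1
  open Groth.Agent.IdealMulLib in
  obtain ⟨C, hC⟩ : ∃ C : X → ℕ, ∀ y : X, ∃ W : X.Opens, IsAffineOpen W ∧ y ∈ W ∧ ∀ (hW : IsAffineOpen W),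
      ∃ N : Submodule Γ(X, W) Γ(F, W), (∀ s, s ∈ N ↔ ∃ t, ι.app W t = s) ∧ ∀ c ≥ C y, ∀ n ≥ c,
        I.ideal ⟨W, hW⟩ ^ n • ⊤ ⊓ N = I.ideal ⟨W, hW⟩ ^ (n - c) • (I.ideal ⟨W, hW⟩ ^ c • ⊤ ⊓ N) := by
    have h : ∀ y : X, ∃ k : ℕ, ∃ W : X.Opens, IsAffineOpen W ∧ y ∈ W ∧ ∀ (hW : IsAffineOpen W),
        ∃ N : Submodule Γ(X, W) Γ(F, W), (∀ s, s ∈ N ↔ ∃ t, ι.app W t = s) ∧ ∀ c ≥ k, ∀ n ≥ c,
          I.ideal ⟨W, hW⟩ ^ n • ⊤ ⊓ N = I.ideal ⟨W, hW⟩ ^ (n - c) • (I.ideal ⟨W, hW⟩ ^ c • ⊤ ⊓ N) := fun y => by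
      obtain ⟨_, ⟨W : X.Opens, hW, rfl⟩, hy, -⟩ :=
        X.isBasis_affineOpens.exists_subset_of_mem_open (Set.mem_univ y) isOpen_univ
      haveI : IsNoetherianRing Γ(X, W) := IsLocallyNoetherian.component_noetherian ⟨W, hW⟩
      haveI : Module.Finite Γ(X, W) Γ(F, W) := Groth.Agent.QCohLib.finite_sections_of_isCoh hF hW
      obtain ⟨k, hk⟩ := aux_ar (I.ideal ⟨W, hW⟩) (LinearMap.range (Groth.Agent.QCohLib.appLinear ι W))
      exact ⟨k, W, hW, hy, fun _ => ⟨_, fun s => Iff.rfl, hk⟩⟩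
    choose C hC using h
    exact ⟨C, hC⟩
  choose W hW hyW hN using hC
  obtain ⟨t, ht⟩ := IsCompact.elim_finite_subcover (isCompact_univ : IsCompact (Set.univ : Set X))
    (fun y => (W y : Set X)) (fun y => (W y).2) fun y _ => Set.mem_iUnion.2 ⟨y, hyW y⟩
  refine ⟨t.sup C, fun n hn => ?_⟩
  open Groth.Agent.IdealMulLib in
  set P := Subobject.mk (Dual3.idealMulι (I ^ t.sup C) F) ⊓ Subobject.mk ι with hPdef
  have hq : ∀ (m : ℕ), Coh.IsQCoh ((Subobject.mk (Dual3.idealMulι (I ^ m) F) ⊓ Subobject.mk ι : Subobject F) : X.Modules) :=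
    fun m => Groth.Agent.IdealMulLib.isQCoh_inf _ _
      (Groth.Agent.DCohLib.isQCoh_of_iso' (Subobject.underlyingIso _).symm (Groth.Agent.IdealMulLib.isQCoh_idealMul _ F))
      (Groth.Agent.DCohLib.isQCoh_of_iso' (Subobject.underlyingIso _).symm hG)
  haveI : Coh.IsQCoh (P : X.Modules) := hq _
  haveI := hq n
  haveI : Coh.IsQCoh ((Dual3.idealMul (I ^ (n - t.sup C))).obj (P : X.Modules)) :=
    Groth.Agent.IdealMulLib.isQCoh_idealMul _ _
  refine Eq.trans (Groth.Agent.IdealMulLib.mk_eq_mk_of_cover _ _ fun y => ?_) (Subobject.mk_arrow _)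
  obtain ⟨z, hz, hyz⟩ := Set.mem_iUnion₂.1 (ht (Set.mem_univ y))
  refine ⟨W z, hW z, hyz, fun s => ?_⟩
  obtain ⟨N, hNr, hNk⟩ := hN z (hW z)
  have hc : C z ≤ t.sup C := Finset.le_sup hz
  have key := hNk _ hc n hn
  have hr : ∀ (m : ℕ) (s : Γ(F, W z)),
      (∃ q, ((Subobject.mk (Dual3.idealMulι (I ^ m) F) ⊓ Subobject.mk ι : Subobject F)).arrow.app (W z) q = s) ↔
        s ∈ I.ideal ⟨W z, hW z⟩ ^ m • ⊤ ⊓ N := fun m s => by
    rw [Groth.Agent.IdealMulLib.app_range_inf, Groth.Agent.IdealMulLib.app_range_mk,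
      Groth.Agent.IdealMulLib.app_range_mk, Groth.Agent.IdealMulLib.range_app_idealMulι _ F (hW z),
      Submodule.mem_inf, hNr]
    rfl
  rw [hr n s, key]
  let φ := Groth.Agent.QCohLib.appLinear P.arrow (W z)
  have himg : Submodule.map φ ((I ^ (n - t.sup C)).ideal ⟨W z, hW z⟩ • ⊤) =
      I.ideal ⟨W z, hW z⟩ ^ (n - t.sup C) • (I.ideal ⟨W z, hW z⟩ ^ t.sup C • ⊤ ⊓ N) := by
    rw [Submodule.map_smul'', Submodule.map_top,
      show LinearMap.range φ = I.ideal ⟨W z, hW z⟩ ^ t.sup C • ⊤ ⊓ N from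
        SetLike.ext fun x => hr (t.sup C) x]
    rfl
  rw [← himg, Submodule.mem_map]
  constructor
  · rintro ⟨q, rfl⟩
    exact ⟨(Dual3.idealMulι (I ^ (n - t.sup C)) (P : X.Modules)).app (W z) q,
      (Groth.Agent.IdealMulLib.range_app_idealMulι _ _ (hW z) _).1 ⟨q, rfl⟩, rfl⟩
  · rintro ⟨x, hx, rfl⟩
    obtain ⟨q, rfl⟩ := (Groth.Agent.IdealMulLib.range_app_idealMulι _ _ (hW z) x).2 hx
    exact ⟨q, rfl⟩

end Groth.Agent.S9517
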