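import Groth.Statements.S9519
import Groth.Agent.RelCechLib.BaseChange

set_option backward.isDefEq.respectTransparency false

set_option autoImplicit false
universe u
open CategoryTheory CategoryTheory.Limits AlgebraicGeometry
attribute [local instance] HasDerivedCategory.standard
open CechOX

namespace Groth.Agent.S9519

/-- Let f : X → S be a morphism of schemes with X quasi-compact and X and S with affine diagonal, F a
quasi-coherent O_X-module, 𝒰 a finite covering of X by affine opens and g : S' → S a morphism; write
X' = X ×_S S' with projections g' : X' → X and f' : X' → S', F' = g'^* F and 𝒰' for the covering of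
X' by the preimages (g')⁻¹(𝒰 i). Then g^* Č(𝒰, f, F) (termwise pullback) is isomorphic as a complex
of O_S'-modules to the relative Čech complex Č(𝒰', f', F'), and its image in the derived category of
O_S'-modules is isomorphic to Rf'_* F'. (The published statement calls the first identification an
equality and states it for g affine, in which case the opens of 𝒰' are affine; this row asserts the
existence of the isomorphisms for any g, with Rf'_* the unbounded derived functor under its
existence binder.) -/
theorem result {X S S' : Scheme.{u}} (f : X ⟶ S) [CompactSpace X]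
    [IsAffineHom (pullback.diagonal (terminal.from X))] [IsAffineHom (pullback.diagonal (terminal.from S))]
    (F : X.Modules) (hF : Coh.IsQCoh F) {ι : Type u} [Finite ι] (𝒰 : ι → X.Opens)
    (h𝒰 : ∀ i, IsAffineOpen (𝒰 i)) (hcov : ⨆ i, 𝒰 i = ⊤) (g : S' ⟶ S)
    [(Scheme.Modules.pullback g).Additive] [DCoh.HasRpush (pullback.snd f g)] :
    Nonempty (((Scheme.Modules.pullback g).mapHomologicalComplex (ComplexShape.up ℕ)).obj
        ((CechOX.relCech 𝒰 f).obj F) ≅
      (CechOX.relCech (fun i => (pullback.fst f g) ⁻¹ᵁ (𝒰 i)) (pullback.snd f g)).obj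
        ((Scheme.Modules.pullback (pullback.fst f g)).obj F)) ∧
    Nonempty (DCoh.toD S' ((((Scheme.Modules.pullback g).mapHomologicalComplex (ComplexShape.up ℕ)).obj
        ((CechOX.relCech 𝒰 f).obj F)).extend ComplexShape.embeddingUpNat) ≅
      (DCoh.Rpush (pullback.snd f g)).obj
        (DCoh.inD _ ((Scheme.Modules.pullback (pullback.fst f g)).obj F))) := by
  haveI := hF
  have h : IsPullback (pullback.fst f g) (pullback.snd f g) f g := IsPullback.of_hasPullback f g
  have ha := Groth.Agent.RelCechLib.isAffineHom_term 𝒰 h𝒰 f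
  have haff : ∀ (n : ℕ) (k : Fin (n + 1) → ι), IsAffineHom ((piObj (𝒰 ∘ k) : X.Opens).ι ≫ f) := fun n k => (ha n k).2
  let e := Groth.Agent.RelCechLib.bcIso 𝒰 h F haff
  haveI : Coh.IsQCoh ((Scheme.Modules.pullback (pullback.fst f g)).obj F) :=
    Groth.Agent.PullbackMod.isQCoh_pullback (pullback.fst f g) F
  have haff' : ∀ (n : ℕ) (k : Fin (n + 1) → ι),
      IsAffineHom (piObj (Groth.Agent.RelCechLib.pre 𝒰 (pullback.fst f g) ∘ k) : (pullback f g).Opens).ι ∧
      IsAffineHom ((piObj (Groth.Agent.RelCechLib.pre 𝒰 (pullback.fst f g) ∘ k) : (pullback f g).Opens).ι ≫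
        pullback.snd f g) := fun n k => by
    have e1 := Groth.Agent.RelCechLib.prod_pre_eq (g' := pullback.fst f g) 𝒰 k
    refine ⟨?_, MorphismProperty.of_isPullback (P := @IsAffineHom)
      (Groth.Agent.RelCechLib.isPullback_open h e1.le e1) (ha n k).2⟩
    rw [e1]
    exact MorphismProperty.of_isPullback (P := @IsAffineHom) (isPullback_morphismRestrict _ _) (ha n k).1
  obtain ⟨r⟩ := Groth.Agent.RelCechLib.nonempty_relCech_iso_of_affine
    (Groth.Agent.RelCechLib.pre 𝒰 (pullback.fst f g)) ((Scheme.Modules.pullback (pullback.fst f g)).obj F)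
    (pullback.snd f g) haff' (by
      refine eq_top_iff.2 fun x _ => ?_
      obtain ⟨k, hk⟩ := TopologicalSpace.Opens.mem_iSup.1 (hcov.ge (trivial : (pullback.fst f g) x ∈ (⊤ : X.Opens)))
      exact TopologicalSpace.Opens.mem_iSup.2 ⟨k, hk⟩)
  exact ⟨⟨e⟩, ⟨DerivedCategory.Q.mapIso ((ComplexShape.embeddingUpNat.extendFunctor S'.Modules).mapIso e) ≪≫ r⟩⟩

end Groth.Agent.S9519
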