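import Groth.Statements.S9521
import Groth.Agent.PieceSubLib.Basic

set_option autoImplicit false
universe u
open Coherent

namespace Groth.Agent.S9521

open CategoryTheory CategoryTheory.Limits AlgebraicGeometry

set_option backward.isDefEq.respectTransparency false
set_option backward.defeqAttrib.useBackward true
set_option linter.style.haveILetI false

open Groth.Agent Groth.Agent.PullbackMod TopologicalSpace CategoryTheory CategoryTheory.Limits AlgebraicGeometry

open CategoryTheory CategoryTheory.Limits AlgebraicGeometry in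
/-- Let X be a Noetherian scheme, i : Z → X a closed immersion with Z an integral scheme, ξ ∈ X the
image of the generic point of Z, and F a coherent O_X-module whose stalk F_ξ is annihilated by the
maximal ideal of O_{X,ξ}. Then one can find r ≥ 0 together with a coherent ideal sheaf I ⊆ O_Z and a
monomorphism of O_X-modules i_*(I^⊕r) → F that becomes an isomorphism when restricted to some open
neighbourhood of ξ. -/
theorem result (X Z : Scheme.{u}) [IsNoetherian X]
    (i : Z ⟶ X) [IsClosedImmersion i] [IsIntegral Z] (F : X.Modules) (hF : Coh.IsCoh F)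
    (hann : ∀ a ∈ IsLocalRing.maximalIdeal (X.presheaf.stalk (i (genericPoint Z))),
      ∀ m : ↑(F.presheaf.stalk (i (genericPoint Z))), a • m = 0) :
    ∃ (r : ℕ) (I : Z.Modules) (ι : I ⟶ Coh.structureModule Z) (φ : (Coh.push i).obj (∐ fun _ : Fin r => I) ⟶ F),
      Mono ι ∧ Coh.IsCoh I ∧ Mono φ ∧
      ∃ U : X.Opens, i (genericPoint Z) ∈ U ∧ IsIso ((Scheme.Modules.restrictFunctor U.ι).map φ) := by
  obtain ⟨r, I, ι, φ, hι, hI, hφ, hs, hc⟩ := PieceSub.exists_ideal_pow i hF hann
  haveI := hφ
  let U : X.Opens := (⟨CohB1.support (cokernel φ),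
    DevLib.isClosed_support (QCohLib.isCoh_kernel_cokernel φ hc hF).2⟩ : Closeds X).compl
  refine ⟨r, I, ι, φ, hι, hI, hφ, U, DevLib.notMem_support_coker φ hs, ?_⟩
  have hbij : ∀ x ∈ U, Function.Bijective (stalkLin φ x) := fun x hx => by
    refine ⟨(mono_iff_stalk φ).1 inferInstance x, fun z => ?_⟩
    haveI : Subsingleton ((cokernel φ).presheaf.stalk x) := DevLib.subsingleton_of_notMem hx
    exact (DevLib.coker_exact φ x z).1 (Subsingleton.elim _ _)
  refine Scheme.Modules.Hom.isIso_iff_isIso_app.2 fun V => ?_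
  rw [ConcreteCategory.isIso_iff_bijective]
  exact TopCat.Presheaf.app_bijective_of_stalkFunctor_map_bijective
    (F := (⟨((Coh.push i).obj (∐ fun _ : Fin r => I)).presheaf, ((Coh.push i).obj (∐ fun _ : Fin r => I)).isSheaf⟩ : TopCat.Sheaf Ab X.toTopCat))
    (G := ⟨F.presheaf, F.isSheaf⟩) ⟨φ.mapPresheaf⟩ _
    fun x hx => hbij x (((U.ι.image_mono le_top).trans U.ι_image_top.le) hx)

end Groth.Agent.S9521
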