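import Groth.Statements.S9522
import Groth.Agent.DevLib.TFSub
import Groth.Agent.DevLib.Apps
import Groth.Agent.IdealMulLib.Killed

set_option autoImplicit false
universe u
open CategoryTheory CategoryTheory.Limits AlgebraicGeometry
attribute [local instance] HasDerivedCategory.standard
open Coherent

namespace Groth.Agent.S9522

open CategoryTheory CategoryTheory.Limits AlgebraicGeometry


open CategoryTheory CategoryTheory.Limits AlgebraicGeometry TopologicalSpace
open Groth.Agent.DevLib Groth.Agent.PullbackMod Groth.Agent.QCohLib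

variable {X : Scheme.{u}} [AlgebraicGeometry.IsNoetherian X]

/-- An ideal sheaf not vanishing at `ξ` killing a coherent module which is zero at `ξ`. -/
theorem exists_killing {G C : X.Modules} (hG : Coh.IsCoh G) (hC : Coh.IsCoh C) (ψ : G ⟶ C) {ξ : X}
    (hξ : ξ ∉ CohB1.support C) :
    ∃ J : X.IdealSheafData, ξ ∉ (J.support : Set X) ∧ Dual3.idealMulι J G ≫ ψ = 0 := by
  haveI := hG.1
  haveI := hC.1
  let T : Closeds X := ⟨CohB1.support C, isClosed_support hC⟩
  let I := Scheme.IdealSheafData.vanishingIdeal T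
  have hT : (I.support : Set X) = CohB1.support C := by
    rfl
  let U : X.Opens := ⟨(CohB1.support C)ᶜ, (isClosed_support hC).isOpen_compl⟩
  have hU : (U : Set X) = (I.support : Set X)ᶜ := by rw [hT]; rfl
  have hψ : (Scheme.Modules.restrictFunctor U.ι).map ψ = 0 :=
    (Groth.Agent.ExtShLib.restrict_map_eq_zero_iff U ψ).2 fun y hy => LinearMap.ext fun z => by
      haveI := subsingleton_of_notMem (show y ∉ CohB1.support C from hy)
      exact Subsingleton.elim _ _
  have key : ∀ y : X, ∃ (W : X.Opens) (k : ℕ), IsAffineOpen W ∧ y ∈ W ∧ ∀ hW : IsAffineOpen W,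
      ∀ s ∈ I.ideal ⟨W, hW⟩ ^ k • (⊤ : Submodule Γ(X, W) Γ(G, W)), ψ.app W s = 0 := fun y => by
    obtain ⟨_, ⟨W : X.Opens, hW, rfl⟩, hy, -⟩ :=
      X.isBasis_affineOpens.exists_subset_of_mem_open (Set.mem_univ y) isOpen_univ
    obtain ⟨k, hk⟩ := Groth.Agent.IdealMulLib.exists_pow_app_eq_zero hG I U hU ψ hψ hW
    exact ⟨W, k, hW, hy, fun _ => hk⟩
  choose W k hW hyW hk using key
  obtain ⟨t, ht⟩ := IsCompact.elim_finite_subcover (isCompact_univ : IsCompact (Set.univ : Set X))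
    (fun y => (W y : Set X)) (fun y => (W y).2) fun y _ => Set.mem_iUnion.2 ⟨y, hyW y⟩
  refine ⟨I ^ (t.sup k + 1), ?_, ?_⟩
  · rw [Scheme.IdealSheafData.support_pow_succ, hT]; exact hξ
  · haveI : Coh.IsQCoh ((Dual3.idealMul (I ^ (t.sup k + 1))).obj G) := Groth.Agent.IdealMulLib.isQCoh_idealMul _ G
    refine Groth.Agent.IdealMulLib.eq_zero_of_cover _ fun y => ?_
    obtain ⟨p, hp, hyp⟩ := Set.mem_iUnion₂.1 (ht (Set.mem_univ y))
    exact ⟨W p, hW p, hyp, fun x => hk p (hW p) _ (Submodule.smul_mono_left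
      (Ideal.pow_le_pow_right ((Finset.le_sup hp).trans (Nat.le_succ _)))
      ((Groth.Agent.IdealMulLib.range_app_idealMulι (I ^ (t.sup k + 1)) G (hW p) _).1 ⟨x, rfl⟩))⟩

/-- The piece at the generic point. -/
theorem piece_at {Z₀ : Set X} {ξ : X} (hξ : closure {ξ} = Z₀) (P : X.Modules → Prop)
    (hP : ∀ M N : X.Modules, Nonempty (M ≅ N) → P M → P N)
    (h₁ : ∀ S : ShortComplex X.Modules, S.ShortExact → Coh.IsCoh S.X₁ → Coh.IsCoh S.X₂ → Coh.IsCoh S.X₃ →
      P S.X₁ → P S.X₃ → P S.X₂)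
    (h₂ : ∀ (F : X.Modules) (r : ℕ), Coh.IsCoh F → 1 ≤ r → P (∐ fun _ : Fin r => F) → P F)
    (h₄ : ∃ G : X.Modules, Coh.IsCoh G ∧ CohB1.support G = Z₀ ∧
      (∀ a ∈ IsLocalRing.maximalIdeal (X.presheaf.stalk ξ), ∀ m : ↑(G.presheaf.stalk ξ), a • m = 0) ∧
      ∀ J : X.IdealSheafData, ξ ∉ (J.support : Set X) →
        ∃ (G' : X.Modules) (ι' : G' ⟶ (Dual3.idealMul J).obj G), Mono ι' ∧ Coh.IsQCoh G' ∧
          IsIso ((TopCat.Presheaf.stalkFunctor _ ξ).map (ι' ≫ Dual3.idealMulι J G).mapPresheaf) ∧ P G')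
    {Q : X.Modules} (hQ : IsPiece ξ Q) (hsm : SmallerOK P ξ) : P Q := by
  obtain ⟨G, hG, hGs, hkill, hJ⟩ := h₄
  have hsupp : ∀ y ∈ CohB1.support G, ξ ⤳ y := fun y hy =>
    specializes_iff_mem_closure.2 (by rw [hξ, ← hGs]; exact hy)
  have hne : ξ ∈ CohB1.support G := by rw [hGs, ← hξ]; exact subset_closure rfl
  obtain ⟨L, i, hL, hi, htf, his⟩ := exists_tfSub hG hsupp
  let θ : L.presheaf.stalk ξ ≃ₗ[X.presheaf.stalk ξ] G.presheaf.stalk ξ :=
    LinearEquiv.ofBijective (stalkLin i ξ) ⟨(mono_iff_stalk i).1 hi ξ, his⟩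
  haveI := hQ.simple
  haveI := hG.1
  haveI := finite_stalk_of_isFT hG.2 ξ
  haveI : Nontrivial (G.presheaf.stalk ξ) := not_subsingleton_iff_nontrivial.1 hne
  obtain ⟨k, ⟨e'⟩⟩ := exists_equiv_pi_simple (S := Q.presheaf.stalk ξ) hkill
  obtain ⟨hc, htp, hsp, ⟨ep⟩, -⟩ := powMod_spec hQ k
  obtain ⟨H, p, q, hH, hp, hq, hps, hqs⟩ := exists_common' hL hc htf htp
    (fun a ha z => θ.injective (by rw [map_smul, map_zero]; exact hkill a ha _)) (θ.trans (e'.trans ep.symm))
  haveI := hp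
  haveI := hq
  haveI := hi
  let h : H ⟶ G := p ≫ i
  haveI : Mono h := mono_comp p i
  have hhs : Function.Surjective (stalkLin h ξ) := by
    rw [show stalkLin h ξ = (stalkLin i ξ).comp (stalkLin p ξ) from stalkLin_comp p i ξ]
    exact his.comp hps
  obtain ⟨J, hJξ, hJ0⟩ := exists_killing hG (isCoh_kernel_cokernel h hH hG).2 (cokernel.π h) (notMem_support_coker h hhs)
  obtain ⟨G', ι', hι', hG'q, hiso, hPG'⟩ := hJ J hJξ
  haveI := hι'
  haveI := hG'q
  haveI : Mono (ι' ≫ Dual3.idealMulι J G) := mono_comp _ _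
  obtain ⟨β₀, hβ⟩ := KernelFork.IsLimit.lift' (cokerSeq_shortExact h).fIsKernel (ι' ≫ Dual3.idealMulι J G)
    (show (ι' ≫ Dual3.idealMulι J G) ≫ cokernel.π h = 0 by rw [Category.assoc, hJ0, comp_zero])
  let β : G' ⟶ H := β₀
  have hβ' : β ≫ h = ι' ≫ Dual3.idealMulι J G := hβ
  haveI : Mono β := mono_of_mono_fac hβ'
  have hG' : Coh.IsCoh G' := isCoh_of_mono (ι' ≫ Dual3.idealMulι J G) hG hG'q
  have hβs : Function.Surjective (stalkLin β ξ) := fun z => by
    obtain ⟨x, hx⟩ : ∃ x, stalkLin (ι' ≫ Dual3.idealMulι J G) ξ x = stalkLin h ξ z :=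
      (ConcreteCategory.bijective_of_isIso
        ((TopCat.Presheaf.stalkFunctor _ ξ).map (ι' ≫ Dual3.idealMulι J G).mapPresheaf)).2 _
    refine ⟨x, (mono_iff_stalk h).1 inferInstance ξ ?_⟩
    exact ((congrArg (fun f => f x) (stalkLin_comp β h ξ)).symm.trans (congrArg (fun f => stalkLin f ξ x) hβ')).trans hx
  let m : G' ⟶ powMod Q k := β ≫ q
  haveI : Mono m := mono_comp β q
  have hms : Function.Surjective (stalkLin m ξ) := by
    rw [show stalkLin m ξ = (stalkLin q ξ).comp (stalkLin β ξ) from stalkLin_comp β q ξ]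
    exact hqs.comp hβs
  have hcm := (isCoh_kernel_cokernel m hG' hc).2
  exact h₂ Q (k + 1) hQ.coh (Nat.le_add_left 1 k) (hP _ _ ⟨powSigmaIso Q k⟩
    (h₁ (cokerSeq m) (cokerSeq_shortExact m) hG' hc hcm hPG'
      (hsm _ hcm (supp_coker m hsp) (notMem_support_coker m hms))))

/-- Let X be a Noetherian scheme, Z₀ ⊆ X an irreducible closed subset with generic point ξ, and P an
isomorphism-invariant property of O_X-modules that holds for every zero module and such that (1) for
every short exact sequence 0 → F₁ → F → F₂ → 0 of coherent modules, P(F₁) and P(F₂) imply P(F); (2)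
for coherent F, P(F^⊕r) for some r ≥ 1 implies P(F); (3) P holds for i_*I for every closed immersion
i : Z → X with Z integral, i(Z) a proper subset of Z₀, and every quasi-coherent ideal sheaf I ⊆ O_Z;
(4) there is a coherent module G with support equal to Z₀, whose stalk at ξ is annihilated by the
maximal ideal of O_{X,ξ}, and such that for every quasi-coherent sheaf of ideals J on X with ξ ∉
V(J) there is a quasi-coherent submodule G' ⊆ J·G whose inclusion into G induces an isomorphism on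
stalks at ξ and for which P holds. Then P holds for every coherent O_X-module whose support is
contained in Z₀. (The published statement does not ask that P hold for the zero module, although its
proof uses this for a filtration with no steps; without it the conclusion fails for the zero module
when Z₀ is a closed point: on the spectrum of a field, with P(F) meaning that F is nonzero, every
other hypothesis holds. This row assumes that P holds for every zero module.) -/
theorem result (X : Scheme.{u}) [IsNoetherian X]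
    (Z₀ : Set X) (hZ₀ : IsClosed Z₀) (hirr : IsIrreducible Z₀) (ξ : X) (hξ : ξ ∈ Z₀ ∧ closure {ξ} = Z₀)
    (P : X.Modules → Prop) (hP : ∀ M N : X.Modules, Nonempty (M ≅ N) → P M → P N)
    (h₀ : ∀ M : X.Modules, IsZero M → P M)
    (h₁ : ∀ S : ShortComplex X.Modules, S.ShortExact → Coh.IsCoh S.X₁ → Coh.IsCoh S.X₂ → Coh.IsCoh S.X₃ →
      P S.X₁ → P S.X₃ → P S.X₂)
    (h₂ : ∀ (F : X.Modules) (r : ℕ), Coh.IsCoh F → 1 ≤ r → P (∐ fun _ : Fin r => F) → P F)
    (h₃ : ∀ (Z : Scheme.{u}) (i : Z ⟶ X), IsClosedImmersion i → IsIntegral Z →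
      Set.range ⇑i ⊆ Z₀ → Set.range ⇑i ≠ Z₀ →
      ∀ (I : Z.Modules) (ι : I ⟶ Coh.structureModule Z), Mono ι → Coh.IsQCoh I → P ((Coh.push i).obj I))
    (h₄ : ∃ G : X.Modules, Coh.IsCoh G ∧ CohB1.support G = Z₀ ∧
      (∀ a ∈ IsLocalRing.maximalIdeal (X.presheaf.stalk ξ), ∀ m : ↑(G.presheaf.stalk ξ), a • m = 0) ∧
      ∀ J : X.IdealSheafData, ξ ∉ (J.support : Set X) →
        ∃ (G' : X.Modules) (ι' : G' ⟶ (Dual3.idealMul J).obj G), Mono ι' ∧ Coh.IsQCoh G' ∧
          IsIso ((TopCat.Presheaf.stalkFunctor _ ξ).map (ι' ≫ Dual3.idealMulι J G).mapPresheaf) ∧ P G')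
    (F : X.Modules) (hF : Coh.IsCoh F) (hsupp : CohB1.support F ⊆ Z₀) : P F := by
  refine devissage Z₀ P hP h₀ (fun S hS a b c _ p q => h₁ S hS a b c p q) (fun η _ hη Q hQ hsm => ?_) F hF hsupp
  by_cases heq : closure {η} = Z₀
  · have hgp : η = ξ := (show IsGenericPoint η Z₀ from heq).eq (show IsGenericPoint ξ Z₀ from hξ.2)
    subst hgp
    exact piece_at heq P hP h₁ h₂ h₄ hQ hsm
  · obtain ⟨Z, i, hi, hZ, hr, hgen⟩ := exists_integral_closed η
    haveI := hi
    haveI := hZ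
    subst hgen
    refine piece_of_ext Z₀ hη P (fun S hS a b c _ p q => h₁ S hS a b c p q) (isPiece_pushUnit i)
      (fun H q hq hH => ?_) hQ hsm
    obtain ⟨I, ι, hι, hI, ⟨e'⟩⟩ := exists_ideal_of_mono i q hH.1
    exact hP _ _ ⟨e'⟩ (h₃ Z i hi hZ (hr ▸ hη) (hr ▸ heq) I ι hι hI)

end Groth.Agent.S9522
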