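import Groth.Statements.S9523
import Groth.Agent.IdealMulLib.Basic
import Groth.Agent.QCohLib.Push


set_option autoImplicit false
universe u
open CategoryTheory CategoryTheory.Limits AlgebraicGeometry
attribute [local instance] HasDerivedCategory.standard
open Coherent

namespace Groth.Agent.S9523

open CategoryTheory CategoryTheory.Limits AlgebraicGeometry

set_option backward.isDefEq.respectTransparency false

open CategoryTheory AlgebraicGeometry in
theorem aux {Y X : Scheme.{u}} (f : Y ⟶ X) (F : Y.Modules) (I : X.IdealSheafData) {W : X.Opens}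
    (hW : IsAffineOpen W) (hV : IsAffineOpen (f ⁻¹ᵁ W)) (s : Γ((Scheme.Modules.pushforward f).obj F, W)) :
    s ∈ I.ideal ⟨W, hW⟩ • (⊤ : Submodule Γ(X, W) Γ((Scheme.Modules.pushforward f).obj F, W)) ↔
      (show Γ(F, f ⁻¹ᵁ W) from s) ∈ (I.comap f).ideal ⟨f ⁻¹ᵁ W, hV⟩ • (⊤ : Submodule Γ(Y, f ⁻¹ᵁ W) Γ(F, f ⁻¹ᵁ W)) := by
  rw [Groth.Agent.IdealStalkLib.comap_ideal I f hW hV le_rfl, Scheme.Hom.appLE_eq_app]
  let S := (I.ideal ⟨W, hW⟩).map (f.app W).hom • (⊤ : Submodule Γ(Y, f ⁻¹ᵁ W) Γ(F, f ⁻¹ᵁ W))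
  let T := I.ideal ⟨W, hW⟩ • (⊤ : Submodule Γ(X, W) Γ((Scheme.Modules.pushforward f).obj F, W))
  constructor
  · intro hs
    refine Submodule.smul_induction_on (M := Γ((Scheme.Modules.pushforward f).obj F, W))
      (p := fun x => @Membership.mem Γ(F, f ⁻¹ᵁ W) _ _ S x) hs
      (fun a ha m _ => ?_) fun p q hp hq => S.add_mem hp hq
    exact Submodule.smul_mem_smul (Ideal.mem_map_of_mem (f.app W).hom ha)
      (Submodule.mem_top (R := Γ(Y, f ⁻¹ᵁ W)) (M := Γ(F, f ⁻¹ᵁ W)) (x := m))
  · intro hs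
    refine Submodule.smul_induction_on (M := Γ(F, f ⁻¹ᵁ W))
      (p := fun x => @Membership.mem Γ((Scheme.Modules.pushforward f).obj F, W) _ _ T x) hs
      (fun a' ha' w _ => ?_) fun p q hp hq => T.add_mem hp hq
    induction ha' using Submodule.span_induction generalizing w with
    | mem x hx =>
      obtain ⟨a, ha, rfl⟩ := hx
      exact Submodule.smul_mem_smul ha
        (Submodule.mem_top (R := Γ(X, W)) (M := Γ((Scheme.Modules.pushforward f).obj F, W)) (x := w))
    | zero => rw [zero_smul]; exact T.zero_mem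
    | add x x' _ _ hx hx' => rw [add_smul]; exact T.add_mem (hx w trivial) (hx' w trivial)
    | smul c x _ hx => rw [smul_eq_mul, mul_comm, mul_smul]; exact hx _ trivial

/-- Let f : Y → X be an affine morphism of schemes, F a quasi-coherent O_Y-module and I a quasi-coherent
sheaf of ideals on X. Then I·f_*F = f_*((f⁻¹I O_Y)·F) as submodules of f_*F: there is an isomorphism
I·f_*F ≅ f_*((f⁻¹I O_Y)·F) whose composite with f_* of the inclusion (f⁻¹I O_Y)·F → F is the
inclusion I·f_*F → f_*F. (J·M denotes the submodule sheaf Dual3.idealMul J M; f⁻¹I O_Y is the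
pulled-back ideal sheaf I.comap f.) -/
theorem result {Y X : Scheme.{u}} (f : Y ⟶ X) [IsAffineHom f]
    (F : Y.Modules) (hF : Coh.IsQCoh F) (I : X.IdealSheafData) :
    ∃ e : (Dual3.idealMul I).obj ((Scheme.Modules.pushforward f).obj F) ≅
        (Scheme.Modules.pushforward f).obj ((Dual3.idealMul (I.comap f)).obj F),
      e.hom ≫ (Scheme.Modules.pushforward f).map (Dual3.idealMulι (I.comap f) F) =
        Dual3.idealMulι I ((Scheme.Modules.pushforward f).obj F) := by
  haveI := hF
  haveI : Coh.IsQCoh ((Scheme.Modules.pushforward f).obj F) := Groth.Agent.QCohLib.isQCoh_pushforward F f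
  refine Groth.Agent.IdealMulLib.exists_iso_of_app_range _ _ fun W hW s => ?_
  rw [Groth.Agent.IdealMulLib.range_app_idealMulι I _ hW]
  exact (aux f F I hW (hW.preimage f) s).trans
    (Groth.Agent.IdealMulLib.range_app_idealMulι (I.comap f) F (hW.preimage f) s).symm

end Groth.Agent.S9523
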