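import Groth.Statements.S9525
import Mathlib
import Groth.Agent.PullbackMod.OpenLocus
import Groth.Agent.DCohLib.StalkRestrictFree
import Groth.Agent.DCohLib.SuppOpen
import Groth.Agent.QCohLib.Coherent

set_option autoImplicit false
universe u
open Coherent

namespace Groth.Agent.S9525

open CategoryTheory CategoryTheory.Limits AlgebraicGeometry in
/-- Let X be a locally Noetherian scheme, F and G coherent O_X-modules, φ : G → F a morphism and x ∈ X.
(1) If F_x = 0 there is an open neighbourhood U of x with F|_U = 0. (2) If the stalk map φ_x : G_x →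
F_x is injective there is an open neighbourhood U of x with φ|_U injective. (4) If φ_x is bijective
there is an open neighbourhood U of x with φ|_U an isomorphism. (Part (3), surjectivity, is the
finite-type statement valid on any ringed space and is not restated.) -/
theorem result (X : Scheme.{u}) [IsLocallyNoetherian X]
    (F G : X.Modules) (hF : Coh.IsCoh F) (hG : Coh.IsCoh G) (φ : G ⟶ F) (x : X) :
    (Subsingleton ↑(F.presheaf.stalk x) →
      ∃ U : X.Opens, x ∈ U ∧ IsZero ((Scheme.Modules.restrictFunctor U.ι).obj F)) ∧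
    (Function.Injective ((TopCat.Presheaf.stalkFunctor _ x).map φ.mapPresheaf).hom →
      ∃ U : X.Opens, x ∈ U ∧ Mono ((Scheme.Modules.restrictFunctor U.ι).map φ)) ∧
    (Function.Bijective ((TopCat.Presheaf.stalkFunctor _ x).map φ.mapPresheaf).hom →
      ∃ U : X.Opens, x ∈ U ∧ IsIso ((Scheme.Modules.restrictFunctor U.ι).map φ)) := by
  haveI := hF.1
  haveI := hG.1
  classical
  have hsq : ∀ (U : X.Opens) (y : U), Function.Injective (Groth.Agent.PullbackMod.stalkLin φ (U.ι y)) →
      Function.Injective (Groth.Agent.PullbackMod.stalkLin ((Scheme.Modules.restrictFunctor U.ι).map φ) y) := by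
    intro U y hy a b hab
    let eF := ((Scheme.Modules.restrictStalkNatIso U.ι y).app F).addCommGroupIsoToAddEquiv
    let eG := ((Scheme.Modules.restrictStalkNatIso U.ι y).app G).addCommGroupIsoToAddEquiv
    have hnat : ∀ z, eF (Groth.Agent.PullbackMod.stalkLin ((Scheme.Modules.restrictFunctor U.ι).map φ) y z) =
        Groth.Agent.PullbackMod.stalkLin φ (U.ι y) (eG z) := fun z =>
      ConcreteCategory.congr_hom ((Scheme.Modules.restrictStalkNatIso U.ι y).hom.naturality φ) z
    exact eG.injective (hy (by rw [← hnat, ← hnat, hab]))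
  have hsq' : ∀ (U : X.Opens) (y : U), Function.Surjective (Groth.Agent.PullbackMod.stalkLin φ (U.ι y)) →
      Function.Surjective (Groth.Agent.PullbackMod.stalkLin ((Scheme.Modules.restrictFunctor U.ι).map φ) y) := by
    intro U y hy z
    let eF := ((Scheme.Modules.restrictStalkNatIso U.ι y).app F).addCommGroupIsoToAddEquiv
    let eG := ((Scheme.Modules.restrictStalkNatIso U.ι y).app G).addCommGroupIsoToAddEquiv
    have hnat : ∀ z, eF (Groth.Agent.PullbackMod.stalkLin ((Scheme.Modules.restrictFunctor U.ι).map φ) y z) =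
        Groth.Agent.PullbackMod.stalkLin φ (U.ι y) (eG z) := fun z =>
      ConcreteCategory.congr_hom ((Scheme.Modules.restrictStalkNatIso U.ι y).hom.naturality φ) z
    obtain ⟨w, hw⟩ := hy (eF z)
    refine ⟨eG.symm w, eF.injective ?_⟩
    rw [hnat, eG.apply_symm_apply, hw]
  refine ⟨fun hsub => ?_, fun hinj => ?_, fun hbij => ?_⟩
  · let U : X.Opens := ⟨_, Groth.Agent.PullbackMod.isOpen_stalk_zero (𝟙 F) hF.2⟩
    refine ⟨U, show Groth.Agent.PullbackMod.stalkLin (𝟙 F) x = 0 from LinearMap.ext fun z => Subsingleton.elim _ _,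
      Groth.Agent.DCohLib.isZero_of_stalks fun y => ?_⟩
    have hy : Groth.Agent.PullbackMod.stalkLin (𝟙 F) (U.ι y) = 0 := y.2
    rw [Groth.Agent.PullbackMod.stalkLin_id] at hy
    haveI : Subsingleton (F.presheaf.stalk (U.ι y)) := ⟨fun a b => by
      have e : ∀ z : F.presheaf.stalk (U.ι y), z = 0 := fun z => LinearMap.congr_fun hy z
      rw [e a, e b]⟩
    exact @Equiv.subsingleton _ _ ((Scheme.Modules.restrictStalkNatIso U.ι y).app F).addCommGroupIsoToAddEquiv.toEquiv ‹_›
  · obtain ⟨W, hW, hxW, -⟩ := exists_isAffineOpen_mem_and_subset (U := (⊤ : X.Opens)) (x := x) trivial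
    haveI : IsNoetherianRing Γ(X, W) := IsLocallyNoetherian.component_noetherian ⟨W, hW⟩
    haveI := Groth.Agent.QCohLib.finite_sections_of_isCoh hG hW
    obtain ⟨gen, hgen⟩ := (IsNoetherian.noetherian (LinearMap.ker (Groth.Agent.FlatLocus.appL φ W)))
    have h0 := (Groth.Agent.PullbackMod.stalk_criteria φ hW x hxW).2.2.1 hinj
    choose! t ht htm using h0
    let f : Γ(X, W) := ∏ m ∈ gen, t m
    have hgk : ∀ m ∈ gen, Groth.Agent.FlatLocus.appL φ W m = 0 := fun m hm => by
      rw [← LinearMap.mem_ker, ← hgen]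
      exact Submodule.subset_span hm
    refine ⟨X.basicOpen f, (Groth.Agent.PullbackMod.primeCompl_primeIdealOf hW x hxW f).mp
      (prod_mem fun m hm => (Groth.Agent.PullbackMod.primeCompl_primeIdealOf hW x hxW _).mpr (ht m (hgk m hm))), ?_⟩
    refine (Groth.Agent.PullbackMod.mono_iff_stalk _).2 fun y => hsq _ y ?_
    refine (Groth.Agent.PullbackMod.stalk_criteria φ hW _ (X.basicOpen_le f y.2)).2.2.2 fun m hm => ⟨f, y.2, ?_⟩
    have hm' : m ∈ Submodule.span Γ(X, W) (gen : Set Γ(G, W)) := by
      rw [hgen]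
      exact hm
    clear hm
    induction hm' using Submodule.span_induction with
    | mem m hm =>
      show (∏ i ∈ gen, t i) • m = 0
      rw [← Finset.prod_erase_mul _ _ hm, mul_smul, htm m (hgk m hm), smul_zero]
    | zero => rw [smul_zero]
    | add a b _ _ ha hb => rw [smul_add, ha, hb, add_zero]
    | smul r a _ ha => rw [smul_comm, ha, smul_zero]
  · let U : X.Opens := ⟨_, Groth.Agent.PullbackMod.isOpen_stalk_bijective φ hG.2
      (Groth.Agent.QCohLib.isFP_of_isCoh F hF)⟩
    exact ⟨U, hbij, (Groth.Agent.PullbackMod.isIso_iff_stalk _).2 fun y => ⟨hsq U y (show Function.Bijective _ from y.2).1,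
      hsq' U y (show Function.Bijective _ from y.2).2⟩⟩


end Groth.Agent.S9525
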