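import Groth.Statements.S9526
import Groth.Agent.StalkHomLib.ThetaBij
import Groth.Agent.QCohLib.Coherent

set_option autoImplicit false
universe u
open Coherent

namespace Groth.Agent.S9526

open CategoryTheory CategoryTheory.Limits AlgebraicGeometry

open Groth.Agent.DCohLib Groth.Agent.StalkHomLib Groth.Agent.PullbackMod

open CategoryTheory CategoryTheory.Limits AlgebraicGeometry in
/-- Let X be a locally Noetherian scheme, F and G coherent O_X-modules, x ∈ X and ψ : G_x → F_x an
O_{X,x}-linear map. Then there are an open neighbourhood U of x and a morphism φ : G|_U → F|_U with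
φ_x = ψ (the stalk map of φ at x, composed with the canonical identifications of the stalks of G|_U
and F|_U at x with G_x and F_x, is ψ). -/
theorem result (X : Scheme.{u}) [IsLocallyNoetherian X]
    (F G : X.Modules) (hF : Coh.IsCoh F) (hG : Coh.IsCoh G) (x : X)
    (ψ : ↑(G.presheaf.stalk x) →ₗ[X.presheaf.stalk x] ↑(F.presheaf.stalk x)) :
    ∃ (U : X.Opens) (hx : x ∈ U)
      (φ : (Scheme.Modules.restrictFunctor U.ι).obj G ⟶ (Scheme.Modules.restrictFunctor U.ι).obj F),
      (Scheme.Modules.restrictStalkNatIso U.ι (⟨x, hx⟩ : U)).inv.app G ≫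
          (TopCat.Presheaf.stalkFunctor _ (⟨x, hx⟩ : U)).map φ.mapPresheaf ≫
            (Scheme.Modules.restrictStalkNatIso U.ι (⟨x, hx⟩ : U)).hom.app F =
        AddCommGrpCat.ofHom ψ.toAddMonoidHom := by
  obtain ⟨W, hW, hxW, -⟩ := exists_isAffineOpen_mem_and_subset (X := X) (x := x) (U := ⊤) trivial
  haveI := hG.1
  haveI : IsNoetherianRing Γ(X, W) := IsLocallyNoetherian.component_noetherian ⟨W, hW⟩
  haveI := QCohLib.finite_sections_of_isCoh hG hW
  haveI : Module.FinitePresentation Γ(X, W) Γ(G, W) := Module.finitePresentation_of_finite _ _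
  obtain ⟨f, hxf, l', hl', hgl⟩ := exists_lift F hW x hxW Γ(G, W)
    (ψ.toAddMonoidHom.comp (G.presheaf.germ W x hxW).hom)
    (fun a p => (congrArg ψ (germ_smul' G x hxW a p)).trans (ψ.map_smul _ _))
  have hV : IsAffineOpen (X.basicOpen f) := hW.basicOpen f
  have hle : X.basicOpen f ≤ W := X.basicOpen_le f
  letI : Algebra Γ(X, W) Γ(X, X.basicOpen f) := (X.presheaf.map (homOfLE hle).op).hom.toAlgebra
  haveI : IsLocalization.Away f Γ(X, X.basicOpen f) := hW.isLocalization_basicOpen f
  letI : Module Γ(X, W) Γ(F, X.basicOpen f) := Module.compHom _ (algebraMap Γ(X, W) Γ(X, X.basicOpen f))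
  haveI : IsScalarTower Γ(X, W) Γ(X, X.basicOpen f) Γ(F, X.basicOpen f) := IsScalarTower.of_algebraMap_smul fun _ _ => rfl
  letI : Module Γ(X, W) Γ(G, X.basicOpen f) := Module.compHom _ (algebraMap Γ(X, W) Γ(X, X.basicOpen f))
  haveI : IsScalarTower Γ(X, W) Γ(X, X.basicOpen f) Γ(G, X.basicOpen f) := IsScalarTower.of_algebraMap_smul fun _ _ => rfl
  let r : Γ(G, W) →ₗ[Γ(X, W)] Γ(G, X.basicOpen f) :=
    { toFun := G.presheaf.map (homOfLE hle).op
      map_add' := fun s t => map_add _ s t
      map_smul' := fun b s => G.val.map_smul (homOfLE hle).op b s }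
  have hunit : ∀ (M : X.Modules) [Module Γ(X, W) Γ(M, X.basicOpen f)],
      (∀ (a : Γ(X, W)) (v : Γ(M, X.basicOpen f)), a • v = algebraMap Γ(X, W) Γ(X, X.basicOpen f) a • v) →
      ∀ s : Submonoid.powers f, IsUnit (algebraMap Γ(X, W) (Module.End Γ(X, W) Γ(M, X.basicOpen f)) s) := by
    intro M _ hM s
    obtain ⟨u, hu⟩ := IsLocalization.map_units Γ(X, X.basicOpen f) s
    refine (Module.End.isUnit_iff _).2 ?_
    show Function.Bijective fun v : Γ(M, X.basicOpen f) => (s : Γ(X, W)) • v
    simp only [hM, ← hu]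
    exact MulAction.bijective u
  haveI : IsLocalizedModule (Submonoid.powers f) r := by
    have hl := QCohLib.locAt G hW
    refine IsLocalizedModule.Away.mk_of_addCommGroup
      (hunit G (fun _ _ => rfl) ⟨f, Submonoid.mem_powers f⟩) (fun t => ?_) (fun s hs => ?_)
    · obtain ⟨n, s, hs⟩ := hl.extend f t
      exact ⟨n, s, hs.symm⟩
    · obtain ⟨n, hn⟩ := hl.kill f s hs
      exact ⟨n, (QCohLib.sc_le_rfl (f ^ n) s).symm.trans hn⟩
  let L₀ : Γ(G, W) →ₗ[Γ(X, W)] Γ(F, X.basicOpen f) := { toFun := l', map_add' := map_add l', map_smul' := hl' }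
  let L := LinearMap.extendScalarsOfIsLocalization (Submonoid.powers f) Γ(X, X.basicOpen f)
    (IsLocalizedModule.lift (Submonoid.powers f) r L₀ (hunit F fun _ _ => rfl))
  obtain ⟨c, hc⟩ := exists_hom_of_sections G F hV L.toAddMonoidHom (fun a m => L.map_smul a m)
  refine ⟨X.basicOpen f, hxf, c, ?_⟩
  refine AddCommGrpCat.hom_ext (AddMonoidHom.ext fun (φ : G.presheaf.stalk x) => ?_)
  let x' : ↥(X.basicOpen f) := ⟨x, hxf⟩
  let eT := Scheme.Modules.restrictStalkNatIso (X.basicOpen f).ι x'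
  let C : G.presheaf.stalk x →+ F.presheaf.stalk x := (eT.inv.app G ≫
    (TopCat.Presheaf.stalkFunctor _ x').map c.mapPresheaf ≫ eT.hom.app F).hom
  show C φ = ψ φ
  have hC : ∀ m : Γ(G, W), C (G.presheaf.germ W x hxW m) = ψ (G.presheaf.germ W x hxW m) := fun m => by
    rw [← germ_res G hle x hxf m]
    refine (hc x' _).trans ?_
    refine (congrArg (F.presheaf.germ (X.basicOpen f) x hxf)
      (IsLocalizedModule.lift_apply (Submonoid.powers f) r L₀ (hunit F fun _ _ => rfl) m)).trans ?_
    rw [show L₀ m = l' m from rfl, hgl, germ_res]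
    rfl
  obtain ⟨u, m, hu, hum⟩ := exists_localGen G hW hxW φ
  apply hu.smul_left_cancel.1
  rw [← ψ.map_smul, hum, ← hC, ← hum]
  let eF : ((Scheme.Modules.restrictFunctor (X.basicOpen f).ι).obj F).presheaf.stalk x' ≃+ F.presheaf.stalk x :=
    (eT.app F).addCommGroupIsoToAddEquiv
  let eG : ((Scheme.Modules.restrictFunctor (X.basicOpen f).ι).obj G).presheaf.stalk x' ≃+ G.presheaf.stalk x :=
    (eT.app G).addCommGroupIsoToAddEquiv
  show u • eF (stalkLin c x' (eG.symm φ)) = eF (stalkLin c x' (eG.symm (u • φ)))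
  let σ : X.presheaf.stalk x ≃+* (X.basicOpen f).toScheme.presheaf.stalk x' := (asIso ((X.basicOpen f).ι.stalkMap x')).commRingCatIsoToRingEquiv
  have hsG : ∀ a z, eG (a • z) = σ.symm a • eG z := restrictStalk_smul (X.basicOpen f).ι G x'
  have hsF : ∀ a z, eF (a • z) = σ.symm a • eF z := restrictStalk_smul (X.basicOpen f).ι F x'
  have h1 : eG.symm (u • φ) = σ u • eG.symm φ := eG.injective (by
    rw [hsG, eG.apply_symm_apply, eG.apply_symm_apply, σ.symm_apply_apply])
  rw [h1, LinearMap.map_smul, hsF, σ.symm_apply_apply]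

end Groth.Agent.S9526
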