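import Groth.Statements.S9529
import Groth.Agent.HomDepthLib.Basic

set_option autoImplicit false
universe u
open CategoryTheory CategoryTheory.Limits AlgebraicGeometry
attribute [local instance] HasDerivedCategory.standard
open Coherent

namespace Groth.Agent.S9529

/-- Let X be a locally Noetherian scheme, F and G coherent O_X-modules and H = Hom_{O_X}(F, G). If G has
property (S_1), so has H; if G has property (S_2), so has H. Here a coherent module M has (S_k) when
depth M_x ≥ min(k, dim Supp M_x) for every x ∈ X, with M_x regarded as a module over O_{X,x} (the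
zero module has depth ∞ and support dimension −∞); the sheaf Hom is the right adjoint of F ⊗ − under
its existence binder. -/
theorem result (X : Scheme.{u}) [IsLocallyNoetherian X] (F G : X.Modules)
    (hF : Coh.IsCoh F) (hG : Coh.IsCoh G) [DCoh.HasSheafHom F] (k : ℕ) (hk : k = 1 ∨ k = 2)
    (hS : ∀ x : X, min (k : WithBot ℕ∞) (Module.supportDim (X.presheaf.stalk x) ↑(G.presheaf.stalk x)) ≤
      ((LocCoh.depth (X.presheaf.stalk x) ↑(G.presheaf.stalk x) : ℕ∞) : WithBot ℕ∞)) (x : X) :
    min (k : WithBot ℕ∞)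
        (Module.supportDim (X.presheaf.stalk x) ↑(((DCoh.sheafHom F).obj G).presheaf.stalk x)) ≤
      ((LocCoh.depth (X.presheaf.stalk x) ↑(((DCoh.sheafHom F).obj G).presheaf.stalk x) : ℕ∞) :
        WithBot ℕ∞) := by
  haveI := hF.1
  haveI := hG.1
  obtain ⟨e⟩ := Groth.Agent.HomDepthLib.nonempty_stalk_sheafHom F G hF x
  haveI := Groth.Agent.PullbackMod.finite_stalk_of_isFT (M := F) hF.2 x
  haveI := Groth.Agent.PullbackMod.finite_stalk_of_isFT (M := G) hG.2 x
  rw [Groth.Agent.CAlgBasics.depth_congr e, Module.supportDim_eq_of_equiv e]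
  have hle := Groth.Agent.HomDepthLib.supportDim_linearMap_le (R := X.presheaf.stalk x)
    ↑(F.presheaf.stalk x) ↑(G.presheaf.stalk x)
  have key := hS x
  have h1 : (1 : ℕ∞) ≤ LocCoh.depth (X.presheaf.stalk x) ↑(G.presheaf.stalk x) → (1 : ℕ∞) ≤ _ :=
    Groth.Agent.CAlgBasics.one_le_depth_linearMap (M := ↑(F.presheaf.stalk x))
  have h2 : (2 : ℕ∞) ≤ LocCoh.depth (X.presheaf.stalk x) ↑(G.presheaf.stalk x) → (2 : ℕ∞) ≤ _ :=
    Groth.Agent.CAlgBasics.two_le_depth_linearMap (M := ↑(F.presheaf.stalk x))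
  generalize LocCoh.depth (X.presheaf.stalk x) ↑(G.presheaf.stalk x) = e₀ at key h1 h2
  generalize LocCoh.depth (X.presheaf.stalk x)
    (↑(F.presheaf.stalk x) →ₗ[X.presheaf.stalk x] ↑(G.presheaf.stalk x)) = eH at h1 h2 ⊢
  generalize Module.supportDim (X.presheaf.stalk x) ↑(G.presheaf.stalk x) = d₀ at key hle
  generalize Module.supportDim (X.presheaf.stalk x)
    (↑(F.presheaf.stalk x) →ₗ[X.presheaf.stalk x] ↑(G.presheaf.stalk x)) = dH at hle ⊢
  rcases le_or_gt (k : ℕ∞) e₀ with hk' | hk'
  · refine (min_le_left _ _).trans ?_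
    rcases hk with rfl | rfl
    · exact WithBot.coe_le_coe.2 (h1 hk')
    · exact WithBot.coe_le_coe.2 (h2 hk')
  · have hd : d₀ ≤ (e₀ : WithBot ℕ∞) := by
      rcases le_total (k : WithBot ℕ∞) d₀ with h | h
      · rw [min_eq_left h] at key
        exact absurd (WithBot.coe_le_coe.1 key) (not_le.2 hk')
      · rwa [min_eq_right h] at key
    refine (min_le_right _ _).trans (hle.trans (hd.trans (WithBot.coe_le_coe.2 ?_)))
    lift e₀ to ℕ using hk'.ne_top with n
    have hn : n < k := by exact_mod_cast hk'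
    rcases hk with rfl | rfl <;> interval_cases n
    · simp
    · simp
    · exact h1 le_rfl

end Groth.Agent.S9529
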