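import Groth.Statements.S9531
import Groth.Agent.PuncSecLib.SectExt
-- import your own Groth.Agent.* helpers here

set_option autoImplicit false
set_option backward.isDefEq.respectTransparency.types false
universe u
open CategoryTheory CategoryTheory.Limits AlgebraicGeometry Opposite
open Algz

namespace Groth.Agent.S9531

/-- Let A be a Noetherian ring, I ⊆ 𝔞 ideals, U = Spec A ∖ V(𝔞), and take (F_n) in Coh(U, I O_U).
Suppose (F_n) extends canonically to Spec A; then (F_n) extends to Spec A: there is an object of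
Coh(Spec A, I O) whose restriction to U is isomorphic to (F_n). (Spec A is regarded over itself
through the identity.) -/
theorem result (A : Type u) [CommRing A] [IsNoetherianRing A] (I 𝔞 : Ideal A) (hI𝔞 : I ≤ 𝔞)
    (G : ℕᵒᵖ ⥤ (↑(LocCoh.puncturedOpen A 𝔞) : Scheme.{u}).Modules) (hG : Formal.IsCohFormal I G)
    (h : Algz.CanonicallyExtends A I (LocCoh.puncturedOpen A 𝔞) G) :
    @Algz.Extends A _ (Spec (CommRingCat.of A)) ⟨𝟙 (Spec (CommRingCat.of A))⟩ I (LocCoh.puncturedOpen A 𝔞) G := by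
  letI : (Spec (CommRingCat.of A)).Over (Spec (CommRingCat.of A)) := ⟨𝟙 _⟩
  obtain ⟨G', hG', hp⟩ := h
  haveI : IsNoetherianRing (CommRingCat.of A : Type u) := inferInstanceAs (IsNoetherianRing A)
  haveI : AlgebraicGeometry.IsNoetherian (Spec (CommRingCat.of A)) := inferInstance
  haveI : AlgebraicGeometry.IsNoetherian (↑(LocCoh.puncturedOpen A 𝔞) : Scheme.{u}) := by
    haveI : IsLocallyNoetherian (↑(LocCoh.puncturedOpen A 𝔞) : Scheme.{u}) :=
      isLocallyNoetherian_of_isOpenImmersion (LocCoh.puncturedOpen A 𝔞).ι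
    haveI : CompactSpace (↑(LocCoh.puncturedOpen A 𝔞) : Scheme.{u}) :=
      isCompact_iff_compactSpace.1 (TopologicalSpace.NoetherianSpace.isCompact _)
    exact {}
  haveI := fun n : ℕᵒᵖ => PuncSecLib.isIso_counit (LocCoh.puncturedOpen A 𝔞) (G.obj n) (hG.1 n.unop).1
  let c := Functor.whiskerLeft G (PuncSecLib.tRadj (LocCoh.puncturedOpen A 𝔞)).counit
  haveI : ∀ n, IsIso (c.app n) := fun n => inferInstanceAs (IsIso ((PuncSecLib.tRadj _).counit.app (G.obj n)))
  have hc : IsIso c := NatIso.isIso_of_isIso_app c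
  have hp' : Algz.IsProIsomorphic G (G' ⋙ Scheme.Modules.pullback (LocCoh.puncturedOpen A 𝔞).ι) :=
    PuncSecLib.isProIsomorphic_map (Scheme.Modules.restrictFunctor (LocCoh.puncturedOpen A 𝔞).ι)
      (@asIso _ _ _ _ c hc ≪≫ Functor.rightUnitor G)
      (Functor.isoWhiskerLeft G' (Scheme.Modules.restrictFunctorIsoPullback (LocCoh.puncturedOpen A 𝔞).ι)) hp
  obtain ⟨e⟩ := PuncSecLib.nonempty_iso_of_isProIsomorphic hG
    (FormalSys.isCohFormal_pullback (LocCoh.puncturedOpen A 𝔞).ι (Category.comp_id _) hG') hp'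
  exact ⟨G', hG', ⟨Functor.isoWhiskerLeft G'
    (Scheme.Modules.restrictFunctorIsoPullback (LocCoh.puncturedOpen A 𝔞).ι) ≪≫ e.symm⟩⟩

end Groth.Agent.S9531
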