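import Groth.Statements.S9538
import Groth.Agent.FormalPullLib.Pullback
import Groth.Agent.FormalEqLib.ChangeBase
import Groth.Agent.FlatStratLib.BC
import Groth.Agent.QCohLib.Push
import Groth.Agent.PuncSecLib.SectExt

set_option backward.isDefEq.respectTransparency false
set_option linter.style.haveILetI false
set_option maxHeartbeats 800000

set_option autoImplicit false
universe u
open CategoryTheory CategoryTheory.Limits AlgebraicGeometry Opposite Groth.Agent
open Algz

namespace Groth.Agent.S9538

open CategoryTheory CategoryTheory.Limits AlgebraicGeometry Opposite Groth.Agent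

/-- Systems of sections are systems of direct images. -/
noncomputable def sectIso (A : Type u) [CommRing A] (U : (Spec (CommRingCat.of A)).Opens) [QuasiCompact U.ι]
    (G : ℕᵒᵖ ⥤ (U : Scheme.{u}).Modules) (hG : ∀ n, Coh.IsQCoh (G.obj n)) :
    Algz.sectSys A U G ≅ G ⋙ Scheme.Modules.pushforward U.ι :=
  haveI : ∀ n, IsIso ((tilde.adjunction (R := CommRingCat.of A)).counit.app
      ((Scheme.Modules.pushforward U.ι).obj (G.obj n))) := fun n =>
    haveI := hG n
    haveI : Coh.IsQCoh ((Scheme.Modules.pushforward U.ι).obj (G.obj n)) := QCohLib.isQCoh_pushforward (M := G.obj n) U.ι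
    @Scheme.Modules.isIso_fromTildeΓ_of_isQuasicoherent (CommRingCat.of A) ((Scheme.Modules.pushforward U.ι).obj (G.obj n)) ‹_›
  NatIso.ofComponents (fun n => asIso ((tilde.adjunction (R := CommRingCat.of A)).counit.app
      ((Scheme.Modules.pushforward U.ι).obj (G.obj n))))
    (fun f => (tilde.adjunction (R := CommRingCat.of A)).counit.naturality
      ((Scheme.Modules.pushforward U.ι).map (G.map f)))

/-- Flat base change of direct images of systems. -/
noncomputable def bcIso {S S' : Scheme.{u}} (g : S' ⟶ S) [Flat g] (U : S.Opens) [QuasiCompact U.ι]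
    (G : ℕᵒᵖ ⥤ (U : Scheme.{u}).Modules) (hG : ∀ n, Coh.IsQCoh (G.obj n)) :
    (G ⋙ Scheme.Modules.pushforward U.ι) ⋙ Scheme.Modules.pullback g ≅
      (G ⋙ Scheme.Modules.pullback (morphismRestrict g U)) ⋙ Scheme.Modules.pushforward (g ⁻¹ᵁ U).ι :=
  haveI : ∀ n, IsIso (CohBC.bc0 U.ι g (g ⁻¹ᵁ U).ι (morphismRestrict g U) (isPullback_morphismRestrict g U).w (G.obj n)) :=
    fun n =>
    haveI := hG n
    FlatStrat.isIso_bc0_flat (isPullback_morphismRestrict g U) (G.obj n)
  NatIso.ofComponents (fun n => asIso (CohBC.bc0 U.ι g (g ⁻¹ᵁ U).ι (morphismRestrict g U)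
      (isPullback_morphismRestrict g U).w (G.obj n)))
    (fun f => FlatStrat.bc0_natural _ (G.map f))

/-- Let A be a Noetherian ring, I ⊆ 𝔞 ideals, U = Spec A ∖ V(𝔞), (F_n) an object of Coh(U, I O_U), A →
A' a flat ring map with f : Spec A' → Spec A, U' the inverse image of U, and (F'_n) the pullback of
(F_n) along the restriction of f over U. If (F_n) canonically extends to Spec A, then (F'_n)
canonically extends to Spec A' for the ideal I A'. (The second assertion, that the canonical
extension pulls back to the canonical extension, is not stated.) -/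
theorem result (A : Type u) [CommRing A] [IsNoetherianRing A] (I 𝔞 : Ideal A) (hI𝔞 : I ≤ 𝔞)
    (G : ℕᵒᵖ ⥤ (↑(LocCoh.puncturedOpen A 𝔞) : Scheme.{u}).Modules) (hG : Formal.IsCohFormal I G)
    (A' : Type u) [CommRing A'] [Algebra A A'] [Module.Flat A A']
    (h : Algz.CanonicallyExtends A I (LocCoh.puncturedOpen A 𝔞) G) :
    Algz.CanonicallyExtends A' (I.map (algebraMap A A')) (Spec.map (CommRingCat.ofHom (algebraMap A A')) ⁻¹ᵁ (LocCoh.puncturedOpen A 𝔞))
      (G ⋙ Scheme.Modules.pullback (morphismRestrict (Spec.map (CommRingCat.ofHom (algebraMap A A'))) (LocCoh.puncturedOpen A 𝔞))) := by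
  obtain ⟨G', hG', hpro⟩ := h
  let g := Spec.map (CommRingCat.ofHom (algebraMap A A'))
  haveI : Flat g := (Flat.SpecMap_iff).2 (RingHom.flat_algebraMap_iff.2 ‹_›)
  let U := LocCoh.puncturedOpen A 𝔞
  haveI : IsNoetherianRing (CommRingCat.of A : Type u) := inferInstanceAs (IsNoetherianRing A)
  haveI : QuasiCompact U.ι := inferInstance
  haveI : QuasiCompact (g ⁻¹ᵁ U).ι :=
    MorphismProperty.of_isPullback (P := @QuasiCompact) (isPullback_morphismRestrict g U) inferInstance
  have hq : ∀ n, Coh.IsQCoh (G.obj n) := fun n => (hG.1 n.unop).1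
  have hq' : ∀ n, Coh.IsQCoh ((G ⋙ Scheme.Modules.pullback (morphismRestrict g U)).obj n) := fun n =>
    haveI := hq n
    PullbackMod.isQCoh_pullback (morphismRestrict g U) (G.obj n)
  letI oA : (Spec (CommRingCat.of A)).Over (Spec (CommRingCat.of A)) := ⟨𝟙 (Spec (CommRingCat.of A))⟩
  letI oX : (Spec (CommRingCat.of A')).Over (Spec (CommRingCat.of A)) := ⟨g⟩
  letI oB : (Spec (CommRingCat.of A')).Over (Spec (CommRingCat.of A')) := ⟨𝟙 (Spec (CommRingCat.of A'))⟩
  refine ⟨G' ⋙ Scheme.Modules.pullback g, (FormalEqLib.isCohFormal_iff (algebraMap A A') (Category.id_comp _) I _).1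
    (FormalPullLib.isCohFormal_pullback g (Category.comp_id _) hG'), ?_⟩
  exact PuncSecLib.isProIsomorphic_map (Scheme.Modules.pullback g)
    (Functor.isoWhiskerRight (sectIso A U G hq) (Scheme.Modules.pullback g) ≪≫ bcIso g U G hq ≪≫
      (sectIso A' (g ⁻¹ᵁ U) (G ⋙ Scheme.Modules.pullback (morphismRestrict g U)) hq').symm)
    (Iso.refl _) hpro

end Groth.Agent.S9538
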