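import Groth.Statements.S9543
import Groth.Agent.S0801
import Groth.Agent.S0840
import Groth.Agent.PuncSecLib.Bridge
-- import your own Groth.Agent.* helpers here

set_option autoImplicit false
universe u
open CategoryTheory
open Formal2

namespace Groth.Agent.S9543

open AlgebraicGeometry Opposite in
/-- Let A be a Noetherian ring, f an element of an ideal 𝔞 with A complete for the f-adic topology, U =
Spec A ∖ V(𝔞), and assume that H^1_𝔞(A) and H^2_𝔞(A) are each annihilated by a power of f. Then the
completion functor for the ideal (f) is fully faithful on finite locally free O_U-modules. (The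
published statement writes the target category with an unnamed ideal I; the proof is for the ideal
(f), which is what is stated.) -/
theorem result (A : Type u) [CommRing A]
    [IsNoetherianRing A] (𝔞 : Ideal A) (f : A) (hf : f ∈ 𝔞) [IsAdicComplete (Ideal.span {f}) A]
    (h₁ : ∃ n : ℕ, ∀ x : LocCoh.H 𝔞 1 A, f ^ n • x = 0) (h₂ : ∃ n : ℕ, ∀ x : LocCoh.H 𝔞 2 A, f ^ n • x = 0) :
    ∀ (E E' : (↑(LocCoh.puncturedOpen A 𝔞) : Scheme.{u}).Modules), FlatMod.IsFinLocFree E → FlatMod.IsFinLocFree E' →
      ∀ ψ : Formal.completion (Ideal.span {f}) E ⟶ Formal.completion (Ideal.span {f}) E',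
        ∃! φ : E ⟶ E', ∀ n : ℕ, Formal.modPowπ (Ideal.span {f}) (n + 1) E ≫ ψ.app (op n) = φ ≫ Formal.modPowπ (Ideal.span {f}) (n + 1) E' := by
  haveI : IsNoetherianRing (CommRingCat.of A) := inferInstanceAs (IsNoetherianRing A)
  haveI : AlgebraicGeometry.IsNoetherian (Spec (CommRingCat.of A)) := inferInstance
  let U := LocCoh.puncturedOpen A 𝔞
  haveI hc : CompactSpace (U : Scheme.{u}) :=
    isCompact_iff_compactSpace.mp (TopologicalSpace.NoetherianSpace.isCompact (U : Set (Spec (CommRingCat.of A))))
  haveI : IsLocallyNoetherian (U : Scheme.{u}) := AlgebraicGeometry.isLocallyNoetherian_of_isOpenImmersion U.ι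
  haveI : AlgebraicGeometry.IsNoetherian (U : Scheme.{u}) := ⟨⟩
  haveI : (U : Scheme.{u}).IsQuasiAffine := Scheme.IsQuasiAffine.of_isImmersion U.ι
  have h := Groth.Agent.S0801.result A 𝔞 f hf A h₁ h₂
  have hO := (Groth.Agent.QAFormal.bijective_iff (Ideal.span {f}) (Coh.structureModule (U : Scheme.{u}))).2
    (Groth.Agent.PuncSecLib.secBij_of_formalCohBijective U (Ideal.span {f}) h)
  intro E E' hE hE' ψ
  exact Groth.Agent.S0840.result A (Ideal.span {f}) (U : Scheme.{u})
    (fun E'' h'' => Groth.Agent.QAFormal.bijective_toHHlim_of_quasiAffine (Ideal.span {f}) hO h'') E E' hE hE' ψ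

end Groth.Agent.S9543
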