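import Groth.Statements.S9544
import Groth.Agent.S0805
import Groth.Agent.S0326
import Groth.Agent.BootLib.CompletionLoc
import Groth.Agent.S0840
import Groth.Agent.PuncSecLib.Bridge
import Groth.Agent.Depth.FlatLocal

set_option autoImplicit false
set_option linter.style.haveILetI false
set_option backward.isDefEq.respectTransparency false
universe u
open CategoryTheory
attribute [local instance] HasDerivedCategory.standard
open Formal2

namespace Groth.Agent.S9544

/-- A prime cut out by one more element is one step away. -/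
theorem dimBetween_eq_one {A : Type u} [CommRing A] [IsNoetherianRing A] {ω : Dual.D A}
    (hω : Dual.IsDualizing A ω) {f : A} {p q : PrimeSpectrum A} (hf : f ∉ p.asIdeal)
    (hq : q.asIdeal ∈ (p.asIdeal ⊔ Ideal.span {f}).minimalPrimes) :
    Formal2.dimBetween A p.asIdeal q.asIdeal = ((1 : ℕ) : WithBot ℕ∞) := by
  have hpq : p.asIdeal ≤ q.asIdeal := le_sup_left.trans hq.1.2
  have hfq : f ∈ q.asIdeal := hq.1.2 (Ideal.mem_sup_right (Ideal.mem_span_singleton_self f))
  have hlt : p < q := lt_of_le_of_ne hpq fun e => hf (e ▸ hfq)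
  have hcov : p ⋖ q := ⟨hlt, fun r hpr hrq => by
    let π := Ideal.Quotient.mk p.asIdeal
    haveI hqP : (q.asIdeal.map π).IsPrime :=
      Ideal.map_isPrime_of_surjective Ideal.Quotient.mk_surjective (by rw [Ideal.mk_ker]; exact hpq)
    haveI hrP : (r.asIdeal.map π).IsPrime :=
      Ideal.map_isPrime_of_surjective Ideal.Quotient.mk_surjective (by rw [Ideal.mk_ker]; exact hpr.le)
    have hmin : q.asIdeal.map π ∈ (Ideal.span {π f}).minimalPrimes := by
      refine ⟨⟨hqP, by rw [Ideal.span_le, Set.singleton_subset_iff]; exact Ideal.mem_map_of_mem π hfq⟩,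
        fun Q ⟨hQ, hQf⟩ hle => ?_⟩
      haveI := hQ
      have h1 : q.asIdeal ≤ Q.comap π := hq.2 ⟨inferInstance, sup_le (fun a ha => by
        show π a ∈ Q
        rw [Ideal.Quotient.eq_zero_iff_mem.2 ha]
        exact zero_mem _) (by
        rw [Ideal.span_le, Set.singleton_subset_iff]
        exact hQf (Ideal.mem_span_singleton_self _))⟩ (fun a ha => by
          obtain ⟨b, hb, hab⟩ := (Ideal.mem_map_iff_of_surjective π Ideal.Quotient.mk_surjective).1 (hle ha)
          have := hpq (Ideal.Quotient.eq.1 hab.symm)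
          simpa using q.asIdeal.add_mem this hb)
      exact Ideal.map_le_iff_le_comap.2 h1
    have hinj : ∀ {r s : PrimeSpectrum A}, p.asIdeal ≤ s.asIdeal → r.asIdeal.map π ≤ s.asIdeal.map π →
        r.asIdeal ≤ s.asIdeal := fun {r s} hps hle a ha => by
      obtain ⟨b, hb, hab⟩ := (Ideal.mem_map_iff_of_surjective π Ideal.Quotient.mk_surjective).1
        (hle (Ideal.mem_map_of_mem π ha))
      have := hps (Ideal.Quotient.eq.1 hab.symm)
      simpa using s.asIdeal.add_mem this hb
    have h2 : r.asIdeal.map π < q.asIdeal.map π :=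
      lt_of_le_of_ne (Ideal.map_mono hrq.le) fun e => hrq.not_ge (hinj hpr.le e.ge)
    have h3 : (⊥ : Ideal (A ⧸ p.asIdeal)) < r.asIdeal.map π := by
      refine lt_of_le_of_ne bot_le fun e => hpr.not_ge (hinj (le_refl _) ?_)
      rw [← e]
      exact bot_le
    have e1 := Ideal.height_le_one_of_isPrincipal_of_mem_minimalPrimes _ _ hmin
    have e2 := Ideal.height_strict_mono_of_isPrime_of_isPrime h2
    have e3 := Ideal.height_strict_mono_of_isPrime_of_isPrime h3
    exact absurd ((Order.add_one_le_of_lt e3).trans_lt e2) (not_lt.2 (e1.trans le_add_self))⟩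
  rw [Groth.Agent.BootLib.dimBetween_eq hω hpq, Groth.Agent.DualCxLib.dfn_covBy hω hcov]
  norm_num

open AlgebraicGeometry Opposite in
/-- Let A be a Noetherian ring with a dualizing complex, f an element of an ideal 𝔞 with A complete for
the f-adic topology, U = Spec A ∖ V(𝔞), and assume depth A_𝔭 + dim (A/𝔭)_𝔮 > 2 for every prime 𝔭 not
containing f and every prime 𝔮 ⊇ 𝔭 + 𝔞. Then the completion functor for the ideal (f) is fully
faithful on finite locally free O_U-modules. -/
theorem result (A : Type u) [CommRing A]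
    [IsNoetherianRing A] (𝔞 : Ideal A) (f : A) (hf : f ∈ 𝔞) [IsAdicComplete (Ideal.span {f}) A]
    (hω : ∃ ω : Dual.D A, Dual.IsDualizing A ω)
    (h₂ : ∀ (p : Ideal A) [p.IsPrime], f ∉ p → ∀ (q : Ideal A) [q.IsPrime], p ≤ q → 𝔞 ≤ q →
      ((2 : ℕ) : WithBot ℕ∞) < ((LocCoh.depth (Localization.AtPrime p) (Localization.AtPrime p) : ℕ∞) : WithBot ℕ∞) +
        Formal2.dimBetween A p q) :
    ∀ (E E' : (↑(LocCoh.puncturedOpen A 𝔞) : Scheme.{u}).Modules), FlatMod.IsFinLocFree E → FlatMod.IsFinLocFree E' →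
      ∀ ψ : Formal.completion (Ideal.span {f}) E ⟶ Formal.completion (Ideal.span {f}) E',
        ∃! φ : E ⟶ E', ∀ n : ℕ, Formal.modPowπ (Ideal.span {f}) (n + 1) E ≫ ψ.app (op n) = φ ≫ Formal.modPowπ (Ideal.span {f}) (n + 1) E' := by
  obtain ⟨ω, hω'⟩ := hω
  have hcd : LocCoh.CdLE A (Ideal.span {f}) 1 := by
    classical
    have h := Groth.Agent.S0326.result A ({f} : Finset A)
    rwa [Finset.coe_singleton, Finset.card_singleton] at h
  have hass : ∀ p ∈ associatedPrimes A A, ∀ [p.IsPrime],
      LocCoh.depth (Localization.AtPrime p) (Localization.AtPrime p) = 0 := fun p hp _ => by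
    rw [← Groth.Agent.Depth.depth_localizedSelf]
    exact Groth.Agent.FaltingsAnnLib.depthAt_eq_zero_of_ass (p := ⟨p, inferInstance⟩) hp
  have h := Groth.Agent.S0805.result A (Ideal.span {f}) 𝔞 ((Ideal.span_singleton_le_iff_mem _).2 hf) ⟨ω, hω'⟩ 1 hcd A
    (fun p hp _ hpI _ q _ hpq hq => by
      haveI : p.IsPrime := hp.1
      have h := h₂ p (fun h => hpI ((Ideal.span_singleton_le_iff_mem _).2 h)) q hpq hq
      rwa [hass p hp, WithBot.coe_zero, zero_add] at h)
    fun p _ hpa hr => by
      rw [Groth.Agent.Depth.depth_localizedSelf]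
      have hfp : f ∉ p := fun h => hpa (hr p inferInstance le_rfl ((Ideal.span_singleton_le_iff_mem _).2 h))
      obtain ⟨m, hm, hpm⟩ := Ideal.exists_le_maximal p Ideal.IsPrime.ne_top'
      have hfm : f ∈ m := by
        have h1 := IsAdicComplete.le_jacobson_bot (Ideal.span {f}) (Ideal.mem_span_singleton_self f)
        exact Ideal.mem_sInf.1 h1 ⟨bot_le, hm⟩
      obtain ⟨q, hq, -⟩ := Ideal.exists_minimalPrimes_le (sup_le hpm ((Ideal.span_singleton_le_iff_mem _).2 hfm))
      haveI := hq.1.1
      have h := h₂ p hfp q (le_sup_left.trans hq.1.2) (hr q hq.1.1 (le_sup_left.trans hq.1.2) (le_sup_right.trans hq.1.2))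
      rw [show Formal2.dimBetween A p q = ((1 : ℕ) : WithBot ℕ∞) from
        dimBetween_eq_one hω' (p := ⟨p, inferInstance⟩) (q := ⟨q, inferInstance⟩) hfp hq] at h
      generalize LocCoh.depth (Localization.AtPrime p) (Localization.AtPrime p) = D at h ⊢
      induction D using ENat.recTopCoe with
      | top => exact le_top
      | coe n =>
        have h1 : ((2 : ℕ) : WithBot ℕ∞) < ((n : ℕ) : WithBot ℕ∞) + ((1 : ℕ) : WithBot ℕ∞) := h
        rw [← Nat.cast_add] at h1
        have h' : 2 < n + 1 := Nat.cast_lt.1 h1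
        exact_mod_cast (by omega : 2 ≤ n)
  haveI : IsNoetherianRing (CommRingCat.of A) := inferInstanceAs (IsNoetherianRing A)
  haveI : AlgebraicGeometry.IsNoetherian (Spec (CommRingCat.of A)) := inferInstance
  let U := LocCoh.puncturedOpen A 𝔞
  haveI hc : CompactSpace (U : Scheme.{u}) :=
    isCompact_iff_compactSpace.mp (TopologicalSpace.NoetherianSpace.isCompact (U : Set (Spec (CommRingCat.of A))))
  haveI : IsLocallyNoetherian (U : Scheme.{u}) := AlgebraicGeometry.isLocallyNoetherian_of_isOpenImmersion U.ι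
  haveI : AlgebraicGeometry.IsNoetherian (U : Scheme.{u}) := ⟨⟩
  haveI : (U : Scheme.{u}).IsQuasiAffine := Scheme.IsQuasiAffine.of_isImmersion U.ι
  have hO := (Groth.Agent.QAFormal.bijective_iff (Ideal.span {f}) (Coh.structureModule (U : Scheme.{u}))).2
    (Groth.Agent.PuncSecLib.secBij_of_formalCohBijective U (Ideal.span {f}) h)
  intro E E' hE hE' ψ
  exact Groth.Agent.S0840.result A (Ideal.span {f}) (U : Scheme.{u})
    (fun E'' h'' => Groth.Agent.QAFormal.bijective_toHHlim_of_quasiAffine (Ideal.span {f}) hO h'') E E' hE hE' ψ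

end Groth.Agent.S9544
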