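import Groth.Statements.S9553
import Groth.Agent.PuncSecLib.TildeSys
-- import your own Groth.Agent.* helpers here

set_option autoImplicit false
set_option backward.isDefEq.respectTransparency.types false
universe u
open CategoryTheory CategoryTheory.Limits AlgebraicGeometry Opposite
open Algz

namespace Groth.Agent.S9553

open Groth.Agent.PuncSecLib in
theorem exists_finite_sub {A : Type u} [CommRing A] [IsNoetherianRing A] {I 𝔞 : Ideal A}
    {G : ℕᵒᵖ ⥤ (LocCoh.puncturedOpen A 𝔞 : Scheme.{u}).Modules} (hG : Formal.IsCohFormal I G)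
    {M : Type u} [AddCommGroup M] [Module A M] (c : ℕ) (p : M →ₗ[A] Γp 𝔞 (G.obj (op c)))
    (P : Submodule A M) (hP : LinearMap.ker p ≤ P) :
    ∃ S : Submodule A (M ⧸ P), S.FG ∧ CokTors 𝔞 S.subtype := by
  obtain ⟨Q, hQ, hQt⟩ := exists_model hG c
  haveI : IsNoetherian A Q := isNoetherian_of_fg_of_noetherian _ hQ
  let q : LinearMap.range p →ₗ[A] M ⧸ P :=
    ((LinearMap.ker p).mapQ P LinearMap.id hP).comp p.quotKerEquivRange.symm.toLinearMap
  have hq : ∀ (x : M) (hx : p x ∈ LinearMap.range p), q ⟨p x, hx⟩ = Submodule.Quotient.mk x :=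
    fun x hx => congrArg ((LinearMap.ker p).mapQ P LinearMap.id hP) (LinearMap.quotKerEquivRange_symm_apply_image _ x hx)
  refine ⟨(Submodule.comap (LinearMap.range p).subtype Q).map q, ?_, fun y => ?_⟩
  · refine Submodule.FG.map q (Submodule.fg_of_fg_map_injective (LinearMap.range p).subtype Subtype.val_injective ?_)
    exact Submodule.FG.of_le hQ (Submodule.map_comap_le _ _)
  · obtain ⟨x, rfl⟩ := Submodule.Quotient.mk_surjective _ y
    refine (hQt (p x)).imp fun k hk b hb => ?_
    obtain ⟨z, hz⟩ := hk b hb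
    refine ⟨⟨Submodule.Quotient.mk (b • x),
      ⟨p (b • x), LinearMap.mem_range_self _ _⟩, ?_, hq _ _⟩, rfl⟩
    show p (b • x) ∈ Q
    rw [map_smul, ← hz]
    exact z.2

open Groth.Agent.PuncSecLib in
theorem isCoh_tR_of_finite_sub {A : Type u} [CommRing A] [IsNoetherianRing A] {𝔞 : Ideal A}
    {N : Type u} [AddCommGroup N] [Module A N] {S : Submodule A N} (hS : S.FG) (ht : CokTors 𝔞 S.subtype) :
    Coh.IsCoh ((tR (LocCoh.puncturedOpen A 𝔞)).obj (ModuleCat.of A N)) := by
  haveI : Module.Finite A S := Module.Finite.iff_fg.2 hS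
  haveI : IsNoetherianRing (CommRingCat.of A : Type u) := inferInstanceAs (IsNoetherianRing A)
  haveI : Module.Finite (CommRingCat.of A : Type u) (ModuleCat.of A S) := inferInstanceAs (Module.Finite A S)
  haveI := isIso_tR (φ := S.subtype) Subtype.val_injective ht
  exact TildeOpenLib.isCoh_of_iso' (asIso ((tR (LocCoh.puncturedOpen A 𝔞)).map (ModuleCat.ofHom S.subtype)))
    (TildeOpenLib.isCoh_restrict_tilde (R := CommRingCat.of A) (V := LocCoh.puncturedOpen A 𝔞) (ModuleCat.of A S))

/-- Sections of the tilde over a basic open. -/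
noncomputable abbrev secD {A : Type u} [CommRing A] (M : ModuleCat.{u} A) (f : A) : ModuleCat.{u} A :=
  (modulesSpecToSheaf.obj (tilde (R := CommRingCat.of A) M)).presheaf.obj
    (op (PrimeSpectrum.basicOpen f : (Spec (CommRingCat.of A)).Opens))

theorem secΨ_comp {A : Type u} [CommRing A] {M N P : ModuleCat.{u} A} (g : M ⟶ N) (h : N ⟶ P) (f : A) (x : secD M f) :
    ((modulesSpecToSheaf.map (tilde.map (R := CommRingCat.of A) (g ≫ h))).1.app
      (op (PrimeSpectrum.basicOpen f : (Spec (CommRingCat.of A)).Opens))).hom x =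
    ((modulesSpecToSheaf.map (tilde.map (R := CommRingCat.of A) h)).1.app
      (op (PrimeSpectrum.basicOpen f : (Spec (CommRingCat.of A)).Opens))).hom
    (((modulesSpecToSheaf.map (tilde.map (R := CommRingCat.of A) g)).1.app
      (op (PrimeSpectrum.basicOpen f : (Spec (CommRingCat.of A)).Opens))).hom x) := by
  rw [tilde.map_comp, CategoryTheory.Functor.map_comp]
  rfl

theorem secΨ_id {A : Type u} [CommRing A] {M : ModuleCat.{u} A} (f : A) (g : M ⟶ M) (hg : g = 𝟙 M) (x : secD M f) :
    ((modulesSpecToSheaf.map (tilde.map (R := CommRingCat.of A) g)).1.app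
      (op (PrimeSpectrum.basicOpen f : (Spec (CommRingCat.of A)).Opens))).hom x = x := by
  subst hg
  rw [tilde.map_id, CategoryTheory.Functor.map_id]
  rfl

theorem secΨ_app {A : Type u} [CommRing A] {M N : Type u} [AddCommGroup M] [Module A M] [AddCommGroup N] [Module A N]
    (g : M →ₗ[A] N) (f : A) (x : secD (ModuleCat.of A M) f) :
    Scheme.Modules.Hom.app (Formal2.tmodMap A g) (PrimeSpectrum.basicOpen f : (Spec (CommRingCat.of A)).Opens) x =
    ((modulesSpecToSheaf.map (tilde.map (R := CommRingCat.of A) (ModuleCat.ofHom g))).1.app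
      (op (PrimeSpectrum.basicOpen f : (Spec (CommRingCat.of A)).Opens))).hom x := rfl

/-- The transition maps of the quotients. -/
noncomputable def qmap {A : Type u} [CommRing A] (I : Ideal A) (M : Type u) [AddCommGroup M] [Module A M] {n d : ℕ} (hd : n ≤ d) :
    ModuleCat.of A (Formal2.quotPow A I M d) ⟶ ModuleCat.of A (Formal2.quotPow A I M n) :=
  ModuleCat.ofHom (Submodule.mapQ (I ^ (d + 1) • (⊤ : Submodule A M)) (I ^ (n + 1) • ⊤) LinearMap.id
    (Submodule.smul_mono_left (Ideal.pow_le_pow_right (Nat.succ_le_succ hd))))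

theorem qmap_self {A : Type u} [CommRing A] (I : Ideal A) (M : Type u) [AddCommGroup M] [Module A M] {n : ℕ} (hd : n ≤ n) :
    qmap I M hd = 𝟙 _ := by
  refine ModuleCat.hom_ext (LinearMap.ext fun y => ?_)
  obtain ⟨m, rfl⟩ := Submodule.Quotient.mk_surjective _ y
  rfl

theorem qmap_succ {A : Type u} [CommRing A] (I : Ideal A) (M : Type u) [AddCommGroup M] [Module A M] {n d : ℕ} (hd : n ≤ d)
    (hd' : n ≤ d + 1) :
    qmap I M (d := d + 1) hd' = ModuleCat.ofHom (Formal2.quotPowTrans A I M d) ≫ qmap I M hd := by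
  refine ModuleCat.hom_ext (Submodule.linearMap_qext _ (LinearMap.ext fun m => ?_))
  simp only [qmap, Formal2.quotPowTrans, ModuleCat.hom_comp, ModuleCat.hom_ofHom, LinearMap.comp_apply,
    Submodule.mkQ_apply, Submodule.mapQ_apply, LinearMap.id_apply]

theorem qmap_hom {A : Type u} [CommRing A] (I : Ideal A) (M : Type u) [AddCommGroup M] [Module A M] {n d : ℕ} (hd : n ≤ d) (y) :
    (qmap I M hd).hom y = Submodule.mapQ (I ^ (d + 1) • (⊤ : Submodule A M)) (I ^ (n + 1) • ⊤) LinearMap.id
      (Submodule.smul_mono_left (Ideal.pow_le_pow_right (Nat.succ_le_succ hd))) y := rfl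

theorem isLocalized_toOpen {A : Type u} [CommRing A] (P : ModuleCat.{u} A) (f : A) :
    IsLocalizedModule (Submonoid.powers f)
      (tilde.toOpen (R := CommRingCat.of A) P (PrimeSpectrum.basicOpen f : (Spec (CommRingCat.of A)).Opens)).hom :=
  IsLocalizedModule.of_linearEquiv (R := (CommRingCat.of A : Type u)) (.powers f)
    (StructureSheaf.toOpenₗ (CommRingCat.of A) P (PrimeSpectrum.basicOpen f))
    ((tilde.modulesSpecToSheafIso (R := CommRingCat.of A) P).app _).toLinearEquiv.symm

theorem eq_zero_of_sections {A : Type u} [CommRing A] {M N Γ : ModuleCat.{u} A} (f : A) (t : M ⟶ N) (l : M ⟶ Γ)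
    (hle : ∀ y, l.hom y = 0 → t.hom y = 0) (x : secD M f)
    (hx : ((modulesSpecToSheaf.map (tilde.map (R := CommRingCat.of A) l)).1.app
      (op (PrimeSpectrum.basicOpen f : (Spec (CommRingCat.of A)).Opens))).hom x = 0) :
    ((modulesSpecToSheaf.map (tilde.map (R := CommRingCat.of A) t)).1.app
      (op (PrimeSpectrum.basicOpen f : (Spec (CommRingCat.of A)).Opens))).hom x = 0 := by
  let D : (Spec (CommRingCat.of A)).Opens := PrimeSpectrum.basicOpen f
  let L : ∀ P : ModuleCat.{u} A, P ⟶ secD P f := fun P => tilde.toOpen (R := CommRingCat.of A) P D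
  haveI : ∀ P, IsLocalizedModule (Submonoid.powers f) (L P).hom := fun P => isLocalized_toOpen P f
  let φ : ∀ {P Q : ModuleCat.{u} A}, (P ⟶ Q) → (secD P f →ₗ[A] secD Q f) := fun {P Q} g =>
    ((modulesSpecToSheaf.map (tilde.map (R := CommRingCat.of A) g)).1.app (op D)).hom
  have hn : ∀ {P Q : ModuleCat.{u} A} (g : P ⟶ Q) (y : P), φ g ((L P).hom y) = (L Q).hom (g.hom y) :=
    fun {P Q} g y => congr(($(tilde.toOpen_map_app (R := CommRingCat.of A) g D)).hom y)
  obtain ⟨⟨m, s⟩, hm⟩ := IsLocalizedModule.surj (Submonoid.powers f) (L M).hom x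
  have h1 : (L Γ).hom (l.hom m) = 0 := by
    rw [← hn, ← show s • x = (L M).hom m from hm, Submonoid.smul_def, map_smul]
    exact (congrArg ((s : A) • ·) hx).trans (smul_zero _)
  obtain ⟨s', hs'⟩ := (IsLocalizedModule.eq_zero_iff (Submonoid.powers f) (L Γ).hom).1 h1
  have h2 : t.hom ((s' : A) • m) = 0 := hle _ (by rw [map_smul]; exact hs')
  have h3 : (s' * s) • φ t x = 0 := by
    rw [mul_smul, Submonoid.smul_def s, ← map_smul, show (s : A) • x = (L M).hom m from hm, Submonoid.smul_def,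
      ← map_smul, ← map_smul, hn, h2, map_zero]
  have hu := (Module.End.isUnit_iff _).1 (IsLocalizedModule.map_units (L N).hom (s' * s))
  exact hu.1 (h3.trans (map_zero _).symm)

theorem eq_zero_of_compatible {A : Type u} [CommRing A] (I : Ideal A) (M : Type u) [AddCommGroup M] [Module A M] (f : A)
    (x : ∀ n, secD (ModuleCat.of A (Formal2.quotPow A I M n)) f)
    (hx : ∀ n, Scheme.Modules.Hom.app (Formal2.tmodMap A (Formal2.quotPowTrans A I M n))
      (PrimeSpectrum.basicOpen f : (Spec (CommRingCat.of A)).Opens) (x (n + 1)) = x n)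
    (n k : ℕ) (hnk : n ≤ k) {Γ : ModuleCat.{u} A} (l : ModuleCat.of A (Formal2.quotPow A I M k) ⟶ Γ)
    (hle : ∀ y, l.hom y = 0 → Submodule.mapQ (I ^ (k + 1) • (⊤ : Submodule A M)) (I ^ (n + 1) • ⊤) LinearMap.id
        (Submodule.smul_mono_left (Ideal.pow_le_pow_right (Nat.succ_le_succ hnk))) y = 0)
    (hl : ((modulesSpecToSheaf.map (tilde.map (R := CommRingCat.of A) l)).1.app
      (op (PrimeSpectrum.basicOpen f : (Spec (CommRingCat.of A)).Opens))).hom (x k) = 0) : x n = 0 := by
  have hcomp : ∀ d (hd : n ≤ d), ((modulesSpecToSheaf.map (tilde.map (R := CommRingCat.of A) (qmap I M hd))).1.app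
      (op (PrimeSpectrum.basicOpen f : (Spec (CommRingCat.of A)).Opens))).hom (x d) = x n := by
    intro d hd
    induction d, hd using Nat.le_induction with
    | base => exact secΨ_id f _ (qmap_self I M _) _
    | succ d hd ih =>
      rw [qmap_succ I M hd, secΨ_comp]
      refine (congrArg _ ?_).trans ih
      exact (secΨ_app _ f (x (d + 1))).symm.trans (hx d)
  exact (hcomp k hnk).symm.trans
    (eq_zero_of_sections f (qmap I M hnk) l (fun y hy => (qmap_hom I M hnk y).trans (hle y hy)) (x k) hl)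

/-- Let A be a Noetherian ring, I ⊆ 𝔞 ideals, U = Spec A ∖ V(𝔞) with inclusion j, (F_n) an object of
Coh(U, I O_U), M = lim_n H^0(U, F_n) and G_n = (M/I^(n+1)M)~ (positions shifted by one). Assume the
limit topology of M agrees with the I-adic one: for every k some kernel of M → H^0(U, F_n) lies in
I^k M. Let ℓ_n : M/I^(n+1)M → H^0(U, F_n) = Γ(Spec A, j_*F_n) be the factorisations of the
projections (they exist since F_n is killed by I^(n+1); they are pinned here by that property) and
G_n → j_*F_n the adjoint maps. Then (i) each G_n|_U is coherent, and (ii) the resulting morphism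
(G_n|_U) → (F_n) of inverse systems is a monomorphism in Coh(U, I O_U) (an abelian category), in the
form the printed proof establishes: for every f ∈ 𝔞, a family of sections of the G_n over D(f),
compatible under the transition maps, whose images in the Γ(D(f), j_*F_n) = Γ(D(f) ∩ U, F_n) all
vanish, is zero. -/
theorem result (A : Type u) [CommRing A] [IsNoetherianRing A] (I 𝔞 : Ideal A) (hI𝔞 : I ≤ 𝔞)
    (G : ℕᵒᵖ ⥤ (↑(LocCoh.puncturedOpen A 𝔞) : Scheme.{u}).Modules) (hG : Formal.IsCohFormal I G)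
    (hb : ∀ k : ℕ, ∃ n : ℕ, LinearMap.ker (limit.π (Algz.sectMod A (LocCoh.puncturedOpen A 𝔞) G) (op n)).hom ≤
      I ^ k • (⊤ : Submodule A ↑(limit (Algz.sectMod A (LocCoh.puncturedOpen A 𝔞) G))))
    (ℓ : ∀ n : ℕ, ModuleCat.of A (Formal2.quotPow A I ↑(limit (Algz.sectMod A (LocCoh.puncturedOpen A 𝔞) G)) n) ⟶ (Algz.sectMod A (LocCoh.puncturedOpen A 𝔞) G).obj (op n))
    (hℓ : ∀ n : ℕ, ModuleCat.ofHom (Formal2.quotPowπ A I ↑(limit (Algz.sectMod A (LocCoh.puncturedOpen A 𝔞) G)) n) ≫ ℓ n = limit.π (Algz.sectMod A (LocCoh.puncturedOpen A 𝔞) G) (op n)) :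
    (∀ n : ℕ, Coh.IsCoh ((Scheme.Modules.restrictFunctor (LocCoh.puncturedOpen A 𝔞).ι).obj (Formal2.tmod A (Formal2.quotPow A I ↑(limit (Algz.sectMod A (LocCoh.puncturedOpen A 𝔞) G)) n)))) ∧
    ∀ (f : A), f ∈ 𝔞 →
      ∀ x : (∀ n : ℕ, (Scheme.Modules.presheaf (Formal2.tmod A (Formal2.quotPow A I ↑(limit (Algz.sectMod A (LocCoh.puncturedOpen A 𝔞) G)) n))).obj (op (PrimeSpectrum.basicOpen f : (Spec (CommRingCat.of A)).Opens))),
        (∀ n : ℕ, Scheme.Modules.Hom.app (Formal2.tmodMap A (Formal2.quotPowTrans A I ↑(limit (Algz.sectMod A (LocCoh.puncturedOpen A 𝔞) G)) n)) (PrimeSpectrum.basicOpen f : (Spec (CommRingCat.of A)).Opens) (x (n + 1)) = x n) →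
        (∀ n : ℕ, Scheme.Modules.Hom.app
            (((tilde.adjunction (R := CommRingCat.of A)).homEquiv (ModuleCat.of A (Formal2.quotPow A I ↑(limit (Algz.sectMod A (LocCoh.puncturedOpen A 𝔞) G)) n))
              ((Scheme.Modules.pushforward (LocCoh.puncturedOpen A 𝔞).ι).obj (G.obj (op n)))).symm (ℓ n))
            (PrimeSpectrum.basicOpen f : (Spec (CommRingCat.of A)).Opens) (x n) = 0) →
        ∀ n : ℕ, x n = 0 := by
  choose c hc using fun n => hb (n + 1)
  refine ⟨fun n => ?_, fun f hf x hx hx0 n => ?_⟩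
  · obtain ⟨S, hS, hSt⟩ := exists_finite_sub hG (c n) (limit.π (Algz.sectMod A (LocCoh.puncturedOpen A 𝔞) G) (op (c n))).hom
      (I ^ (n + 1) • ⊤) (hc n)
    exact isCoh_tR_of_finite_sub hS hSt
  · let M : ModuleCat.{u} A := limit (Algz.sectMod A (LocCoh.puncturedOpen A 𝔞) G)
    let k := c n + n
    have hk : ∀ y, (ℓ k).hom y = 0 → Submodule.mapQ (I ^ (k + 1) • (⊤ : Submodule A M)) (I ^ (n + 1) • ⊤) LinearMap.id
        (Submodule.smul_mono_left (Ideal.pow_le_pow_right (by omega))) y = 0 := fun y hy => by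
      obtain ⟨m, rfl⟩ := Submodule.Quotient.mk_surjective _ y
      refine (Submodule.Quotient.mk_eq_zero _).2 (hc n ?_)
      have e : (limit.π (Algz.sectMod A (LocCoh.puncturedOpen A 𝔞) G) (op k)).hom m = 0 :=
        (congr(($(hℓ k)).hom m)).symm.trans hy
      exact (PuncSecLib.limit_elt_tr m (Nat.le_add_right (c n) n)).symm.trans
        ((congrArg _ e).trans (map_zero _))
    refine eq_zero_of_compatible I M f x hx n k (Nat.le_add_left n (c n)) (ℓ k) hk ?_
    haveI : IsNoetherianRing (CommRingCat.of A : Type u) := inferInstanceAs (IsNoetherianRing A)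
    haveI : AlgebraicGeometry.IsLocallyNoetherian (Spec (CommRingCat.of A)) := inferInstance
    haveI : QuasiCompact (LocCoh.puncturedOpen A 𝔞).ι := inferInstance
    haveI := (hG.1 k).1
    haveI : Coh.IsQCoh ((Scheme.Modules.pushforward (LocCoh.puncturedOpen A 𝔞).ι).obj (G.obj (op k))) :=
      QCohLib.isQCoh_pushforward (M := G.obj (op k)) (LocCoh.puncturedOpen A 𝔞).ι
    haveI : IsIso ((tilde.adjunction (R := CommRingCat.of A)).counit.app
        ((Scheme.Modules.pushforward (LocCoh.puncturedOpen A 𝔞).ι).obj (G.obj (op k)))) :=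
      @Scheme.Modules.isIso_fromTildeΓ_of_isQuasicoherent (CommRingCat.of A) _ ‹_›
    have h0 := hx0 k
    rw [Adjunction.homEquiv_counit] at h0
    refine (ConcreteCategory.bijective_of_isIso (Scheme.Modules.Hom.app ((tilde.adjunction (R := CommRingCat.of A)).counit.app
        ((Scheme.Modules.pushforward (LocCoh.puncturedOpen A 𝔞).ι).obj (G.obj (op k))))
        (PrimeSpectrum.basicOpen f : (Spec (CommRingCat.of A)).Opens))).1 ?_
    exact h0.trans (map_zero _).symm

end Groth.Agent.S9553
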