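import Groth.Statements.S9554
import Groth.Agent.ProZeroLib.Completion
import Groth.Agent.CurveLib.MaxSections
import Groth.Agent.S6039
-- import your own Groth.Agent.* helpers here

set_option autoImplicit false
set_option backward.isDefEq.respectTransparency false
set_option linter.style.haveILetI false
universe u
open CategoryTheory CategoryTheory.Limits AlgebraicGeometry
open Lef

namespace Groth.Agent.S9554

theorem bijective_res_of_eq {Y : Scheme.{u}} (M : Y.Modules) {W W' : Y.Opens} (h : W' ≤ W) (e : W' = W) :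
    Function.Bijective (M.presheaf.map (homOfLE h).op) := by
  subst e
  rw [show (homOfLE h).op = 𝟙 _ from rfl, CategoryTheory.Functor.map_id]
  exact Function.bijective_id

theorem bijective_res_quotObj {X : Scheme.{u}} (K : X.IdealSheafData) (F : X.Modules) (V : X.Opens)
    (hK : (K.support : Set X) ⊆ (V : Set X)) :
    Function.Bijective ((ProZeroLib.quotObj K F).presheaf.map (homOfLE (le_top : V ≤ ⊤)).op) :=
  bijective_res_of_eq ((Scheme.Modules.pullback K.subschemeι).obj F)
    (W := K.subschemeι ⁻¹ᵁ ⊤) (W' := K.subschemeι ⁻¹ᵁ V) le_top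
    (top_le_iff.1 fun z _ => hK (by rw [← Scheme.IdealSheafData.range_subschemeι]; exact ⟨z, rfl⟩))

theorem app_res {X : Scheme.{u}} {M N : X.Modules} (φ : M ⟶ N) (V : X.Opens) (t : Γ(M, ⊤)) :
    φ.app V (M.presheaf.map (homOfLE (le_top : V ≤ ⊤)).op t) =
      N.presheaf.map (homOfLE (le_top : V ≤ ⊤)).op (φ.app ⊤ t) :=
  (ConcreteCategory.congr_hom (φ.mapPresheaf.naturality (homOfLE (le_top : V ≤ ⊤)).op) t)

set_option maxHeartbeats 3200000 in
theorem sections_limit (k : Type u) [Field k] {X : Scheme.{u}} [X.Over (Spec (CommRingCat.of k))]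
    [IsProper (X ↘ Spec (CommRingCat.of k))] [IsLocallyNoetherian X] {A : X.Modules} (a : A ⟶ Coh.structureModule X)
    {L : X.Modules} (hLA : ProZeroLib.AmplePair L A) (I : X.IdealSheafData)
    (hI : ∀ (x : X) (e : A.presheaf.stalk x), (∀ z, ∃ r : X.presheaf.stalk x, r • e = z) →
      IntMult.stalkIdeal I x = Ideal.span {ProZeroLib.aev a x e})
    (F : X.Modules) (hF : Coh.IsCoh F)
    (hdep : ∀ x : X, IsClosed ({x} : Set X) → ProZeroLib.Good a x →
      ((1 : ℕ) : ℕ∞) < LocCoh.depth (X.presheaf.stalk x) (F.presheaf.stalk x))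
    (V : X.Opens) (hV : (I.support : Set X) ⊆ (V : Set X))
    (hF2 : Function.Bijective (F.presheaf.map (homOfLE (le_top : V ≤ ⊤)).op)) :
    (∀ σ : (Scheme.Modules.presheaf F).obj (Opposite.op V),
      (∀ n : ℕ, Scheme.Modules.Hom.app ((Scheme.Modules.pullbackPushforwardAdjunction (FSch.completionToX X I n)).unit.app F) V σ = 0) → σ = 0) ∧
    (∀ y : (∀ n : ℕ, (Scheme.Modules.presheaf ((Scheme.Modules.pushforward (FSch.completionToX X I n)).obj ((FSch.completionMod I F).F n))).obj (Opposite.op V)),
      (∀ n : ℕ, Scheme.Modules.Hom.app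
          ((Scheme.Modules.pushforward (FSch.completionToX X I (n + 1))).map
            ((Scheme.Modules.pullbackPushforwardAdjunction ((FSch.completionAlong X I).ι n)).unit.app ((FSch.completionMod I F).F (n + 1))) ≫
          (Scheme.Modules.pushforwardComp ((FSch.completionAlong X I).ι n) (FSch.completionToX X I (n + 1))).hom.app _ ≫
          (Scheme.Modules.pushforwardCongr (Scheme.IdealSheafData.inclusion_subschemeι (FSch.pow_succ_le X I n))).hom.app _ ≫
          (Scheme.Modules.pushforward (FSch.completionToX X I n)).map ((FSch.completionMod I F).e n).hom) V (y (n + 1)) = y n) →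
        ∃ σ : (Scheme.Modules.presheaf F).obj (Opposite.op V),
          ∀ n : ℕ, Scheme.Modules.Hom.app ((Scheme.Modules.pullbackPushforwardAdjunction (FSch.completionToX X I n)).unit.app F) V σ = y n) := by
  let S := ProZeroLib.completionSystem a I hI F hF
  have hres : ∀ m : ℕ, Function.Bijective ((S.Q m).presheaf.map (homOfLE (le_top : V ≤ ⊤)).op) := fun m =>
    bijective_res_quotObj (I ^ (m + 1)) F V (by rw [Scheme.IdealSheafData.support_pow_succ]; exact hV)
  refine ⟨fun σ hσ => ?_, fun y hy => ?_⟩
  · obtain ⟨t, rfl⟩ := hF2.2 σ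
    have h0 := S.injective_limit k hLA hF hdep (i := 0) (Nat.zero_le _)
      ((CurveLib.secOf F).symm t) fun m => (CurveLib.secOf (S.Q m)).injective ?_
    · rw [(CurveLib.secOf F).symm.map_eq_zero_iff.1 h0, map_zero]
    · rw [CurveLib.secOf_hMap, AddEquiv.apply_symm_apply, map_zero]
      refine (hres m).1 ?_
      rw [map_zero, ← app_res (S.p m) V t]
      exact hσ m
  · choose t ht using fun m => (hres m).2 (y m)
    have hcomp : ∀ m, CurveLib.hMap (k := k) (S.q m) 0 ((CurveLib.secOf (S.Q (m + 1))).symm (t (m + 1))) =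
        (CurveLib.secOf (S.Q m)).symm (t m) := fun m => by
      apply (CurveLib.secOf (S.Q m)).injective
      rw [CurveLib.secOf_hMap, AddEquiv.apply_symm_apply, AddEquiv.apply_symm_apply]
      refine (hres m).1 ?_
      rw [← app_res (S.q m) V, ht, ht]
      exact ProZeroLib.quotTrans_app I F m V (y (m + 1)) (y m) (hy m)
    obtain ⟨c, hc⟩ := S.surjective_limit k hLA hF hdep (i := 0) Nat.one_pos
      (fun m => (CurveLib.secOf (S.Q m)).symm (t m)) hcomp
    refine ⟨F.presheaf.map (homOfLE (le_top : V ≤ ⊤)).op (CurveLib.secOf F c), fun m => ?_⟩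
    refine (app_res (S.p m) V _).trans ?_
    rw [← CurveLib.secOf_hMap (k := k), hc m, AddEquiv.apply_symm_apply]
    exact ht m

set_option maxHeartbeats 3200000 in
/-- Let k be a field, X a proper k-scheme, L an ample invertible O_X-module, s a global section of L
(not necessarily regular) with zero scheme Y and ideal 𝓘, Y_n the closed subscheme defined by
𝓘^(n+1) with closed immersion ι_n, and F a coherent O_X-module with depth(F_x) + dim cl(x) > 1 at
every point x of X outside Y. Then for every open V ⊆ X containing Y the canonical map Γ(V, F) →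
lim_n Γ(Y_n, F|_{Y_n}) is bijective. Here Γ(Y_n, F|_{Y_n}) is written as the sections over V of
ι_n,* ι_n^* F (all of its sections, as Y_n ⊆ V), the map from Γ(V, F) is induced by the unit F →
ι_n,* ι_n^* F, and the transition maps come from the units of the inclusions Y_n → Y_(n+1) together
with the identifications of the formal-completion system. -/
theorem result (k : Type u) [Field k] (X : Scheme.{u})
    (f : X ⟶ Spec (CommRingCat.of k)) [IsProper f] (L : X.Modules) (hL : CohB1.IsAmple L)
    (s : Coh.structureModule X ⟶ L) (F : X.Modules) (hF : Coh.IsCoh F)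
    (hd : ∀ x : X, x ∉ ((PicF2.zeroScheme L s).support : Set X) →
      (1 : WithBot ℕ∞) < (LocCoh.depth (X.presheaf.stalk x) (F.presheaf.stalk x) : WithBot ℕ∞) +
        topologicalKrullDim ↥(closure ({x} : Set X)))
    (V : X.Opens) (hV : ((PicF2.zeroScheme L s).support : Set X) ⊆ (V : Set X)) :
    (∀ σ : (Scheme.Modules.presheaf F).obj (Opposite.op V),
      (∀ n : ℕ, Scheme.Modules.Hom.app ((Scheme.Modules.pullbackPushforwardAdjunction (FSch.completionToX X (PicF2.zeroScheme L s) n)).unit.app F) V σ = 0) → σ = 0) ∧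
    (∀ y : (∀ n : ℕ, (Scheme.Modules.presheaf ((Scheme.Modules.pushforward (FSch.completionToX X (PicF2.zeroScheme L s) n)).obj ((FSch.completionMod (PicF2.zeroScheme L s) F).F n))).obj (Opposite.op V)),
      (∀ n : ℕ, Scheme.Modules.Hom.app
          ((Scheme.Modules.pushforward (FSch.completionToX X (PicF2.zeroScheme L s) (n + 1))).map
            ((Scheme.Modules.pullbackPushforwardAdjunction ((FSch.completionAlong X (PicF2.zeroScheme L s)).ι n)).unit.app ((FSch.completionMod (PicF2.zeroScheme L s) F).F (n + 1))) ≫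
          (Scheme.Modules.pushforwardComp ((FSch.completionAlong X (PicF2.zeroScheme L s)).ι n) (FSch.completionToX X (PicF2.zeroScheme L s) (n + 1))).hom.app _ ≫
          (Scheme.Modules.pushforwardCongr (Scheme.IdealSheafData.inclusion_subschemeι (FSch.pow_succ_le X (PicF2.zeroScheme L s) n))).hom.app _ ≫
          (Scheme.Modules.pushforward (FSch.completionToX X (PicF2.zeroScheme L s) n)).map ((FSch.completionMod (PicF2.zeroScheme L s) F).e n).hom) V (y (n + 1)) = y n) →
        ∃ σ : (Scheme.Modules.presheaf F).obj (Opposite.op V),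
          ∀ n : ℕ, Scheme.Modules.Hom.app ((Scheme.Modules.pullbackPushforwardAdjunction (FSch.completionToX X (PicF2.zeroScheme L s) n)).unit.app F) V σ = y n) := by
  letI : X.Over (Spec (CommRingCat.of k)) := ⟨f⟩
  haveI : IsProper (X ↘ Spec (CommRingCat.of k)) := ‹IsProper f›
  haveI := EulerIneqLib.isNoetherian_proper (X := X) k
  obtain ⟨A, a, hLA, hI⟩ := ProZeroLib.exists_dual hL s
  let I := PicF2.zeroScheme L s
  have h2 : ∀ x : X, IsClosed ({x} : Set X) → x ∉ (I.support : Set X) →
      (1 : ℕ∞) < LocCoh.depth (X.presheaf.stalk x) (F.presheaf.stalk x) := fun x hx hg => by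
    have h := hd x hg
    rw [hx.closure_eq] at h
    replace h := lt_of_lt_of_le h
      (add_le_add (le_refl _) (topologicalKrullDim_zero_of_discreteTopology ↥({x} : Set X)))
    rw [add_zero] at h
    exact WithBot.coe_lt_coe.1 h
  have hdep : ∀ x : X, IsClosed ({x} : Set X) → ProZeroLib.Good a x →
      ((1 : ℕ) : ℕ∞) < LocCoh.depth (X.presheaf.stalk x) (F.presheaf.stalk x) := fun x hx hg => by
    rw [Nat.cast_one]
    exact h2 x hx ((ProZeroLib.good_iff_notMem_support hLA.invertible a _ hI x).1 hg)
  have hF2 : Function.Bijective (F.presheaf.map (homOfLE (le_top : V ≤ ⊤)).op) := by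
    have h : Function.Bijective (F.presheaf.map (homOfLE (inf_le_left : ⊤ ⊓ V ≤ ⊤)).op) :=
      (S6039.result X V F hF).1 (fun x hx =>
        Order.add_one_le_of_lt (h2 x (ProZeroLib.isClosed_singleton_of_notMem f hL s V hV hx)
          fun h => hx (hV h))) ⊤
    have key : ∀ (W : X.Opens) (hW : W ≤ ⊤), W = V →
        Function.Bijective (F.presheaf.map (homOfLE hW).op) →
        Function.Bijective (F.presheaf.map (homOfLE (le_top : V ≤ ⊤)).op) := by
      rintro W hW rfl h'
      exact h'
    exact key _ _ (top_inf_eq V) h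
  exact sections_limit k a hLA I hI F hF hdep V hV hF2

end Groth.Agent.S9554
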