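import Mathlib
import Groth.Agent.EtLocalLib.Completion
import Groth.Statements.S9562

set_option autoImplicit false
universe u
open EtLocal

namespace Groth.Agent.S9562

/-- Let A → B be a local homomorphism of Noetherian local rings with B essentially of finite type over
A, and let ψ be the induced map between the completions of A and B at their maximal ideals (a ring
map of the completions whose composite with A → A^ is A → B → B^; such a map is unique). Then A → B
is an étale homomorphism of local rings, i.e. B is flat over A, m_A B = m_B and the residue field of
B is a finite separable extension of that of A, if and only if ψ is an étale ring map; moreover in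
that case the completion of B is, through ψ, a free module of finite positive rank over the
completion of A. (The published statement lists a third equivalent condition, that ψ is itself an
étale homomorphism of local rings; this row keeps the two outer ones.) -/
theorem result (A B : Type u) [CommRing A] [CommRing B]
    [IsLocalRing A] [IsLocalRing B] [IsNoetherianRing A] [IsNoetherianRing B] [Algebra A B]
    [IsLocalHom (algebraMap A B)] [Algebra.EssFiniteType A B]
    (ψ : AdicCompletion (IsLocalRing.maximalIdeal A) A →+* AdicCompletion (IsLocalRing.maximalIdeal B) B)
    (hψ : ψ.comp (algebraMap A (AdicCompletion (IsLocalRing.maximalIdeal A) A)) =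
      (algebraMap B (AdicCompletion (IsLocalRing.maximalIdeal B) B)).comp (algebraMap A B)) :
    ((Module.Flat A B ∧ (IsLocalRing.maximalIdeal A).map (algebraMap A B) = IsLocalRing.maximalIdeal B ∧
        Module.Finite (IsLocalRing.ResidueField A) (IsLocalRing.ResidueField B) ∧
        Algebra.IsSeparable (IsLocalRing.ResidueField A) (IsLocalRing.ResidueField B)) ↔ ψ.Etale) ∧
      (ψ.Etale →
        letI := ψ.toAlgebra
        ∃ n : ℕ, 0 < n ∧
          Nonempty ((Fin n → AdicCompletion (IsLocalRing.maximalIdeal A) A) ≃ₗ[AdicCompletion (IsLocalRing.maximalIdeal A) A]
            AdicCompletion (IsLocalRing.maximalIdeal B) B)) := by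
  let := ψ.toAlgebra
  have : IsScalarTower A (AdicCompletion (IsLocalRing.maximalIdeal A) A)
      (AdicCompletion (IsLocalRing.maximalIdeal B) B) := IsScalarTower.of_algebraMap_eq' (by
    rw [RingHom.algebraMap_toAlgebra, hψ, ← IsScalarTower.algebraMap_eq])
  let C := AdicCompletion (IsLocalRing.maximalIdeal A) A
  let D := AdicCompletion (IsLocalRing.maximalIdeal B) B
  have key : ψ.Etale → Module.Flat A B ∧ Algebra.FormallyUnramified A B := by
    intro h
    have h' : Algebra.Etale C D := h
    have hfu := Groth.Agent.EtLocalLib.formallyUnramified_of_completion (A := A) (B := B)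
    refine ⟨?_, hfu⟩
    have : Module.FaithfullyFlat A C := Groth.Agent.EtLocalLib.faithfullyFlat_completion_self
    have : Module.FaithfullyFlat B D := Groth.Agent.EtLocalLib.faithfullyFlat_completion_self
    have : Module.Flat C D := inferInstance
    have : Module.Flat A D := Module.Flat.trans A C D
    exact Groth.Agent.EtLocalLib.flat_of_flat_of_faithfullyFlat A B D
  refine ⟨⟨?_, fun h => ?_⟩, fun h => ?_⟩
  · rintro ⟨hflat, h1, h2, h3⟩
    have := Algebra.FormallyUnramified.of_map_maximalIdeal (R := A) (S := B) h1
    obtain ⟨h4, h5⟩ := Groth.Agent.EtLocalLib.formallyUnramified_completion (A := A) (B := B)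
    obtain ⟨n, -, ⟨e⟩⟩ := Groth.Agent.EtLocalLib.exists_equiv_completion (A := A) (B := B)
    have : IsNoetherianRing C := Groth.Agent.RegLocal.isNoetherianRing_completion A _
    have : Module.Flat C D := Module.Flat.of_linearEquiv e.symm
    have : Algebra.FinitePresentation C D :=
      Algebra.FinitePresentation.of_finiteType.mp inferInstance
    exact (Algebra.Etale.of_formallyUnramified_of_flat : Algebra.Etale C D)
  · obtain ⟨h1, h2⟩ := key h
    exact ⟨h1, Algebra.FormallyUnramified.map_maximalIdeal, inferInstance, inferInstance⟩
  · obtain ⟨h1, h2⟩ := key h
    exact Groth.Agent.EtLocalLib.exists_equiv_completion (A := A) (B := B)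

end Groth.Agent.S9562
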