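import Mathlib
import Mathlib
import Groth.Statements.S9567

set_option autoImplicit false
universe u
open EtLocal

namespace Groth.Agent.S9567

set_option backward.defeqAttrib.useBackward true in
set_option backward.isDefEq.respectTransparency false in
open AlgebraicGeometry CategoryTheory in
/-- Let φ : X ⟶ Y be any morphism of schemes, x a point of X and V an affine open neighbourhood of φ(x),
with ring R = Γ(Y, V). If φ is étale on some open neighbourhood of x, then there are an affine open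
neighbourhood U of x with φ(U) ⊆ V, a monic polynomial p over R and an open immersion j of U into
Spec of (R[t]/(p))[1/p′] (the localization of R[t]/(p) away from the image of the derivative of p)
such that j followed by the projection to Spec R is the morphism U → Spec R induced by φ. -/
theorem result {X Y : Scheme.{u}} (φ : X ⟶ Y) (x : X)
    (V : Y.Opens) (hV : IsAffineOpen V) (hxV : φ.base x ∈ V)
    (hφ : ∃ W : X.Opens, x ∈ W ∧ Etale (W.ι ≫ φ)) :
    ∃ (U : X.Opens) (hU : IsAffineOpen U) (_ : x ∈ U) (e : U ≤ φ ⁻¹ᵁ V)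
      (p : Polynomial Γ(Y, V)) (_ : p.Monic)
      (j : U.toScheme ⟶ Spec (CommRingCat.of (Localization.Away (AdjoinRoot.mk p (Polynomial.derivative p))))),
      IsOpenImmersion j ∧
        j ≫ Spec.map (CommRingCat.ofHom
            (algebraMap Γ(Y, V) (Localization.Away (AdjoinRoot.mk p (Polynomial.derivative p))))) =
          hU.isoSpec.hom ≫ Spec.map (φ.appLE V U e) := by
  obtain ⟨W, hxW, hW⟩ := hφ
  obtain ⟨_, ⟨U₀, hU₀, rfl⟩, hxU₀, hle⟩ :=
    X.isBasis_affineOpens.exists_subset_of_mem_open (a := x) (u := ↑(W ⊓ φ ⁻¹ᵁ V)) ⟨hxW, hxV⟩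
      (W ⊓ φ ⁻¹ᵁ V).isOpen
  have hleV : U₀ ≤ φ ⁻¹ᵁ V := fun y hy => (hle hy).2
  have hleW : U₀ ≤ W := fun y hy => (hle hy).1
  have : Etale (φ.resLE V U₀ hleV) := by
    have : Etale (φ.resLE V U₀ hleV ≫ V.ι) := by
      rw [Scheme.Hom.resLE_comp_ι, ← Scheme.homOfLE_ι X hleW, Category.assoc]
      exact MorphismProperty.comp_mem _ _ _ inferInstance hW
    exact Etale.of_comp _ V.ι
  have : IsAffine V := hV
  have : IsAffine U₀ := hU₀
  have hEt : (φ.appLE V U₀ hleV).hom.Etale :=
    (RingHom.Etale.respectsIso.arrow_mk_iso_iff (arrowResLEAppIso φ V U₀ hleV)).mp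
      (HasRingHomProperty.appTop (P := @Etale) (φ.resLE V U₀ hleV) inferInstance)
  algebraize [(φ.appLE V U₀ hleV).hom]
  obtain ⟨r, hrx, hr⟩ := Algebra.IsEtaleAt.exists_isStandardEtale (R := Γ(Y, V))
    (hU₀.primeIdealOf ⟨x, hxU₀⟩).asIdeal
  have hx' : x ∈ X.basicOpen r := by
    rwa [← PrimeSpectrum.mem_basicOpen, IsAffineOpen.primeIdealOf,
      ← hU₀.fromSpec_preimage_basicOpen, Scheme.Hom.mem_preimage, ← Scheme.Hom.comp_apply,
      IsAffineOpen.isoSpec_hom, IsAffineOpen.toSpecΓ_fromSpec] at hrx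
  have hU : IsAffineOpen (X.basicOpen r) := hU₀.basicOpen r
  have e : X.basicOpen r ≤ φ ⁻¹ᵁ V := (X.basicOpen_le r).trans hleV
  have := hU₀.isLocalization_basicOpen r
  let := (φ.appLE V (X.basicOpen r) e).hom.toAlgebra
  have : IsScalarTower Γ(Y, V) Γ(X, U₀) Γ(X, X.basicOpen r) := by
    apply IsScalarTower.of_algebraMap_eq'
    simp only [RingHom.algebraMap_toAlgebra]
    rw [← CommRingCat.hom_comp, Scheme.Hom.appLE_map]
  have := Algebra.IsStandardEtale.of_equiv
    ((IsLocalization.algEquiv (.powers r) (Localization.Away r)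
      Γ(X, X.basicOpen r)).restrictScalars Γ(Y, V))
  obtain ⟨⟨Q⟩⟩ := this
  let T := Localization.Away (AdjoinRoot.mk Q.P.f (Polynomial.derivative Q.P.f))
  let C := Localization.Away (AdjoinRoot.mk Q.P.f Q.P.g)
  let ε : C ≃ₐ[Γ(Y, V)] Γ(X, X.basicOpen r) :=
    Q.P.equivAwayAdjoinRoot.symm.trans Q.equivRing.symm
  have hunit : IsUnit (algebraMap (AdjoinRoot Q.P.f) C
      (AdjoinRoot.mk Q.P.f (Polynomial.derivative Q.P.f))) := by
    have h : Q.P.HasMap (algebraMap (AdjoinRoot Q.P.f) C (.root Q.P.f)) := ⟨by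
      rw [Polynomial.aeval_algebraMap_apply, AdjoinRoot.aeval_eq, AdjoinRoot.mk_self, map_zero],
      by
      rw [Polynomial.aeval_algebraMap_apply, AdjoinRoot.aeval_eq]
      exact IsLocalization.Away.algebraMap_isUnit ..⟩
    have h2 := h.isUnit_derivative_f
    rwa [Polynomial.aeval_algebraMap_apply, AdjoinRoot.aeval_eq] at h2
  let ρ : T →+* Γ(X, X.basicOpen r) :=
    ε.toRingHom.comp (IsLocalization.Away.lift _ hunit)
  have hρ : ρ.comp (algebraMap (AdjoinRoot Q.P.f) T) =
      ε.toRingHom.comp (algebraMap (AdjoinRoot Q.P.f) C) := by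
    rw [RingHom.comp_assoc, IsLocalization.Away.lift_comp]
  have : IsOpenImmersion (Spec.map (CommRingCat.ofHom ρ)) := by
    have h : IsOpenImmersion (Spec.map (CommRingCat.ofHom ρ) ≫
        Spec.map (CommRingCat.ofHom (algebraMap (AdjoinRoot Q.P.f) T))) := by
      rw [← Spec.map_comp, ← CommRingCat.ofHom_comp, hρ, CommRingCat.ofHom_comp, Spec.map_comp]
      have : IsIso (Spec.map (CommRingCat.ofHom ε.toRingHom)) := by
        have : IsIso (CommRingCat.ofHom ε.toRingHom) :=
          ε.toRingEquiv.toCommRingCatIso.isIso_hom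
        infer_instance
      infer_instance
    exact IsOpenImmersion.of_comp _ (Spec.map (CommRingCat.ofHom (algebraMap (AdjoinRoot Q.P.f) T)))
  refine ⟨X.basicOpen r, hU, hx', e, Q.P.f, Q.P.monic_f,
    hU.isoSpec.hom ≫ Spec.map (CommRingCat.ofHom ρ), inferInstance, ?_⟩
  rw [Category.assoc, ← Spec.map_comp, ← CommRingCat.ofHom_comp]
  congr 2
  ext a
  change ε (IsLocalization.Away.lift _ hunit (algebraMap Γ(Y, V) T a)) =
    algebraMap Γ(Y, V) Γ(X, X.basicOpen r) a
  rw [IsScalarTower.algebraMap_apply Γ(Y, V) (AdjoinRoot Q.P.f) T, IsLocalization.Away.lift_eq,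
    ← IsScalarTower.algebraMap_apply, AlgEquiv.commutes]

end Groth.Agent.S9567
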