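import Mathlib
import Mathlib
import Groth.Statements.S9568

set_option autoImplicit false
universe u
open EtLocal

namespace Groth.Agent.S9568

open KaehlerDifferential in
/-- The kernel of `Ω[P⁄A] → Ω[B⁄A]` for a surjection `P → B` is spanned by differentials of the
kernel. -/
theorem ker_map_eq (A P B : Type u) [CommRing A] [CommRing P] [CommRing B] [Algebra A P]
    [Algebra A B] [Algebra P B] [IsScalarTower A P B]
    (h : Function.Surjective (algebraMap P B)) :
    LinearMap.ker (map A A P B) =
      Submodule.span P ((D A P) '' (RingHom.ker (algebraMap P B) : Set P)) := by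
  classical
  set K := Submodule.span P ((D A P) '' (RingHom.ker (algebraMap P B) : Set P)) with hK
  have hD : ∀ g ∈ RingHom.ker (algebraMap P B), D A P g ∈ K := fun g hg =>
    Submodule.subset_span ⟨g, hg, rfl⟩
  refine le_antisymm ?_ ?_
  · rw [ker_map_of_surjective A P B h]
    rintro _ ⟨z, hz, rfl⟩
    have hz' : ∀ b, (algebraMap P B) (z.mapDomain (algebraMap P B) b) = 0 := fun b =>
      DFunLike.congr_fun (LinearMap.mem_ker.mp hz) b
    let σ := Function.surjInv h
    have hσ : ∀ b, algebraMap P B (σ b) = b := Function.surjInv_eq h
    have h1 : ∀ (a x : P), a ∈ RingHom.ker (algebraMap P B) → a • D A P x ∈ K := by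
      intro a x ha
      have h2 : a • D A P x = D A P (a * x) - x • D A P a := by
        rw [Derivation.leibniz, add_sub_cancel_right]
      rw [h2]
      exact K.sub_mem (hD _ (Ideal.mul_mem_right _ _ ha)) (K.smul_mem _ (hD _ ha))
    rw [← (Submodule.Quotient.mk_eq_zero K), Finsupp.linearCombination_apply,
      ← Submodule.mkQ_apply, map_finsuppSum]
    have h3 : (z.sum fun x a => K.mkQ (a • D A P x)) =
        (z.mapDomain (algebraMap P B)).sum fun b a => K.mkQ (a • D A P (σ b)) := by
      rw [Finsupp.sum_mapDomain_index (by simp) (by simp [add_smul])]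
      refine Finset.sum_congr rfl fun x _ => ?_
      refine (Submodule.Quotient.eq K).mpr ?_
      rw [← smul_sub, ← map_sub]
      exact K.smul_mem _ (hD _ (by rw [RingHom.mem_ker, map_sub, hσ, sub_self]))
    rw [h3]
    refine Finset.sum_eq_zero fun b _ => ?_
    exact (Submodule.Quotient.mk_eq_zero K).mpr (h1 _ _ (hz' b))
  · rw [hK, Submodule.span_le]
    rintro _ ⟨g, hg, rfl⟩
    simp [LinearMap.mem_ker, RingHom.mem_ker.mp hg]


/-- Let A be a ring, φ a surjection from the polynomial ring P = A[x_1, …, x_n] onto an A-algebra B with
kernel I, q a prime of B and 𝔮 its preimage in P. Then the localization at q of the module of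
differentials Ω_{B/A} vanishes if and only if the images of the differentials dg, g ∈ I, span the
localization of Ω_{P/A} at 𝔮 over P_𝔮. (Geometrically: for f locally of finite type, the stalk of
Ω_{X/Y} at x vanishes iff near x the scheme X is a closed subscheme of an affine space over the base
cut out by an ideal whose germs at the point have differentials generating the stalk of Ω of the
affine space; the published statement also lists the equivalence with f being unramified at x and
with the diagonal being a local isomorphism at x, which this row does not restate. The published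
statement asks for one such presentation near the point; this row states the equivalence for every
presentation, which is what the published proof shows and which implies the existential form.) -/
theorem result {A B : Type u} [CommRing A] [CommRing B]
    [Algebra A B] (n : ℕ) (φ : MvPolynomial (Fin n) A →ₐ[A] B) (hφ : Function.Surjective φ)
    (q : Ideal B) [q.IsPrime] :
    Subsingleton (LocalizedModule q.primeCompl (KaehlerDifferential A B)) ↔
      Submodule.span (Localization.AtPrime (q.comap φ.toRingHom))
        ((LocalizedModule.mkLinearMap (q.comap φ.toRingHom).primeCompl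
            (KaehlerDifferential A (MvPolynomial (Fin n) A))) ''
          ((KaehlerDifferential.D A (MvPolynomial (Fin n) A)) '' (RingHom.ker φ.toRingHom : Set (MvPolynomial (Fin n) A)))) = ⊤ := by
  algebraize [φ.toRingHom]
  let P := MvPolynomial (Fin n) A
  let 𝔮 := q.comap φ.toRingHom
  let s : Set (KaehlerDifferential A P) :=
    (KaehlerDifferential.D A P) '' (RingHom.ker φ.toRingHom : Set P)
  have hker : LinearMap.ker (KaehlerDifferential.map A A P B) = Submodule.span P s :=
    ker_map_eq A P B hφ
  have hsurj := KaehlerDifferential.map_surjective_of_surjective A A P B hφ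
  rw [LocalizedModule.subsingleton_iff]
  change _ ↔ Submodule.span (Localization.AtPrime 𝔮)
    ((LocalizedModule.mkLinearMap 𝔮.primeCompl _) '' s) = ⊤
  rw [← Submodule.localized'_span (Localization.AtPrime 𝔮) 𝔮.primeCompl
    (LocalizedModule.mkLinearMap 𝔮.primeCompl (KaehlerDifferential A P)) s]
  constructor
  · intro h
    rw [eq_top_iff]
    intro y _
    obtain ⟨⟨ω, t⟩, rfl⟩ := IsLocalizedModule.mk'_surjective 𝔮.primeCompl
      (LocalizedModule.mkLinearMap 𝔮.primeCompl (KaehlerDifferential A P)) y
    obtain ⟨b, hb, hb0⟩ := h (KaehlerDifferential.map A A P B ω)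
    obtain ⟨r, rfl⟩ := hφ b
    have hr : r • ω ∈ Submodule.span P s := by
      rw [← hker, LinearMap.mem_ker, map_smul]
      exact (algebraMap_smul B r _).symm.trans hb0
    refine (Submodule.mem_localized' _ _ _ _ _).mpr ⟨r • ω, hr, (⟨r, hb⟩ : 𝔮.primeCompl) * t, ?_⟩
    rw [Function.uncurry_apply_pair, IsLocalizedModule.mk'_eq_iff, Submonoid.smul_def,
      Submonoid.coe_mul, mul_smul, map_smul, ← Submonoid.smul_def t,
      IsLocalizedModule.mk'_cancel']
  · intro h m
    obtain ⟨ω, rfl⟩ := hsurj m
    have hmem : LocalizedModule.mkLinearMap 𝔮.primeCompl _ ω ∈ (Submodule.span P s).localized'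
        (Localization.AtPrime 𝔮) 𝔮.primeCompl
        (LocalizedModule.mkLinearMap 𝔮.primeCompl (KaehlerDifferential A P)) := h ▸ trivial
    obtain ⟨m, hm, t, ht⟩ := (Submodule.mem_localized' _ _ _ _ _).mp hmem
    rw [IsLocalizedModule.mk'_eq_iff, Submonoid.smul_def, ← map_smul] at ht
    obtain ⟨u, hu⟩ := (IsLocalizedModule.eq_iff_exists 𝔮.primeCompl _).mp ht
    refine ⟨φ ((u * t : 𝔮.primeCompl) : P), (u * t).2, ?_⟩
    have hK : ((u * t : 𝔮.primeCompl) : P) • ω ∈ Submodule.span P s := by
      rw [Submonoid.coe_mul, mul_smul]
      exact hu ▸ Submodule.smul_mem _ _ hm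
    rw [← hker, LinearMap.mem_ker, map_smul] at hK
    exact (algebraMap_smul B _ _).trans hK

end Groth.Agent.S9568
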