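import Groth.Statements.S9571
import Mathlib
open Twist
-- import your own Groth.Agent.* helpers here

set_option autoImplicit false
universe u
open CategoryTheory CategoryTheory.Limits AlgebraicGeometry TopologicalSpace Opposite
open Constr

namespace Groth.Agent.S9571

/-- Let S be a graded ring, X = Proj S and d ≥ 1; let W_d be the union of the opens D_+(ab) over pairs
of homogeneous a, b with deg a = deg b + d (the open over which the twisting sheaves O_X(nd) are
invertible with compatible multiplications). For n ≥ 1 and f homogeneous of degree nd, with s the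
section of O_X(nd) over W_d defined by f, the non-vanishing locus (W_d)_s equals D_+(f) ∩ W_d.
Pointwise: for p in some D_+(ab) as above, p ∈ D_+(f) if and only if the value f/1 of s at p
generates the module of degree-nd fractions at p (the span of the fractions c/t with t ∉ p and deg c
= deg t + nd, over the degree-zero local ring at p). -/
theorem result {R A : Type u} [CommRing R] [CommRing A] [Algebra R A] (𝒜 : ℕ → Submodule R A) [GradedAlgebra 𝒜]
    {d : ℕ} (hd : 0 < d) {i j : ℕ} {a b : A} (ha : a ∈ 𝒜 i) (hb : b ∈ 𝒜 j) (hij : i = j + d)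
    (p : ProjectiveSpectrum 𝒜) (hp : p ∈ ProjectiveSpectrum.basicOpen 𝒜 (a * b))
    {n : ℕ} (hn : 0 < n) (f : 𝒜 (n * d)) :
    p ∈ ProjectiveSpectrum.basicOpen 𝒜 (f : A) ↔
      Submodule.span (Twist.A0 𝒜 p) {(Twist.globalOf 𝒜 f).1 ⟨p, trivial⟩} = ⊤ := by
  have hab : a ∉ p.asHomogeneousIdeal ∧ b ∉ p.asHomogeneousIdeal :=
    ⟨fun h => hp (p.asHomogeneousIdeal.toIdeal.mul_mem_right b h), fun h => hp (p.asHomogeneousIdeal.toIdeal.mul_mem_left a h)⟩
  have hP : p.asHomogeneousIdeal.toIdeal.IsPrime := p.isPrime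
  constructor
  · intro hf
    rw [ProjectiveSpectrum.mem_basicOpen] at hf
    rw [eq_top_iff]
    rintro ⟨q, hq⟩ -
    rw [Submodule.mem_span_singleton]
    induction hq using Submodule.span_induction with
    | mem x hx =>
      obtain ⟨i', j', a', s', hs, hdeg, rfl⟩ := hx
      refine ⟨HomogeneousLocalization.mk ⟨i', ⟨a'.1, a'.2⟩, ⟨s'.1 * f.1, ?_⟩, fun h => (hP.mem_or_mem h).elim hs hf⟩,
        Subtype.ext ?_⟩
      · rw [show i' = j' + n * d by omega]; exact SetLike.mul_mem_graded s'.2 f.2
      · rw [coe_smul_val, HomogeneousLocalization.val_mk]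
        show Localization.mk _ _ * Localization.mk f.1 _ = _
        rw [Localization.mk_mul, Localization.mk_eq_mk_iff, Localization.r_iff_exists]
        exact ⟨1, by simp; ring⟩
    | zero => exact ⟨0, Subtype.ext (by simp [Algebra.smul_def, HomogeneousLocalization.algebraMap_apply])⟩
    | add x y _ _ hx hy =>
      obtain ⟨c₁, h₁⟩ := hx
      obtain ⟨c₂, h₂⟩ := hy
      exact ⟨c₁ + c₂, by rw [add_smul, h₁, h₂]; rfl⟩
    | smul r x _ hx =>
      obtain ⟨c, h⟩ := hx
      exact ⟨r * c, by rw [mul_smul, h]; rfl⟩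
  · intro h
    rw [ProjectiveSpectrum.mem_basicOpen]
    intro hf
    have hbn : b ^ n ∉ p.asHomogeneousIdeal := fun h' => hab.2 (hP.mem_of_pow_mem n h')
    let t : twistAt 𝒜 ((n * d : ℕ) : ℤ) p := ⟨Localization.mk (a ^ n) ⟨b ^ n, hbn⟩,
      Submodule.subset_span ⟨n * i, n * j, ⟨a ^ n, by simpa [smul_eq_mul] using SetLike.pow_mem_graded n ha⟩,
        ⟨b ^ n, by simpa [smul_eq_mul] using SetLike.pow_mem_graded n hb⟩, hbn,
        (by subst hij; push_cast; ring), rfl⟩⟩
    obtain ⟨c, hc⟩ := Submodule.mem_span_singleton.1 (h ▸ Submodule.mem_top : t ∈ Submodule.span _ _)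
    obtain ⟨c', rfl⟩ := HomogeneousLocalization.mk_surjective c
    have he := congrArg Subtype.val hc
    rw [coe_smul_val, HomogeneousLocalization.val_mk] at he
    change Localization.mk _ _ * Localization.mk f.1 _ = Localization.mk (a ^ n) _ at he
    rw [Localization.mk_mul, Localization.mk_eq_mk_iff, Localization.r_iff_exists] at he
    obtain ⟨w, hw⟩ := he
    have hr : (w : A) * (c'.den.1 * 1 * a ^ n) ∈ p.asHomogeneousIdeal.toIdeal := by
      simp only [Submonoid.coe_mul] at hw
      rw [← hw]
      exact Ideal.mul_mem_left _ _ (Ideal.mul_mem_left _ _ (Ideal.mul_mem_left _ _ hf))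
    rw [mul_one] at hr
    rcases hP.mem_or_mem hr with h' | h'
    · exact w.2 h'
    · exact (hP.mem_or_mem h').elim c'.den_mem (fun h'' => hab.1 (hP.mem_of_pow_mem n h''))

end Groth.Agent.S9571
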