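import Groth.Statements.S9572
import Mathlib.AlgebraicGeometry.ProjectiveSpectrum.Basic
import Mathlib.AlgebraicGeometry.Morphisms.IsIso

set_option autoImplicit false
set_option backward.isDefEq.respectTransparency false
set_option maxHeartbeats 1000000
set_option linter.style.haveILetI false
universe u
open CategoryTheory CategoryTheory.Limits AlgebraicGeometry TopologicalSpace Opposite
open Constr

namespace Groth.Agent.S9572

theorem away_map_bijective {R A : Type u} [CommRing R] [CommRing A] [Algebra R A] {𝒜 : ℕ → Submodule R A}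
    [GradedAlgebra 𝒜] {B : Type u} [CommRing B] [Algebra R B] {ℬ : ℕ → Submodule R B} [GradedAlgebra ℬ]
    (ψ : 𝒜 →+*ᵍ ℬ) (d₀ : ℕ) (hbij : ∀ d : ℕ, d₀ ≤ d → Set.BijOn ψ (𝒜 d) (ℬ d)) {d : ℕ} {f : A}
    (hd : 0 < d) (hf : f ∈ 𝒜 d) : Function.Bijective (HomogeneousLocalization.Away.map ψ f) := by
  have hle : ∀ k : ℕ, d₀ ≤ (d₀ + k) * d := fun k =>
    le_trans (Nat.le_add_right d₀ k) (Nat.le_mul_of_pos_right _ hd)
  constructor
  · rw [injective_iff_map_eq_zero]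
    intro z hz
    obtain ⟨k, a, ha, rfl⟩ := HomogeneousLocalization.Away.mk_surjective _ hf z
    have hv := congrArg HomogeneousLocalization.val hz
    rw [HomogeneousLocalization.Away.map_mk, HomogeneousLocalization.Away.val_mk, HomogeneousLocalization.val_zero,
      Localization.mk_eq_mk', IsLocalization.mk'_eq_zero_iff] at hv
    obtain ⟨⟨_, M, rfl⟩, hM⟩ := hv
    have hx : f ^ (d₀ + M) * a ∈ 𝒜 ((d₀ + M) * d + k * d) :=
      SetLike.mul_mem_graded (by simpa using SetLike.pow_mem_graded (d₀ + M) hf) (by simpa using ha)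
    have h0 : ψ (f ^ (d₀ + M) * a) = ψ 0 := by
      simp only [map_mul, map_pow, map_zero] at hM ⊢
      rw [pow_add, mul_assoc, hM, mul_zero]
    have hz0 := (hbij _ (le_trans (hle M) (Nat.le_add_right _ _))).injOn hx (zero_mem _) h0
    refine HomogeneousLocalization.val_injective _ ?_
    rw [HomogeneousLocalization.Away.val_mk, HomogeneousLocalization.val_zero, Localization.mk_eq_mk',
      IsLocalization.mk'_eq_zero_iff]
    exact ⟨⟨_, d₀ + M, rfl⟩, hz0⟩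
  · intro z
    obtain ⟨k, b, hb, rfl⟩ := HomogeneousLocalization.Away.mk_surjective _ (ψ.2 hf) z
    have hb' : b * ψ f ^ d₀ ∈ ℬ ((d₀ + k) * d) := by
      rw [add_comm d₀ k, add_mul]
      exact SetLike.mul_mem_graded (by simpa using hb) (by simpa using SetLike.pow_mem_graded d₀ (ψ.2 hf))
    obtain ⟨a, ha, haψ⟩ := (hbij _ (hle k)).surjOn hb'
    refine ⟨HomogeneousLocalization.Away.mk 𝒜 hf (d₀ + k) a (by simpa using ha), ?_⟩
    refine HomogeneousLocalization.val_injective _ ?_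
    rw [HomogeneousLocalization.Away.map_mk, HomogeneousLocalization.Away.val_mk, HomogeneousLocalization.Away.val_mk,
      Localization.mk_eq_mk_iff, Localization.r_iff_exists]
    refine ⟨1, ?_⟩
    simp only [OneMemClass.coe_one, one_mul, haψ, pow_add]
    show ψ f ^ k * (b * ψ f ^ d₀) = ψ f ^ d₀ * ψ f ^ k * b
    ring

theorem exists_basicOpen_mem {R A : Type u} [CommRing R] [CommRing A] [Algebra R A] (𝒜 : ℕ → Submodule R A)
    [GradedAlgebra 𝒜] (x : Proj 𝒜) : ∃ (d : ℕ) (g : A), 0 < d ∧ g ∈ 𝒜 d ∧ x ∈ Proj.basicOpen 𝒜 g := by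
  by_contra h
  push Not at h
  refine x.not_irrelevant_le ((HomogeneousIdeal.toIdeal_irrelevant_le _).mpr fun i hi g hg => ?_)
  by_contra hgx
  exact h i g hi hg hgx

/-- Let ψ : A → B be a homomorphism of graded rings such that A_d → B_d is bijective for all d ≥ d₀. Let
U(ψ) ⊆ Proj B be the union of the opens D_+(ψ f) over homogeneous f of positive degree, and r_ψ :
U(ψ) → Proj A the morphism whose restriction to each chart Spec B_(ψ f) is Spec of the induced map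
A_(f) → B_(ψ f) followed by the chart of Proj A. Then U(ψ) = Proj B and r_ψ is an isomorphism. (Here
r_ψ is any morphism with that chart description; it is unique.) -/
theorem result {R A : Type u} [CommRing R] [CommRing A] [Algebra R A] (𝒜 : ℕ → Submodule R A) [GradedAlgebra 𝒜]
    {B : Type u} [CommRing B] [Algebra R B] (ℬ : ℕ → Submodule R B) [GradedAlgebra ℬ] (ψ : 𝒜 →+*ᵍ ℬ)
    (d₀ : ℕ) (hbij : ∀ d : ℕ, d₀ ≤ d → Set.BijOn ψ (𝒜 d) (ℬ d))
    (r : (PCone.dom ψ : Scheme.{u}) ⟶ Proj 𝒜)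
    (hr : ∀ (d : ℕ) (f : A) (hd : 0 < d) (hf : f ∈ 𝒜 d),
      PCone.chart ψ hf hd ≫ r =
        Spec.map (CommRingCat.ofHom (HomogeneousLocalization.Away.map ψ f)) ≫ Proj.awayι 𝒜 f hf hd) :
    PCone.dom ψ = ⊤ ∧ IsIso r := by
  have hdom : PCone.dom ψ = ⊤ := by
    refine top_le_iff.1 fun x _ => ?_
    obtain ⟨d, g, hd, hg, hx⟩ := exists_basicOpen_mem ℬ x
    have hN : d₀ ≤ (d₀ + 1) * d := le_trans (Nat.le_succ _) (Nat.le_mul_of_pos_right _ hd)
    obtain ⟨f, hf, hfg⟩ := (hbij _ hN).surjOn (show g ^ (d₀ + 1) ∈ ℬ ((d₀ + 1) * d) by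
      simpa using SetLike.pow_mem_graded (d₀ + 1) hg)
    refine Opens.mem_iSup.mpr ⟨⟨f, (d₀ + 1) * d, Nat.mul_pos (Nat.succ_pos _) hd, hf⟩, ?_⟩
    show x ∈ Proj.basicOpen ℬ (ψ f)
    rw [hfg, Proj.basicOpen_pow _ _ _ (Nat.succ_pos _)]
    exact hx
  refine ⟨hdom, ?_⟩
  have hpre : ∀ (e : ℕ) (g : A), 0 < e → g ∈ 𝒜 e →
      r ⁻¹ᵁ Proj.basicOpen 𝒜 g = (PCone.dom ψ).ι ⁻¹ᵁ Proj.basicOpen ℬ (ψ g) := by
    intro e g he hg
    refine TopologicalSpace.Opens.ext (Set.ext fun x => ?_)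
    obtain ⟨⟨f, d, hd, hf⟩, hx⟩ := TopologicalSpace.Opens.mem_iSup.mp x.2
    obtain ⟨q, hq⟩ : x.1 ∈ Set.range (Proj.awayι ℬ (ψ f) (ψ.2 hf) hd) := by
      rw [← Scheme.Hom.coe_opensRange, Proj.opensRange_awayι]
      exact hx
    have hqx : PCone.chart ψ hf hd q = x := by
      refine (PCone.dom ψ).ι.isOpenEmbedding.injective ?_
      rw [← Scheme.Hom.comp_apply, PCone.chart, IsOpenImmersion.lift_fac]
      exact hq
    subst hqx
    change q ∈ (PCone.chart ψ hf hd ≫ r) ⁻¹ᵁ Proj.basicOpen 𝒜 g ↔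
      q ∈ (PCone.chart ψ hf hd ≫ (PCone.dom ψ).ι) ⁻¹ᵁ Proj.basicOpen ℬ (ψ g)
    rw [hr, PCone.chart, IsOpenImmersion.lift_fac, Scheme.Hom.comp_preimage,
      Proj.awayι_preimage_basicOpen 𝒜 hf hd hg he]
    erw [Proj.awayι_preimage_basicOpen ℬ (ψ.2 hf) hd (ψ.2 hg) he]
    change HomogeneousLocalization.Away.map ψ f (HomogeneousLocalization.Away.isLocalizationElem hf hg) ∉
        (q : PrimeSpectrum (HomogeneousLocalization.Away ℬ (ψ f))).asIdeal ↔ _
    rw [HomogeneousLocalization.Away.map_mk]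
    have : ψ (g ^ d) = ψ g ^ d := map_pow ψ.toRingHom g d
    simp only [this]
    rfl
  let U : {f : A // ∃ d : ℕ, 0 < d ∧ f ∈ 𝒜 d} → (Proj 𝒜).Opens := fun f => Proj.basicOpen 𝒜 f.1
  have hU : iSup U = ⊤ := top_le_iff.1 fun x _ => by
    obtain ⟨d, g, hd, hg, hx⟩ := exists_basicOpen_mem 𝒜 x
    exact Opens.mem_iSup.mpr ⟨⟨g, d, hd, hg⟩, hx⟩
  refine (IsZariskiLocalAtTarget.iff_of_iSup_eq_top (P := MorphismProperty.isomorphisms Scheme) U hU).2 ?_
  rintro ⟨f, d, hd, hf⟩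
  show IsIso (r ∣_ Proj.basicOpen 𝒜 f)
  let c := PCone.chart ψ hf hd
  let o := Proj.awayι 𝒜 f hf hd
  let s := Spec.map (CommRingCat.ofHom (HomogeneousLocalization.Away.map ψ f))
  haveI hs : IsIso s := by
    rw [isIso_SpecMap_iff]
    exact away_map_bijective ψ d₀ hbij hd hf
  have hcι : c ≫ (PCone.dom ψ).ι = Proj.awayι ℬ (ψ f) (ψ.2 hf) hd := IsOpenImmersion.lift_fac _ _ _
  haveI : IsOpenImmersion (c ≫ (PCone.dom ψ).ι) := by rw [hcι]; infer_instance
  haveI : IsOpenImmersion c := IsOpenImmersion.of_comp _ (PCone.dom ψ).ι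
  have hc : Set.range c = Set.range (r ⁻¹ᵁ Proj.basicOpen 𝒜 f).ι := by
    rw [Scheme.Opens.range_ι, hpre d f hd hf]
    refine Set.ext fun x => ⟨?_, fun hx => ?_⟩
    · rintro ⟨q, rfl⟩
      show (c ≫ (PCone.dom ψ).ι) q ∈ Proj.basicOpen ℬ (ψ f)
      rw [hcι, ← Proj.opensRange_awayι ℬ (ψ f) (ψ.2 hf) hd]
      exact ⟨q, rfl⟩
    · have hx' : (PCone.dom ψ).ι x ∈ Proj.basicOpen ℬ (ψ f) := hx
      rw [← Proj.opensRange_awayι ℬ (ψ f) (ψ.2 hf) hd] at hx'
      obtain ⟨q, hq⟩ := hx'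
      refine ⟨q, (PCone.dom ψ).ι.isOpenEmbedding.injective ?_⟩
      rw [← Scheme.Hom.comp_apply, hcι]
      exact hq
  have ho : Set.range o = Set.range (Proj.basicOpen 𝒜 f).ι := by
    rw [Scheme.Opens.range_ι, ← Proj.opensRange_awayι 𝒜 f hf hd]
    rfl
  let e := IsOpenImmersion.isoOfRangeEq c (r ⁻¹ᵁ Proj.basicOpen 𝒜 f).ι hc
  let e' := IsOpenImmersion.isoOfRangeEq o (Proj.basicOpen 𝒜 f).ι ho
  have heq : r ∣_ Proj.basicOpen 𝒜 f = e.inv ≫ s ≫ e'.hom := by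
    rw [← cancel_mono (Proj.basicOpen 𝒜 f).ι, morphismRestrict_ι, Category.assoc, Category.assoc,
      IsOpenImmersion.isoOfRangeEq_hom_fac, ← hr d f hd hf, ← Category.assoc,
      IsOpenImmersion.isoOfRangeEq_inv_fac]
  rw [heq]
  infer_instance

end Groth.Agent.S9572
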