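import Groth.Statements.S9573
import Mathlib.AlgebraicGeometry.Morphisms.OpenImmersion

set_option autoImplicit false
set_option backward.isDefEq.respectTransparency false
set_option maxHeartbeats 1000000
set_option linter.style.haveILetI false
universe u
open CategoryTheory CategoryTheory.Limits AlgebraicGeometry TopologicalSpace Opposite
open scoped HomogeneousIdeal
open Constr

namespace Groth.Agent.S9573

noncomputable section

section alg

variable {R A : Type u} [CommRing R] [CommRing A] [Algebra R A] {𝒜 : ℕ → Submodule R A} [GradedAlgebra 𝒜]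
  {B : Type u} [CommRing B] [Algebra R B] {ℬ : ℕ → Submodule R B} [GradedAlgebra ℬ] (ψ : 𝒜 →+*ᵍ ℬ)
  {g : A} [Algebra A B] (hψA : ∀ a : A, ψ a = algebraMap A B a) [IsLocalization.Away g B]

include hψA in
theorem exists_preimage (b : B) : ∃ (k : ℕ) (a : A), ψ g ^ k * b = ψ a := by
  obtain ⟨⟨a, _, k, rfl⟩, hk⟩ := IsLocalization.surj (Submonoid.powers g) b
  exact ⟨k, a, by rw [hψA a, hψA g, ← hk, ← map_pow, mul_comm]⟩

include hψA in
theorem exists_pow_mul_eq_zero {c : A} (hc : ψ c = 0) : ∃ k : ℕ, g ^ k * c = 0 := by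
  rw [hψA] at hc
  obtain ⟨⟨_, k, rfl⟩, hk⟩ := (IsLocalization.map_eq_zero_iff (Submonoid.powers g) B c).1 hc
  exact ⟨k, hk⟩

include hψA in
theorem isUnit_psi : IsUnit (ψ g) := hψA g ▸ IsLocalization.Away.algebraMap_isUnit g

variable (hψ : HomogeneousIdeal.irrelevant ℬ ≤ (HomogeneousIdeal.irrelevant 𝒜).map ψ)

include hψA in
theorem psi_pow_notMem (y : ProjectiveSpectrum ℬ) (n : ℕ) : ψ g ^ n ∉ y.asHomogeneousIdeal.toIdeal := fun h =>
  y.isPrime.ne_top (Ideal.eq_top_of_isUnit_mem _ h ((isUnit_psi ψ hψA).pow n))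

include hψA in
theorem locMap_bijective (g : A) [IsLocalization.Away g B] (y : ProjectiveSpectrum ℬ) : Function.Bijective (GrTwist.locMap ψ hψ y) := by
  have hpow : ∀ n, ψ g ^ n ∈ y.asHomogeneousIdeal.toIdeal.primeCompl := psi_pow_notMem ψ hψA y
  constructor
  · rw [injective_iff_map_eq_zero]
    intro q hq
    induction q using Localization.induction_on with | H p => ?_
    obtain ⟨a, s⟩ := p
    rw [GrTwist.locMap_mk, Localization.mk_eq_mk', IsLocalization.mk'_eq_zero_iff] at hq
    obtain ⟨t, ht⟩ := hq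
    obtain ⟨k, a', ha'⟩ := exists_preimage ψ (g := g) hψA (t : B)
    have hc : ψ (a' * a) = 0 := by
      rw [map_mul, ← ha', mul_assoc, ht, mul_zero]
    obtain ⟨m, h0⟩ := exists_pow_mul_eq_zero ψ (g := g) hψA hc
    rw [Localization.mk_eq_mk', IsLocalization.mk'_eq_zero_iff]
    refine ⟨⟨g ^ m * a', ?_⟩, by rw [mul_assoc]; exact h0⟩
    show ψ (g ^ m * a') ∉ y.asHomogeneousIdeal
    rw [map_mul, map_pow, ← ha', ← mul_assoc, ← pow_add]
    exact Submonoid.mul_mem _ (hpow _) t.2
  · intro q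
    induction q using Localization.induction_on with | H p => ?_
    obtain ⟨b, t⟩ := p
    obtain ⟨k, a, ha⟩ := exists_preimage ψ (g := g) hψA b
    obtain ⟨l, c, hc⟩ := exists_preimage ψ (g := g) hψA (t : B)
    have hcx : g ^ k * c ∈ (ProjectiveSpectrum.comap ψ hψ y).asHomogeneousIdeal.toIdeal.primeCompl := by
      show ψ (g ^ k * c) ∉ y.asHomogeneousIdeal
      rw [map_mul, map_pow, ← hc]
      exact Submonoid.mul_mem _ (hpow _) (Submonoid.mul_mem _ (hpow _) t.2)
    refine ⟨Localization.mk (g ^ l * a) ⟨g ^ k * c, hcx⟩, ?_⟩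
    rw [GrTwist.locMap_mk, Localization.mk_eq_mk_iff, Localization.r_iff_exists]
    refine ⟨1, ?_⟩
    simp only [OneMemClass.coe_one, one_mul, map_mul, map_pow]
    rw [← ha, ← hc]
    ring

end alg

/-- Let A be a graded ring, g an element of degree zero and ψ : A → B = A_g the localization map, B
carrying the induced grading (B_n consists of the b with g^k b = ψ(a) for some k and some a ∈ A_n).
Then the morphism r_ψ : Proj B → Proj A induced by ψ is everywhere defined, it is an open immersion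
whose image is the inverse image of the basic open D(g) of Spec A_0 under the structure morphism
Proj A → Spec A_0, and for every integer n the canonical map θ : r_ψ^* O_{Proj A}(n) → O_{Proj B}(n)
(adjoint to a/f ↦ ψ(a)/ψ(f)) is an isomorphism. (The containment of B_+ in the ideal generated by
ψ(A_+), through which r_ψ is Proj.map here, follows from the other hypotheses and is carried as
data.) -/
theorem result {R A : Type u} [CommRing R] [CommRing A] [Algebra R A] (𝒜 : ℕ → Submodule R A) [GradedAlgebra 𝒜]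
    {B : Type u} [CommRing B] [Algebra R B] (ℬ : ℕ → Submodule R B) [GradedAlgebra ℬ] (ψ : 𝒜 →+*ᵍ ℬ)
    (g : A) (hg : g ∈ 𝒜 0) [Algebra A B] (hψA : ∀ a : A, ψ a = algebraMap A B a) [IsLocalization.Away g B]
    (hdeg : ∀ (n : ℕ) (b : B), b ∈ ℬ n ↔ ∃ (k : ℕ) (a : A), a ∈ 𝒜 n ∧ ψ g ^ k * b = ψ a)
    (hψ : HomogeneousIdeal.irrelevant ℬ ≤ (HomogeneousIdeal.irrelevant 𝒜).map ψ) :
    IsOpenImmersion (Proj.map ψ hψ) ∧
      Set.range (Proj.map ψ hψ).base =
        (Proj.toSpecZero 𝒜).base ⁻¹' (PrimeSpectrum.basicOpen (⟨g, hg⟩ : 𝒜 0) : Set (PrimeSpectrum (𝒜 0))) ∧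
      ∀ n : ℤ, IsIso (((Scheme.Modules.pullbackPushforwardAdjunction (Proj.map ψ hψ)).homEquiv _ _).symm
        (GrTwist.comap ψ hψ n)) := by
  classical
  let P := Proj.map ψ hψ
  let g₀ : 𝒜 0 := ⟨g, hg⟩
  have hgB : IsUnit (ψ g) := isUnit_psi ψ hψA
  -- the charts
  have hloc : ∀ (d : ℕ) (f : A) (hd : 0 < d) (hf : f ∈ 𝒜 d),
      letI := (HomogeneousLocalization.Away.map ψ f : HomogeneousLocalization.Away 𝒜 f →+* HomogeneousLocalization.Away ℬ (ψ f)).toAlgebra
      IsLocalization.Away (HomogeneousLocalization.fromZeroRingHom 𝒜 (Submonoid.powers f) g₀)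
        (HomogeneousLocalization.Away ℬ (ψ f)) := by
    intro d f hd hf
    letI := (HomogeneousLocalization.Away.map ψ f : HomogeneousLocalization.Away 𝒜 f →+* HomogeneousLocalization.Away ℬ (ψ f)).toAlgebra
    have hval : ∀ (k : ℕ) (a : A) (ha : a ∈ 𝒜 (k • d)),
        (algebraMap (HomogeneousLocalization.Away 𝒜 f) (HomogeneousLocalization.Away ℬ (ψ f))
          (HomogeneousLocalization.Away.mk 𝒜 hf k a ha)).val = Localization.mk (ψ a) (⟨ψ f ^ k, k, rfl⟩ : Submonoid.powers (ψ f)) := by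
      intro k a ha
      show (HomogeneousLocalization.Away.map ψ f _).val = _
      rw [HomogeneousLocalization.Away.map_mk, HomogeneousLocalization.Away.val_mk]
    let γ := HomogeneousLocalization.fromZeroRingHom 𝒜 (Submonoid.powers f) g₀
    have hγ : γ = HomogeneousLocalization.Away.mk 𝒜 hf 0 g (by simpa using hg) := by
      refine HomogeneousLocalization.val_injective _ ?_
      rw [HomogeneousLocalization.Away.val_mk]
      show Localization.mk _ _ = Localization.mk _ _
      rw [Localization.mk_eq_mk_iff, Localization.r_iff_exists]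
      exact ⟨1, by simp [g₀]⟩
    have hpowval : ∀ n : ℕ, (algebraMap (HomogeneousLocalization.Away 𝒜 f) (HomogeneousLocalization.Away ℬ (ψ f))
        (γ ^ n)).val = Localization.mk (ψ g ^ n) (1 : Submonoid.powers (ψ f)) := by
      intro n
      rw [map_pow, HomogeneousLocalization.val_pow, hγ, hval, Localization.mk_pow,
        Localization.mk_eq_mk_iff, Localization.r_iff_exists]
      exact ⟨1, by simp⟩
    refine ⟨⟨?_, ?_, ?_⟩⟩
    · rintro ⟨_, n, rfl⟩
      show IsUnit (algebraMap _ _ (γ ^ n))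
      rw [map_pow]
      refine IsUnit.pow n ?_
      have hinv : IsLocalization.Away.invSelf g ∈ ℬ 0 :=
        (hdeg 0 _).2 ⟨1, 1, SetLike.GradedOne.one_mem, by
          rw [pow_one, hψA, map_one, IsLocalization.Away.mul_invSelf]⟩
      refine IsUnit.of_mul_eq_one (HomogeneousLocalization.Away.mk ℬ (ψ.2 hf) 0
        (IsLocalization.Away.invSelf g : B) (by simpa using hinv)) ?_
      refine HomogeneousLocalization.val_injective _ ?_
      rw [HomogeneousLocalization.val_mul, HomogeneousLocalization.val_one, hγ, hval,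
        HomogeneousLocalization.Away.val_mk, Localization.mk_mul]
      rw [← Localization.mk_one, Localization.mk_eq_mk_iff, Localization.r_iff_exists]
      exact ⟨1, by simp [hψA]⟩
    · intro z
      obtain ⟨k, b, hb, rfl⟩ := HomogeneousLocalization.Away.mk_surjective _ (ψ.2 hf) z
      obtain ⟨m, a, ha, hab⟩ := (hdeg _ b).1 (by simpa using hb)
      refine ⟨⟨HomogeneousLocalization.Away.mk 𝒜 hf k a (by simpa using ha), ⟨γ ^ m, m, rfl⟩⟩, ?_⟩
      refine HomogeneousLocalization.val_injective _ ?_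
      rw [HomogeneousLocalization.val_mul, hpowval, hval, HomogeneousLocalization.Away.val_mk,
        Localization.mk_mul, Localization.mk_eq_mk_iff, Localization.r_iff_exists]
      refine ⟨1, ?_⟩
      simp only [OneMemClass.coe_one, one_mul, Submonoid.coe_mul, mul_one]
      rw [← hab]
      show ψ f ^ k * (b * ψ g ^ m) = ψ f ^ k * (ψ g ^ m * b)
      ring
    · intro x y hxy
      obtain ⟨k, a, ha, rfl⟩ := HomogeneousLocalization.Away.mk_surjective _ hf x
      obtain ⟨l, b, hb, rfl⟩ := HomogeneousLocalization.Away.mk_surjective _ hf y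
      have hv := congrArg HomogeneousLocalization.val hxy
      rw [hval, hval, Localization.mk_eq_mk_iff, Localization.r_iff_exists] at hv
      obtain ⟨⟨_, M, rfl⟩, hM⟩ := hv
      obtain ⟨m, hm⟩ := exists_pow_mul_eq_zero ψ (g := g) hψA (c := f ^ M * (f ^ l * a - f ^ k * b)) (by
        simp only [map_mul, map_sub, map_pow] at hM ⊢
        linear_combination hM)
      refine ⟨⟨γ ^ m, m, rfl⟩, ?_⟩
      refine HomogeneousLocalization.val_injective _ ?_
      show (γ ^ m * _).val = (γ ^ m * _).val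
      rw [HomogeneousLocalization.val_mul, HomogeneousLocalization.val_mul, HomogeneousLocalization.val_pow, hγ,
        HomogeneousLocalization.Away.val_mk, HomogeneousLocalization.Away.val_mk,
        HomogeneousLocalization.Away.val_mk, Localization.mk_pow, Localization.mk_mul, Localization.mk_mul,
        Localization.mk_eq_mk_iff, Localization.r_iff_exists]
      refine ⟨⟨f ^ M, M, rfl⟩, ?_⟩
      simp only [Submonoid.coe_mul, SubmonoidClass.coe_pow, pow_zero, one_pow, one_mul]
      linear_combination hm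
  have hgood : ∀ x : Proj 𝒜, ∃ (d : ℕ) (f : A), 0 < d ∧ f ∈ 𝒜 d ∧ x ∈ Proj.basicOpen 𝒜 f := fun x => by
    by_contra h
    push Not at h
    refine x.not_irrelevant_le ((HomogeneousIdeal.toIdeal_irrelevant_le _).mpr fun i hi a ha => ?_)
    by_contra hax
    exact h i a hi ha hax
  let s : ∀ (f : A), Spec (CommRingCat.of (HomogeneousLocalization.Away ℬ (ψ f))) ⟶
      Spec (CommRingCat.of (HomogeneousLocalization.Away 𝒜 f)) := fun f =>
    Spec.map (CommRingCat.ofHom (HomogeneousLocalization.Away.map ψ f))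
  -- open immersion
  let U : {f : A // ∃ d : ℕ, 0 < d ∧ f ∈ 𝒜 d} → (Proj 𝒜).Opens := fun f => Proj.basicOpen 𝒜 f.1
  have hU : iSup U = ⊤ := top_le_iff.1 fun x _ => by
    obtain ⟨d, f, hd, hf, hx⟩ := hgood x
    exact Opens.mem_iSup.mpr ⟨⟨f, d, hd, hf⟩, hx⟩
  haveI hopen : IsOpenImmersion P := by
    refine (IsZariskiLocalAtTarget.iff_of_iSup_eq_top (P := @IsOpenImmersion) U hU).2 ?_
    rintro ⟨f, d, hd, hf⟩
    show IsOpenImmersion (P ∣_ Proj.basicOpen 𝒜 f)
    letI := (HomogeneousLocalization.Away.map ψ f : HomogeneousLocalization.Away 𝒜 f →+* HomogeneousLocalization.Away ℬ (ψ f)).toAlgebra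
    haveI := hloc d f hd hf
    haveI : IsOpenImmersion (s f) :=
      IsOpenImmersion.of_isLocalization (S := HomogeneousLocalization.Away ℬ (ψ f))
        (HomogeneousLocalization.fromZeroRingHom 𝒜 (Submonoid.powers f) g₀)
    let c := Proj.awayι ℬ (ψ f) (ψ.2 hf) hd
    let o := Proj.awayι 𝒜 f hf hd
    have hc : Set.range c = Set.range (P ⁻¹ᵁ Proj.basicOpen 𝒜 f).ι := by
      rw [Scheme.Opens.range_ι, Proj.map_preimage_basicOpen, ← Proj.opensRange_awayι ℬ (ψ f) (ψ.2 hf) hd]
      rfl
    have ho : Set.range o = Set.range (Proj.basicOpen 𝒜 f).ι := by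
      rw [Scheme.Opens.range_ι, ← Proj.opensRange_awayι 𝒜 f hf hd]
      rfl
    let e := IsOpenImmersion.isoOfRangeEq c (P ⁻¹ᵁ Proj.basicOpen 𝒜 f).ι hc
    let e' := IsOpenImmersion.isoOfRangeEq o (Proj.basicOpen 𝒜 f).ι ho
    have heq : P ∣_ Proj.basicOpen 𝒜 f = e.inv ≫ s f ≫ e'.hom := by
      rw [← cancel_mono (Proj.basicOpen 𝒜 f).ι, morphismRestrict_ι, Category.assoc, Category.assoc,
        IsOpenImmersion.isoOfRangeEq_hom_fac, ← Proj.awayι_comp_map ψ hψ hd f hf, ← Category.assoc,
        IsOpenImmersion.isoOfRangeEq_inv_fac]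
    rw [heq]
    infer_instance
  refine ⟨hopen, ?_, fun n => ?_⟩
  · -- the range
    refine Set.ext fun x => ⟨?_, fun hx => ?_⟩
    · rintro ⟨y, rfl⟩
      obtain ⟨d, f, hd, hf, hyf⟩ := hgood (P y)
      obtain ⟨q, rfl⟩ : y ∈ Set.range (Proj.awayι ℬ (ψ f) (ψ.2 hf) hd) := by
        rw [← Scheme.Hom.coe_opensRange, Proj.opensRange_awayι]
        exact hyf
      show (Proj.awayι ℬ (ψ f) (ψ.2 hf) hd ≫ P ≫ Proj.toSpecZero 𝒜) q ∈ PrimeSpectrum.basicOpen g₀
      rw [← Category.assoc, Proj.awayι_comp_map ψ hψ hd f hf, Category.assoc, Proj.awayι_toSpecZero]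
      letI := (HomogeneousLocalization.Away.map ψ f : HomogeneousLocalization.Away 𝒜 f →+* HomogeneousLocalization.Away ℬ (ψ f)).toAlgebra
      haveI := hloc d f hd hf
      exact fun h => (q : PrimeSpectrum (HomogeneousLocalization.Away ℬ (ψ f))).isPrime.ne_top
        (Ideal.eq_top_of_isUnit_mem _ h (IsLocalization.Away.algebraMap_isUnit
          (S := HomogeneousLocalization.Away ℬ (ψ f))
          (HomogeneousLocalization.fromZeroRingHom 𝒜 (Submonoid.powers f) g₀)))
    · obtain ⟨d, f, hd, hf, hxf⟩ := hgood x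
      obtain ⟨q, rfl⟩ : x ∈ Set.range (Proj.awayι 𝒜 f hf hd) := by
        rw [← Scheme.Hom.coe_opensRange, Proj.opensRange_awayι]
        exact hxf
      change (Proj.awayι 𝒜 f hf hd ≫ Proj.toSpecZero 𝒜) q ∈ PrimeSpectrum.basicOpen g₀ at hx
      rw [Proj.awayι_toSpecZero] at hx
      letI := (HomogeneousLocalization.Away.map ψ f : HomogeneousLocalization.Away 𝒜 f →+* HomogeneousLocalization.Away ℬ (ψ f)).toAlgebra
      haveI := hloc d f hd hf
      have hq : (q : PrimeSpectrum (HomogeneousLocalization.Away 𝒜 f)) ∈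
          Set.range (PrimeSpectrum.comap (algebraMap (HomogeneousLocalization.Away 𝒜 f) (HomogeneousLocalization.Away ℬ (ψ f)))) := by
        rw [PrimeSpectrum.localization_away_comap_range (HomogeneousLocalization.Away ℬ (ψ f))
          (HomogeneousLocalization.fromZeroRingHom 𝒜 (Submonoid.powers f) g₀)]
        exact hx
      obtain ⟨q', hq'⟩ := hq
      refine ⟨Proj.awayι ℬ (ψ f) (ψ.2 hf) hd q', ?_⟩
      show (Proj.awayι ℬ (ψ f) (ψ.2 hf) hd ≫ P) q' = _
      rw [Proj.awayι_comp_map ψ hψ hd f hf]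
      exact congrArg (fun p => Proj.awayι 𝒜 f hf hd p) hq'
  · -- the twists
    have hbijapp : ∀ U : (Proj 𝒜).Opens, U ≤ P.opensRange → Function.Bijective ((GrTwist.comap ψ hψ n).app U) := by
      intro U hUP
      let V : (Proj ℬ).Opens := P ⁻¹ᵁ U
      have hy : ∀ x : (U : (Proj 𝒜).Opens), ∃ y : V, P y.1 = x.1 := fun x => by
        obtain ⟨y, hy⟩ := hUP x.2
        exact ⟨⟨y, show P y ∈ U from hy.symm ▸ x.2⟩, hy⟩
      choose y hy using hy
      have hinjP : Function.Injective P := P.isOpenEmbedding.injective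
      constructor
      · intro (s₁ : GrTwist.sectN (𝒜 := 𝒜) n (op U)) (s₂ : GrTwist.sectN (𝒜 := 𝒜) n (op U)) h
        refine Subtype.ext (funext fun x => Subtype.ext ?_)
        have hx : (⟨ProjectiveSpectrum.comap ψ hψ (y x).1, (y x).2⟩ : (U : (Proj 𝒜).Opens)) = x :=
          Subtype.ext (hy x)
        rw [← hx]
        refine (locMap_bijective ψ hψA hψ g (y x).1).1 ?_
        exact (GrTwist.comap_app_val ψ hψ n U s₁ (y x)).symm.trans
          ((congrArg (fun t : GrTwist.sectN (𝒜 := ℬ) n (op V) => ((t.1 (y x) : _) : GrTwist.Loc ℬ (y x).1)) h).trans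
            (GrTwist.comap_app_val ψ hψ n U s₂ (y x)))
      · intro (t : GrTwist.sectN (𝒜 := ℬ) n (op V))
        have key : ∀ z : V, ∃ (W : (Proj 𝒜).Opens), P z.1 ∈ W ∧ W ≤ U ∧
            ∃ (i j : ℕ) (a : 𝒜 i) (s : 𝒜 j) (hs : ∀ x : W, (s : A) ∉ x.1.asHomogeneousIdeal),
              ((i : ℤ) = j + n ∨ (a : A) = 0) ∧ ∀ w : V, ∀ hw : P w.1 ∈ W,
                (t.1 w).1 = GrTwist.locMap ψ hψ w.1 (Localization.mk (a : A) ⟨s, hs ⟨P w.1, hw⟩⟩) := by
          intro z
          obtain ⟨W, hzW, iW, i, j, b, c₀, hc₀, hij, hfrac⟩ := t.2 z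
          obtain ⟨l, c, hc, hcψ⟩ := (hdeg j (c₀ : B)).1 c₀.2
          obtain ⟨k, a, ha, haψ, hzero⟩ : ∃ (k : ℕ) (a : A), a ∈ 𝒜 i ∧ ψ g ^ k * (b : B) = ψ a ∧
              ((b : B) = 0 → a = 0) := by
            by_cases hb : (b : B) = 0
            · exact ⟨0, 0, zero_mem _, by rw [hb, mul_zero, map_zero], fun _ => rfl⟩
            · obtain ⟨k, a, ha, h⟩ := (hdeg i (b : B)).1 b.2
              exact ⟨k, a, ha, h, fun h' => absurd h' hb⟩
          have hmem : ∀ (m r : ℕ) (x : A), x ∈ 𝒜 r → g ^ m * x ∈ 𝒜 r := fun m r x hx => by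
            have hm : g ^ m ∈ 𝒜 0 := by simpa using SetLike.pow_mem_graded m hg
            simpa using SetLike.mul_mem_graded hm hx
          have hcs : ∀ x : (P ''ᵁ W), g ^ k * c ∉ x.1.asHomogeneousIdeal := by
            rintro ⟨x, y', hy', rfl⟩ hx
            have h2 : ψ (g ^ k * c) ∈ y'.asHomogeneousIdeal := hx
            rw [map_mul, map_pow, ← hcψ] at h2
            refine (y'.isPrime.mem_or_mem h2).elim (psi_pow_notMem ψ hψA y' k) fun h3 => ?_
            exact (y'.isPrime.mem_or_mem h3).elim (psi_pow_notMem ψ hψA y' l) (hc₀ ⟨y', hy'⟩)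
          refine ⟨P ''ᵁ W, ⟨z.1, hzW, rfl⟩, fun x hx => ?_, i, j, ⟨g ^ l * a, hmem _ _ _ ha⟩,
            ⟨g ^ k * c, hmem _ _ _ hc⟩, hcs, ?_, fun w hw => ?_⟩
          · obtain ⟨y', hy', rfl⟩ := hx
            exact iW.le hy'
          · rcases hij with hij | hb0
            · exact Or.inl hij
            · exact Or.inr (show g ^ l * a = 0 by rw [hzero hb0, mul_zero])
          · obtain ⟨y', hy', he⟩ := hw
            obtain rfl := hinjP he
            refine (hfrac ⟨w.1, hy'⟩).trans ?_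
            rw [GrTwist.locMap_mk, Localization.mk_eq_mk_iff, Localization.r_iff_exists]
            refine ⟨1, ?_⟩
            simp only [OneMemClass.coe_one, one_mul, map_mul, map_pow]
            rw [← haψ, ← hcψ]
            ring
        choose W hzW hWU i j a s hs hij hval using key
        have hfun : ∀ x : (U : (Proj 𝒜).Opens), ∃ q : GrTwist.twistAt 𝒜 n x.1, ∀ hq : ProjectiveSpectrum.comap ψ hψ (y x).1 = x.1,
            GrTwist.locMap ψ hψ (y x).1 (hq ▸ (q : GrTwist.Loc 𝒜 x.1)) = (t.1 (y x)).1 := by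
          intro x
          have hx : ProjectiveSpectrum.comap ψ hψ (y x).1 = x.1 := hy x
          obtain ⟨v, hv, hv'⟩ : ∃ v : GrTwist.Loc 𝒜 (ProjectiveSpectrum.comap ψ hψ (y x).1),
              v ∈ GrTwist.twistAt 𝒜 n _ ∧ GrTwist.locMap ψ hψ (y x).1 v = (t.1 (y x)).1 := by
            refine ⟨_, ?_, (hval (y x) (y x) (hzW (y x))).symm⟩
            rcases hij (y x) with h | h
            · exact Submodule.subset_span ⟨_, _, a (y x), s (y x), _, h, rfl⟩
            · rw [h, Localization.mk_zero]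
              exact zero_mem _
          generalize x.1 = x' at hx ⊢
          subst hx
          exact ⟨⟨v, hv⟩, fun _ => hv'⟩
        choose q hq using hfun
        have hq' : ∀ (x : (U : (Proj 𝒜).Opens)) (w : V) (hw : ProjectiveSpectrum.comap ψ hψ w.1 = x.1),
            GrTwist.locMap ψ hψ w.1 (hw ▸ (q x : GrTwist.Loc 𝒜 x.1)) = (t.1 w).1 := by
          intro x w hw
          obtain rfl : w = y x := Subtype.ext (hinjP (hw.trans (hy x).symm))
          exact hq x hw
        have hq'' : ∀ w : V, GrTwist.locMap ψ hψ w.1 (q ⟨ProjectiveSpectrum.comap ψ hψ w.1, w.2⟩).1 = (t.1 w).1 :=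
          fun w => hq' ⟨_, w.2⟩ w rfl
        refine ⟨(⟨q, fun x => ?_⟩ : GrTwist.sectN (𝒜 := 𝒜) n (op U)), Subtype.ext (funext fun w => Subtype.ext (hq'' w))⟩
        refine ⟨W (y x), hy x ▸ hzW (y x), homOfLE (hWU (y x)), i (y x), j (y x), a (y x), s (y x), hs (y x),
          hij (y x), fun z => ?_⟩
        obtain ⟨z, hz⟩ := z
        obtain ⟨w, rfl⟩ : ∃ w, ProjectiveSpectrum.comap ψ hψ w = z := hUP (hWU (y x) hz)
        refine (locMap_bijective ψ hψA hψ g w).1 ((hq'' ⟨w, hWU (y x) hz⟩).trans ?_)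
        exact hval (y x) ⟨w, hWU (y x) hz⟩ hz
    let φ := GrTwist.comap ψ hψ n
    let F := Scheme.Modules.restrictFunctor P
    haveI : ∀ W, IsIso ((F.map φ).mapPresheaf.app W) := fun W => by
      refine (ConcreteCategory.isIso_iff_bijective _).2 ?_
      exact hbijapp (P ''ᵁ W.unop) (by rintro _ ⟨y, -, rfl⟩; exact ⟨y, rfl⟩)
    haveI : IsIso (F.map φ).mapPresheaf := NatIso.isIso_of_isIso_app _
    haveI : IsIso ((Scheme.Modules.toPresheaf (Proj ℬ)).map (F.map φ)) :=
      inferInstanceAs (IsIso (F.map φ).mapPresheaf)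
    haveI : IsIso (F.map φ) := isIso_of_reflects_iso _ (Scheme.Modules.toPresheaf (Proj ℬ))
    haveI : IsIso ((Scheme.Modules.pullback P).map φ) :=
      (NatIso.isIso_map_iff (Scheme.Modules.restrictFunctorIsoPullback P) φ).1 inferInstance
    haveI : IsIso (Scheme.Modules.pullbackPushforwardAdjunction P).counit :=
      (Scheme.Modules.pullbackPushforwardAdjunction P).counit_isIso_of_R_fully_faithful
    rw [Adjunction.homEquiv_counit]
    infer_instance

end

end Groth.Agent.S9573
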