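import Groth.Statements.S9574
import Groth.Agent.S9572
import Groth.Agent.DCohLib.ClosedPush

set_option autoImplicit false
set_option backward.isDefEq.respectTransparency false
set_option maxHeartbeats 1000000
set_option linter.style.haveILetI false
universe u
open CategoryTheory CategoryTheory.Limits AlgebraicGeometry TopologicalSpace Opposite
open scoped HomogeneousIdeal
open Constr

namespace Groth.Agent.S9574

noncomputable section

section alg

variable {R A : Type u} [CommRing R] [CommRing A] [Algebra R A] {𝒜 : ℕ → Submodule R A} [GradedAlgebra 𝒜]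
  {B : Type u} [CommRing B] [Algebra R B] {ℬ : ℕ → Submodule R B} [GradedAlgebra ℬ] (ψ : 𝒜 →+*ᵍ ℬ)
  (d₀ : ℕ) (hbij : ∀ d : ℕ, d₀ ≤ d → Set.BijOn ψ (𝒜 d) (ℬ d))

include hbij in
theorem exists_preimage {e : ℕ} {h : A} (he : 0 < e) (hh : h ∈ 𝒜 e) (b : B) :
    ∃ a : A, ψ a = ψ h ^ d₀ * b := by
  classical
  rw [← DirectSum.sum_support_decompose ℬ b, Finset.mul_sum]
  refine Finset.sum_induction _ (fun z => ∃ a : A, ψ a = z) ?_ ⟨0, map_zero _⟩ fun i _ => ?_
  · rintro _ _ ⟨a, rfl⟩ ⟨b, rfl⟩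
    exact ⟨a + b, map_add _ _ _⟩
  · have hm : ψ h ^ d₀ * (DirectSum.decompose ℬ b i : B) ∈ ℬ (d₀ * e + i) :=
      SetLike.mul_mem_graded (by simpa using SetLike.pow_mem_graded d₀ (ψ.2 hh)) (SetLike.coe_mem _)
    obtain ⟨a, -, ha⟩ := (hbij _ (le_trans (Nat.le_mul_of_pos_right _ he) (Nat.le_add_right _ _))).surjOn hm
    exact ⟨a, ha⟩

include hbij in
theorem pow_mul_eq_zero {e : ℕ} {h : A} (he : 0 < e) (hh : h ∈ 𝒜 e) {c : A} (hc : ψ c = 0) :
    h ^ d₀ * c = 0 := by
  classical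
  rw [← DirectSum.sum_support_decompose 𝒜 c, Finset.mul_sum]
  refine Finset.sum_eq_zero fun i _ => ?_
  have hm : h ^ d₀ * (DirectSum.decompose 𝒜 c i : A) ∈ 𝒜 (d₀ * e + i) :=
    SetLike.mul_mem_graded (by simpa using SetLike.pow_mem_graded d₀ hh) (SetLike.coe_mem _)
  refine (hbij _ (le_trans (Nat.le_mul_of_pos_right _ he) (Nat.le_add_right _ _))).injOn hm (zero_mem _) ?_
  rw [map_mul, GradedRingHom.map_directSumDecompose, hc, DirectSum.decompose_zero, map_zero]
  simp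

variable (hψ : HomogeneousIdeal.irrelevant ℬ ≤ (HomogeneousIdeal.irrelevant 𝒜).map ψ)

include hbij in
theorem locMap_bijective (y : ProjectiveSpectrum ℬ) {e : ℕ} {h : A} (he : 0 < e) (hh : h ∈ 𝒜 e)
    (hy : ψ h ∉ y.asHomogeneousIdeal) : Function.Bijective (GrTwist.locMap ψ hψ y) := by
  have hpow : ∀ n : ℕ, ψ h ^ n ∈ y.asHomogeneousIdeal.toIdeal.primeCompl := fun n => pow_mem (show ψ h ∈ y.asHomogeneousIdeal.toIdeal.primeCompl from hy) n
  constructor
  · rw [injective_iff_map_eq_zero]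
    intro q hq
    induction q using Localization.induction_on with | H p => ?_
    obtain ⟨a, s⟩ := p
    rw [GrTwist.locMap_mk, Localization.mk_eq_mk', IsLocalization.mk'_eq_zero_iff] at hq
    obtain ⟨t, ht⟩ := hq
    obtain ⟨a', ha'⟩ := exists_preimage ψ d₀ hbij he hh (t : B)
    have hc : ψ (a' * a) = 0 := by
      rw [map_mul, ha', mul_assoc, ht, mul_zero]
    have h0 := pow_mul_eq_zero ψ d₀ hbij he hh hc
    rw [Localization.mk_eq_mk', IsLocalization.mk'_eq_zero_iff]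
    refine ⟨⟨h ^ d₀ * a', ?_⟩, by rw [mul_assoc]; exact h0⟩
    show ψ (h ^ d₀ * a') ∉ y.asHomogeneousIdeal
    rw [map_mul, map_pow, ha', ← mul_assoc, ← pow_add]
    exact Submonoid.mul_mem _ (hpow _) t.2
  · intro q
    induction q using Localization.induction_on with | H p => ?_
    obtain ⟨b, t⟩ := p
    obtain ⟨a, ha⟩ := exists_preimage ψ d₀ hbij he hh b
    obtain ⟨c, hc⟩ := exists_preimage ψ d₀ hbij he hh (t : B)
    have hcx : c ∈ (ProjectiveSpectrum.comap ψ hψ y).asHomogeneousIdeal.toIdeal.primeCompl := by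
      show ψ c ∉ y.asHomogeneousIdeal
      rw [hc]
      exact Submonoid.mul_mem _ (hpow _) t.2
    refine ⟨Localization.mk a ⟨c, hcx⟩, ?_⟩
    rw [GrTwist.locMap_mk, Localization.mk_eq_mk_iff, Localization.r_iff_exists]
    refine ⟨1, ?_⟩
    simp only [OneMemClass.coe_one, one_mul]
    rw [ha, hc]
    ring

end alg

/-- Let ψ : A → B be a homomorphism of graded rings such that A_d → B_d is bijective for all d ≥ d₀, so
that the induced morphism r_ψ : Proj B → Proj A is everywhere defined and an isomorphism. Then for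
every integer n the canonical map θ : r_ψ^* O_{Proj A}(n) → O_{Proj B}(n), adjoint to the map
O_{Proj A}(n) → (r_ψ)_* O_{Proj B}(n) sending a/f to ψ(a)/ψ(f), is an isomorphism. (This row assumes
in addition that B_+ lies in the ideal generated by ψ(A_+), under which the induced morphism is
defined by the graded homomorphism on all of Proj B; the published statement assumes only the
eventual bijectivity, so it also covers maps such as the inclusion of k ⊕ x²k[x] in k[x], which this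
row excludes.) -/
theorem result {R A : Type u} [CommRing R] [CommRing A] [Algebra R A] (𝒜 : ℕ → Submodule R A) [GradedAlgebra 𝒜]
    {B : Type u} [CommRing B] [Algebra R B] (ℬ : ℕ → Submodule R B) [GradedAlgebra ℬ] (ψ : 𝒜 →+*ᵍ ℬ)
    (d₀ : ℕ) (hbij : ∀ d : ℕ, d₀ ≤ d → Set.BijOn ψ (𝒜 d) (ℬ d))
    (hψ : HomogeneousIdeal.irrelevant ℬ ≤ (HomogeneousIdeal.irrelevant 𝒜).map ψ) (n : ℤ) :
    IsIso (((Scheme.Modules.pullbackPushforwardAdjunction (Proj.map ψ hψ)).homEquiv _ _).symm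
      (GrTwist.comap ψ hψ n)) := by
  classical
  let P := Proj.map ψ hψ
  have hr : ∀ (d : ℕ) (f : A) (hd : 0 < d) (hf : f ∈ 𝒜 d),
      PCone.chart ψ hf hd ≫ ((PCone.dom ψ).ι ≫ P) =
        Spec.map (CommRingCat.ofHom (HomogeneousLocalization.Away.map ψ f)) ≫ Proj.awayι 𝒜 f hf hd := by
    intro d f hd hf
    rw [← Category.assoc, PCone.chart, IsOpenImmersion.lift_fac]
    exact Proj.awayι_comp_map ψ hψ hd f hf
  obtain ⟨hdom, hiso⟩ := Groth.Agent.S9572.result 𝒜 ℬ ψ d₀ hbij ((PCone.dom ψ).ι ≫ P) hr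
  haveI := hiso
  haveI : IsIso (PCone.dom ψ).ι := by
    rw [hdom]
    exact inferInstanceAs (IsIso (Proj ℬ).topIso.hom)
  haveI : IsIso P := IsIso.of_isIso_comp_left (PCone.dom ψ).ι P
  have hgood : ∀ y : ProjectiveSpectrum ℬ, ∃ (e : ℕ) (h : A), 0 < e ∧ h ∈ 𝒜 e ∧ ψ h ∉ y.asHomogeneousIdeal := fun y => by
    obtain ⟨⟨h, e, he, hh⟩, hy⟩ := Opens.mem_iSup.mp (hdom.ge (show y ∈ (⊤ : (Proj ℬ).Opens) from trivial))
    exact ⟨e, h, he, hh, hy⟩
  have hloc : ∀ y : ProjectiveSpectrum ℬ, Function.Bijective (GrTwist.locMap ψ hψ y) := fun y => by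
    obtain ⟨e, h, he, hh, hy⟩ := hgood y
    exact locMap_bijective ψ d₀ hbij hψ y he hh hy
  let PI := inv P
  have hPI : ∀ x : Proj 𝒜, P (PI x) = x := fun x => by
    rw [← Scheme.Hom.comp_apply, IsIso.inv_hom_id]
    rfl
  have hIP : ∀ y : Proj ℬ, PI (P y) = y := fun y => by
    rw [← Scheme.Hom.comp_apply, IsIso.hom_inv_id]
    rfl
  have hbijapp : ∀ U : (Proj 𝒜).Opens, Function.Bijective ((GrTwist.comap ψ hψ n).app U) := by
    intro U
    let V : (Proj ℬ).Opens := P ⁻¹ᵁ U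
    let y : ∀ x : (U : (Proj 𝒜).Opens), V := fun x => ⟨PI x.1, show P (PI x.1) ∈ U from (hPI x.1).symm ▸ x.2⟩
    constructor
    · intro (s₁ : GrTwist.sectN (𝒜 := 𝒜) n (op U)) (s₂ : GrTwist.sectN (𝒜 := 𝒜) n (op U)) h
      refine Subtype.ext (funext fun x => Subtype.ext ?_)
      have hx : (⟨ProjectiveSpectrum.comap ψ hψ (y x).1, (y x).2⟩ : (U : (Proj 𝒜).Opens)) = x :=
        Subtype.ext (hPI x.1)
      rw [← hx]
      refine (hloc (y x).1).1 ?_
      exact (GrTwist.comap_app_val ψ hψ n U s₁ (y x)).symm.trans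
        ((congrArg (fun t : GrTwist.sectN (𝒜 := ℬ) n (op V) => ((t.1 (y x) : _) : GrTwist.Loc ℬ (y x).1)) h).trans
          (GrTwist.comap_app_val ψ hψ n U s₂ (y x)))
    · intro (t : GrTwist.sectN (𝒜 := ℬ) n (op V))
      -- local fractions
      have key : ∀ z : V, ∃ (W : (Proj 𝒜).Opens), ProjectiveSpectrum.comap ψ hψ z.1 ∈ W ∧ W ≤ U ∧
          ∃ (i j : ℕ) (a : 𝒜 i) (s : 𝒜 j) (hs : ∀ x : W, (s : A) ∉ x.1.asHomogeneousIdeal),
            ((i : ℤ) = j + n ∨ (a : A) = 0) ∧ ∀ w : V, ∀ hw : ProjectiveSpectrum.comap ψ hψ w.1 ∈ W,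
              (t.1 w).1 = GrTwist.locMap ψ hψ w.1 (Localization.mk (a : A) ⟨s, hs ⟨_, hw⟩⟩) := by
        intro z
        obtain ⟨W, hzW, iW, i, j, b, g, hg, hij, hfrac⟩ := t.2 z
        obtain ⟨e, h, he, hh, hy⟩ := hgood z.1
        let W₁ : (Proj ℬ).Opens := W ⊓ Proj.basicOpen ℬ (ψ h)
        let N := d₀ + 1
        have hN : d₀ ≤ N * e := le_trans (Nat.le_succ _) (Nat.le_mul_of_pos_right _ he)
        have hb' : ψ h ^ N * (b : B) ∈ ℬ (N * e + i) :=
          SetLike.mul_mem_graded (by simpa using SetLike.pow_mem_graded N (ψ.2 hh)) b.2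
        have hg' : ψ h ^ N * (g : B) ∈ ℬ (N * e + j) :=
          SetLike.mul_mem_graded (by simpa using SetLike.pow_mem_graded N (ψ.2 hh)) g.2
        obtain ⟨a, ha, haψ⟩ := (hbij _ (le_trans hN (Nat.le_add_right _ i))).surjOn hb'
        obtain ⟨c, hc, hcψ⟩ := (hbij _ (le_trans hN (Nat.le_add_right _ j))).surjOn hg'
        let W' : (Proj 𝒜).Opens := PI ⁻¹ᵁ W₁
        have hW'mem : ∀ x : W', PI x.1 ∈ W₁ := fun x => x.2
        have hcs : ∀ x : W', c ∉ x.1.asHomogeneousIdeal := fun x hx => by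
          have hx' : c ∈ (ProjectiveSpectrum.comap ψ hψ (PI x.1)).asHomogeneousIdeal := (hPI x.1).symm ▸ hx
          have h2 : ψ c ∈ (PI x.1).asHomogeneousIdeal := hx'
          rw [hcψ] at h2
          refine ((PI x.1).isPrime.mem_or_mem h2).elim (fun h3 => (hW'mem x).2 ((PI x.1).isPrime.mem_of_pow_mem _ h3))
            (hg ⟨PI x.1, (hW'mem x).1⟩)
        refine ⟨W', ?_, fun x hx => ?_, N * e + i, N * e + j, ⟨a, ha⟩, ⟨c, hc⟩, hcs, ?_, fun w hw => ?_⟩
        · show PI (P z.1) ∈ W₁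
          rw [hIP]
          exact ⟨hzW, hy⟩
        · have := iW.le (show PI x ∈ W from (show PI x ∈ W₁ from hx).1)
          exact hPI x ▸ this
        · rcases hij with hij | hb0
          · exact Or.inl (by push_cast; omega)
          · refine Or.inr ((hbij _ (le_trans hN (Nat.le_add_right _ i))).injOn ha (zero_mem _) ?_)
            rw [haψ, hb0, mul_zero, map_zero]
        · have hwW : w.1 ∈ W₁ := hIP w.1 ▸ hw
          refine (hfrac ⟨w.1, hwW.1⟩).trans ?_
          rw [GrTwist.locMap_mk, Localization.mk_eq_mk_iff, Localization.r_iff_exists]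
          refine ⟨1, ?_⟩
          simp only [OneMemClass.coe_one, one_mul]
          rw [haψ, hcψ]
          ring
      choose W hzW hWU i j a s hs hij hval using key
      have hfun : ∀ x : (U : (Proj 𝒜).Opens), ∃ q : GrTwist.twistAt 𝒜 n x.1, ∀ hq : ProjectiveSpectrum.comap ψ hψ (y x).1 = x.1,
          GrTwist.locMap ψ hψ (y x).1 (hq ▸ (q : GrTwist.Loc 𝒜 x.1)) = (t.1 (y x)).1 := by
        intro x
        have hx : ProjectiveSpectrum.comap ψ hψ (y x).1 = x.1 := hPI x.1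
        obtain ⟨v, hv, hv'⟩ : ∃ v : GrTwist.Loc 𝒜 (ProjectiveSpectrum.comap ψ hψ (y x).1),
            v ∈ GrTwist.twistAt 𝒜 n _ ∧ GrTwist.locMap ψ hψ (y x).1 v = (t.1 (y x)).1 := by
          refine ⟨_, ?_, (hval (y x) (y x) (hzW (y x))).symm⟩
          rcases hij (y x) with h | h
          · exact Submodule.subset_span ⟨_, _, a (y x), s (y x), _, h, rfl⟩
          · rw [h, Localization.mk_zero]
            exact zero_mem _
        generalize x.1 = x' at hx ⊢
        subst hx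
        exact ⟨⟨v, hv⟩, fun _ => hv'⟩
      choose q hq using hfun
      have hq' : ∀ (x : (U : (Proj 𝒜).Opens)) (w : V) (hw : ProjectiveSpectrum.comap ψ hψ w.1 = x.1),
          GrTwist.locMap ψ hψ w.1 (hw ▸ (q x : GrTwist.Loc 𝒜 x.1)) = (t.1 w).1 := by
        intro x w hw
        obtain rfl : w = y x := Subtype.ext ((hIP w.1).symm.trans (congrArg (fun p => PI p) hw))
        exact hq x hw
      have hq'' : ∀ w : V, GrTwist.locMap ψ hψ w.1 (q ⟨ProjectiveSpectrum.comap ψ hψ w.1, w.2⟩).1 = (t.1 w).1 :=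
        fun w => hq' ⟨_, w.2⟩ w rfl
      refine ⟨(⟨q, fun x => ?_⟩ : GrTwist.sectN (𝒜 := 𝒜) n (op U)), Subtype.ext (funext fun w => Subtype.ext (hq'' w))⟩
      refine ⟨W (y x), hPI x.1 ▸ hzW (y x), homOfLE (hWU (y x)), i (y x), j (y x), a (y x), s (y x), hs (y x),
        hij (y x), fun z => ?_⟩
      obtain ⟨z, hz⟩ := z
      obtain ⟨w, rfl⟩ : ∃ w, ProjectiveSpectrum.comap ψ hψ w = z := ⟨PI z, hPI z⟩
      refine (hloc w).1 ((hq'' ⟨w, hWU (y x) hz⟩).trans ?_)
      exact hval (y x) ⟨w, hWU (y x) hz⟩ hz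
  haveI : ∀ U : (Proj 𝒜).Opens, IsIso ((GrTwist.comap ψ hψ n).app U) := fun U =>
    (ConcreteCategory.isIso_iff_bijective _).2 (hbijapp U)
  haveI : IsIso (GrTwist.comap ψ hψ n).mapPresheaf := by
    haveI : ∀ U, IsIso ((GrTwist.comap ψ hψ n).mapPresheaf.app U) := fun U =>
      inferInstanceAs (IsIso ((GrTwist.comap ψ hψ n).app U.unop))
    exact NatIso.isIso_of_isIso_app _
  haveI : IsIso ((Scheme.Modules.toPresheaf (Proj 𝒜)).map (GrTwist.comap ψ hψ n)) :=
    inferInstanceAs (IsIso (GrTwist.comap ψ hψ n).mapPresheaf)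
  haveI : IsIso (GrTwist.comap ψ hψ n) := isIso_of_reflects_iso _ (Scheme.Modules.toPresheaf (Proj 𝒜))
  haveI := Groth.Agent.DCohLib.isIso_counit_closedImmersion P (GrTwist.twist ℬ n)
  rw [Adjunction.homEquiv_counit]
  infer_instance

end

end Groth.Agent.S9574
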