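import Groth.Statements.S9575
import Groth.Agent.ProjTwistLib.Ample


set_option autoImplicit false
universe u
open CategoryTheory CategoryTheory.Limits AlgebraicGeometry TopologicalSpace Opposite
open Constr

namespace Groth.Agent.S9575

open CategoryTheory CategoryTheory.Limits AlgebraicGeometry

open CategoryTheory CategoryTheory.Limits AlgebraicGeometry

/-- Let S be a graded ring, X = Proj S, d ≥ 1, and a, b homogeneous elements with deg a = deg b + d.
Then for every integer n the restriction of the twisting sheaf O_X(nd) to the standard open D_+(ab)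
is isomorphic to the structure sheaf of D_+(ab): it is free of rank one, generated by the section
(a/b)^n. (This is the invertibility half of the fact that D_+(ab) lies in the open W_d where the
O_X(nd) are invertible with compatible multiplications; existence of an isomorphism only. The
compatibility of the multiplication maps O_X(nd) ⊗ O_X(md) → O_X(nd+md) on this open, and the
converse statement that the largest such open is the union of the D_+(ab), are not stated here.) -/
theorem result {R A : Type u} [CommRing R] [CommRing A] [Algebra R A] (𝒜 : ℕ → Submodule R A) [GradedAlgebra 𝒜]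
    {d : ℕ} (hd : 0 < d) {i j : ℕ} {a b : A} (ha : a ∈ 𝒜 i) (hb : b ∈ 𝒜 j) (hij : i = j + d) (n : ℤ) :
    Nonempty ((Twist.twist 𝒜 (n * d)).restrict (Proj.basicOpen 𝒜 (a * b)).ι ≅
      Coh.structureModule ↑(Proj.basicOpen 𝒜 (a * b))) := by
  have key : ∀ (x : A) (k : ℕ), (Proj.basicOpen 𝒜 (a * b)) ≤ Proj.basicOpen 𝒜 x →
      Proj.basicOpen 𝒜 (a * b) ≤ Proj.basicOpen 𝒜 (x ^ k) := fun x k h => by
    rcases Nat.eq_zero_or_pos k with rfl | hk
    · simp
    · rwa [Proj.basicOpen_pow _ _ _ hk]
  have hA : Proj.basicOpen 𝒜 (a * b) ≤ Proj.basicOpen 𝒜 a := by rw [Proj.basicOpen_mul]; exact inf_le_left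
  have hB : Proj.basicOpen 𝒜 (a * b) ≤ Proj.basicOpen 𝒜 b := by rw [Proj.basicOpen_mul]; exact inf_le_right
  obtain ⟨m, rfl | rfl⟩ := n.eq_nat_or_neg
  · exact Groth.Agent.ParaFLib.nonempty_iso_of_gen
      (Groth.Agent.ProjTwistLib.gen_frac ⟨a ^ m, SetLike.pow_mem_graded m ha⟩
        ⟨b ^ m, SetLike.pow_mem_graded m hb⟩ ((m : ℤ) * d) (by subst hij; push_cast [smul_eq_mul]; ring)
        (V := Proj.basicOpen 𝒜 (a * b)) (key b m hB) (key a m hA))
  · exact Groth.Agent.ParaFLib.nonempty_iso_of_gen
      (Groth.Agent.ProjTwistLib.gen_frac ⟨b ^ m, SetLike.pow_mem_graded m hb⟩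
        ⟨a ^ m, SetLike.pow_mem_graded m ha⟩ (-(m : ℤ) * d) (by subst hij; push_cast [smul_eq_mul]; ring)
        (V := Proj.basicOpen 𝒜 (a * b)) (key a m hA) (key b m hB))


end Groth.Agent.S9575
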