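import Groth.Statements.S9576
import Mathlib

set_option autoImplicit false
set_option backward.isDefEq.respectTransparency false
universe u
open CategoryTheory CategoryTheory.Limits AlgebraicGeometry TopologicalSpace Opposite
open Constr

namespace Groth.Agent.S9576

open MvPolynomial in
theorem eval₂_mul_pow {σ R S : Type*} [Fintype σ] [CommRing R] [CommRing S] (φ : MvPolynomial σ R →+* S)
    (f : σ → S) (c : S) (hf : ∀ j, φ (X j) = f j * c) {b : MvPolynomial σ R} {k : ℕ} (hb : b.IsHomogeneous k) :
    φ b = eval₂ (φ.comp C) f b * c ^ k := by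
  have h : φ = eval₂Hom (φ.comp C) (fun j => f j * c) := by
    refine MvPolynomial.ringHom_ext (fun r => ?_) (fun j => ?_) <;> simp [hf]
  conv_lhs => rw [h]
  rw [coe_eval₂Hom, eval₂_eq', eval₂_eq', Finset.sum_mul]
  refine Finset.sum_congr rfl fun d hd => ?_
  rw [mul_assoc]
  congr 1
  have hk : ∑ i, d i = k := by
    rw [hb.degree_eq_sum_deg_support hd]
    exact (Finset.sum_subset (Finset.subset_univ _) fun i _ hi => Finsupp.notMem_support_iff.1 hi).symm
  simp only [mul_pow, Finset.prod_mul_distrib, Finset.prod_pow_eq_pow_sum, hk]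


/-- For a ring R and n ≥ 0, projective n-space Proj R[T_0, …, T_n] is covered by the n + 1 standard
opens D_+(T_i), and each D_+(T_i) = Spec R[T_0, …, T_n]_(T_i) is an affine n-space: the ring
homomorphism from the polynomial ring over R in the variables T_j, j ≠ i, to the degree-zero
localization R[T_0, …, T_n]_(T_i), sending T_j to T_j/T_i and a constant r to r/1, is bijective.
(The published statement is over ℤ; this row is over any ring R.) -/
theorem result (n : ℕ) (R : Type u) [CommRing R] :
    (⨆ i : Fin (n + 1), Proj.basicOpen (CohB1.polyGrading n R) (MvPolynomial.X i)) = ⊤ ∧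
      ∀ i : Fin (n + 1), Function.Bijective
        (MvPolynomial.eval₂Hom
          ((HomogeneousLocalization.fromZeroRingHom (CohB1.polyGrading n R) (Submonoid.powers (MvPolynomial.X i))).comp
            (algebraMap R (CohB1.polyGrading n R 0)))
          (fun j : {j : Fin (n + 1) // j ≠ i} =>
            (HomogeneousLocalization.mk ⟨1, ⟨MvPolynomial.X j.1, MvPolynomial.isHomogeneous_X R j.1⟩,
              ⟨MvPolynomial.X i, MvPolynomial.isHomogeneous_X R i⟩, ⟨1, pow_one _⟩⟩ :
              HomogeneousLocalization.Away (CohB1.polyGrading n R) (MvPolynomial.X i)))) := by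
  classical
  open MvPolynomial HomogeneousLocalization in
  refine ⟨Proj.iSup_basicOpen_eq_top' (CohB1.polyGrading n R) _ (fun i => ⟨1, isHomogeneous_X R i⟩) ?_, fun i => ?_⟩
  · rw [eq_top_iff]
    rintro b -
    induction b using MvPolynomial.induction_on with
    | C r =>
      exact Subalgebra.algebraMap_mem _ (⟨C r, isHomogeneous_C _ r⟩ : CohB1.polyGrading n R 0)
    | add a b ha hb => exact add_mem ha hb
    | mul_X a j ha => exact mul_mem ha (Algebra.subset_adjoin ⟨j, rfl⟩)
  · let 𝒜 := CohB1.polyGrading n R
    let S := Localization.Away (X i : MvPolynomial (Fin (n + 1)) R)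
    let Φ : MvPolynomial (Fin (n + 1)) R →+* S := algebraMap _ _
    let T : {j : Fin (n + 1) // j ≠ i} → HomogeneousLocalization.Away 𝒜 (X i) := fun j =>
      HomogeneousLocalization.mk ⟨1, ⟨X j.1, isHomogeneous_X R j.1⟩, ⟨X i, isHomogeneous_X R i⟩, ⟨1, pow_one _⟩⟩
    let ψ := eval₂Hom ((fromZeroRingHom 𝒜 (Submonoid.powers (X i : MvPolynomial (Fin (n + 1)) R))).comp (algebraMap R (𝒜 0))) T
    show Function.Bijective ψ
    let v : HomogeneousLocalization.Away 𝒜 (X i) →+* S := algebraMap _ _
    have hv : ∀ a, v a = a.val := fun _ => rfl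
    have hψC : ∀ r, v (ψ (C r)) = Φ (C r) := fun r => by
      rw [hv, coe_eval₂Hom, eval₂_C]
      exact (val_mk _).trans (Localization.mk_one_eq_algebraMap _)
    have hψX : ∀ j : {j : Fin (n + 1) // j ≠ i}, v (ψ (X j)) * Φ (X i) = Φ (X j.1) := fun j => by
      rw [hv, coe_eval₂Hom, eval₂_X, val_mk, ← Localization.mk_one_eq_algebraMap, ← Localization.mk_one_eq_algebraMap,
        Localization.mk_mul, Localization.mk_eq_mk_iff, Localization.r_iff_exists]
      exact ⟨1, by simp [mul_comm]⟩
    let sub : Fin (n + 1) → MvPolynomial {j : Fin (n + 1) // j ≠ i} R := fun j => if h : j = i then 1 else X ⟨j, h⟩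
    let g : MvPolynomial (Fin (n + 1)) R →+* MvPolynomial {j : Fin (n + 1) // j ≠ i} R := (aeval sub).toRingHom
    have hgX : g (X i) = 1 := by simp [g, sub]
    have hu : IsUnit (g (X i)) := by rw [hgX]; exact isUnit_one
    let L : HomogeneousLocalization.Away 𝒜 (X i) →+* MvPolynomial {j : Fin (n + 1) // j ≠ i} R :=
      (IsLocalization.Away.lift (S := S) (X i) (g := g) hu).comp v
    have hL : L.comp ψ = RingHom.id _ := by
      refine MvPolynomial.ringHom_ext (fun r => ?_) (fun j => ?_)
      · simp only [L, RingHom.comp_apply, hψC]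
        rw [IsLocalization.Away.lift_eq]
        simp [g]
      · have h := congrArg (IsLocalization.Away.lift (S := S) (X i) (g := g) hu) (hψX j)
        rw [map_mul, IsLocalization.Away.lift_eq, IsLocalization.Away.lift_eq, hgX, mul_one] at h
        simp only [L, RingHom.comp_apply, RingHom.id_apply]
        rw [h]
        simp [g, sub, j.2]
    refine ⟨Function.LeftInverse.injective (g := L) fun z => RingHom.congr_fun hL z, fun a => ?_⟩
    obtain ⟨k, b, hb, rfl⟩ := HomogeneousLocalization.Away.mk_surjective 𝒜 (isHomogeneous_X R i) a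
    rw [smul_eq_mul, mul_one] at hb
    refine ⟨g b, HomogeneousLocalization.val_injective _ ?_⟩
    have hhom : (v.comp (ψ.comp g)) b = eval₂ (Φ.comp C) (fun j => v (ψ (sub j))) b := by
      rw [← coe_eval₂Hom]
      refine RingHom.congr_fun (MvPolynomial.ringHom_ext (fun r => ?_) (fun j => ?_)) b
      · simp only [RingHom.comp_apply, coe_eval₂Hom, eval₂_C]
        rw [show g (C r) = C r by simp [g], hψC]
      · simp only [RingHom.comp_apply, coe_eval₂Hom, eval₂_X]
        rw [show g (X j) = sub j by simp [g]]
    have hf : ∀ j, Φ (X j) = v (ψ (sub j)) * Φ (X i) := fun j => by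
      by_cases h : j = i
      · subst h
        simp [sub]
      · rw [show sub j = X ⟨j, h⟩ from dif_neg h]
        exact (hψX ⟨j, h⟩).symm
    have h1 := eval₂_mul_pow Φ _ (Φ (X i)) hf (mem_homogeneousSubmodule k b |>.1 hb)
    rw [← hv, show v (ψ (g b)) = eval₂ (Φ.comp C) (fun j => v (ψ (sub j))) b from hhom,
      HomogeneousLocalization.Away.val_mk]
    refine ((IsLocalization.Away.algebraMap_isUnit (S := S) (X i : MvPolynomial (Fin (n + 1)) R)).pow k).mul_left_injective ?_
    show _ * Φ (X i) ^ k = _ * Φ (X i) ^ k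
    rw [← h1, ← map_pow, show Φ (X i ^ k) = Localization.mk (X i ^ k) 1 from (Localization.mk_one_eq_algebraMap _).symm,
      show Φ b = Localization.mk b 1 from (Localization.mk_one_eq_algebraMap _).symm,
      Localization.mk_mul, Localization.mk_eq_mk_iff, Localization.r_iff_exists]
    exact ⟨1, by simp [mul_comm]⟩

end Groth.Agent.S9576
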