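import Groth.Statements.S9578
import Groth.Agent.GrTildeLib.Tensor
import Groth.Agent.ProjTwistLib.Ample
-- import your own Groth.Agent.* helpers here

set_option autoImplicit false
universe u
open CategoryTheory CategoryTheory.Limits AlgebraicGeometry TopologicalSpace Opposite
open Constr

namespace Groth.Agent.S9578

section
open CategoryTheory AlgebraicGeometry TopologicalSpace Opposite
open Groth.Agent Groth.Agent.PullbackMod Groth.Agent.DCohLib Groth.Agent.ParaFLib Groth.Agent.AmpleLib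

set_option backward.isDefEq.respectTransparency false
set_option linter.style.haveILetI false

theorem main {R A : Type u} [CommRing R] [CommRing A] [Algebra R A] (𝒜 : ℕ → Submodule R A) [GradedAlgebra 𝒜]
    {M : Type u} [AddCommGroup M] [Module R M] [Module A M] [IsScalarTower R A M] (ℳ : ℕ → Submodule R M)
    [DirectSum.Decomposition ℳ] [SetLike.GradedSMul 𝒜 ℳ]
    {d : ℕ} (hd : 0 < d) (n : ℤ) :
    Nonempty ((Twist.twistBy 𝒜 (GrTilde.tilde 𝒜 ℳ 0) (n * d)).restrict
        (⨆ (j : ℕ) (a : 𝒜 (j + d)) (b : 𝒜 j), Proj.basicOpen 𝒜 ((a : A) * b)).ι ≅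
      (GrTilde.tilde 𝒜 ℳ (n * d)).restrict
        (⨆ (j : ℕ) (a : 𝒜 (j + d)) (b : 𝒜 j), Proj.basicOpen 𝒜 ((a : A) * b)).ι) := by
  set Y : (Proj 𝒜).Opens := ⨆ (j : ℕ) (a : 𝒜 (j + d)) (b : 𝒜 j), Proj.basicOpen 𝒜 ((a : A) * b) with hY
  have hu : ∀ x ∈ Y, ProjTwistLib.HasUnit 𝒜 (n * d) x := by
    intro x hx
    rw [hY] at hx
    obtain ⟨j, hx⟩ := Opens.mem_iSup.1 hx
    obtain ⟨a, hx⟩ := Opens.mem_iSup.1 hx
    obtain ⟨b, hx⟩ := Opens.mem_iSup.1 hx
    rw [Proj.basicOpen_mul] at hx
    exact (ProjTwistLib.HasUnit.zmul (d := (d : ℤ)) ⟨j + d, j, a, b, by push_cast; ring, hx.1, hx.2⟩) n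
  let φ := (GrTildeLib.actPairing 𝒜 ℳ (n * d) 0 (n * d) (add_zero _)).lift
  haveI : IsIso ((Scheme.Modules.restrictFunctor Y.ι).map φ) := by
    rw [Scheme.Modules.Hom.isIso_iff_isIso_app]
    intro a
    rw [ConcreteCategory.isIso_iff_bijective]
    exact ProjCoh.app_bijective_of_stalk φ (U := Y) (fun x hx => GrTildeLib.bijective_stalk_act _ (hu x hx))
      ((Y.ι.image_mono le_top).trans Y.ι_image_top.le)
  exact ⟨(Scheme.Modules.restrictFunctor Y.ι).mapIso (AmpleLib.comm (GrTilde.tilde 𝒜 ℳ 0) (Twist.twist 𝒜 (n * d))) ≪≫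
    asIso ((Scheme.Modules.restrictFunctor Y.ι).map φ)⟩

end

/-- Let S be a graded ring, M a graded S-module (graded in non-negative degrees here), X = Proj S and d
≥ 1; let W_d ⊆ X be the union of the standard opens D_+(ab) over the pairs of homogeneous elements
a, b with deg a = deg b + d (the open over which the twisting sheaves O_X(nd) are invertible with
compatible multiplications). Then for every integer n the restrictions to W_d of M~(nd) = M~ ⊗
O_X(nd) and of M(nd)~, the module attached to the shifted module, are isomorphic. (Existence of an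
isomorphism only; in the published statement it is the canonical multiplication map M~ ⊗ O_X(nd) →
M(nd)~ that restricts to an isomorphism over W_d. That W_d is the largest open over which the
O_X(nd) are invertible with compatible multiplications is not stated here.) -/
theorem result {R A : Type u} [CommRing R] [CommRing A] [Algebra R A] (𝒜 : ℕ → Submodule R A) [GradedAlgebra 𝒜]
    {M : Type u} [AddCommGroup M] [Module R M] [Module A M] [IsScalarTower R A M] (ℳ : ℕ → Submodule R M)
    [DirectSum.Decomposition ℳ] [SetLike.GradedSMul 𝒜 ℳ]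
    {d : ℕ} (hd : 0 < d) (n : ℤ) :
    Nonempty ((Twist.twistBy 𝒜 (GrTilde.tilde 𝒜 ℳ 0) (n * d)).restrict
        (⨆ (j : ℕ) (a : 𝒜 (j + d)) (b : 𝒜 j), Proj.basicOpen 𝒜 ((a : A) * b)).ι ≅
      (GrTilde.tilde 𝒜 ℳ (n * d)).restrict
        (⨆ (j : ℕ) (a : 𝒜 (j + d)) (b : 𝒜 j), Proj.basicOpen 𝒜 ((a : A) * b)).ι) := by
  exact main 𝒜 ℳ hd n

end Groth.Agent.S9578
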