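import Groth.Statements.S9581
import Mathlib
import Groth.Agent.WeakAssLib.Basic

set_option autoImplicit false
universe u
open CAlg

namespace Groth.Agent.S9581
open Groth.Agent.WeakAssLib

/-- (1) ⇔ (3): for a ring R, an R-module M and a prime p of R, the prime p is weakly associated to M
(minimal among the primes containing the annihilator of some element of M) if and only if the
localization M_p contains an element whose annihilator in R_p has radical equal to the maximal ideal
p R_p. -/
theorem result {R : Type u} [CommRing R] (M : Type u) [AddCommGroup M] [Module R M] (p : Ideal R) [p.IsPrime] :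
    p ∈ FlatCA.weakAss R M ↔ IsAssociatedPrime (IsLocalRing.maximalIdeal (Localization.AtPrime p)) (LocalizedModule p.primeCompl M) := by
  have hd : Disjoint (p.primeCompl : Set R) (p : Set R) := Set.disjoint_left.2 fun x hx hxp ↦ hx hxp
  have hc : (IsLocalRing.maximalIdeal (Localization.AtPrime p)).comap
      (algebraMap R (Localization.AtPrime p)) = p := Localization.AtPrime.comap_maximalIdeal
  have key : ∀ y : LocalizedModule p.primeCompl M,
      Wit p y ↔ Wit (IsLocalRing.maximalIdeal (Localization.AtPrime p)) y := fun y ↦ by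
    have h := wit_comap_iff (R := R) (IsLocalRing.maximalIdeal (Localization.AtPrime p))
      (localization_gen p.primeCompl) y
    rwa [hc] at h
  rw [← mem_weakAss_localized_iff p.primeCompl hd, mem_weakAss]
  refine ⟨fun ⟨_, y, hy⟩ ↦ ⟨inferInstance, y, le_antisymm (fun x hx ↦ ?_) (fun x hx ↦ ?_)⟩,
    fun ⟨_, y, hy⟩ ↦ ⟨inferInstance, y, (key y).2 ⟨fun a ha ↦ ?_, fun x hx ↦ ?_⟩⟩⟩
  · obtain ⟨s, hs, n, hn⟩ := ((key y).1 hy).pow x hx
    refine ⟨n, Submodule.mem_colon_singleton.2 ((Submodule.mem_bot _).2 ?_)⟩
    rw [mul_smul] at hn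
    exact (IsLocalRing.notMem_maximalIdeal.1 hs).smul_eq_zero.1 hn
  · obtain ⟨n, hn⟩ := hx
    exact (IsLocalRing.maximalIdeal.isMaximal _).isPrime.mem_of_pow_mem n
      (((key y).1 hy).le _ ((Submodule.mem_bot _).1 (Submodule.mem_colon_singleton.1 hn)))
  · rw [hy]
    exact Ideal.le_radical (Submodule.mem_colon_singleton.2 ((Submodule.mem_bot _).2 ha))
  · rw [hy] at hx
    obtain ⟨n, hn⟩ := hx
    refine ⟨1, fun h ↦ IsLocalRing.maximalIdeal.isMaximal _ |>.ne_top ((Ideal.eq_top_iff_one _).2 h),
      n, ?_⟩
    rw [one_mul]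
    exact (Submodule.mem_bot _).1 (Submodule.mem_colon_singleton.1 hn)

end Groth.Agent.S9581
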