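import Groth.Statements.S9587
import Groth.Agent.WeakAssLib.Basic

set_option autoImplicit false
universe u
open CAlg

namespace Groth.Agent.S9587
open Groth.Agent.WeakAssLib

/-- For a ring R, an ideal I of R and an R/I-module M, regarded as an R-module through R → R/I, the
primes of R weakly associated to M are exactly the inverse images of the primes of R/I weakly
associated to M. -/
theorem result {R : Type u} [CommRing R] (I : Ideal R) (M : Type u) [AddCommGroup M] [Module (R ⧸ I) M] [Module R M] [IsScalarTower R (R ⧸ I) M] :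
    FlatCA.weakAss R M = Ideal.comap (Ideal.Quotient.mk I) '' FlatCA.weakAss (R ⧸ I) M := by
  have hgen : ∀ a : R ⧸ I, ∃ (r : R) (u : (R ⧸ I)ˣ), a = algebraMap R (R ⧸ I) r * u := fun a ↦ by
    obtain ⟨r, rfl⟩ := Ideal.Quotient.mk_surjective a
    exact ⟨r, 1, by simp⟩
  ext p
  constructor
  · intro hp
    obtain ⟨hpp, y, hy⟩ := mem_weakAss.1 hp
    have hI : I ≤ p := fun i hi ↦ hy.le i (by
      rw [← algebraMap_smul (R ⧸ I) i y, Ideal.Quotient.algebraMap_eq,
        Ideal.Quotient.eq_zero_iff_mem.2 hi, zero_smul])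
    have hc : (p.map (Ideal.Quotient.mk I)).comap (Ideal.Quotient.mk I) = p := by
      rw [Ideal.comap_map_of_surjective _ Ideal.Quotient.mk_surjective, ← RingHom.ker_eq_comap_bot,
        Ideal.mk_ker, sup_eq_left.2 hI]
    refine ⟨p.map (Ideal.Quotient.mk I), mem_weakAss.2 ⟨Ideal.map_isPrime_of_surjective
      Ideal.Quotient.mk_surjective (by rwa [Ideal.mk_ker]), y, ?_⟩, hc⟩
    rw [← wit_comap_iff (R := R) _ hgen y]
    rw [show Ideal.comap (algebraMap R (R ⧸ I)) (p.map (Ideal.Quotient.mk I)) = p from hc]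
    exact hy
  · rintro ⟨q, hq, rfl⟩
    obtain ⟨hqp, y, hy⟩ := mem_weakAss.1 hq
    exact mem_weakAss.2 ⟨hqp.comap _, y, (wit_comap_iff (R := R) q hgen y).2 hy⟩

end Groth.Agent.S9587
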