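import Groth.Statements.S9597

set_option autoImplicit false
universe u
open CAlg

namespace Groth.Agent.S9597

/-- Let R be a Noetherian ring, M a finite R-module whose associated primes are pairwise incomparable
under inclusion (M has no embedded associated primes), and I the annihilator of M. Then the
associated primes of R/I, viewed as a module over itself, are again pairwise incomparable: R/I has
no embedded primes either. -/
theorem result {R : Type u} [CommRing R] [IsNoetherianRing R] (M : Type u) [AddCommGroup M] [Module R M] [Module.Finite R M] (hM : ∀ p ∈ associatedPrimes R M, ∀ q ∈ associatedPrimes R M, p ≤ q → p = q) :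
    ∀ p ∈ associatedPrimes (R ⧸ Module.annihilator R M) (R ⧸ Module.annihilator R M), ∀ q ∈ associatedPrimes (R ⧸ Module.annihilator R M) (R ⧸ Module.annihilator R M), p ≤ q → p = q := by
  obtain ⟨k, m, hm⟩ := Module.Finite.exists_fin (R := R) (M := M)
  set I := Module.annihilator R M
  have key : ∀ p ∈ associatedPrimes (R ⧸ I) (R ⧸ I), p.comap (Ideal.Quotient.mk I) ∈ associatedPrimes R M := by
    intro p hp
    obtain ⟨hpp, x, hx⟩ := hp
    obtain ⟨x, rfl⟩ := Ideal.Quotient.mk_surjective x
    haveI := hpp
    have h1 : p.comap (Ideal.Quotient.mk I) = Finset.univ.inf (fun i : Fin k => ((⊥ : Submodule R M).colon {x • m i}).radical) := by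
      ext r
      rw [Ideal.mem_comap, hx, Submodule.mem_finsetInf]
      simp only [Ideal.mem_radical_iff, Submodule.mem_colon_singleton, Finset.mem_univ, true_implies, Submodule.mem_bot, smul_smul]
      constructor
      · rintro ⟨j, hj⟩ i
        refine ⟨j, ?_⟩
        rw [← map_pow, smul_eq_mul, ← map_mul, Ideal.Quotient.eq_zero_iff_mem] at hj
        exact Module.mem_annihilator.mp hj _
      · intro h
        choose j hj using h
        refine ⟨Finset.univ.sup j, ?_⟩
        rw [← map_pow, smul_eq_mul, ← map_mul, Ideal.Quotient.eq_zero_iff_mem, Module.mem_annihilator]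
        intro z
        have hz : z ∈ Submodule.span R (Set.range m) := hm ▸ Submodule.mem_top
        induction hz using Submodule.span_induction with
        | mem y hy =>
          obtain ⟨i, rfl⟩ := hy
          obtain ⟨c, hc⟩ := Nat.exists_eq_add_of_le (Finset.le_sup (f := j) (Finset.mem_univ i))
          rw [hc, pow_add, mul_comm (r ^ j i), mul_assoc, mul_smul, hj i, smul_zero]
        | zero => simp
        | add u v _ _ hu hv => rw [smul_add, hu, hv, add_zero]
        | smul c u _ hu => rw [smul_comm, hu, smul_zero]
    obtain ⟨i, -, hi⟩ := (Ideal.IsPrime.inf_le' (inferInstance : (p.comap (Ideal.Quotient.mk I)).IsPrime)).mp h1.ge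
    have h2 : ((⊥ : Submodule R M).colon {x • m i}).radical = p.comap (Ideal.Quotient.mk I) :=
      le_antisymm hi (h1.le.trans (Finset.inf_le (Finset.mem_univ i)))
    exact ⟨inferInstance, x • m i, h2.symm⟩
  intro p hp q hq hpq
  exact Ideal.comap_injective_of_surjective _ Ideal.Quotient.mk_surjective
    (hM _ (key p hp) _ (key q hq) (Ideal.comap_mono hpq))

end Groth.Agent.S9597
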