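import Groth.Statements.S9598
import Mathlib

set_option autoImplicit false
universe u
open CAlg

namespace Groth.Agent.S9598

/-- For a field k and a finite type k-algebra S with dim S > 0, some element of S is a nonzerodivisor
and a nonunit. -/
theorem result {k S : Type u} [Field k] [CommRing S] [Algebra k S] [Algebra.FiniteType k S] (hdim : 0 < ringKrullDim S) :
    ∃ f : S, f ∈ nonZeroDivisors S ∧ ¬ IsUnit f := by
  haveI : IsNoetherianRing S := Algebra.FiniteType.isNoetherianRing k S
  haveI : IsJacobsonRing S := isJacobsonRing_of_finiteType (A := k)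
  by_contra hc
  push Not at hc
  haveI : Nontrivial S := by
    by_contra h
    rw [not_nontrivial_iff_subsingleton] at h
    rw [ringKrullDim_eq_bot_of_subsingleton] at hdim
    exact absurd hdim (by simp)
  have hmax : ∀ m : Ideal S, m.IsMaximal → m ∈ associatedPrimes S S := by
    intro m hm
    have hsub : (m : Set S) ⊆ ⋃ p ∈ associatedPrimes S S, (p : Set S) := by
      intro a ha
      rw [biUnion_associatedPrimes_eq_compl_nonZeroDivisors]
      exact fun hnz => hm.ne_top (Ideal.eq_top_of_isUnit_mem _ ha (hc a hnz))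
    obtain ⟨p, hp, hle⟩ := (Ideal.subset_union_prime_finite (associatedPrimes.finite S S) ⊥ ⊥
      (fun p hp _ _ => hp.isPrime)).mp hsub
    exact hm.eq_of_le hp.isPrime.ne_top hle ▸ hp
  have hfin : {m : Ideal S | m.IsMaximal}.Finite := (associatedPrimes.finite S S).subset hmax
  have hall : ∀ q : Ideal S, q.IsPrime → q.IsMaximal := by
    intro q hq
    have hJ : sInf {m | q ≤ m ∧ m.IsMaximal} = q := by
      have := IsJacobsonRing.out (R := S) inferInstance hq.isRadical
      simpa [Ideal.jacobson] using this
    have hT : {m : Ideal S | q ≤ m ∧ m.IsMaximal}.Finite := hfin.subset fun m hm => hm.2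
    obtain ⟨m, hm, hle⟩ := (hq.inf_le' (s := hT.toFinset) (f := id)).mp <| by
      rw [Finset.inf_id_eq_sInf, Set.Finite.coe_toFinset, hJ]
    rw [Set.Finite.mem_toFinset] at hm
    exact le_antisymm hle hm.1 ▸ hm.2
  haveI := Ring.KrullDimLE.mk₀ hall
  rw [ringKrullDimZero_iff_ringKrullDim_eq_zero.mp inferInstance] at hdim
  exact lt_irrefl _ hdim

end Groth.Agent.S9598
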