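import Groth.Statements.S9600
import Groth.Agent.AdicExact.Basic

set_option autoImplicit false
universe u
open CAlg

namespace Groth.Agent.S9600

/-- Let R be a ring, I an ideal of R and 0 → M → N → Q → 0 a short exact sequence of R-modules in which
Q is killed by some power I^c of I. Then on I-adic completions the map M^ → N^ is injective, N^ → Q^
is surjective with kernel equal to the image of M^, and the canonical map Q → Q^ is bijective; so 0
→ M^ → N^ → Q → 0 is again short exact. -/
theorem result {R : Type u} [CommRing R] (I : Ideal R) {M N Q : Type u} [AddCommGroup M] [Module R M] [AddCommGroup N] [Module R N] [AddCommGroup Q] [Module R Q] (i : M →ₗ[R] N) (g : N →ₗ[R] Q) (hi : Function.Injective i) (hg : Function.Surjective g) (hig : Function.Exact i g) (c : ℕ) (hc : ∀ x ∈ I ^ c, ∀ q : Q, x • q = 0) :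
    Function.Injective (AdicCompletion.map I i) ∧ Function.Exact (AdicCompletion.map I i) (AdicCompletion.map I g) ∧ Function.Surjective (AdicCompletion.map I g) ∧ Function.Bijective (AdicCompletion.of I Q) := by
  have hc' : ∀ n, ∀ m : M, i m ∈ (I ^ (n + c) • ⊤ : Submodule R N) → m ∈ (I ^ n • ⊤ : Submodule R M) := by
    intro n m hm
    have h1 : (I ^ c • ⊤ : Submodule R N) ≤ LinearMap.range i := Submodule.smul_le.mpr fun x hx z _ =>
      (hig (x • z)).mp (by rw [map_smul]; exact hc x hx _)
    rw [pow_add, Submodule.mul_smul] at hm
    have h2 := smul_mono_right (I ^ n) h1 hm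
    rw [← Submodule.map_top, ← Submodule.map_smul''] at h2
    obtain ⟨m', hm', he⟩ := h2
    rwa [← hi he]
  exact ⟨Groth.Agent.AdicExact.map_injective I i c hc', Groth.Agent.AdicExact.map_exact I i g c hg hig hc',
    AdicCompletion.map_surjective I hg, Groth.Agent.AdicExact.of_bijective I c hc⟩
end Groth.Agent.S9600
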