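import Groth.Statements.S9601
import Mathlib

set_option autoImplicit false
universe u
open CAlg

namespace Groth.Agent.S9601

/-- For a ring R, an ideal I of R and an R-module M, let M^ be the I-adic completion and K_n the kernel
of the projection M^ → M/IⁿM. The completion M^ is I-adically complete exactly when K_n = Iⁿ M^
holds for every n ≥ 1. -/
theorem result {R : Type u} [CommRing R] (I : Ideal R) (M : Type u) [AddCommGroup M] [Module R M] :
    IsAdicComplete I (AdicCompletion I M) ↔ ∀ n : ℕ, 1 ≤ n → LinearMap.ker (AdicCompletion.eval I M n) = I ^ n • (⊤ : Submodule R (AdicCompletion I M)) := by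
  have hle : ∀ n, (I ^ n • ⊤ : Submodule R (AdicCompletion I M)) ≤ LinearMap.ker (AdicCompletion.eval I M n) := fun n =>
    Submodule.smul_le.mpr fun r hr x _ => by
      rw [LinearMap.mem_ker, map_smul]
      obtain ⟨m, hm⟩ := Submodule.Quotient.mk_surjective _ (AdicCompletion.eval I M n x)
      rw [← hm, ← Submodule.Quotient.mk_smul, Submodule.Quotient.mk_eq_zero]
      exact Submodule.smul_mem_smul hr trivial
  have hzero : ∀ n, ∀ y : AdicCompletion I M, n = 0 → y ∈ (I ^ n • ⊤ : Submodule R (AdicCompletion I M)) :=
    fun n y h => by simp [h]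
  constructor
  · intro h n _
    refine le_antisymm (fun x hx => ?_) (hle n)
    choose m hm using fun k => Submodule.Quotient.mk_surjective _ (x.val k)
    -- the approximations lie in `I ^ n`
    let s : ℕ → AdicCompletion I M := fun k => AdicCompletion.of I M (m (max n k))
    have hmn : ∀ k, n ≤ k → m k ∈ (I ^ n • ⊤ : Submodule R M) := fun k hk => by
      rw [← Submodule.Quotient.mk_eq_zero]
      have hx' : x.val n = 0 := hx
      rw [← hx', ← AdicCompletion.transitionMap_comp_eval_apply I M hk x, ← hm k]
      rfl
    have himg : ∀ k (y : M), y ∈ (I ^ k • ⊤ : Submodule R M) → AdicCompletion.of I M y ∈ (I ^ k • ⊤ : Submodule R (AdicCompletion I M)) :=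
      fun k y hy => by
        have := Submodule.mem_map_of_mem (f := AdicCompletion.of I M) hy
        rw [Submodule.map_smul''] at this
        exact (smul_mono_right (I ^ k) (le_top : Submodule.map (AdicCompletion.of I M) ⊤ ≤ ⊤)) this
    have hcauchy : ∀ {a b}, a ≤ b → s a ≡ s b [SMOD (I ^ a • ⊤ : Submodule R (AdicCompletion I M))] := by
      intro a b hab
      rw [SModEq.sub_mem, ← map_sub]
      refine himg a _ ?_
      have h1 : m (max n a) - m (max n b) ∈ (I ^ max n a • ⊤ : Submodule R M) := by
        rw [← Submodule.Quotient.eq, hm, ← AdicCompletion.transitionMap_comp_eval_apply I M (max_le_max_left n hab) x, ← hm (max n b)]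
        rfl
      exact Submodule.smul_mono_left (Ideal.pow_le_pow_right (le_max_right n a)) h1
    obtain ⟨L, hL⟩ := h.toIsPrecomplete.prec' s hcauchy
    have hLx : L = x := AdicCompletion.ext fun k => by
      have h2 := hle k (SModEq.sub_mem.mp (hL k))
      rw [LinearMap.mem_ker, map_sub, sub_eq_zero] at h2
      show AdicCompletion.eval I M k L = x.val k
      rw [← h2, ← AdicCompletion.transitionMap_comp_eval_apply I M (le_max_right n k) x, ← hm (max n k)]
      rfl
    have h3 : s n - L ∈ (I ^ n • ⊤ : Submodule R (AdicCompletion I M)) := SModEq.sub_mem.mp (hL n)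
    have h4 : s n ∈ (I ^ n • ⊤ : Submodule R (AdicCompletion I M)) := himg n _ (hmn _ (le_max_left n n))
    have := sub_mem h4 h3
    rwa [sub_sub_cancel, hLx] at this
  · intro H
    have H' : ∀ n, ∀ y : AdicCompletion I M, y.val n = 0 → y ∈ (I ^ n • ⊤ : Submodule R (AdicCompletion I M)) := fun n y hy => by
      rcases Nat.eq_zero_or_pos n with h | h
      · exact hzero n y h
      · rw [← H n h]; exact hy
    refine @IsAdicComplete.mk _ _ _ _ _ _ ⟨fun x hx => AdicCompletion.ext fun n => ?_⟩ ⟨fun f hf => ?_⟩
    · exact hle n (SModEq.zero.mp (hx n))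
    · have hval : ∀ {a b}, a ≤ b → (f a).val a = (f b).val a := fun {a b} hab => by
        have := hle a (SModEq.sub_mem.mp (hf hab))
        rwa [LinearMap.mem_ker, map_sub, sub_eq_zero] at this
      refine ⟨⟨fun n => (f n).val n, fun {a b} hab => ?_⟩, fun n => SModEq.sub_mem.mpr (H' n _ ?_)⟩
      · rw [AdicCompletion.transitionMap_comp_eval_apply]
        exact (hval hab).symm
      · show (f n).val n - (f n).val n = 0
        exact sub_self _
end Groth.Agent.S9601
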