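import Groth.Statements.S9602
import Mathlib

set_option autoImplicit false
universe u
open CAlg

namespace Groth.Agent.S9602

/-- Let R be a ring, I an ideal of R and R^ = lim R/Iⁿ the I-adic completion. An element of R^ whose
image in R/I is invertible is itself invertible in R^; and the kernel of R^ → R/I as well as the
extended ideal I R^ both lie inside the Jacobson radical of R^. -/
theorem result {R : Type u} [CommRing R] (I : Ideal R) :
    (∀ x : AdicCompletion I R, IsUnit (AdicCompletion.evalOneₐ I x) → IsUnit x) ∧
      RingHom.ker (AdicCompletion.evalOneₐ I).toRingHom ≤ (⊥ : Ideal (AdicCompletion I R)).jacobson ∧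
      I.map (algebraMap R (AdicCompletion I R)) ≤ (⊥ : Ideal (AdicCompletion I R)).jacobson := by
  have key : ∀ x : AdicCompletion I R, IsUnit (AdicCompletion.evalOneₐ I x) → IsUnit x := by
    intro x hx
    have hu : ∀ n, IsUnit (AdicCompletion.evalₐ I n x) := by
      intro n
      rcases n.eq_zero_or_pos with rfl | hn
      · haveI : Subsingleton (R ⧸ I ^ 0) := Ideal.Quotient.subsingleton_iff.mpr (by simp)
        exact isUnit_of_subsingleton _
      · obtain ⟨r, hr⟩ := Ideal.Quotient.mk_surjective (AdicCompletion.evalₐ I n x)
        rw [← hr]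
        have h1 : Ideal.Quotient.factor (show I ^ n ≤ I from Ideal.pow_le_self hn.ne') (AdicCompletion.evalₐ I n x) = AdicCompletion.evalOneₐ I x := by
          induction x using AdicCompletion.induction_on with
          | h f =>
            rw [← AdicCompletion.factorₐ_evalₐ_one, AdicCompletion.evalₐ_mk, AdicCompletion.evalₐ_mk, Ideal.Quotient.factor_mk, Ideal.Quotient.factor_mk, Ideal.Quotient.eq]
            have := f.property (show 1 ≤ n from hn)
            rw [SModEq.sub_mem] at this
            rw [← neg_sub]; simpa using neg_mem this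
        rw [← hr, Ideal.Quotient.factor_mk] at h1
        rw [← h1] at hx
        obtain ⟨t, ht⟩ := hx.exists_right_inv
        obtain ⟨t, rfl⟩ := Ideal.Quotient.mk_surjective t
        rw [← map_mul, ← map_one (Ideal.Quotient.mk I), Ideal.Quotient.eq] at ht
        have : IsNilpotent (Ideal.Quotient.mk (I ^ n) (r * t - 1)) :=
          ⟨n, by rw [← map_pow, Ideal.Quotient.eq_zero_iff_mem]; exact Ideal.pow_mem_pow ht n⟩
        have h2 := this.isUnit_one_add
        rw [← map_one (Ideal.Quotient.mk (I ^ n)), ← map_add, add_sub_cancel, map_mul] at h2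
        exact isUnit_of_mul_isUnit_left h2
    choose y hy using fun n => (hu n).exists_right_inv
    choose z hz using fun n => Ideal.Quotient.mk_surjective (y n)
    induction x using AdicCompletion.induction_on with
    | h f =>
      simp only [AdicCompletion.evalₐ_mk] at hy
      have hc : ∀ n, z n ≡ z (n+1) [SMOD (I ^ n • ⊤ : Submodule R R)] := by
        intro n
        rw [SModEq.sub_mem, smul_eq_mul, Ideal.mul_top]
        have a1 := hy n; rw [← hz n, ← map_mul, ← map_one (Ideal.Quotient.mk (I ^ n)), Ideal.Quotient.eq] at a1
        have a2 := hy (n+1); rw [← hz (n+1), ← map_mul, ← map_one (Ideal.Quotient.mk (I ^ (n+1))), Ideal.Quotient.eq] at a2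
        have a2' := Ideal.pow_le_pow_right n.le_succ a2
        have a3 := f.property n.le_succ
        rw [SModEq.sub_mem, smul_eq_mul, Ideal.mul_top] at a3
        have e : z n - z (n+1) = z (n+1) * (f.val n * z n - 1) - z n * (f.val (n+1) * z (n+1) - 1) - (z n * z (n+1)) * (f.val n - f.val (n+1)) := by ring
        rw [e]
        exact sub_mem (sub_mem (Ideal.mul_mem_left _ _ a1) (Ideal.mul_mem_left _ _ a2')) (Ideal.mul_mem_left _ _ a3)
      refine IsUnit.of_mul_eq_one (AdicCompletion.mk I R (AdicCompletion.AdicCauchySequence.mk I R z hc)) (AdicCompletion.ext_evalₐ fun n => ?_)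
      rw [map_mul, map_one, AdicCompletion.evalₐ_mk, AdicCompletion.evalₐ_mk]
      have := hy n
      rw [← hz n] at this
      exact this
  refine ⟨key, ?_, ?_⟩
  · intro x hx
    rw [Ideal.mem_jacobson_bot]
    intro y
    apply key
    have hx' : AdicCompletion.evalOneₐ I x = 0 := hx
    simp [hx']
  · rw [Ideal.map_le_iff_le_comap]
    intro r hr
    rw [Ideal.mem_comap, Ideal.mem_jacobson_bot]
    intro y
    apply key
    have : AdicCompletion.evalOneₐ I (algebraMap R _ r) = 0 := by
      rw [AlgHom.commutes]; exact Ideal.Quotient.eq_zero_iff_mem.mpr hr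
    simp [this]

end Groth.Agent.S9602
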