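import Groth.Statements.S9603
import Mathlib

set_option autoImplicit false
universe u
open CAlg

namespace Groth.Agent.S9603

/-- For a ring A, elements f_1, …, f_r generating an ideal I and an A-module M, if the canonical map
from M to its (f_i)-adic completion is surjective for every i, then the canonical map from M to its
I-adic completion is surjective. -/
theorem result {A : Type u} [CommRing A] {r : ℕ} (f : Fin r → A) (M : Type u) [AddCommGroup M] [Module A M] (h : ∀ i, Function.Surjective (AdicCompletion.of (Ideal.span {f i}) M)) :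
    Function.Surjective (AdicCompletion.of (Ideal.span (Set.range f)) M) := by
  classical
  let I := Ideal.span (Set.range f)
  have hpow : ∀ (s : Finset (Fin r)) (n : ℕ), Ideal.span (f '' (s : Set _)) ^ (s.card * n + 1) ≤ Ideal.span ((fun i => f i ^ n) '' (s : Set _)) := by
    intro s
    induction s using Finset.induction_on with
    | empty => simp
    | insert a s ha ih =>
      intro n
      rw [Finset.coe_insert, Set.image_insert_eq, Set.image_insert_eq, Ideal.span_insert, Ideal.span_insert, Finset.card_insert_of_notMem ha,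
        show (s.card + 1) * n + 1 = n + (s.card * n + 1) by ring]
      refine Ideal.sup_pow_add_le_pow_sup_pow.trans (sup_le_sup ?_ (ih n))
      rw [Ideal.span_singleton_pow]
  rw [AdicCompletion.of_surjective_iff]
  refine ⟨fun x hx => ?_⟩
  let k := fun n : ℕ => r * n + n + 1
  have hle : ∀ n, (I ^ k n • ⊤ : Submodule A M) ≤ ⨆ i : Fin r, (Ideal.span {f i ^ n} • ⊤ : Submodule A M) := fun n => by
    rw [← Submodule.iSup_smul]
    refine Submodule.smul_mono_left ((Ideal.pow_le_pow_right (show r * n + 1 ≤ k n by simp only [k]; omega)).trans ?_)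
    have := hpow Finset.univ n
    rw [Finset.card_univ, Fintype.card_fin, Finset.coe_univ, Set.image_univ, Set.image_univ] at this
    exact this.trans (Ideal.span_le.mpr (by
      rintro _ ⟨i, rfl⟩
      exact Ideal.mem_iSup_of_mem i (Ideal.mem_span_singleton_self _)))
  have hd : ∀ n, ∃ m : Fin r → M, ∑ i, f i ^ (n + 1) • m i = x (k (n + 2)) - x (k (n + 1)) := fun n => by
    have h1 : x (k (n + 2)) - x (k (n + 1)) ∈ (I ^ k (n + 1) • ⊤ : Submodule A M) :=
      SModEq.sub_mem.mp (hx (show k (n + 1) ≤ k (n + 2) by simp only [k]; nlinarith)).symm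
    obtain ⟨μ, hμ, hsum⟩ := (Submodule.mem_iSup_iff_exists_finsupp _ _).mp (hle (n + 1) h1)
    choose m _ hm using fun i => (Submodule.ideal_span_singleton_smul (f i ^ (n + 1)) (⊤ : Submodule A M)) ▸ hμ i
    refine ⟨m, ?_⟩
    rw [← hsum, Finsupp.sum_fintype _ _ (fun i => rfl)]
    exact Finset.sum_congr rfl fun i _ => hm i
  choose m hm using hd
  have hy : ∀ i, ∃ y : M, ∀ n, (∑ l ∈ Finset.range n, f i ^ (l + 1) • m l i) ≡ y [SMOD (Ideal.span {f i} ^ n • ⊤ : Submodule A M)] := fun i => by
    haveI := AdicCompletion.of_surjective_iff.mp (h i)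
    refine IsPrecomplete.prec this fun {p q} hpq => ?_
    rw [SModEq.sub_mem, ← neg_sub, ← Finset.sum_Ico_eq_sub _ hpq]
    refine neg_mem (Submodule.sum_mem _ fun l hl => ?_)
    rw [Ideal.span_singleton_pow]
    refine Submodule.smul_mem_smul ?_ Submodule.mem_top
    exact Ideal.mem_span_singleton.mpr (pow_dvd_pow _ (by have := (Finset.mem_Ico.mp hl).1; omega))
  choose y hy using hy
  refine ⟨x (k 1) + ∑ i, y i, fun n => ?_⟩
  have h1 : x n ≡ x (k (n + 1)) [SMOD (I ^ n • ⊤ : Submodule A M)] := hx (by simp only [k]; nlinarith)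
  have h2 : ∀ n, x (k (n + 1)) = x (k 1) + ∑ i, ∑ l ∈ Finset.range n, f i ^ (l + 1) • m l i := by
    intro n
    induction n with
    | zero => simp
    | succ n ih =>
      simp only [Finset.sum_range_succ, Finset.sum_add_distrib, hm n]
      rw [← add_assoc, ← ih]; abel
  refine h1.trans ?_
  rw [h2 n]
  refine SModEq.rfl.add (SModEq.sum fun i _ => ?_)
  exact (hy i n).mono (Submodule.smul_mono_left (Ideal.pow_right_mono (Ideal.span_mono (Set.singleton_subset_iff.mpr (Set.mem_range_self (f := f) i))) n))

end Groth.Agent.S9603
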