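import Groth.Statements.S9604

set_option autoImplicit false
universe u
open CAlg

namespace Groth.Agent.S9604

/-- Let R be a ring and I, J ideals of R with I^c ⊆ J and J^d ⊆ I for some integers c, d > 0. Then for
an R-module, being complete in the I-adic topology is equivalent to being complete in the J-adic
topology. -/
theorem result {R : Type u} [CommRing R] (I J : Ideal R) (c d : ℕ) (hc : 0 < c) (hd : 0 < d) (hI : I ^ c ≤ J) (hJ : J ^ d ≤ I) (M : Type u) [AddCommGroup M] [Module R M] :
    IsAdicComplete I M ↔ IsAdicComplete J M := by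
  have hle : ∀ (I J : Ideal R) (c : ℕ), I ^ c ≤ J → ∀ n, I ^ (c * n) • (⊤ : Submodule R M) ≤ J ^ n • ⊤ := fun I J c h n =>
    Submodule.smul_mono_left (by rw [pow_mul]; exact Ideal.pow_right_mono h n)
  have key : ∀ (I J : Ideal R) (c d : ℕ), 0 < c → 0 < d → I ^ c ≤ J → J ^ d ≤ I → IsAdicComplete I M → IsAdicComplete J M := by
    intro I J c d hc hd hI hJ h
    refine { haus' := fun x hx => ?_, prec' := fun f hf => ?_ }
    · refine h.toIsHausdorff.haus x fun n => ?_
      have := hx (d * n)
      rw [SModEq.sub_mem] at this ⊢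
      exact hle J I d hJ n this
    · obtain ⟨L, hL⟩ := h.toIsPrecomplete.prec (f := fun n => f (d * n)) (fun {m n} hmn => by
        have := hf (Nat.mul_le_mul_left d hmn)
        rw [SModEq.sub_mem] at this ⊢
        exact hle J I d hJ m this)
      refine ⟨L, fun n => ?_⟩
      have h1 := hL (c * n)
      rw [SModEq.sub_mem] at h1 ⊢
      have h2 := hle I J c hI n h1
      have h3 := hf (show n ≤ d * (c * n) from (Nat.le_mul_of_pos_left n hc).trans (Nat.le_mul_of_pos_left _ hd))
      rw [SModEq.sub_mem] at h3
      simpa using add_mem h3 h2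
  exact ⟨key I J c d hc hd hI hJ, key J I d c hd hc hJ hI⟩

end Groth.Agent.S9604
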