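import Groth.Statements.S9605

set_option autoImplicit false
universe u
open CAlg

namespace Groth.Agent.S9605

/-- For a ring R, an ideal I of R, an I-adically complete R-module M and a submodule K of M, the
quotient M/K is I-adically complete if and only if K = ⋂ₙ (K + IⁿM). -/
theorem result {R : Type u} [CommRing R] (I : Ideal R) (M : Type u) [AddCommGroup M] [Module R M] [IsAdicComplete I M] (K : Submodule R M) :
    IsAdicComplete I (M ⧸ K) ↔ K = ⨅ n : ℕ, K ⊔ I ^ n • (⊤ : Submodule R M) := by
  constructor
  · intro h
    refine le_antisymm (le_iInf fun n => le_sup_left) fun x hx => ?_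
    rw [← Submodule.Quotient.mk_eq_zero]
    refine h.toIsHausdorff.haus _ fun n => ?_
    rw [SModEq.zero]
    have := Submodule.mem_map_of_mem (f := K.mkQ) ((Submodule.mem_iInf _).mp hx n)
    rw [Submodule.map_sup, Submodule.mkQ_map_self, bot_sup_eq, Submodule.map_smul'', Submodule.map_top, Submodule.range_mkQ] at this
    exact this
  · intro hK
    have hmap : ∀ n : ℕ, (I ^ n • ⊤ : Submodule R (M ⧸ K)) = Submodule.map K.mkQ (I ^ n • ⊤) := fun n => by
      rw [Submodule.map_smul'', Submodule.map_top, Submodule.range_mkQ]
    refine { haus' := fun z hz => ?_, prec' := fun f hf => ?_ }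
    · obtain ⟨x, rfl⟩ := K.mkQ_surjective z
      rw [Submodule.mkQ_apply, Submodule.Quotient.mk_eq_zero, hK, Submodule.mem_iInf]
      intro n
      have := hz n
      rw [SModEq.zero, hmap] at this
      obtain ⟨y, hy, hyx⟩ := this
      rw [Submodule.mkQ_apply, Submodule.mkQ_apply, Submodule.Quotient.eq] at hyx
      have hadd := Submodule.add_mem_sup (neg_mem hyx : -(y - x) ∈ K) hy
      simpa using hadd
    · have hd : ∀ n, ∃ d ∈ (I ^ n • ⊤ : Submodule R M), K.mkQ d = f (n+1) - f n := by
        intro n
        have := hf n.le_succ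
        rw [SModEq.sub_mem, hmap] at this
        obtain ⟨y, hy, hyx⟩ := this
        exact ⟨-y, neg_mem hy, by rw [map_neg, hyx, neg_sub]⟩
      choose d hd hd' using hd
      obtain ⟨g0, hg0⟩ := K.mkQ_surjective (f 0)
      let g : ℕ → M := fun n => g0 + ∑ i ∈ Finset.range n, d i
      have hg : ∀ n, K.mkQ (g n) = f n := by
        intro n
        induction n with
        | zero => simpa [g] using hg0
        | succ n ih =>
          simp only [g, Finset.sum_range_succ, ← add_assoc] at ih ⊢
          rw [map_add, ih, hd']; abel
      obtain ⟨L, hL⟩ := IsPrecomplete.prec (‹IsAdicComplete I M›.toIsPrecomplete) (f := g) (fun {m n} hmn => by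
        rw [SModEq.sub_mem]
        obtain ⟨k, rfl⟩ := Nat.exists_eq_add_of_le hmn
        simp only [g, add_sub_add_left_eq_sub, Finset.sum_range_add, sub_add_cancel_left]
        exact neg_mem (Submodule.sum_mem _ fun i _ => Submodule.smul_mono_left (Ideal.pow_le_pow_right (Nat.le_add_right m i)) (hd (m + i))))
      refine ⟨K.mkQ L, fun n => ?_⟩
      have := hL n
      rw [SModEq.sub_mem] at this ⊢
      rw [hmap, ← hg n, ← map_sub]
      exact Submodule.mem_map_of_mem this

end Groth.Agent.S9605
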