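import Groth.Statements.S9606
import Mathlib
import Groth.Agent.RadicialLib.Basic

set_option autoImplicit false
universe u
open CAlg

namespace Groth.Agent.S9606

/-- Let R → S be a ring map with locally nilpotent kernel such that S is generated over R by elements x
with x² and x³ in the image of R. Then the induced map on spectra is a homeomorphism and every
residue field map κ(p) → κ(q), for q a prime of S with inverse image p, is bijective. -/
theorem result {R S : Type u} [CommRing R] [CommRing S] [Algebra R S]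
    (hgen : Algebra.adjoin R {x : S | x ^ 2 ∈ Set.range (algebraMap R S) ∧ x ^ 3 ∈ Set.range (algebraMap R S)} = ⊤)
    (hker : ∀ r : R, algebraMap R S r = 0 → IsNilpotent r) :
    IsHomeomorph (PrimeSpectrum.comap (algebraMap R S)) ∧
      ∀ (q : Ideal S) [q.IsPrime], Function.Bijective (Ideal.ResidueField.map (q.comap (algebraMap R S)) q (algebraMap R S) rfl) := by
  have key : ∀ x ∈ {x : S | x ^ 2 ∈ Set.range (algebraMap R S) ∧ x ^ 3 ∈ Set.range (algebraMap R S)}, ∀ (K : Type u) [Field K] (f : S →+* K),
      ∀ L : Subfield K, (∀ r, f (algebraMap R S r) ∈ L) → f x ∈ L := by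
    rintro x ⟨⟨a, ha⟩, ⟨b, hb⟩⟩ K _ f L hL
    by_cases h0 : f x = 0
    · exact h0 ▸ L.zero_mem
    · have : f x = f (algebraMap R S b) / f (algebraMap R S a) := by
        rw [ha, hb, map_pow, map_pow]; field_simp
      exact this ▸ L.div_mem (hL b) (hL a)
  have hepi : Groth.Agent.RadicialLib.FieldEpi R S :=
    Groth.Agent.RadicialLib.fieldEpi_of_adjoin _ hgen fun x hx K _ f g hfg => by
      obtain ⟨⟨a, ha⟩, ⟨b, hb⟩⟩ := hx
      have h2 : f x ^ 2 = g x ^ 2 := by
        rw [← map_pow, ← map_pow, ← ha]; exact RingHom.congr_fun hfg a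
      have h3 : f x ^ 3 = g x ^ 3 := by
        rw [← map_pow, ← map_pow, ← hb]; exact RingHom.congr_fun hfg b
      by_cases h0 : f x = 0
      · rw [h0, zero_pow two_ne_zero] at h2
        rw [h0, pow_eq_zero_iff two_ne_zero |>.mp h2.symm]
      · refine mul_left_cancel₀ (pow_ne_zero 2 h0) ?_
        rw [← pow_succ, h3, h2, pow_succ]
  haveI : Algebra.IsIntegral R S := by
    refine ⟨fun s => ?_⟩
    have hs := (SetLike.le_def.mp hgen.ge) (Algebra.mem_top (R := R) (x := s))
    refine (Algebra.adjoin_le (S := integralClosure R S) ?_ hs : s ∈ integralClosure R S)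
    rintro x ⟨⟨a, ha⟩, -⟩
    exact IsIntegral.of_pow two_pos (ha ▸ isIntegral_algebraMap)
  refine ⟨Groth.Agent.RadicialLib.isHomeomorph_comap hepi hker, fun q _ => ⟨RingHom.injective _, fun y => ?_⟩⟩
  have hS : ∀ s : S, algebraMap S q.ResidueField s ∈ (Ideal.ResidueField.map (q.comap (algebraMap R S)) q (algebraMap R S) rfl).fieldRange := by
    intro s
    have hR : ∀ r, algebraMap S q.ResidueField (algebraMap R S r) ∈ (Ideal.ResidueField.map (q.comap (algebraMap R S)) q (algebraMap R S) rfl).fieldRange :=
      fun r => ⟨algebraMap R _ r, Ideal.ResidueField.map_algebraMap _ _ _ _ r⟩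
    have hs := (SetLike.le_def.mp hgen.ge) (Algebra.mem_top (R := R) (x := s))
    induction hs using Algebra.adjoin_induction with
    | mem x hx => exact key x hx _ _ _ hR
    | algebraMap r => exact hR r
    | add a b _ _ ha hb => rw [map_add]; exact add_mem ha hb
    | mul a b _ _ ha hb => rw [map_mul]; exact mul_mem ha hb
  obtain ⟨a, b, -, rfl⟩ := IsFractionRing.div_surjective (S ⧸ q) y
  obtain ⟨a, rfl⟩ := Ideal.Quotient.mk_surjective a
  obtain ⟨b, rfl⟩ := Ideal.Quotient.mk_surjective b
  exact (div_mem (hS a) (hS b) : _ ∈ RingHom.fieldRange _)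

end Groth.Agent.S9606
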