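import Groth.Statements.S9607
import Mathlib

set_option autoImplicit false
universe u
open CAlg

namespace Groth.Agent.S9607

/-- For a prime number p and integers n, m > 0 there exists an integer a such that (x + y)^(p^a) and p^a
(x + y) both belong to the subring ℤ[x^(p^n), p^n x, y^(p^m), p^m y] of the polynomial ring ℤ[x, y]. -/
theorem result (p : ℕ) (hp : p.Prime) (n m : ℕ) (hn : 0 < n) (hm : 0 < m) :
    ∃ a : ℕ, ((MvPolynomial.X 0 + MvPolynomial.X 1 : MvPolynomial (Fin 2) ℤ) ^ (p ^ a) ∈ Algebra.adjoin ℤ ({MvPolynomial.X 0 ^ (p ^ n), (p : MvPolynomial (Fin 2) ℤ) ^ n * MvPolynomial.X 0, MvPolynomial.X 1 ^ (p ^ m), (p : MvPolynomial (Fin 2) ℤ) ^ m * MvPolynomial.X 1} : Set (MvPolynomial (Fin 2) ℤ)) ∧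
      (p : MvPolynomial (Fin 2) ℤ) ^ a * (MvPolynomial.X 0 + MvPolynomial.X 1) ∈ Algebra.adjoin ℤ ({MvPolynomial.X 0 ^ (p ^ n), (p : MvPolynomial (Fin 2) ℤ) ^ n * MvPolynomial.X 0, MvPolynomial.X 1 ^ (p ^ m), (p : MvPolynomial (Fin 2) ℤ) ^ m * MvPolynomial.X 1} : Set (MvPolynomial (Fin 2) ℤ))) := by
  set x : MvPolynomial (Fin 2) ℤ := MvPolynomial.X 0
  set y : MvPolynomial (Fin 2) ℤ := MvPolynomial.X 1
  set R := Algebra.adjoin ℤ ({x ^ (p ^ n), (p : MvPolynomial (Fin 2) ℤ) ^ n * x, y ^ (p ^ m), (p : MvPolynomial (Fin 2) ℤ) ^ m * y} : Set (MvPolynomial (Fin 2) ℤ))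
  have g1 : x ^ (p ^ n) ∈ R := Algebra.subset_adjoin (by simp)
  have g2 : (p : MvPolynomial (Fin 2) ℤ) ^ n * x ∈ R := Algebra.subset_adjoin (by simp)
  have g3 : y ^ (p ^ m) ∈ R := Algebra.subset_adjoin (by simp)
  have g4 : (p : MvPolynomial (Fin 2) ℤ) ^ m * y ∈ R := Algebra.subset_adjoin (by simp)
  have hgen : ∀ (z : MvPolynomial (Fin 2) ℤ) (k : ℕ), z ^ (p ^ k) ∈ R → (p : MvPolynomial (Fin 2) ℤ) ^ k * z ∈ R →
      ∀ i : ℕ, (p ^ k ∣ i → z ^ i ∈ R) ∧ (p : MvPolynomial (Fin 2) ℤ) ^ (k * p ^ k) * z ^ i ∈ R := by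
    intro z k h1 h2 i
    refine ⟨fun ⟨c, hc⟩ => by rw [hc, pow_mul]; exact pow_mem h1 c, ?_⟩
    have hr : i % p ^ k ≤ p ^ k := (Nat.mod_lt _ (pow_pos hp.pos k)).le
    have he : (p : MvPolynomial (Fin 2) ℤ) ^ (k * p ^ k) * z ^ i = (p : MvPolynomial (Fin 2) ℤ) ^ (k * (p ^ k - i % p ^ k)) * (((p : MvPolynomial (Fin 2) ℤ) ^ k * z) ^ (i % p ^ k) * (z ^ (p ^ k)) ^ (i / p ^ k)) := by
      conv_lhs => rw [← Nat.mod_add_div i (p ^ k), pow_add, pow_mul z,
        show k * p ^ k = k * (p ^ k - i % p ^ k) + k * (i % p ^ k) by rw [← mul_add, Nat.sub_add_cancel hr]]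
      rw [mul_pow, pow_add, pow_mul (p : MvPolynomial (Fin 2) ℤ) k (i % p ^ k)]
      ring
    rw [he]
    exact mul_mem (pow_mem (natCast_mem R p) _) (mul_mem (pow_mem h2 _) (pow_mem h1 _))
  set a := n * p ^ n + m * p ^ m + n + m with ha
  have hdvd : ∀ k i C : ℕ, p ^ a ∣ i * C → ¬ p ^ k ∣ i → p ^ (a - k) ∣ C := by
    intro k i C h hi
    obtain ⟨v, u, hu, rfl⟩ := Nat.exists_eq_pow_mul_and_not_dvd (n := i) (fun h => hi (h ▸ dvd_zero _)) p hp.ne_one
    have hv : v < k := by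
      by_contra hv
      exact hi (dvd_mul_of_dvd_left (pow_dvd_pow p (not_lt.mp hv)) u)
    by_cases hva : a ≤ k
    · rw [Nat.sub_eq_zero_of_le hva, pow_zero]; exact one_dvd C
    rw [show p ^ a = p ^ v * p ^ (a - v) by rw [← pow_add]; congr 1; omega, mul_assoc] at h
    have h' := (Nat.mul_dvd_mul_iff_left (pow_pos hp.pos v)).mp h
    exact (pow_dvd_pow p (by omega)).trans (((hp.coprime_iff_not_dvd.mpr hu).pow_left (a - v)).dvd_of_dvd_mul_left h')
  have hmul : ∀ i, p ^ a ∣ i * (p ^ a).choose i := by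
    intro i
    cases i with
    | zero => simp
    | succ i =>
      obtain ⟨b, hb⟩ : ∃ b, p ^ a = b + 1 := ⟨p ^ a - 1, (Nat.sub_add_cancel (pow_pos hp.pos a)).symm⟩
      rw [hb, mul_comm, ← Nat.add_one_mul_choose_eq]
      exact dvd_mul_right _ _
  refine ⟨a, ?_, ?_⟩
  · rw [add_pow]
    refine Subalgebra.sum_mem _ fun i hi => ?_
    rw [Finset.mem_range] at hi
    set j := p ^ a - i
    have hC : ∀ k, n * p ^ n + m * p ^ m ≤ k → p ^ k ∣ (p ^ a).choose i →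
        x ^ i * y ^ j * ((p ^ a).choose i : MvPolynomial (Fin 2) ℤ) ∈ R := by
      rintro k hk ⟨c, hc⟩
      obtain ⟨l, rfl⟩ := Nat.exists_eq_add_of_le hk
      have he : x ^ i * y ^ j * ((p ^ a).choose i : MvPolynomial (Fin 2) ℤ) =
          ((p : MvPolynomial (Fin 2) ℤ) ^ (n * p ^ n) * x ^ i) * (((p : MvPolynomial (Fin 2) ℤ) ^ (m * p ^ m) * y ^ j) * ((p : MvPolynomial (Fin 2) ℤ) ^ l * (c : MvPolynomial (Fin 2) ℤ))) := by
        rw [hc]; push_cast; rw [pow_add, pow_add]; ring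
      rw [he]
      exact mul_mem (hgen x n g1 g2 i).2 (mul_mem (hgen y m g3 g4 j).2 (mul_mem (pow_mem (natCast_mem R p) _) (natCast_mem R c)))
    by_cases hin : p ^ n ∣ i
    · by_cases hjm : p ^ m ∣ j
      · exact mul_mem (mul_mem ((hgen x n g1 g2 i).1 hin) ((hgen y m g3 g4 j).1 hjm)) (natCast_mem R _)
      · refine hC (a - m) (by omega) (hdvd m j _ ?_ hjm)
        have := hmul j
        rwa [show (p ^ a).choose j = (p ^ a).choose i from Nat.choose_symm (by omega)] at this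
    · exact hC (a - n) (by omega) (hdvd n i _ (hmul i) hin)
  · rw [mul_add]
    refine add_mem ?_ ?_
    · rw [show a = (a - n) + n by omega, pow_add, mul_assoc]; exact mul_mem (pow_mem (natCast_mem R p) _) g2
    · rw [show a = (a - m) + m by omega, pow_add, mul_assoc]; exact mul_mem (pow_mem (natCast_mem R p) _) g4
end Groth.Agent.S9607
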