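import Groth.Statements.S9608
import Mathlib

set_option autoImplicit false
universe u
open CAlg

namespace Groth.Agent.S9608

/-- Let k'/k be a field extension and p a prime number. Then k' is generated over k by elements x for
which some n > 0 has x^(p^n) ∈ k and p^n x ∈ k, if and only if either k' = k, or k has
characteristic p and k'/k is purely inseparable. -/
theorem result {k k' : Type u} [Field k] [Field k'] [Algebra k k'] (p : ℕ) (hp : p.Prime) :
    IntermediateField.adjoin k {x : k' | ∃ n : ℕ, 0 < n ∧ x ^ (p ^ n) ∈ Set.range (algebraMap k k') ∧ (p : k') ^ n * x ∈ Set.range (algebraMap k k')} = ⊤ ↔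
      (Function.Surjective (algebraMap k k') ∨ (CharP k p ∧ IsPurelyInseparable k k')) := by
  constructor
  · intro h
    by_cases hsurj : Function.Surjective (algebraMap k k')
    · exact Or.inl hsurj
    right
    have hp0 : (p : k) = 0 := by
      by_contra hp0
      refine hsurj fun y => ?_
      have hle : IntermediateField.adjoin k {x : k' | ∃ n : ℕ, 0 < n ∧ x ^ (p ^ n) ∈ Set.range (algebraMap k k') ∧ (p : k') ^ n * x ∈ Set.range (algebraMap k k')} ≤ ⊥ := by
        rw [IntermediateField.adjoin_le_iff]
        rintro x ⟨n, -, -, c, hc⟩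
        refine IntermediateField.mem_bot.mpr ⟨((p : k) ^ n)⁻¹ * c, ?_⟩
        rw [map_mul, hc, map_inv₀, map_pow, map_natCast, inv_mul_cancel_left₀]
        exact pow_ne_zero _ fun h0 => hp0 ((algebraMap k k').injective (by rw [map_natCast, map_zero, h0]))
      exact IntermediateField.mem_bot.mp (hle (h.symm.le IntermediateField.mem_top))
    haveI : Fact p.Prime := ⟨hp⟩
    haveI : CharP k p := (CharP.charP_iff_prime_eq_zero hp).mpr hp0
    haveI : ExpChar k p := ExpChar.prime hp
    refine ⟨‹_›, (isPurelyInseparable_iff_pow_mem k p).mpr fun x => ?_⟩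
    have hle : IntermediateField.adjoin k {x : k' | ∃ n : ℕ, 0 < n ∧ x ^ (p ^ n) ∈ Set.range (algebraMap k k') ∧ (p : k') ^ n * x ∈ Set.range (algebraMap k k')} ≤ perfectClosure k k' := by
      rw [IntermediateField.adjoin_le_iff]
      rintro x ⟨n, -, hx, -⟩
      exact (mem_perfectClosure_iff_pow_mem p).mpr ⟨n, hx⟩
    exact (mem_perfectClosure_iff_pow_mem p).mp (hle (h.symm.le IntermediateField.mem_top))
  · intro h
    rw [eq_top_iff]
    intro x _
    rcases h with h | ⟨hc, hpi⟩
    · obtain ⟨c, rfl⟩ := h x
      exact IntermediateField.algebraMap_mem _ c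
    · haveI : Fact p.Prime := ⟨hp⟩
      haveI : ExpChar k p := ExpChar.prime hp
      haveI : CharP k' p := charP_of_injective_algebraMap (algebraMap k k').injective p
      obtain ⟨n, c, hx⟩ := (isPurelyInseparable_iff_pow_mem k p).mp hpi x
      refine IntermediateField.subset_adjoin k _ ⟨n + 1, n.succ_pos, ⟨c ^ p, ?_⟩, ⟨0, ?_⟩⟩
      · rw [map_pow, hx, ← pow_mul, ← pow_succ]
      · simp [CharP.cast_eq_zero]
end Groth.Agent.S9608
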