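import Groth.Statements.S9609
import Mathlib
import Groth.Agent.CAlgBasics.UnivInjective

set_option autoImplicit false
universe u
open CAlg

namespace Groth.Agent.S9609

open TensorProduct in
/-- Let R → S be a ring map which is injective on spectra and whose residue field extensions κ(p) → κ(q)
(q a prime of S with inverse image p) are purely inseparable: every element of κ(q) has a power with
exponent a power of the characteristic exponent lying in the image of κ(p). Then, given an arbitrary
R-algebra R', the induced map R' → R' ⊗_R S is likewise injective on spectra and has purely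
inseparable residue field extensions. -/
theorem result {R S R' : Type u} [CommRing R] [CommRing S] [CommRing R'] [Algebra R S] [Algebra R R']
    (hinj : Function.Injective (PrimeSpectrum.comap (algebraMap R S)))
    (hpi : ∀ (q : Ideal S) [q.IsPrime] (x : q.ResidueField), ∃ n : ℕ, x ^ (ringExpChar (q.comap (algebraMap R S)).ResidueField) ^ n ∈ Set.range (Ideal.ResidueField.map (q.comap (algebraMap R S)) q (algebraMap R S) rfl)) :
    Function.Injective (PrimeSpectrum.comap (algebraMap R' (R' ⊗[R] S))) ∧
      ∀ (q' : Ideal (R' ⊗[R] S)) [q'.IsPrime] (x : q'.ResidueField), ∃ n : ℕ, x ^ (ringExpChar (q'.comap (algebraMap R' (R' ⊗[R] S))).ResidueField) ^ n ∈ Set.range (Ideal.ResidueField.map (q'.comap (algebraMap R' (R' ⊗[R] S))) q' (algebraMap R' (R' ⊗[R] S)) rfl) := by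
  have h := Groth.Agent.CAlgBasics.fieldExt_of_injective_of_pow_mem hinj hpi
  have h' : Groth.Agent.CAlgBasics.FieldExt R' (R' ⊗[R] S) := by
    intro K _ g g' hg
    let iS : S →+* R' ⊗[R] S := (Algebra.TensorProduct.includeRight : S →ₐ[R] R' ⊗[R] S).toRingHom
    have hS : g.comp iS = g'.comp iS := h K _ _ (RingHom.ext fun r => by
      simp only [RingHom.comp_apply, iS, AlgHom.toRingHom_eq_coe, RingHom.coe_coe, AlgHom.commutes]
      rw [IsScalarTower.algebraMap_apply R R' (R' ⊗[R] S)]
      exact DFunLike.congr_fun hg _)
    refine RingHom.ext fun z => ?_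
    induction z using TensorProduct.induction_on with
    | zero => rw [map_zero, map_zero]
    | add a b ha hb => rw [map_add, map_add, ha, hb]
    | tmul a b =>
      have e : a ⊗ₜ[R] b = algebraMap R' (R' ⊗[R] S) a * iS b := by
        simp [iS, Algebra.TensorProduct.algebraMap_apply]
      rw [e, map_mul, map_mul]
      exact congrArg₂ (· * ·) (DFunLike.congr_fun hg a) (DFunLike.congr_fun hS b)
  exact ⟨Groth.Agent.CAlgBasics.injective_comap_of_fieldExt h',
    fun q' _ x => Groth.Agent.CAlgBasics.pow_mem_of_fieldExt h' q' x⟩

end Groth.Agent.S9609
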