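import Groth.Statements.S9610
import Mathlib

set_option autoImplicit false
universe u
open CAlg

namespace Groth.Agent.S9610

/-- Let k be a field and V a nonzero k-vector space with dim_k V < #k as cardinals. Then every k-linear
endomorphism T of V admits a monic polynomial P over k for which P(T) is not invertible. -/
theorem result {k V : Type u} [Field k] [AddCommGroup V] [Module k V] [Nontrivial V] (hV : Module.rank k V < Cardinal.mk k) (T : Module.End k V) :
    ∃ P : Polynomial k, P.Monic ∧ ¬ IsUnit (Polynomial.aeval T P) := by
  classical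
  by_contra hc
  push Not at hc
  have hunit : ∀ P : Polynomial k, P ≠ 0 → IsUnit (Polynomial.aeval T P) := fun P hP => by
    have h := hc _ (Polynomial.monic_mul_leadingCoeff_inv hP)
    rw [map_mul, Polynomial.aeval_C] at h
    have h2 : IsUnit (algebraMap k (Module.End k V) P.leadingCoeff⁻¹) :=
      (isUnit_iff_ne_zero.mpr (inv_ne_zero (Polynomial.leadingCoeff_ne_zero.mpr hP))).map _
    exact (h2.unit.isUnit_mul_units _).mp (by simpa using h)
  obtain ⟨v, hv⟩ := exists_ne (0 : V)
  have hu : ∀ a : k, IsUnit (Polynomial.aeval T (Polynomial.X - Polynomial.C a)) := fun a => hunit _ (Polynomial.X_sub_C_ne_zero a)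
  choose u hu using fun a => hu a
  have hli : LinearIndependent k (fun a : k => ((u a)⁻¹ : (Module.End k V)ˣ).val v) := by
    refine linearIndependent_iff'.mpr fun s g hsum i hi => ?_
    let P : Polynomial k := ∑ a ∈ s, Polynomial.C (g a) * ∏ b ∈ s.erase a, (Polynomial.X - Polynomial.C b)
    let Q : Polynomial k := ∏ b ∈ s, (Polynomial.X - Polynomial.C b)
    have hPv : Polynomial.aeval T P v = 0 := by
      have h0 := congrArg (Polynomial.aeval T Q) hsum
      rw [map_zero, map_sum] at h0
      rw [map_sum, LinearMap.sum_apply, ← h0]
      refine Finset.sum_congr rfl fun a ha => ?_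
      have hQ : Q = (∏ b ∈ s.erase a, (Polynomial.X - Polynomial.C b)) * (Polynomial.X - Polynomial.C a) :=
        (Finset.prod_erase_mul s _ ha).symm
      rw [hQ, map_mul, map_mul, ← hu a, Polynomial.aeval_C, Module.End.mul_apply, Module.End.mul_apply, map_smul,
        ← Module.End.mul_apply (u a).val, Units.mul_inv, Module.End.one_apply, map_smul, Module.algebraMap_end_apply]
    have hP : P = 0 := by
      by_contra hP
      obtain ⟨w, hw⟩ := hunit P hP
      refine hv ?_
      have := congrArg (fun x => (↑w⁻¹ : Module.End k V) x) hPv
      simp only [map_zero] at this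
      rwa [← hw, ← Module.End.mul_apply, Units.inv_mul, Module.End.one_apply] at this
    have h1 := congrArg (Polynomial.eval i) hP
    rw [Polynomial.eval_finset_sum, Finset.sum_eq_single i, Polynomial.eval_zero, Polynomial.eval_mul, Polynomial.eval_C, mul_eq_zero] at h1
    · refine h1.resolve_right ?_
      rw [Polynomial.eval_prod]
      refine Finset.prod_ne_zero_iff.mpr ?_
      intro b hb
      simpa [sub_eq_zero] using Ne.symm (Finset.ne_of_mem_erase hb)
    · intro b _ hbi
      rw [Polynomial.eval_mul, Polynomial.eval_prod, Finset.prod_eq_zero (Finset.mem_erase.mpr ⟨hbi.symm, hi⟩) (by simp), mul_zero]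
    · exact fun h => absurd hi h
  exact absurd hli.cardinal_le_rank hV.not_ge

end Groth.Agent.S9610
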