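import Groth.Statements.S9611

set_option autoImplicit false
universe u
open CAlg

namespace Groth.Agent.S9611

/-- Let R be a Jacobson ring, p a prime ideal of R which is not maximal, and f an element of R not in p.
Then the set of primes of R containing p and not containing f is infinite. -/
theorem result {R : Type u} [CommRing R] [IsJacobsonRing R] (p : Ideal R) [p.IsPrime] (hp : ¬ p.IsMaximal) (f : R) (hf : f ∉ p) :
    {q : PrimeSpectrum R | p ≤ q.asIdeal ∧ f ∉ q.asIdeal}.Infinite := by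
  intro hfin
  have hP : sInf {m : Ideal R | p ≤ m ∧ m.IsMaximal} = p := by
    rw [← Ideal.jacobson]; exact (Ideal.radical_eq_jacobson p).symm.trans (Ideal.IsPrime.radical inferInstance)
  have hfin' : {m : Ideal R | p ≤ m ∧ m.IsMaximal ∧ f ∉ m}.Finite := by
    refine (hfin.image PrimeSpectrum.asIdeal).subset ?_
    rintro m ⟨h1, h2, h3⟩
    exact ⟨⟨m, h2.isPrime⟩, ⟨h1, h3⟩, rfl⟩
  have hg : ∀ m ∈ hfin'.toFinset, ∃ g ∈ m, g ∉ p := by
    intro m hm
    simp only [Set.Finite.mem_toFinset, Set.mem_setOf_eq] at hm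
    by_contra hc
    push Not at hc
    exact hp ((le_antisymm hc hm.1) ▸ hm.2.1)
  choose G hG hG' using hg
  have key : f * ∏ m : hfin'.toFinset, G m.1 m.2 ∈ p := by
    refine hP.le (Ideal.mem_sInf.mpr ?_)
    rintro m ⟨h1, h2⟩
    by_cases h3 : f ∈ m
    · exact Ideal.mul_mem_right _ _ h3
    · refine Ideal.mul_mem_left _ _ (h2.isPrime.prod_mem_iff.mpr ⟨⟨m, by simp [h1, h2, h3]⟩, Finset.mem_univ _, hG m _⟩)
  rcases Ideal.IsPrime.mem_or_mem inferInstance key with h | h
  · exact hf h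
  · obtain ⟨m, -, hm⟩ := Ideal.IsPrime.prod_mem_iff.mp h
    exact hG' m.1 m.2 hm

end Groth.Agent.S9611
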