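import Groth.Statements.S9612
import Mathlib

set_option autoImplicit false
universe u
open CAlg

namespace Groth.Agent.S9612

/-- A finite type ℤ-algebra is a Jacobson ring. -/
theorem result {S : Type u} [CommRing S] [Algebra.FiniteType ℤ S] :
    IsJacobsonRing S := by
  haveI : IsJacobsonRing ℤ := by
    rw [isJacobsonRing_iff_prime_eq]
    intro P hP
    by_cases h0 : P = ⊥
    · subst h0
      refine le_antisymm (fun x hx => ?_) Ideal.le_jacobson
      obtain ⟨z, hz⟩ := Ideal.mem_jacobson_iff.mp hx x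
      rw [Ideal.mem_bot] at hz ⊢
      rcases Int.mul_eq_one_iff_eq_one_or_neg_one.mp (show z * (x * x + 1) = 1 by linarith) with ⟨_, h⟩ | ⟨_, h⟩ <;> nlinarith
    · exact Ideal.jacobson_eq_self_of_isMaximal (H := hP.isMaximal h0)
  obtain ⟨n, f, hf⟩ := Algebra.FiniteType.iff_quotient_mvPolynomial''.mp ‹Algebra.FiniteType ℤ S›
  exact isJacobsonRing_of_surjective ⟨f.toRingHom, hf⟩

end Groth.Agent.S9612
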