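import Groth.Statements.S9613
import Mathlib

set_option autoImplicit false
universe u
open CAlg

namespace Groth.Agent.S9613

/-- Let R → K be an injective ring map into a field K which makes K an R-algebra of finite type. Then
for some nonzero f ∈ R the localization R_f is a field over which K is finite; here R_f is realised
as the R-subalgebra of K that is a localization of R away from f. -/
theorem result {R K : Type u} [CommRing R] [Field K] [Algebra R K] (hinj : Function.Injective (algebraMap R K)) [Algebra.FiniteType R K] :
    ∃ f : R, f ≠ 0 ∧ ∃ Rf : Subalgebra R K, IsLocalization.Away f Rf ∧ IsField Rf ∧ Module.Finite Rf K := by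
  classical
  haveI : FaithfulSMul R K := (faithfulSMul_iff_algebraMap_injective R K).mpr hinj
  haveI : IsDomain R := hinj.isDomain _
  letI : Algebra (FractionRing R) K := FractionRing.liftAlgebra R K
  haveI : Algebra.FiniteType (FractionRing R) K := Algebra.FiniteType.of_restrictScalars_finiteType R _ _
  haveI : Module.Finite (FractionRing R) K := finite_of_finite_type_of_isJacobsonRing (FractionRing R) K
  haveI : Algebra.IsAlgebraic R K := (IsFractionRing.comap_isAlgebraic_iff (K := FractionRing R)).mpr inferInstance
  obtain ⟨G, hG⟩ := (inferInstance : Algebra.FiniteType R K)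
  have hx : ∀ x : K, ∃ y : R, y ≠ 0 ∧ IsIntegral R (y • x) := fun x =>
    (Algebra.IsAlgebraic.isAlgebraic x).exists_integral_multiple
  choose y hy0 hy using hx
  let f := ∏ x ∈ G, y x
  have hf : f ≠ 0 := Finset.prod_ne_zero_iff.mpr fun x _ => hy0 x
  have hu : IsUnit (algebraMap R K f) := isUnit_iff_ne_zero.mpr ((map_ne_zero_iff _ hinj).mpr hf)
  let φ : Localization.Away f →ₐ[R] K :=
    ⟨IsLocalization.Away.lift f hu, fun r => IsLocalization.Away.lift_eq f hu r⟩
  have hφ : Function.Injective φ := by
    rw [injective_iff_map_eq_zero]
    intro z hz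
    obtain ⟨⟨a, s⟩, has⟩ := IsLocalization.surj (Submonoid.powers f) z
    have h1 := congrArg φ has
    rw [map_mul, hz, zero_mul, AlgHom.commutes] at h1
    have ha : a = 0 := hinj (by rw [← h1, map_zero])
    subst ha
    rw [map_zero] at has
    exact (IsLocalization.map_units (Localization.Away f) s).mul_left_eq_zero.mp has
  haveI hloc : IsLocalization.Away f φ.range :=
    IsLocalization.isLocalization_of_algEquiv (Submonoid.powers f) (AlgEquiv.ofInjective φ hφ)
  have hinv : (algebraMap R K f)⁻¹ ∈ φ.range := by
    obtain ⟨u, hu'⟩ := IsLocalization.Away.algebraMap_isUnit (S := φ.range) f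
    have h2 : ((u⁻¹ : (φ.range)ˣ) : φ.range).1 * algebraMap R K f = 1 := by
      have h3 := congrArg Subtype.val u.inv_mul
      rw [hu'] at h3
      exact h3
    rw [← eq_inv_of_mul_eq_one_left h2]
    exact ((u⁻¹ : (φ.range)ˣ) : φ.range).2
  haveI : Algebra.IsIntegral φ.range K := by
    refine ⟨fun z => ?_⟩
    have hz : z ∈ Algebra.adjoin R (G : Set K) := hG ▸ Algebra.mem_top
    induction hz using Algebra.adjoin_induction with
    | mem x hx =>
      have h4 : algebraMap R K (∏ w ∈ G.erase x, y w) * (y x • x) = algebraMap R K f * x := by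
        rw [Algebra.smul_def, ← mul_assoc, ← map_mul]
        show algebraMap R K _ * x = algebraMap R K (∏ w ∈ G, y w) * x
        rw [Finset.prod_erase_mul _ _ hx]
      have h5 : IsIntegral φ.range (algebraMap R K f * x) := by
        rw [← h4]
        exact ((isIntegral_algebraMap (R := R)).mul (hy x)).tower_top
      have h6 : x = (algebraMap R K f)⁻¹ * (algebraMap R K f * x) := (inv_mul_cancel_left₀ hu.ne_zero x).symm
      rw [h6]
      exact (isIntegral_algebraMap (x := (⟨_, hinv⟩ : φ.range))).mul h5
    | algebraMap r => exact (isIntegral_algebraMap (R := R)).tower_top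
    | add a b _ _ ha hb => exact ha.add hb
    | mul a b _ _ ha hb => exact ha.mul hb
  haveI : Algebra.FiniteType φ.range K := Algebra.FiniteType.of_restrictScalars_finiteType R _ _
  exact ⟨f, hf, φ.range, hloc, isField_of_isIntegral_of_isField (R := φ.range) (S := K) Subtype.val_injective
    (Field.toIsField K), Algebra.IsIntegral.finite⟩
end Groth.Agent.S9613
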