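import Groth.Statements.S9614
import Mathlib

set_option autoImplicit false
universe u
open CAlg

namespace Groth.Agent.S9614

/-- Let S be an ℕ-graded ring and M a finitely generated graded S-module, graded in nonnegative degrees
(the source allows all integer degrees). If x_1, …, x_n are homogeneous elements of M which generate
M modulo S₊ M (S₊ the irrelevant ideal), then x_1, …, x_n generate M. -/
theorem result {R S : Type u} [CommRing R] [CommRing S] [Algebra R S] (𝒜 : ℕ → Submodule R S) [GradedAlgebra 𝒜]
    (M : Type u) [AddCommGroup M] [Module R M] [Module S M] [IsScalarTower R S M] [Module.Finite S M] (ℳ : ℕ → Submodule R M) [DirectSum.Decomposition ℳ] [SetLike.GradedSMul 𝒜 ℳ]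
    {n : ℕ} (x : Fin n → M) (hx : ∀ i, SetLike.IsHomogeneousElem ℳ (x i))
    (h : Submodule.span S (Set.range x) ⊔ (HomogeneousIdeal.irrelevant 𝒜).toIdeal • (⊤ : Submodule S M) = ⊤) :
    Submodule.span S (Set.range x) = ⊤ := by
  classical
  set N := Submodule.span S (Set.range x) with hN
  have hcomp : ∀ (s : S) (e : ℕ) (z : M), z ∈ ℳ e → z ∈ N → ∀ d, ((DirectSum.decompose ℳ (s • z) d : ℳ d) : M) ∈ N := by
    intro s e z hz hzN d
    induction s using DirectSum.Decomposition.inductionOn 𝒜 with
    | zero => simp
    | @homogeneous j a =>
      have hmem : (a : S) • z ∈ ℳ (j + e) := SetLike.GradedSMul.smul_mem a.2 hz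
      by_cases hd : j + e = d
      · subst hd
        rw [DirectSum.decompose_of_mem_same ℳ hmem]
        exact N.smul_mem _ hzN
      · rw [DirectSum.decompose_of_mem_ne ℳ hmem hd]; exact N.zero_mem
    | add a b ha hb => rw [add_smul, DirectSum.decompose_add]; exact N.add_mem ha hb
  have hall : ∀ d, ∀ z ∈ ℳ d, z ∈ N := by
    intro d
    induction d using Nat.strong_induction_on with
    | _ d ih =>
      have hirr : ∀ s : S, ∀ z : M, ((DirectSum.decompose ℳ ((s - ((DirectSum.decompose 𝒜 s 0 : 𝒜 0) : S)) • z) d : ℳ d) : M) ∈ N := by
        intro s z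
        induction s using DirectSum.Decomposition.inductionOn 𝒜 with
        | zero => simp
        | @homogeneous j a =>
          by_cases hj : j = 0
          · subst hj
            rw [DirectSum.decompose_of_mem_same 𝒜 a.2, sub_self, zero_smul]; simp
          rw [DirectSum.decompose_of_mem_ne 𝒜 a.2 hj, sub_zero]
          induction z using DirectSum.Decomposition.inductionOn ℳ with
          | zero => simp
          | @homogeneous e b =>
            have hmem : (a : S) • (b : M) ∈ ℳ (j + e) := SetLike.GradedSMul.smul_mem a.2 b.2
            by_cases hd : j + e = d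
            · subst hd
              rw [DirectSum.decompose_of_mem_same ℳ hmem]
              exact N.smul_mem _ (ih e (by omega) _ b.2)
            · rw [DirectSum.decompose_of_mem_ne ℳ hmem hd]; exact N.zero_mem
          | add b b' hb hb' => rw [smul_add, DirectSum.decompose_add]; exact N.add_mem hb hb'
        | add a b ha hb =>
          rw [DirectSum.decompose_add, DirectSum.add_apply, AddMemClass.coe_add, add_sub_add_comm, add_smul, DirectSum.decompose_add]
          exact N.add_mem ha hb
      intro z hz
      have hz' : z ∈ N ⊔ (HomogeneousIdeal.irrelevant 𝒜).toIdeal • (⊤ : Submodule S M) := h.symm.le trivial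
      obtain ⟨w, hw, w', hw', rfl⟩ := Submodule.mem_sup.mp hz'
      rw [← DirectSum.decompose_of_mem_same ℳ hz, DirectSum.decompose_add, DirectSum.add_apply, AddMemClass.coe_add]
      refine N.add_mem ?_ ?_
      · rw [hN, Submodule.mem_span_range_iff_exists_fun] at hw
        obtain ⟨c, rfl⟩ := hw
        rw [DirectSum.decompose_sum, DFinsupp.finsetSum_apply, AddSubmonoidClass.coe_finsetSum]
        refine N.sum_mem fun i _ => ?_
        obtain ⟨e, he⟩ := hx i
        exact hcomp (c i) e (x i) he (Submodule.subset_span ⟨i, rfl⟩) d
      · refine Submodule.smul_induction_on hw' (fun r hr m _ => ?_) (fun a b ha hb => ?_)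
        · have h0 : ((DirectSum.decompose 𝒜 r 0 : 𝒜 0) : S) = 0 := (HomogeneousIdeal.mem_irrelevant_iff 𝒜 r).mp hr
          simpa [h0] using hirr r m
        · rw [DirectSum.decompose_add, DirectSum.add_apply, AddMemClass.coe_add]; exact N.add_mem ha hb
  rw [eq_top_iff]
  intro z hz
  clear hz
  induction z using DirectSum.Decomposition.inductionOn ℳ with
  | zero => exact N.zero_mem
  | @homogeneous e b => exact hall e _ b.2
  | add a b ha hb => exact N.add_mem ha hb
end Groth.Agent.S9614
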