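import Groth.Statements.S9615
import Mathlib

set_option autoImplicit false
universe u
open CAlg

namespace Groth.Agent.S9615

/-- Let R → S be a homomorphism of ℕ-graded rings, i.e. the structure map carries each graded piece R_i
into S_i. If an element s of S is integral over R, then each homogeneous component of s is integral
over R; so the integral closure of R in S is a graded subring of S. -/
theorem result {R S : Type u} [CommRing R] [CommRing S] [Algebra R S] (ℛ : ℕ → AddSubgroup R) [GradedRing ℛ] (𝒮 : ℕ → AddSubgroup S) [GradedRing 𝒮]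
    (hmap : ∀ i : ℕ, ∀ r ∈ ℛ i, algebraMap R S r ∈ 𝒮 i) (s : S) (hs : IsIntegral R s) (i : ℕ) :
    IsIntegral R ((DirectSum.decompose 𝒮 s i : 𝒮 i) : S) := by
  classical
  let Φ : S →+* Polynomial S :=
    (DirectSum.toSemiring (A := fun i => 𝒮 i)
      (fun i => ((AddMonoidHom.mulRight ((Polynomial.X : Polynomial S) ^ i)).comp
        ((Polynomial.C : S →+* Polynomial S).toAddMonoidHom.comp (𝒮 i).subtype)))
      (by simp) (fun {a b} x y => by simp [pow_add]; ring)).comp (DirectSum.decomposeRingEquiv 𝒮).toRingHom
  let Ψ : R →+* Polynomial R :=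
    (DirectSum.toSemiring (A := fun i => ℛ i)
      (fun i => ((AddMonoidHom.mulRight ((Polynomial.X : Polynomial R) ^ i)).comp
        ((Polynomial.C : R →+* Polynomial R).toAddMonoidHom.comp (ℛ i).subtype)))
      (by simp) (fun {a b} x y => by simp [pow_add]; ring)).comp (DirectSum.decomposeRingEquiv ℛ).toRingHom
  have hΦ : ∀ (j : ℕ) (x : S), x ∈ 𝒮 j → Φ x = Polynomial.C x * Polynomial.X ^ j := fun j x hx => by
    simp only [Φ, RingHom.comp_apply]
    change DirectSum.toSemiring _ _ _ (DirectSum.decompose 𝒮 x) = _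
    rw [DirectSum.decompose_of_mem 𝒮 hx, DirectSum.toSemiring_of]
    rfl
  have hΨ : ∀ (j : ℕ) (x : R), x ∈ ℛ j → Ψ x = Polynomial.C x * Polynomial.X ^ j := fun j x hx => by
    simp only [Ψ, RingHom.comp_apply]
    change DirectSum.toSemiring _ _ _ (DirectSum.decompose ℛ x) = _
    rw [DirectSum.decompose_of_mem ℛ hx, DirectSum.toSemiring_of]
    rfl
  have hcomm : Φ.comp (algebraMap R S) = (Polynomial.mapRingHom (algebraMap R S)).comp Ψ := by
    refine RingHom.ext fun r => ?_
    induction r using DirectSum.Decomposition.inductionOn ℛ with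
    | zero => simp
    | @homogeneous j m =>
      simp only [RingHom.comp_apply]
      rw [hΨ j m m.2, hΦ j _ (hmap j m m.2)]
      simp
    | add a b ha hb => simp only [map_add, ha, hb]
  letI := Polynomial.algebra R S
  have hint : IsIntegral (Polynomial R) (Φ s) := by
    obtain ⟨p, hp, hev⟩ := hs
    refine ⟨p.map Ψ, hp.map Ψ, ?_⟩
    rw [Polynomial.eval₂_map]
    have := congrArg Φ hev
    rw [map_zero, Polynomial.hom_eval₂, hcomm] at this
    exact this
  have h1 := hint.coeff i
  have hcoeff : (Φ s).coeff i = ((DirectSum.decompose 𝒮 s i : 𝒮 i) : S) := by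
    clear h1 hint hs
    induction s using DirectSum.Decomposition.inductionOn 𝒮 with
    | zero => simp
    | @homogeneous j m =>
      rw [hΦ j m m.2, Polynomial.coeff_C_mul, Polynomial.coeff_X_pow]
      by_cases hij : i = j
      · subst hij; simp [DirectSum.decompose_of_mem_same 𝒮 m.2]
      · rw [DirectSum.decompose_of_mem_ne 𝒮 m.2 (Ne.symm hij)]; simp [hij]
    | add a b ha hb => simp [ha, hb]
  rwa [hcoeff] at h1

end Groth.Agent.S9615
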