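import Groth.Statements.S9617
import Mathlib

set_option autoImplicit false
universe u
open CAlg

namespace Groth.Agent.S9617

/-- Let S be an ℕ-graded ring, presented as a graded algebra over a ring A mapping onto S₀, such that S
is of finite type over A, i.e. over S₀. If M is a finitely generated graded S-module, graded in
nonnegative degrees (the source allows all integer degrees), then each graded piece M_n is a finite
module over A, i.e. over S₀. -/
theorem result {A S : Type u} [CommRing A] [CommRing S] [Algebra A S] (𝒜 : ℕ → Submodule A S) [GradedAlgebra 𝒜]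
    (h0 : ∀ s ∈ 𝒜 0, s ∈ Set.range (algebraMap A S)) [Algebra.FiniteType A S]
    (M : Type u) [AddCommGroup M] [Module A M] [Module S M] [IsScalarTower A S M] [Module.Finite S M] (ℳ : ℕ → Submodule A M) [DirectSum.Decomposition ℳ] [SetLike.GradedSMul 𝒜 ℳ] (n : ℕ) :
    Module.Finite A (ℳ n) := by
  classical
  obtain ⟨F, hF⟩ := (inferInstance : Algebra.FiniteType A S).out
  obtain ⟨G, hG⟩ := (inferInstance : Module.Finite S M).fg_top
  let H : Finset (ℕ × S) := F.biUnion fun f => (Finset.filter (fun i => i ≠ 0) (DirectSum.decompose 𝒜 f).support).image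
    fun i => (i, ((DirectSum.decompose 𝒜 f i : 𝒜 i) : S))
  have hHpos : ∀ x ∈ H, x.1 ≠ 0 ∧ x.2 ∈ 𝒜 x.1 := fun x hx => by
    simp only [H, Finset.mem_biUnion, Finset.mem_image, Finset.mem_filter] at hx
    obtain ⟨f, _, i, ⟨_, hi⟩, rfl⟩ := hx
    exact ⟨hi, SetLike.coe_mem _⟩
  have hHgen : Algebra.adjoin A (((fun x : ℕ × S => x.2) '' (H : Set (ℕ × S)))) = ⊤ := by
    rw [eq_top_iff, ← hF, Algebra.adjoin_le_iff]
    intro f hf
    rw [SetLike.mem_coe, ← DirectSum.sum_support_decompose 𝒜 f]
    refine Subalgebra.sum_mem _ fun i hi => ?_
    by_cases hi0 : i = 0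
    · subst hi0
      obtain ⟨a, ha⟩ := h0 _ (SetLike.coe_mem (DirectSum.decompose 𝒜 f 0))
      exact ha ▸ Subalgebra.algebraMap_mem _ a
    · exact Algebra.subset_adjoin ⟨(i, _), Finset.mem_biUnion.mpr ⟨f, hf, Finset.mem_image_of_mem _ (Finset.mem_filter.mpr ⟨hi, hi0⟩)⟩, rfl⟩
  have hmain : ∀ n, (ℳ n).FG := by
    intro n
    induction n using Nat.strong_induction_on with
    | _ n ih =>
      let mul : S → (M →ₗ[A] M) := fun s => (LinearMap.lsmul S M s).restrictScalars A
      let W : Submodule A M := Submodule.span A ((fun g => ((DirectSum.decompose ℳ g n : ℳ n) : M)) '' (G : Set M)) ⊔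
        (H.filter fun x => x.1 ≤ n).sup fun x => (ℳ (n - x.1)).map (mul x.2)
      have hW : W.FG := by
        refine Submodule.FG.sup (Submodule.fg_span (G.finite_toSet.image _)) ?_
        refine Finset.sup_induction Submodule.fg_bot (fun a ha b hb => ha.sup hb) fun x hx => ?_
        rw [Finset.mem_filter] at hx
        exact (ih _ (by have := (hHpos x hx.1).1; omega)).map _
      have hle : W ≤ ℳ n := by
        refine sup_le (Submodule.span_le.mpr ?_) (Finset.sup_le fun x hx => ?_)
        · rintro _ ⟨g, _, rfl⟩; exact SetLike.coe_mem _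
        · rw [Finset.mem_filter] at hx
          rintro _ ⟨y, hy, rfl⟩
          have := SetLike.GradedSMul.smul_mem (A := 𝒜) (B := ℳ) (hHpos x hx.1).2 hy
          rwa [vadd_eq_add, Nat.add_sub_cancel' hx.2] at this
      have hstep : ∀ (s : S) (x : M), ((DirectSum.decompose ℳ x n : ℳ n) : M) ∈ W →
          ((DirectSum.decompose ℳ (s • x) n : ℳ n) : M) ∈ W := by
        intro s
        have hs : s ∈ Algebra.adjoin A (((fun x : ℕ × S => x.2) '' (H : Set (ℕ × S)))) := hHgen ▸ Algebra.mem_top
        induction hs using Algebra.adjoin_induction with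
        | mem y hy =>
          intro x hx'
          clear hx'
          obtain ⟨⟨d, h⟩, hdh, rfl⟩ := hy
          obtain ⟨hd0, hdm⟩ := hHpos _ hdh
          induction x using DirectSum.Decomposition.inductionOn ℳ with
          | zero => simp
          | @homogeneous e b =>
            have hmem : h • (b : M) ∈ ℳ (d + e) := SetLike.GradedSMul.smul_mem (A := 𝒜) (B := ℳ) hdm b.2
            by_cases hd : d + e = n
            · subst hd
              rw [DirectSum.decompose_of_mem_same ℳ hmem]
              refine Submodule.mem_sup_right (Finset.le_sup (f := fun x : ℕ × S => (ℳ (d + e - x.1)).map (mul x.2)) (Finset.mem_filter.mpr ⟨hdh, by omega⟩ : (d, h) ∈ _) ?_)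
              exact ⟨b, by show (b : M) ∈ ℳ (d + e - d); rw [Nat.add_sub_cancel_left]; exact b.2, rfl⟩
            · rw [DirectSum.decompose_of_mem_ne ℳ hmem hd]; exact W.zero_mem
          | add b b' hb hb' => rw [smul_add, DirectSum.decompose_add]; exact W.add_mem hb hb'
        | algebraMap a =>
          intro x hx
          rw [algebraMap_smul]
          have : ((DirectSum.decompose ℳ (a • x) n : ℳ n) : M) = a • ((DirectSum.decompose ℳ x n : ℳ n) : M) := by
            clear hx
            induction x using DirectSum.Decomposition.inductionOn ℳ with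
            | zero => simp
            | @homogeneous e b =>
              by_cases hd : e = n
              · subst hd
                rw [DirectSum.decompose_of_mem_same ℳ b.2, DirectSum.decompose_of_mem_same ℳ ((ℳ e).smul_mem a b.2)]
              · rw [DirectSum.decompose_of_mem_ne ℳ b.2 hd, DirectSum.decompose_of_mem_ne ℳ ((ℳ e).smul_mem a b.2) hd, smul_zero]
            | add b b' hb hb' =>
              simp only [smul_add, DirectSum.decompose_add, DirectSum.add_apply, AddMemClass.coe_add, hb, hb']
          rw [this]
          exact W.smul_mem a hx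
        | add y z _ _ hy hz =>
          intro x hx
          rw [add_smul, DirectSum.decompose_add]
          exact W.add_mem (hy x hx) (hz x hx)
        | mul y z _ _ hy hz =>
          intro x hx
          rw [mul_smul]
          exact hy _ (hz x hx)
      have hall : ∀ x : M, ((DirectSum.decompose ℳ x n : ℳ n) : M) ∈ W := fun x => by
        have hx : x ∈ Submodule.span S (G : Set M) := hG ▸ Submodule.mem_top
        induction hx using Submodule.span_induction with
        | mem g hg => exact Submodule.mem_sup_left (Submodule.subset_span ⟨g, hg, rfl⟩)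
        | zero => simp
        | add a b _ _ ha hb => rw [DirectSum.decompose_add]; exact W.add_mem ha hb
        | smul s a _ ha => exact hstep s a ha
      have : W = ℳ n := le_antisymm hle fun x hx => DirectSum.decompose_of_mem_same ℳ hx ▸ hall x
      exact this ▸ hW
  exact Module.Finite.iff_fg.mpr (hmain n)
end Groth.Agent.S9617
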