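import Groth.Statements.S9618
import Groth.Agent.S9620

set_option autoImplicit false
universe u
open CAlg

namespace Groth.Agent.S9618

/-- For a ring R and a subset T of Spec R the following are equivalent: (1) T is closed and contains the
connected component of each of its points; (2) T can be written as an intersection of subsets of
Spec R that are both open and closed; (3) T is the common zero locus of some set of idempotent
elements of R (equivalently, of the ideal they generate). -/
theorem result {R : Type u} [CommRing R] (T : Set (PrimeSpectrum R)) :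
    [IsClosed T ∧ ∀ x ∈ T, connectedComponent x ⊆ T,
      ∃ U : Set (Set (PrimeSpectrum R)), (∀ u ∈ U, IsClopen u) ∧ T = ⋂₀ U,
      ∃ E : Set R, (∀ e ∈ E, IsIdempotentElem e) ∧ T = PrimeSpectrum.zeroLocus E].TFAE := by
  tfae_have 1 → 3 := by
    rintro ⟨hc, hcomp⟩
    refine ⟨{e | IsIdempotentElem e ∧ T ⊆ PrimeSpectrum.zeroLocus {e}}, fun e he => he.1, ?_⟩
    refine subset_antisymm (fun y hy e he => he.2 hy (Set.mem_singleton e)) fun x hx => ?_
    by_contra hxT
    obtain ⟨J, rfl⟩ := (PrimeSpectrum.isClosed_iff_zeroLocus_ideal T).mp hc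
    have hempty : PrimeSpectrum.zeroLocus ((Ideal.span {e : R | IsIdempotentElem e ∧ e ∈ x.asIdeal} ⊔ J : Ideal R) : Set R) = ∅ := by
      rw [PrimeSpectrum.zeroLocus_sup, PrimeSpectrum.zeroLocus_span, ← (Groth.Agent.S9620.result x).1]
      rw [Set.eq_empty_iff_forall_notMem]
      rintro y ⟨hy, hyT⟩
      have hxy : x ∈ connectedComponent y := connectedComponent_eq hy ▸ mem_connectedComponent
      exact hxT (hcomp y hyT hxy)
    rw [PrimeSpectrum.zeroLocus_empty_iff_eq_top, Ideal.eq_top_iff_one, Submodule.mem_sup] at hempty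
    obtain ⟨a, ha, j, hj, haj⟩ := hempty
    have hjoin : ∀ a ∈ Ideal.span {e : R | IsIdempotentElem e ∧ e ∈ x.asIdeal}, ∃ f, IsIdempotentElem f ∧ f ∈ x.asIdeal ∧ a * (1 - f) = 0 := by
      intro a ha
      induction ha using Submodule.span_induction with
      | mem e he => exact ⟨e, he.1, he.2, by rw [mul_sub, mul_one, he.1.eq, sub_self]⟩
      | zero => exact ⟨0, IsIdempotentElem.zero, x.asIdeal.zero_mem, by simp⟩
      | add a b _ _ ha hb =>
        obtain ⟨f, hf, hf2, hf'⟩ := ha
        obtain ⟨g, hg, hg2, hg'⟩ := hb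
        refine ⟨1 - (1 - f) * (1 - g), ((hf.one_sub).mul hg.one_sub).one_sub, ?_, by linear_combination (1 - g) * hf' + (1 - f) * hg'⟩
        rw [show 1 - (1 - f) * (1 - g) = f + g * (1 - f) by ring]
        exact add_mem hf2 (Ideal.mul_mem_right _ _ hg2)
      | smul c a _ ha =>
        obtain ⟨f, hf, hf2, hf'⟩ := ha
        exact ⟨f, hf, hf2, by rw [smul_eq_mul, mul_assoc, hf', mul_zero]⟩
    obtain ⟨f, hf, hf2, hf'⟩ := hjoin a ha
    have hTe : PrimeSpectrum.zeroLocus (J : Set R) ⊆ PrimeSpectrum.zeroLocus {1 - f} := by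
      intro y hy
      rw [PrimeSpectrum.mem_zeroLocus, Set.singleton_subset_iff, SetLike.mem_coe]
      rw [show 1 - f = (1 - f) * j by linear_combination hf' - (1 - f) * haj]
      exact Ideal.mul_mem_left _ _ (hy hj)
    have h1 : 1 - f ∈ x.asIdeal := hx ⟨hf.one_sub, hTe⟩
    exact x.2.ne_top ((Ideal.eq_top_iff_one _).mpr (by simpa using add_mem h1 hf2))
  tfae_have 3 → 2 := by
    rintro ⟨E, hE, rfl⟩
    refine ⟨(fun e => PrimeSpectrum.zeroLocus {e}) '' E, ?_, ?_⟩
    · rintro _ ⟨e, he, rfl⟩
      exact PrimeSpectrum.isClopen_iff_zeroLocus.mpr ⟨e, hE e he, rfl⟩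
    · ext y
      simp [PrimeSpectrum.mem_zeroLocus, Set.subset_def]
  tfae_have 2 → 1 := by
    rintro ⟨U, hU, rfl⟩
    exact ⟨isClosed_sInter fun u hu => (hU u hu).1, fun y hy z hz u hu => (hU u hu).connectedComponent_subset (hy u hu) hz⟩
  tfae_finish

end Groth.Agent.S9618
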