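import Groth.Statements.S9621

set_option autoImplicit false
universe u
open CAlg

namespace Groth.Agent.S9621

/-- Let R be a ring, p a minimal prime of R and W a quasi-compact open subset of Spec R not containing
p. Then there is an f ∈ R, f ∉ p, whose basic open D(f) is disjoint from W. -/
theorem result {R : Type u} [CommRing R] (p : PrimeSpectrum R) (hp : p.asIdeal ∈ minimalPrimes R) (W : Set (PrimeSpectrum R)) (hWo : IsOpen W) (hWc : IsCompact W) (hpW : p ∉ W) :
    ∃ f : R, f ∉ p.asIdeal ∧ Disjoint (PrimeSpectrum.basicOpen f : Set (PrimeSpectrum R)) W := by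
  obtain ⟨t, ht⟩ := PrimeSpectrum.isCompact_isOpen_iff.mp ⟨hWc, hWo⟩
  classical
  have hg : ∀ g ∈ t, ∃ f : R, f ∉ p.asIdeal ∧ IsNilpotent (f * g) := by
    intro g hg
    have hgp : g ∈ p.asIdeal := by
      by_contra h
      exact hpW (ht ▸ fun hz => h (hz hg))
    by_contra hc
    push Not at hc
    obtain ⟨q, hq, -, hdisj⟩ := Ideal.exists_le_prime_disjoint (⊥ : Ideal R) (p.asIdeal.primeCompl ⊔ Submonoid.powers g) (by
      rw [Set.disjoint_left]
      rintro x hx hx'
      obtain ⟨f, hf, y, ⟨n, rfl⟩, rfl⟩ := Submonoid.mem_sup.mp hx'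
      refine hc f hf ⟨n + 1, ?_⟩
      have hx0 : f * g ^ n = 0 := by simpa using hx
      rw [mul_pow, pow_succ g, ← mul_assoc, pow_succ f, mul_assoc (f ^ n), hx0]; simp)
    have hqp : q ≤ p.asIdeal := fun x hx => by
      by_contra h
      exact Set.disjoint_left.mp hdisj hx (Submonoid.mem_sup_left h)
    exact Set.disjoint_left.mp hdisj (hp.2 ⟨hq, bot_le⟩ hqp hgp) (Submonoid.mem_sup_right (Submonoid.mem_powers g))
  choose F hF hF' using hg
  refine ⟨∏ g : t, F g.1 g.2, fun h => ?_, ?_⟩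
  · obtain ⟨g, -, hg⟩ := p.2.prod_mem_iff.mp h
    exact hF g.1 g.2 hg
  · rw [Set.disjoint_left]
    intro q hq hqW
    rw [← ht] at hqW
    apply hqW
    intro g hg
    have h1 : F g hg * g ∈ q.asIdeal := q.2.radical ▸ nilradical_le_prime q.asIdeal |> fun _ => nilradical_le_prime q.asIdeal (hF' g hg)
    refine (q.2.mem_or_mem h1).resolve_left fun h2 => hq ?_
    exact q.2.prod_mem_iff.mpr ⟨⟨g, hg⟩, Finset.mem_univ _, h2⟩

end Groth.Agent.S9621
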