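import Groth.Statements.S9624
import Groth.Agent.GeomIrred.Ring
-- import your own Groth.Agent.* helpers here

set_option autoImplicit false
universe u
open CAlg CategoryTheory CategoryTheory.Limits AlgebraicGeometry

namespace Groth.Agent.S9624

open TensorProduct in
/-- Let k be a field, S a geometrically connected k-algebra (the spectrum of k' ⊗_k S is connected for
every field extension k'/k) and R any k-algebra. Then the map R → R ⊗_k S induces a bijection on
idempotents: each idempotent of R ⊗_k S comes from exactly one idempotent of R. Here the test fields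
range over field extensions in the universe of k; this is equivalent to the unrestricted notion,
since an algebraic closure of k suffices as a test. -/
theorem result {k R S : Type u} [Field k] [CommRing R] [CommRing S] [Algebra k R] [Algebra k S]
    (hS : ∀ (k' : Type u) [Field k'] [Algebra k k'], ConnectedSpace (PrimeSpectrum (k' ⊗[k] S)))
    (x : R ⊗[k] S) (hx : IsIdempotentElem x) :
    ∃! e : R, IsIdempotentElem e ∧ algebraMap R (R ⊗[k] S) e = x := by
  haveI := (GeomIrred.geometricallyConnected_iff_tensor k S).mpr hS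
  let fR := Spec.map (CommRingCat.ofHom (algebraMap k R))
  let fS := Spec.map (CommRingCat.ofHom (algebraMap k S))
  haveI : Subsingleton ↥(Spec (CommRingCat.of k)) := inferInstanceAs (Subsingleton (PrimeSpectrum k))
  let q : ↥(Spec (CommRingCat.of (R ⊗[k] S))) → ↥(Spec (CommRingCat.of R)) :=
    ⇑((pullbackSpecIso k R S).inv ≫ pullback.fst fR fS)
  have hq : ∀ y, q y = PrimeSpectrum.comap (algebraMap R (R ⊗[k] S)) y := fun y => by
    simp only [q]; rw [pullbackSpecIso_inv_fst]; rfl
  let p := pullback.fst fR fS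
  let A : Set ↥(pullback fR fS) := (pullbackSpecIso k R S).hom ⁻¹' (PrimeSpectrum.basicOpen x : Set (PrimeSpectrum (R ⊗[k] S)))
  have hA : IsClopen A :=
    (PrimeSpectrum.isClopen_iff.mpr ⟨x, hx, rfl⟩ : IsClopen (PrimeSpectrum.basicOpen x : Set (PrimeSpectrum (R ⊗[k] S)))).preimage
      (pullbackSpecIso k R S).hom.continuous
  have hsat : ∀ a b, p a = p b → a ∈ A → b ∈ A := fun a b hab ha =>
    (p.isConnected_preimage_singleton (p a)).isPreconnected.subset_isClopen hA ⟨a, rfl, ha⟩ hab.symm
  have hcompl : (p '' A)ᶜ = p '' Aᶜ := by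
    ext y
    refine ⟨fun hy => ?_, ?_⟩
    · obtain ⟨a, rfl⟩ := p.surjective y
      exact ⟨a, fun ha => hy ⟨a, ha, rfl⟩, rfl⟩
    · rintro ⟨a, ha, rfl⟩ ⟨b, hb, hab⟩
      exact ha (hsat b a hab hb)
  have hclopen : IsClopen (p '' A) :=
    ⟨isOpen_compl_iff.mp (hcompl ▸ p.isOpenMap _ hA.compl.2), p.isOpenMap _ hA.2⟩
  obtain ⟨e, he, heq⟩ := PrimeSpectrum.isClopen_iff.mp (show IsClopen (p '' A : Set (PrimeSpectrum R)) from hclopen)
  refine ⟨e, ⟨he, ?_⟩, ?_⟩
  · refine PrimeSpectrum.basicOpen_injOn_isIdempotentElem (he.map (algebraMap R (R ⊗[k] S))) hx (TopologicalSpace.Opens.ext ?_)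
    ext y
    obtain ⟨a, rfl⟩ : ∃ a, (pullbackSpecIso k R S).hom a = y := (pullbackSpecIso k R S).hom.homeomorph.surjective y
    have h8 : q ((pullbackSpecIso k R S).hom a) = p a := by
      show ((pullbackSpecIso k R S).hom ≫ (pullbackSpecIso k R S).inv ≫ p) a = p a
      rw [Iso.hom_inv_id_assoc]
    have h6 : (algebraMap R (R ⊗[k] S) e ∉ ((pullbackSpecIso k R S).hom a).asIdeal) ↔ p a ∈ p '' A := by
      refine Iff.trans ?_ (Set.ext_iff.mp heq (p a)).symm
      rw [← h8, hq]; exact Iff.rfl
    refine h6.trans ⟨?_, fun h7 => ⟨a, h7, rfl⟩⟩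
    rintro ⟨b, hb, hba⟩
    exact hsat b a hba hb
  · rintro e' ⟨he', he'x⟩
    refine PrimeSpectrum.basicOpen_injOn_isIdempotentElem he' he (TopologicalSpace.Opens.ext ?_)
    rw [← heq]
    ext y
    constructor
    · intro hy'
      obtain ⟨a, rfl⟩ := p.surjective y
      refine ⟨a, ?_, rfl⟩
      show x ∉ ((pullbackSpecIso k R S).hom a).asIdeal
      rw [← he'x]
      have h8 : q ((pullbackSpecIso k R S).hom a) = p a := by
        show ((pullbackSpecIso k R S).hom ≫ (pullbackSpecIso k R S).inv ≫ p) a = p a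
        rw [Iso.hom_inv_id_assoc]
      rw [← h8, hq] at hy'
      exact hy'
    · rintro ⟨a, ha, rfl⟩
      have h8 : q ((pullbackSpecIso k R S).hom a) = p a := by
        show ((pullbackSpecIso k R S).hom ≫ (pullbackSpecIso k R S).inv ≫ p) a = p a
        rw [Iso.hom_inv_id_assoc]
      rw [← h8, hq]
      have h9 : x ∉ ((pullbackSpecIso k R S).hom a).asIdeal := ha
      rw [← he'x] at h9
      exact h9

end Groth.Agent.S9624
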