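import Groth.Statements.S9626
import Groth.Agent.GeomIrred.Ring
-- import your own Groth.Agent.* helpers here

set_option autoImplicit false
universe u
open CAlg CategoryTheory CategoryTheory.Limits AlgebraicGeometry

namespace Groth.Agent.S9626

open TensorProduct in
/-- Let k be a field, S a k-algebra with Spec(k' ⊗_k S) irreducible for every field extension k'/k, and
R any k-algebra. Then Spec(R ⊗_k S) → Spec(R) induces a bijection on irreducible components: taking
inverse images along R → R ⊗_k S maps the set of minimal primes of R ⊗_k S bijectively onto the set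
of minimal primes of R. Here the test fields range over field extensions in the universe of k; this
is equivalent to the unrestricted notion, since an algebraic closure of k suffices as a test. -/
theorem result {k R S : Type u} [Field k] [CommRing R] [CommRing S] [Algebra k R] [Algebra k S]
    (hS : ∀ (k' : Type u) [Field k'] [Algebra k k'], IrreducibleSpace (PrimeSpectrum (k' ⊗[k] S))) :
    Set.BijOn (Ideal.comap (algebraMap R (R ⊗[k] S))) (minimalPrimes (R ⊗[k] S)) (minimalPrimes R) := by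
  haveI := (GeomIrred.geometricallyIrreducible_iff_tensor k S).mpr hS
  let fR := Spec.map (CommRingCat.ofHom (algebraMap k R))
  let fS := Spec.map (CommRingCat.ofHom (algebraMap k S))
  haveI : Subsingleton ↥(Spec (CommRingCat.of k)) := inferInstanceAs (Subsingleton (PrimeSpectrum k))
  let p := pullback.fst fR fS
  let q : Spec (CommRingCat.of (R ⊗[k] S)) ⟶ Spec (CommRingCat.of R) := (pullbackSpecIso k R S).inv ≫ p
  have hq : ∀ y : PrimeSpectrum (R ⊗[k] S), (q y : PrimeSpectrum R) = PrimeSpectrum.comap (algebraMap R (R ⊗[k] S)) y :=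
    fun y => by
      have h0 : q = Spec.map (CommRingCat.ofHom (algebraMap R (R ⊗[k] S))) := pullbackSpecIso_inv_fst' k R S
      rw [h0]; rfl
  have hsurj : ∀ P : PrimeSpectrum R, ∃ Q : PrimeSpectrum (R ⊗[k] S), PrimeSpectrum.comap (algebraMap R (R ⊗[k] S)) Q = P := by
    intro P
    obtain ⟨a, ha⟩ := p.surjective P
    refine ⟨(pullbackSpecIso k R S).hom a, (hq _).symm.trans ?_⟩
    show ((pullbackSpecIso k R S).hom ≫ (pullbackSpecIso k R S).inv ≫ p) a = P
    rw [Iso.hom_inv_id_assoc]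
    exact ha
  haveI : Module.Flat R (R ⊗[k] S) := inferInstance
  refine ⟨fun Q hQ => ?_, fun Q hQ Q' hQ' hQQ' => ?_, fun P hP => ?_⟩
  · haveI := hQ.1.1
    refine ⟨⟨Ideal.IsPrime.comap _, bot_le⟩, fun P hP hPQ => ?_⟩
    haveI := hP.1
    haveI : Q.LiesOver (Q.comap (algebraMap R (R ⊗[k] S))) := ⟨rfl⟩
    obtain ⟨Q', hQ'le, hQ'p, hQ'lo⟩ := Ideal.exists_ideal_le_liesOver_of_le Q (q := Q.comap (algebraMap R (R ⊗[k] S))) hPQ
    exact ((congrArg (Ideal.comap (algebraMap R (R ⊗[k] S))) (le_antisymm (hQ.2 ⟨hQ'p, bot_le⟩ hQ'le) hQ'le)).trans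
      hQ'lo.over.symm).le
  · haveI := hQ.1.1
    haveI := hQ'.1.1
    let y : PrimeSpectrum R := PrimeSpectrum.comap (algebraMap R (R ⊗[k] S)) ⟨Q, hQ.1.1⟩
    have hirr : IsIrreducible (p ⁻¹' closure ({y} : Set (PrimeSpectrum R))) :=
      p.isIrreducible_preimage p.isOpenMap isIrreducible_singleton.closure
    obtain ⟨g, hg⟩ := QuasiSober.sober hirr (isClosed_closure.preimage p.continuous)
    let G : PrimeSpectrum (R ⊗[k] S) := (pullbackSpecIso k R S).hom g
    have key : ∀ (Z : Ideal (R ⊗[k] S)) (hZ : Z ∈ minimalPrimes (R ⊗[k] S)),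
        Ideal.comap (algebraMap R (R ⊗[k] S)) Z = y.asIdeal → Z = G.asIdeal := by
      intro Z hZ hZy
      let z : Spec (CommRingCat.of (R ⊗[k] S)) := (⟨Z, hZ.1.1⟩ : PrimeSpectrum (R ⊗[k] S))
      have h1 : (pullbackSpecIso k R S).inv z ∈ p ⁻¹' closure ({y} : Set (PrimeSpectrum R)) := by
        refine subset_closure ?_
        exact (hq ⟨Z, hZ.1.1⟩).trans (PrimeSpectrum.ext hZy)
      have h2 := (hg.specializes h1).map (pullbackSpecIso k R S).hom.continuous
      have h3 : (pullbackSpecIso k R S).hom ((pullbackSpecIso k R S).inv z) = z := by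
        rw [← Scheme.Hom.comp_apply, Iso.inv_hom_id]; rfl
      rw [h3] at h2
      have h4 : G.asIdeal ≤ Z := (PrimeSpectrum.le_iff_specializes G ⟨Z, hZ.1.1⟩).mpr h2
      exact le_antisymm (hZ.2 ⟨G.isPrime, bot_le⟩ h4) h4
    exact (key Q hQ rfl).trans (key Q' hQ' hQQ'.symm).symm
  · haveI := hP.1.1
    obtain ⟨Q, hQ⟩ := hsurj ⟨P, hP.1.1⟩
    obtain ⟨Q₀, hQ₀, hle⟩ := Ideal.exists_minimalPrimes_le (I := (⊥ : Ideal (R ⊗[k] S))) (J := Q.asIdeal) bot_le
    have hle' : Ideal.comap (algebraMap R (R ⊗[k] S)) Q₀ ≤ P :=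
      (Ideal.comap_mono hle).trans (congrArg PrimeSpectrum.asIdeal hQ).le
    haveI := hQ₀.1.1
    exact ⟨Q₀, hQ₀, le_antisymm hle' (hP.2 ⟨Ideal.IsPrime.comap _, bot_le⟩ hle')⟩

end Groth.Agent.S9626
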