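import Groth.Statements.S9630
import Groth.Agent.GeomIrred.FinSep
-- import your own Groth.Agent.* helpers here

set_option autoImplicit false
universe u
open CAlg CategoryTheory CategoryTheory.Limits AlgebraicGeometry

namespace Groth.Agent.S9630

open TensorProduct in
/-- For a field k and a k-algebra R the following are equivalent: (1) Spec(k' ⊗_k R) is irreducible for
every field extension k'/k; (2) the same for every finite separable extension k'/k; (3) Spec(k^sep
⊗_k R) is irreducible for the separable closure k^sep; (4) Spec(k̄ ⊗_k R) is irreducible for the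
algebraic closure k̄. Here the test fields range over field extensions in the universe of k; this is
equivalent to the unrestricted notion, since an algebraic closure of k suffices as a test. -/
theorem result {k R : Type u} [Field k] [CommRing R] [Algebra k R] :
    [∀ (k' : Type u) [Field k'] [Algebra k k'], IrreducibleSpace (PrimeSpectrum (k' ⊗[k] R)),
      ∀ (k' : Type u) [Field k'] [Algebra k k'] [Module.Finite k k'] [Algebra.IsSeparable k k'], IrreducibleSpace (PrimeSpectrum (k' ⊗[k] R)),
      IrreducibleSpace (PrimeSpectrum (SeparableClosure k ⊗[k] R)),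
      IrreducibleSpace (PrimeSpectrum (AlgebraicClosure k ⊗[k] R))].TFAE := by
  let f : Spec (CommRingCat.of R) ⟶ Spec (CommRingCat.of k) := Spec.map (CommRingCat.ofHom (algebraMap k R))
  have key : ∀ (M : Type u) [Field M] [Algebra k M],
      IrreducibleSpace (PrimeSpectrum (M ⊗[k] R)) ↔ IrreducibleSpace ↥(GeomIrred.bcs f M) := fun M _ _ =>
    ((PrimeSpectrum.homeomorphOfRingEquiv (Algebra.TensorProduct.comm k M R).toRingEquiv).irreducibleSpace_iff).trans
      (pullbackSpecIso k R M).hom.homeomorph.irreducibleSpace_iff.symm
  have hsep : ∀ (M : Type u) [Field M] [Algebra k M] [IsSepClosed M],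
      IrreducibleSpace (PrimeSpectrum (M ⊗[k] R)) →
        ∀ (k' : Type u) [Field k'] [Algebra k k'], IrreducibleSpace (PrimeSpectrum (k' ⊗[k] R)) := by
    intro M _ _ _ hM k' _ _
    haveI := (key M).mp hM
    haveI hg := GeomIrred.geometricallyIrreducible_of_irreducible_pullback f M
    exact (key k').mpr (pullback_of_geometrically hg.geometrically_irreducibleSpace _ _)
  tfae_have 1 → 2 := fun h k' _ _ _ _ => h k'
  tfae_have 2 → 3 := fun h => (key _).mpr (GeomIrred.irreducibleSpace_bcs f _ fun L hL => (key L).mp (h L))
  tfae_have 3 → 1 := hsep (SeparableClosure k)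
  tfae_have 1 → 4 := fun h => h _
  tfae_have 4 → 1 := hsep (AlgebraicClosure k)
  tfae_finish

end Groth.Agent.S9630
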