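import Groth.Statements.S9633
import Mathlib

set_option autoImplicit false
universe u
open CAlg

namespace Groth.Agent.S9633

/-- For a ring R with spectrum X the following are equivalent: (1) X is profinite, i.e. compact,
Hausdorff and totally disconnected; (2) X is Hausdorff; (3) X is totally disconnected; (4) every
quasi-compact open subset of X is closed; (5) there are no nontrivial inclusions among prime ideals
of R; (6) every prime ideal of R is maximal; (7) every prime ideal of R is a minimal prime; (8)
every standard open D(f) is closed. -/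
theorem result {R : Type u} [CommRing R] :
    [CompactSpace (PrimeSpectrum R) ∧ T2Space (PrimeSpectrum R) ∧ TotallyDisconnectedSpace (PrimeSpectrum R),
      T2Space (PrimeSpectrum R),
      TotallyDisconnectedSpace (PrimeSpectrum R),
      ∀ W : Set (PrimeSpectrum R), IsOpen W → IsCompact W → IsClosed W,
      ∀ p q : PrimeSpectrum R, p ≤ q → p = q,
      ∀ p : Ideal R, p.IsPrime → p.IsMaximal,
      ∀ p : Ideal R, p.IsPrime → p ∈ minimalPrimes R,
      ∀ f : R, IsClosed (PrimeSpectrum.basicOpen f : Set (PrimeSpectrum R))].TFAE := by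
  classical
  tfae_have 1 → 2 := fun h => h.2.1
  tfae_have 2 → 5 := fun h p q hpq => by
    haveI := h
    exact ((PrimeSpectrum.le_iff_specializes p q).mp hpq).eq
  tfae_have 5 → 6 := fun h p hp => by
    obtain ⟨m, hm, hle⟩ := Ideal.exists_le_maximal p hp.ne_top
    have := h ⟨p, hp⟩ ⟨m, hm.isPrime⟩ hle
    rw [show p = m from congrArg PrimeSpectrum.asIdeal this]
    exact hm
  tfae_have 6 → 7 := fun h p hp => ⟨⟨hp, bot_le⟩, fun q hq hqp => ((h q hq.1).eq_of_le hp.ne_top hqp).ge⟩
  tfae_have 7 → 8 := fun h f => by
    have hgo : StableUnderSpecialization (PrimeSpectrum.basicOpen f : Set (PrimeSpectrum R)) := by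
      intro p q hpq hp
      have hle := (PrimeSpectrum.le_iff_specializes p q).mpr hpq
      have : p = q := PrimeSpectrum.ext (le_antisymm hle ((h q.asIdeal q.isPrime).2 ⟨p.isPrime, bot_le⟩ hle))
      exact this ▸ hp
    exact PrimeSpectrum.isClosed_of_stableUnderSpecialization_of_isConstructible hgo PrimeSpectrum.isConstructible_basicOpen
  tfae_have 8 → 4 := fun h W hWo hWc => by
    obtain ⟨t, ht⟩ := (PrimeSpectrum.isCompact_isOpen_iff (s := W)).mp ⟨hWc, hWo⟩
    have : W = ⋃ f ∈ t, (PrimeSpectrum.basicOpen f : Set (PrimeSpectrum R)) := by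
      rw [← ht]
      ext x
      simp [Set.not_subset]
    rw [this]
    exact t.finite_toSet.isClosed_biUnion fun f _ => h f
  tfae_have 4 → 3 := fun h => by
    haveI : TotallySeparatedSpace (PrimeSpectrum R) := by
      refine ⟨fun p _ q _ hpq => ?_⟩
      have hne : ∃ f : R, (f ∉ p.asIdeal ∧ f ∈ q.asIdeal) ∨ (f ∉ q.asIdeal ∧ f ∈ p.asIdeal) := by
        by_contra hno
        push Not at hno
        exact hpq (PrimeSpectrum.ext (Ideal.ext fun f => ⟨fun hf => by_contra fun hq => (hno f).2 hq hf,
          fun hf => by_contra fun hp => (hno f).1 hp hf⟩))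
      obtain ⟨f, hf⟩ := hne
      have hcl := h _ PrimeSpectrum.isOpen_basicOpen (PrimeSpectrum.isCompact_basicOpen f)
      rcases hf with ⟨h1, h2⟩ | ⟨h1, h2⟩
      · exact ⟨_, _, PrimeSpectrum.isOpen_basicOpen, hcl.isOpen_compl, h1, fun hq => hq h2,
          by rw [Set.union_compl_self], disjoint_compl_right⟩
      · exact ⟨_, _, hcl.isOpen_compl, PrimeSpectrum.isOpen_basicOpen, fun hp => hp h2, h1,
          by rw [Set.compl_union_self], disjoint_compl_left⟩
    infer_instance
  tfae_have 3 → 1 := fun h => by
    haveI := h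
    have h5 : ∀ p q : PrimeSpectrum R, p ≤ q → p = q := fun p q hpq => by
      have hc : q ∈ closure ({p} : Set (PrimeSpectrum R)) :=
        specializes_iff_mem_closure.mp ((PrimeSpectrum.le_iff_specializes p q).mp hpq)
      rw [IsClosed.closure_eq (isClosed_singleton)] at hc
      exact (Set.mem_singleton_iff.mp hc).symm
    refine ⟨inferInstance, ?_, h⟩
    refine ⟨fun p q hpq => ?_⟩
    obtain ⟨f, hf, hfq⟩ : ∃ f : R, f ∈ p.asIdeal ∧ f ∉ q.asIdeal := by
      by_contra hno
      push Not at hno
      exact hpq (h5 p q hno)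
    -- the complement of `D(f)` is open as well
    have hgo : StableUnderSpecialization (PrimeSpectrum.basicOpen f : Set (PrimeSpectrum R)) := by
      intro a b hab ha
      exact h5 a b ((PrimeSpectrum.le_iff_specializes a b).mpr hab) ▸ ha
    have hcl := PrimeSpectrum.isClosed_of_stableUnderSpecialization_of_isConstructible hgo PrimeSpectrum.isConstructible_basicOpen
    exact ⟨_, _, hcl.isOpen_compl, PrimeSpectrum.isOpen_basicOpen, fun hp => hp hf, hfq, disjoint_compl_left⟩
  tfae_finish
end Groth.Agent.S9633
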