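import Groth.Statements.S9636
import Mathlib

set_option autoImplicit false
universe u
open CAlg

namespace Groth.Agent.S9636
open scoped TensorProduct

open TensorProduct in
/-- Let k'/k be a separable algebraic field extension. Then for some multiplicative subset S of k' ⊗_k
k' the multiplication map k' ⊗_k k' → k' is a localization at S: there is a ring isomorphism S⁻¹(k'
⊗_k k') ≅ k' carrying the localization map to the multiplication map. -/
theorem result {k k' : Type u} [Field k] [Field k'] [Algebra k k'] [Algebra.IsSeparable k k'] :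
    ∃ (S : Submonoid (k' ⊗[k] k')) (e : Localization S ≃+* k'), ∀ x : k' ⊗[k] k', e (algebraMap (k' ⊗[k] k') (Localization S) x) = Algebra.TensorProduct.lmul' (S := k') k x := by
  classical
  let A := k' ⊗[k] k'
  let μ : A →ₐ[k] k' := Algebra.TensorProduct.lmul' (S := k') k
  let S : Submonoid A := Submonoid.comap μ.toRingHom.toMonoidHom ⊥
  have hS : ∀ s : S, μ s.1 = 1 := fun s => Submonoid.mem_bot.mp s.2
  have hu : ∀ s : S, IsUnit (μ.toRingHom s) := fun s => by
    show IsUnit (μ s.1)
    rw [hS]; exact isUnit_one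
  let φ : Localization S →+* k' := IsLocalization.lift hu
  have hφ : ∀ x, φ (algebraMap A (Localization S) x) = μ x := IsLocalization.lift_eq hu
  have hker : ∀ a : A, μ a = 0 → ∃ e : A, μ e = 1 ∧ e * a = 0 := by
    intro a ha
    obtain ⟨n, f, g, rfl⟩ := TensorProduct.exists_sum_tmul_eq a
    let F := IntermediateField.adjoin k (Set.range f ∪ Set.range g)
    haveI : FiniteDimensional k F := IntermediateField.finiteDimensional_adjoin fun x _ => (Algebra.IsSeparable.isSeparable k x).isIntegral
    haveI : Algebra.IsSeparable k F := Algebra.isSeparable_tower_bot_of_isSeparable k F k'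
    haveI : Algebra.FormallyUnramified k F := Algebra.FormallyUnramified.of_isSeparable k F
    obtain ⟨t, ht, ht1⟩ := Algebra.FormallyUnramified.iff_exists_tensorProduct.mp (inferInstance : Algebra.FormallyUnramified k F)
    let ι : F ⊗[k] F →ₐ[k] A := Algebra.TensorProduct.map F.val F.val
    have hι' : ∀ x y : F, ι (x ⊗ₜ y) = (x : k') ⊗ₜ[k] (y : k') := fun x y => Algebra.TensorProduct.map_tmul F.val F.val x y
    have hι : μ.comp ι = F.val.comp (Algebra.TensorProduct.lmul' (S := F) k) := by
      refine Algebra.TensorProduct.ext' fun x y => ?_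
      rw [AlgHom.comp_apply, AlgHom.comp_apply, hι']
      simp only [μ, Algebra.TensorProduct.lmul'_apply_tmul, map_mul]
      rfl
    let a' : F ⊗[k] F := ∑ j, (⟨f j, IntermediateField.subset_adjoin k _ (Or.inl ⟨j, rfl⟩)⟩ : F) ⊗ₜ (⟨g j, IntermediateField.subset_adjoin k _ (Or.inr ⟨j, rfl⟩)⟩ : F)
    have ha' : ι a' = ∑ j, f j ⊗ₜ[k] g j := by simp only [a', map_sum, hι']
    have hm : Algebra.TensorProduct.lmul' (S := F) k a' = 0 := by
      refine F.val.toRingHom.injective ?_
      show F.val (Algebra.TensorProduct.lmul' (S := F) k a') = F.val 0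
      rw [← AlgHom.comp_apply, ← hι, AlgHom.comp_apply, ha', ha, map_zero]
    refine ⟨ι t, ?_, ?_⟩
    · rw [← AlgHom.comp_apply, hι, AlgHom.comp_apply, ht1, map_one]
    · rw [← ha', ← map_mul]
      have hz : t * a' = 0 := by
        have hmem : a' ∈ KaehlerDifferential.ideal k F := hm
        rw [← KaehlerDifferential.span_range_eq_ideal] at hmem
        refine Submodule.span_induction (p := fun x _ => t * x = 0) ?_ (mul_zero t) (fun x y _ _ hx hy => by rw [mul_add, hx, hy, add_zero]) (fun c x _ hx => by rw [smul_eq_mul, mul_left_comm, hx, mul_zero]) hmem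
        rintro _ ⟨s, rfl⟩
        rw [mul_comm]
        exact ht s
      rw [hz, map_zero]
  have hbij : Function.Bijective φ := by
    refine ⟨?_, fun y => ⟨algebraMap A _ (y ⊗ₜ 1), by rw [hφ]; exact (Algebra.TensorProduct.lmul'_apply_tmul y 1).trans (mul_one y)⟩⟩
    rw [injective_iff_map_eq_zero]
    intro z hz
    obtain ⟨a, s, rfl⟩ := IsLocalization.exists_mk'_eq S z
    have hspec := congrArg φ (IsLocalization.mk'_spec (Localization S) a s)
    rw [map_mul, hz, zero_mul, hφ] at hspec
    obtain ⟨e, he1, he0⟩ := hker a hspec.symm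
    rw [IsLocalization.mk'_eq_zero_iff]
    exact ⟨⟨e, Submonoid.mem_bot.mpr he1⟩, he0⟩
  exact ⟨S, RingEquiv.ofBijective φ hbij, fun x => hφ x⟩
end Groth.Agent.S9636
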