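import Groth.Statements.S9637
import Mathlib

set_option autoImplicit false
universe u
open CAlg

namespace Groth.Agent.S9637

/-- Let R be a local Noetherian ring, I an ideal contained in its maximal ideal, and M a finite
R-module. Then I contains an M-regular element (one acting injectively on M) if and only if no
associated prime of M contains I. -/
theorem result {R : Type u} [CommRing R] [IsNoetherianRing R] [IsLocalRing R] (I : Ideal R) (hI : I ≤ IsLocalRing.maximalIdeal R) (M : Type u) [AddCommGroup M] [Module R M] [Module.Finite R M] :
    (∃ x ∈ I, IsSMulRegular M x) ↔ ∀ q ∈ associatedPrimes R M, ¬ I ≤ q := by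
  constructor
  · rintro ⟨x, hx, hreg⟩ q hq hle
    have : x ∈ ⋃ p ∈ associatedPrimes R M, (p : Set R) := Set.mem_biUnion hq (hle hx)
    rw [biUnion_associatedPrimes_eq_compl_regular] at this
    exact this hreg
  · intro h
    by_contra hc
    push Not at hc
    obtain ⟨q, hq, hle⟩ := (Ideal.subset_union_prime_finite (associatedPrimes.finite R M) (f := id) ⊤ ⊤
      (fun i hi _ _ => hi.isPrime)).mp (show (I : Set R) ⊆ _ from fun x hx => by
        show x ∈ ⋃ p ∈ associatedPrimes R M, (p : Set R)
        rw [biUnion_associatedPrimes_eq_compl_regular]; exact hc x hx)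
    exact h q hq hle

end Groth.Agent.S9637
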