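import Groth.Statements.S9639
import Groth.Agent.GeomIrred.Ring
-- import your own Groth.Agent.* helpers here

set_option autoImplicit false
universe u
open CAlg CategoryTheory CategoryTheory.Limits AlgebraicGeometry

namespace Groth.Agent.S9639

open TensorProduct in
/-- Let k be a field and S a k-algebra such that Spec(k' ⊗_k S) is connected for every field extension
k'/k. Then every k-subalgebra of S has the same property. Here the test fields range over field
extensions in the universe of k; this is equivalent to the unrestricted notion, since an algebraic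
closure of k suffices as a test. -/
theorem result {k S : Type u} [Field k] [CommRing S] [Algebra k S]
    (hS : ∀ (k' : Type u) [Field k'] [Algebra k k'], ConnectedSpace (PrimeSpectrum (k' ⊗[k] S))) (S' : Subalgebra k S) :
    ∀ (k' : Type u) [Field k'] [Algebra k k'], ConnectedSpace (PrimeSpectrum (k' ⊗[k] S')) := by
  intro k' _ _
  haveI := hS k'
  haveI : Nontrivial (k' ⊗[k] S) := PrimeSpectrum.nonempty_iff_nontrivial.mp inferInstance
  let j : k' ⊗[k] S' →ₐ[k] k' ⊗[k] S := Algebra.TensorProduct.map (AlgHom.id k k') S'.val
  have hj : Function.Injective j :=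
    Module.Flat.lTensor_preserves_injective_linearMap (M := k') S'.val.toLinearMap Subtype.val_injective
  haveI : Nontrivial (k' ⊗[k] S') := by
    refine ⟨⟨1, 0, fun h => one_ne_zero (α := k' ⊗[k] S) ?_⟩⟩
    rw [← map_one j, h, map_zero]
  haveI : PreconnectedSpace (PrimeSpectrum (k' ⊗[k] S')) := by
    refine preconnectedSpace_iff_clopen.mpr fun A hA => ?_
    obtain ⟨e, he, rfl⟩ := PrimeSpectrum.isClopen_iff.mp hA
    have h2 : IsClopen (PrimeSpectrum.basicOpen (j e) : Set (PrimeSpectrum (k' ⊗[k] S))) :=
      PrimeSpectrum.isClopen_iff.mpr ⟨j e, he.map j, rfl⟩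
    rcases preconnectedSpace_iff_clopen.mp inferInstance _ h2 with h3 | h3
    · left
      have h4 : IsNilpotent (j e) := (PrimeSpectrum.basicOpen_eq_bot_iff _).mp (TopologicalSpace.Opens.ext h3)
      have h5 : e = 0 := hj (by rw [map_zero]; exact (he.map j).eq_zero_of_isNilpotent h4)
      simp [h5]
    · right
      have h4 : IsUnit (j e) := (by
        by_contra hnu
        obtain ⟨m, hm, hem⟩ := exists_max_ideal_of_mem_nonunits hnu
        exact (show (⟨m, hm.isPrime⟩ : PrimeSpectrum (k' ⊗[k] S)) ∈ (PrimeSpectrum.basicOpen (j e) : Set _) by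
          rw [h3]; trivial) hem)
      have h5 : e = 1 := hj (by rw [map_one]; exact (IsIdempotentElem.iff_eq_one_of_isUnit h4).mp (he.map j))
      simp [h5]
  exact ⟨inferInstance⟩

end Groth.Agent.S9639
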