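import Groth.Statements.S9641
import Mathlib

set_option autoImplicit false
universe u
open CAlg

namespace Groth.Agent.S9641

open TensorProduct in

open TensorProduct in
/-- Let k be a field and R, S two k-algebras. If R ⊗_k S is not reduced then there are finitely
generated k-subalgebras R' ⊆ R and S' ⊆ S such that R' ⊗_k S' is not reduced. -/
theorem result {k R S : Type u} [Field k] [CommRing R] [CommRing S] [Algebra k R] [Algebra k S] (h : ¬ IsReduced (R ⊗[k] S)) :
    ∃ (R' : Subalgebra k R) (S' : Subalgebra k S), R'.FG ∧ S'.FG ∧ ¬ IsReduced (R' ⊗[k] S') := by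
  rw [isReduced_iff] at h
  push Not at h
  obtain ⟨t, ⟨m, hm⟩, ht⟩ := h
  obtain ⟨S₀, hS₀⟩ := TensorProduct.exists_finset t
  classical
  let R' := Algebra.adjoin k (↑(S₀.image Prod.fst) : Set R)
  let S' := Algebra.adjoin k (↑(S₀.image Prod.snd) : Set S)
  refine ⟨R', S', ⟨_, rfl⟩, ⟨_, rfl⟩, fun hred => ht ?_⟩
  let φ := Algebra.TensorProduct.map R'.val S'.val
  have hφ : Function.Injective φ := by
    have e : φ.toLinearMap = (R'.val.toLinearMap.rTensor S).comp (S'.val.toLinearMap.lTensor R') := by
      ext a b; simp [φ]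
    show Function.Injective φ.toLinearMap
    rw [e, LinearMap.coe_comp]
    exact (Module.Flat.rTensor_preserves_injective_linearMap _ Subtype.val_injective).comp
      (Module.Flat.lTensor_preserves_injective_linearMap _ Subtype.val_injective)
  let t' : TensorProduct k R' S' := ∑ i : S₀, (⟨i.1.1, Algebra.subset_adjoin (Finset.mem_image_of_mem _ i.2)⟩ : R') ⊗ₜ[k]
    (⟨i.1.2, Algebra.subset_adjoin (Finset.mem_image_of_mem _ i.2)⟩ : S')
  have ht' : φ t' = t := by
    rw [hS₀, map_sum, ← Finset.sum_coe_sort S₀]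
    simp [φ]
  have : IsNilpotent t' := ⟨m, hφ (by rw [map_pow, ht', hm, map_zero])⟩
  rw [← ht', this.eq_zero, map_zero]

end Groth.Agent.S9641
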