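import Groth.Statements.S9642

set_option autoImplicit false
universe u
open CAlg

namespace Groth.Agent.S9642

/-- In the general form stated there: let R → S be a ring map inducing an open map Spec(S) → Spec(R),
with Spec(R) irreducible, such that for a dense set of primes p of R the fibre ring κ(p) ⊗_R S has
irreducible spectrum. Then Spec(S) is irreducible. The flat and finitely presented case is the
special case in which the map on spectra is open by fppf-openness. -/
theorem result {R S : Type u} [CommRing R] [CommRing S] [Algebra R S]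
    (hopen : IsOpenMap (PrimeSpectrum.comap (algebraMap R S))) [IrreducibleSpace (PrimeSpectrum R)]
    (D : Set (PrimeSpectrum R)) (hD : Dense D) (hfib : ∀ p ∈ D, IrreducibleSpace (PrimeSpectrum (p.asIdeal.Fiber S))) :
    IrreducibleSpace (PrimeSpectrum S) := by
  have hne : Nonempty (PrimeSpectrum S) := by
    obtain ⟨y, hy⟩ := hD.nonempty
    haveI := hfib y hy
    obtain ⟨q⟩ := (inferInstance : Nonempty (PrimeSpectrum (y.asIdeal.Fiber S)))
    exact ⟨((PrimeSpectrum.preimageHomeomorphFiber R S y).symm q).1⟩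
  refine { toPreirreducibleSpace := ⟨?_⟩, toNonempty := hne }
  intro U V hU hV ⟨u, _, hu⟩ ⟨v, _, hv⟩
  obtain ⟨y, -, hyU, hyV⟩ := PreirreducibleSpace.isPreirreducible_univ (X := PrimeSpectrum R) _ _ (hopen U hU) (hopen V hV)
    ⟨_, trivial, u, hu, rfl⟩ ⟨_, trivial, v, hv, rfl⟩
  obtain ⟨z, ⟨⟨a, haU, ha⟩, ⟨b, hbV, hb⟩⟩, hzD⟩ := hD.inter_open_nonempty _ ((hopen U hU).inter (hopen V hV)) ⟨y, hyU, hyV⟩
  haveI := hfib z hzD
  let h := PrimeSpectrum.preimageHomeomorphFiber R S z
  obtain ⟨w, -, hwU, hwV⟩ := PreirreducibleSpace.isPreirreducible_univ (X := PrimeSpectrum (z.asIdeal.Fiber S)) _ _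
    (h.isOpenMap _ (hU.preimage continuous_subtype_val)) (h.isOpenMap _ (hV.preimage continuous_subtype_val))
    ⟨_, trivial, ⟨a, ha⟩, haU, rfl⟩ ⟨_, trivial, ⟨b, hb⟩, hbV, rfl⟩
  obtain ⟨w₁, hw₁, rfl⟩ := hwU
  obtain ⟨w₂, hw₂, e⟩ := hwV
  exact ⟨w₁.1, trivial, hw₁, h.injective e ▸ hw₂⟩

end Groth.Agent.S9642
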