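import Groth.Statements.S9643


set_option autoImplicit false
universe u
open CAlg

namespace Groth.Agent.S9643

/-- Let R be a Noetherian ring, M a finite R-module and 0 = M_0 ⊆ M_1 ⊆ ⋯ ⊆ M_n = M a chain of
submodules whose successive quotients M_i/M_{i-1} are isomorphic to R/p_i for prime ideals p_i. Then
the primes minimal among p_1, …, p_n are exactly the primes minimal in the support of M. -/
theorem result {R : Type u} [CommRing R] [IsNoetherianRing R] (M : Type u) [AddCommGroup M] [Module R M] [Module.Finite R M]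
    {n : ℕ} (N : Fin (n + 1) → Submodule R M) (hN : Monotone N) (h0 : N 0 = ⊥) (hlast : N (Fin.last n) = ⊤)
    (p : Fin n → PrimeSpectrum R)
    (hquot : ∀ i : Fin n, Nonempty ((↥(N i.succ) ⧸ Submodule.comap (N i.succ).subtype (N i.castSucc)) ≃ₗ[R] (R ⧸ (p i).asIdeal))) :
    {q : PrimeSpectrum R | Minimal (fun x => x ∈ Set.range p) q} = {q : PrimeSpectrum R | Minimal (fun x => x ∈ Module.support R M) q} := by
  have hsupp : ∀ i : Fin (n + 1), ∀ q : PrimeSpectrum R,
      q ∈ Module.support R (N i) ↔ ∃ j : Fin n, j.castSucc < i ∧ p j ≤ q := by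
    intro i
    induction i using Fin.induction with
    | zero =>
      intro q
      rw [h0]
      simp [Module.support_eq_empty]
    | succ i ih =>
      intro q
      let U := Submodule.comap (N i.succ).subtype (N i.castSucc)
      rw [Module.support_of_exact (LinearMap.exact_subtype_mkQ U) U.subtype_injective
        U.mkQ_surjective]
      obtain ⟨e⟩ := hquot i
      rw [Set.mem_union, (Submodule.comapSubtypeEquivOfLe (hN (Fin.castSucc_le_succ i))).support_eq,
        e.support_eq, ih, Module.support_eq_zeroLocus, Ideal.annihilator_quotient]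
      constructor
      · rintro (⟨j, hj, hle⟩ | h)
        · exact ⟨j, hj.trans (Fin.castSucc_lt_succ (i := i)), hle⟩
        · exact ⟨i, Fin.castSucc_lt_succ (i := i), h⟩
      · rintro ⟨j, hj, hle⟩
        rcases (Fin.le_castSucc_iff.2 hj).lt_or_eq with h | h
        · exact Or.inl ⟨j, h, hle⟩
        · exact Or.inr (Fin.castSucc_injective _ h ▸ hle)
  have hM : ∀ q, q ∈ Module.support R M ↔ ∃ j, p j ≤ q := fun q ↦ by
    rw [← Submodule.topEquiv.support_eq, ← hlast, hsupp]
    simp [Fin.castSucc_lt_last]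
  ext q
  simp only [Set.mem_ofPred_eq]
  constructor
  · intro hq
    obtain ⟨j, rfl⟩ := hq.1
    refine ⟨(hM _).2 ⟨j, le_rfl⟩, fun y hy hyq ↦ ?_⟩
    obtain ⟨k, hk⟩ := (hM y).1 hy
    exact (hq.2 ⟨k, rfl⟩ (hk.trans hyq)).trans hk
  · intro hq
    obtain ⟨j, hj⟩ := (hM q).1 hq.1
    have : p j = q := le_antisymm hj (hq.2 ((hM _).2 ⟨j, le_rfl⟩) hj)
    refine ⟨⟨j, this⟩, fun y hy hyq ↦ ?_⟩
    obtain ⟨k, rfl⟩ := hy
    exact hq.2 ((hM _).2 ⟨k, le_rfl⟩) hyq

end Groth.Agent.S9643
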