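import Groth.Statements.S9644
import Mathlib


set_option autoImplicit false
universe u
open CAlg

namespace Groth.Agent.S9644

/-- The elements killed at every generic point of the support. -/
def genKer (R : Type u) [CommRing R] (M : Type u) [AddCommGroup M] [Module R M] : Submodule R M where
  carrier := {x | ∀ m ∈ (Module.annihilator R M).minimalPrimes, ∃ s, s ∉ m ∧ s • x = 0}
  zero_mem' m hm := ⟨1, fun h => hm.1.1.ne_top ((Ideal.eq_top_iff_one m).2 h), smul_zero _⟩
  add_mem' {x y} hx hy m hm := by
    obtain ⟨s, hs, hsx⟩ := hx m hm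
    obtain ⟨t, ht, hty⟩ := hy m hm
    refine ⟨s * t, fun h => (hm.1.1.mem_or_mem h).elim hs ht, ?_⟩
    rw [smul_add, mul_comm, mul_smul, hsx, smul_zero, zero_add, mul_comm, mul_smul, hty, smul_zero]
  smul_mem' c x hx m hm := by
    obtain ⟨s, hs, hsx⟩ := hx m hm
    exact ⟨s, hs, by rw [smul_comm, hsx, smul_zero]⟩

theorem notMem_support_genKer {R : Type u} [CommRing R] (M : Type u) [AddCommGroup M] [Module R M]
    (q : PrimeSpectrum R) (hq : q.asIdeal ∈ (Module.annihilator R M).minimalPrimes) :
    q ∉ Module.support R (genKer R M) := by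
  rw [Module.notMem_support_iff']
  intro x
  obtain ⟨s, hs, h⟩ := x.2 q.asIdeal hq
  exact ⟨s, hs, Subtype.ext h⟩


/-- Let R be a Noetherian ring and M a finite R-module. Among the submodules K' of M whose support is
nowhere dense inside Supp(M) there is a largest one, K. The quotient M' = M/K then satisfies
Supp(M') = Supp(M), its associated primes are pairwise incomparable (no embedded ones), and whenever
f ∈ R belongs to every embedded associated prime of M the localized map M_f → M'_f is bijective. -/
theorem result {R : Type u} [CommRing R] [IsNoetherianRing R] (M : Type u) [AddCommGroup M] [Module R M] [Module.Finite R M] :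
    ∃ K : Submodule R M,
      IsGreatest {K' : Submodule R M | ∀ U : Set (PrimeSpectrum R), IsOpen U → U ∩ Module.support R M ⊆ closure (Module.support R ↥K') → U ∩ Module.support R M = ∅} K ∧
      Module.support R (M ⧸ K) = Module.support R M ∧
      (∀ p ∈ associatedPrimes R (M ⧸ K), ∀ q ∈ associatedPrimes R (M ⧸ K), p ≤ q → p = q) ∧
      ∀ f : R, (∀ p ∈ associatedPrimes R M, ¬ Minimal (fun x => x ∈ associatedPrimes R M) p → f ∈ p) →
        Function.Bijective (LocalizedModule.map (Submonoid.powers f) K.mkQ) := by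
  classical
  let I := Module.annihilator R M
  have hsupp : ∀ q : PrimeSpectrum R, q ∈ Module.support R M ↔ I ≤ q.asIdeal := fun q => by
    rw [Module.support_eq_zeroLocus, PrimeSpectrum.mem_zeroLocus, SetLike.coe_subset_coe]
  have hminsupp : ∀ m (hm : m ∈ I.minimalPrimes), (⟨m, hm.1.1⟩ : PrimeSpectrum R) ∈ Module.support R M :=
    fun m hm => (hsupp _).2 hm.1.2
  let K := genKer R M
  refine ⟨K, ⟨?_, ?_⟩, ?_, ?_, ?_⟩
  · intro U hU hsub
    refine Set.eq_empty_iff_forall_notMem.2 fun q ⟨hqU, hqM⟩ => ?_
    obtain ⟨m, hm, hle⟩ := Ideal.exists_minimalPrimes_le ((hsupp q).1 hqM)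
    let m' : PrimeSpectrum R := ⟨m, hm.1.1⟩
    have hmU : m' ∈ U := ((PrimeSpectrum.le_iff_specializes m' q).1 hle).mem_open hU hqU
    have hmK := hsub ⟨hmU, hminsupp m hm⟩
    rw [Module.support_eq_zeroLocus, (PrimeSpectrum.isClosed_zeroLocus _).closure_eq,
      ← Module.support_eq_zeroLocus] at hmK
    exact notMem_support_genKer M m' hm hmK
  · intro K' hK' x hx m hm
    by_contra hcon
    push Not at hcon
    let m' : PrimeSpectrum R := ⟨m, hm.1.1⟩
    have hmK : m' ∈ Module.support R K' :=
      Module.mem_support_iff'.2 ⟨⟨x, hx⟩, fun r hr h0 => hcon r hr (congrArg Subtype.val h0)⟩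
    have hfin : I.minimalPrimes.Finite := I.finite_minimalPrimes_of_isNoetherianRing R
    have hex : ∀ n ∈ hfin.toFinset.erase m, ∃ g ∈ n, g ∉ m := fun n hn => by
      obtain ⟨hne, hn⟩ := Finset.mem_erase.1 hn
      exact SetLike.not_le_iff_exists.1 fun hle => hne (le_antisymm hle (hm.2 (hfin.mem_toFinset.1 hn).1 hle))
    choose g hg hgm using hex
    let f := ∏ n ∈ (hfin.toFinset.erase m).attach, g n.1 n.2
    have hfm : f ∉ m := fun h => by
      obtain ⟨n, -, hn⟩ := (hm.1.1.prod_mem_iff).1 h
      exact hgm n.1 n.2 hn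
    have hU : (PrimeSpectrum.basicOpen f : Set (PrimeSpectrum R)) ∩ Module.support R M ⊆
        closure (Module.support R K') := by
      rintro q ⟨hqf, hqM⟩
      obtain ⟨n, hn, hle⟩ := Ideal.exists_minimalPrimes_le ((hsupp q).1 hqM)
      rcases eq_or_ne n m with rfl | hne
      · exact subset_closure (Module.mem_support_mono (p := m') hle hmK)
      · have hn' : n ∈ hfin.toFinset.erase m := Finset.mem_erase.2 ⟨hne, hfin.mem_toFinset.2 hn⟩
        obtain ⟨d, hd⟩ := Finset.dvd_prod_of_mem (fun n : {n // n ∈ hfin.toFinset.erase m} => g n.1 n.2)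
          (Finset.mem_attach _ ⟨n, hn'⟩)
        exact absurd (hle (show f ∈ n by rw [show f = g n hn' * d from hd]; exact n.mul_mem_right d (hg n hn'))) hqf
    exact Set.eq_empty_iff_forall_notMem.1 (hK' _ (PrimeSpectrum.basicOpen f).isOpen hU) m'
      ⟨hfm, hminsupp m hm⟩
  · refine Set.Subset.antisymm (Module.support_subset_of_surjective K.mkQ K.mkQ_surjective) fun q hq => ?_
    obtain ⟨m, hm, hle⟩ := Ideal.exists_minimalPrimes_le ((hsupp q).1 hq)
    have h1 := hminsupp m hm
    rw [Module.support_of_exact (LinearMap.exact_subtype_mkQ K) K.injective_subtype K.mkQ_surjective] at h1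
    exact Module.mem_support_mono (p := ⟨m, hm.1.1⟩) hle
      (h1.resolve_left (notMem_support_genKer M _ hm))
  · have key : ∀ p ∈ associatedPrimes R (M ⧸ K), p ∈ I.minimalPrimes := by
      intro p hp
      obtain ⟨hpp, y, hy⟩ := isAssociatedPrime_iff.1 hp
      obtain ⟨x, rfl⟩ := K.mkQ_surjective y
      have hmem : ∀ s, s ∈ p ↔ s • x ∈ K := fun s => by
        rw [hy, Submodule.mem_colon_singleton, Submodule.mem_bot, ← map_smul, Submodule.mkQ_apply,
          Submodule.Quotient.mk_eq_zero]
      have hxK : x ∉ K := fun h => hpp.ne_top ((Ideal.eq_top_iff_one p).2 ((hmem 1).2 (by rwa [one_smul])))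
      obtain ⟨m, hm, hmx⟩ : ∃ m ∈ I.minimalPrimes, ∀ s, s ∉ m → s • x ≠ 0 := by
        by_contra hcon
        exact hxK fun m hm => by
          by_contra h'
          exact hcon ⟨m, hm, fun s hs h0 => h' ⟨s, hs, h0⟩⟩
      have hpm : p ≤ m := fun s hs => by
        by_contra hsm
        obtain ⟨t, ht, htx⟩ := (hmem s).1 hs m hm
        exact hmx (t * s) (fun h => (hm.1.1.mem_or_mem h).elim ht hsm) (by rw [mul_smul, htx])
      have hIp : I ≤ p := fun s hs => (hmem s).2 (by rw [Module.mem_annihilator.1 hs x]; exact zero_mem _)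
      rwa [le_antisymm hpm (hm.2 ⟨hpp, hIp⟩ hpm)]
    intro p hp q hq hpq
    exact le_antisymm hpq ((key q hq).2 (key p hp).1 hpq)
  · intro f hf
    have hK : f ∈ (Module.annihilator R K).radical := by
      rw [← Ideal.sInf_minimalPrimes, Submodule.mem_sInf]
      intro p hp
      have hpK : p ∈ associatedPrimes R K :=
        Module.associatedPrimes.minimalPrimes_annihilator_subset_associatedPrimes R _ hp
      refine hf p (associatedPrimes.subset_of_injective K.injective_subtype hpK) fun hmin => ?_
      have hpM : I ≤ p := le_of_eq_of_le Submodule.annihilator_top.symm (IsAssociatedPrime.annihilator_le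
        (associatedPrimes.subset_of_injective K.injective_subtype hpK))
      haveI := hp.1.1
      obtain ⟨m, hm, hle⟩ := Ideal.exists_minimalPrimes_le hpM
      have hmass : m ∈ associatedPrimes R M :=
        Module.associatedPrimes.minimalPrimes_annihilator_subset_associatedPrimes R _ hm
      have heq : p = m := le_antisymm (hmin.2 hmass hle) hle
      refine notMem_support_genKer M ⟨p, hp.1.1⟩ (heq ▸ hm) ?_
      rw [Module.support_eq_zeroLocus, PrimeSpectrum.mem_zeroLocus, SetLike.coe_subset_coe]
      exact hp.1.2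
    obtain ⟨n, hn⟩ := hK
    refine ⟨?_, LocalizedModule.map_surjective _ _ K.mkQ_surjective⟩
    rw [injective_iff_map_eq_zero]
    intro z hz
    induction z using LocalizedModule.induction_on with
    | h x s =>
      rw [LocalizedModule.map_mk, ← LocalizedModule.zero_mk s, LocalizedModule.mk_eq] at hz
      obtain ⟨t, ht⟩ := hz
      simp only [smul_zero, Submodule.mkQ_apply, Submonoid.smul_def, ← Submodule.Quotient.mk_smul,
        Submodule.Quotient.mk_eq_zero] at ht
      have h0 := Module.mem_annihilator.1 hn ⟨_, ht⟩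
      rw [← LocalizedModule.zero_mk s, LocalizedModule.mk_eq]
      refine ⟨⟨f ^ n, n, rfl⟩ * t, ?_⟩
      simp only [smul_zero, Submonoid.smul_def, Submonoid.coe_mul, mul_smul]
      exact congrArg Subtype.val h0

end Groth.Agent.S9644
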