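import Groth.Statements.S9645
import Mathlib

set_option autoImplicit false
universe u
open CAlg

namespace Groth.Agent.S9645

/-- Integral closure commutes with localization. Let A → B be a ring map, S a multiplicative subset of
A, and A_S, B_S the localizations of A at S and of B at the image of S. Then an element x of B_S is
integral over A_S if and only if x·s = b for some s ∈ S and some b ∈ B integral over A (images taken
in B_S); that is, the integral closure of A_S in B_S is S⁻¹B' for B' the integral closure of A in B. -/
theorem result {A B As Bs : Type u} [CommRing A] [CommRing B] [CommRing As] [CommRing Bs] [Algebra A B] [Algebra A As] [Algebra B Bs] [Algebra As Bs] [Algebra A Bs] [IsScalarTower A B Bs] [IsScalarTower A As Bs]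
    (S : Submonoid A) [IsLocalization S As] [IsLocalization (Algebra.algebraMapSubmonoid B S) Bs] (x : Bs) :
    IsIntegral As x ↔ ∃ b : B, IsIntegral A b ∧ ∃ s ∈ S, x * algebraMap A Bs s = algebraMap B Bs b := by
  constructor
  · intro hx
    obtain ⟨⟨y, ⟨_, t, ht, rfl⟩⟩, e⟩ := IsLocalization.surj (Algebra.algebraMapSubmonoid B S) x
    simp only [← IsScalarTower.algebraMap_apply A B Bs] at e
    obtain ⟨m, hm⟩ := IsIntegral.exists_multiple_integral_of_isLocalization S x hx
    have h1 : IsIntegral A (algebraMap B Bs (algebraMap A B m * y)) := by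
      have := hm.mul (isIntegral_algebraMap (x := t) : IsIntegral A (algebraMap A Bs t))
      rw [Submonoid.smul_def, Algebra.smul_def, mul_assoc, e] at this
      rwa [map_mul, ← IsScalarTower.algebraMap_apply A B Bs]
    obtain ⟨m', hm', h2⟩ := IsLocalization.exists_isIntegral_smul_of_isIntegral_map S h1
    refine ⟨_, h2, m' * (m * t), mul_mem hm' (mul_mem m.2 ht), ?_⟩
    rw [Algebra.smul_def, map_mul, map_mul, map_mul, map_mul, ← IsScalarTower.algebraMap_apply A B Bs, ← IsScalarTower.algebraMap_apply A B Bs, ← e]
    ring
  · rintro ⟨b, hb, s, hs, e⟩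
    obtain ⟨u, hu⟩ := IsLocalization.map_units As ⟨s, hs⟩
    have hb' : IsIntegral As (algebraMap B Bs b) := IsIntegral.tower_top (R := A) hb.algebraMap
    have : x = algebraMap As Bs (↑u⁻¹) * algebraMap B Bs b := by
      rw [← e, IsScalarTower.algebraMap_apply A As Bs, ← show (u : As) = algebraMap A As s from hu, mul_comm x, ← mul_assoc, ← map_mul, Units.inv_mul, map_one, one_mul]
    rw [this]
    exact isIntegral_algebraMap.mul hb'

end Groth.Agent.S9645
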