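import Groth.Statements.S9646
import Mathlib

set_option autoImplicit false
universe u
open CAlg

namespace Groth.Agent.S9646

/-- (2) ⇒ (1): let R → S be a ring map and x ∈ S. If for every prime ideal p of R the image of x in S_p
(the localization of S at the image of R ∖ p) is integral over R_p, then x is integral over R. Here
R_p and S_p are any rings satisfying the localization universal properties. -/
theorem result {R S : Type u} [CommRing R] [CommRing S] [Algebra R S] (x : S)
    (h : ∀ (p : Ideal R) [p.IsPrime] (Rp Sp : Type u) [CommRing Rp] [CommRing Sp] [Algebra R Rp] [Algebra S Sp] [Algebra Rp Sp] [Algebra R Sp] [IsScalarTower R S Sp] [IsScalarTower R Rp Sp] [IsLocalization.AtPrime Rp p] [IsLocalization (Algebra.algebraMapSubmonoid S p.primeCompl) Sp], IsIntegral Rp (algebraMap S Sp x)) :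
    IsIntegral R x := by
  let J : Ideal R :=
    { carrier := {r | IsIntegral R (r • x)}
      add_mem' := fun {a b} (ha : IsIntegral R (a • x)) (hb : IsIntegral R (b • x)) => by
        simpa [add_smul] using ha.add hb
      zero_mem' := by simpa using isIntegral_zero
      smul_mem' := fun c a (ha : IsIntegral R (a • x)) => by
        show IsIntegral R ((c • a) • x)
        rw [smul_assoc]; exact ha.smul c }
  by_cases hJ : J = ⊤
  · have h1 : IsIntegral R ((1 : R) • x) := (hJ ▸ Submodule.mem_top : (1 : R) ∈ J)
    simpa using h1
  · exfalso
    obtain ⟨m, hm, hle⟩ := Ideal.exists_le_maximal J hJ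
    have hint := h m (Localization.AtPrime m) (Localization (Algebra.algebraMapSubmonoid S m.primeCompl))
    obtain ⟨a, ha⟩ := IsIntegral.exists_multiple_integral_of_isLocalization m.primeCompl _ hint
    rw [Submonoid.smul_def, show (a : R) • algebraMap S (Localization (Algebra.algebraMapSubmonoid S m.primeCompl)) x = algebraMap S _ ((a : R) • x) from (map_smul (IsScalarTower.toAlgHom R S (Localization (Algebra.algebraMapSubmonoid S m.primeCompl))) (a : R) x).symm] at ha
    obtain ⟨b, hb, hba⟩ := IsLocalization.exists_isIntegral_smul_of_isIntegral_map m.primeCompl ha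
    have : b * (a : R) ∈ J := by
      show IsIntegral R ((b * (a : R)) • x)
      rwa [mul_smul]
    exact (m.primeCompl.mul_mem hb a.2) (hle this)

end Groth.Agent.S9646
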