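import Groth.Statements.S9647
import Mathlib

set_option autoImplicit false
universe u
open CAlg

namespace Groth.Agent.S9647
open scoped TensorProduct Pointwise

set_option backward.isDefEq.respectTransparency false in
set_option maxHeartbeats 800000 in
theorem aux {k L K : Type u} [Field k] [Field L] [Algebra k L] [IsGalois k L] [Field K] [Algebra k K]
    (P Q : Ideal (L ⊗[k] K)) [P.IsPrime] [Q.IsPrime] :
    ∃ σ : L ≃ₐ[k] L, Q = P.comap (Algebra.TensorProduct.map (σ : L →ₐ[k] L) (AlgHom.id k K)) := by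
  classical
  let m : (L ≃ₐ[k] L) → ((L ⊗[k] K) →ₐ[k] (L ⊗[k] K)) := fun σ => Algebra.TensorProduct.map (σ : L →ₐ[k] L) (AlgHom.id k K)
  have hone : m 1 = AlgHom.id k (L ⊗[k] K) := Algebra.TensorProduct.ext' fun a x => rfl
  have hmul : ∀ σ τ : (L ≃ₐ[k] L), m (σ * τ) = (m σ).comp (m τ) := fun σ τ => Algebra.TensorProduct.ext' fun a x => rfl
  let : MulSemiringAction (L ≃ₐ[k] L) (L ⊗[k] K) :=
    { smul := fun σ b => m σ b
      one_smul := fun b => DFunLike.congr_fun hone b
      mul_smul := fun σ τ b => DFunLike.congr_fun (hmul σ τ) b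
      smul_zero := fun σ => map_zero (m σ)
      smul_add := fun σ => map_add (m σ)
      smul_one := fun σ => map_one (m σ).toRingHom
      smul_mul := fun σ => map_mul (m σ) }
  let : Algebra K (L ⊗[k] K) := (Algebra.TensorProduct.includeRight : K →ₐ[k] (L ⊗[k] K)).toRingHom.toAlgebra
  have hK : ∀ (σ : (L ≃ₐ[k] L)) (x : K), m σ ((1 : L) ⊗ₜ x) = (1 : L) ⊗ₜ x := fun σ x => by
    show (σ (1 : L)) ⊗ₜ[k] x = _
    rw [map_one]
  have : SMulCommClass (L ≃ₐ[k] L) K (L ⊗[k] K) := ⟨fun σ x b => by
    show m σ (((1 : L) ⊗ₜ x) * b) = ((1 : L) ⊗ₜ x) * m σ b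
    rw [map_mul, hK]⟩
  let : TopologicalSpace (L ⊗[k] K) := ⊥
  have : DiscreteTopology (L ⊗[k] K) := ⟨rfl⟩
  have : ContinuousSMul (L ≃ₐ[k] L) (L ⊗[k] K) := continuousSMul_iff_stabilizer_isOpen.2 fun b => by
    induction b using TensorProduct.induction_on with
    | zero =>
      have : MulAction.stabilizer (L ≃ₐ[k] L) (0 : (L ⊗[k] K)) = ⊤ := eq_top_iff.2 fun σ _ => smul_zero σ
      rw [this]; exact isOpen_univ
    | tmul a x =>
      refine Subgroup.isOpen_mono (H₁ := MulAction.stabilizer (L ≃ₐ[k] L) a) (fun σ hσ => ?_) (stabilizer_isOpen_of_isIntegral (K := k) (L := L) a)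
      show m σ (a ⊗ₜ x) = a ⊗ₜ x
      show σ a ⊗ₜ[k] x = a ⊗ₜ x
      rw [show σ a = a from hσ]
    | add b c hb hc =>
      refine Subgroup.isOpen_mono (H₁ := MulAction.stabilizer (L ≃ₐ[k] L) b ⊓ MulAction.stabilizer (L ≃ₐ[k] L) c) (fun σ hσ => ?_) (hb.inter hc)
      show σ • (b + c) = b + c
      rw [smul_add, show σ • b = b from hσ.1, show σ • c = c from hσ.2]
  have : Algebra.IsInvariant K (L ⊗[k] K) (L ≃ₐ[k] L) := ⟨fun b hb => by
    let e := Module.Free.chooseBasis k K
    let E := Algebra.TensorProduct.basis L e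
    have hrepr : ∀ (σ : (L ≃ₐ[k] L)) (c : (L ⊗[k] K)) (i : _), E.repr (m σ c) i = σ (E.repr c i) := by
      intro σ c i
      induction c using TensorProduct.induction_on with
      | zero => simp
      | tmul a x =>
        show (Algebra.TensorProduct.basis L e).repr ((σ a) ⊗ₜ[k] x) i = σ ((Algebra.TensorProduct.basis L e).repr (a ⊗ₜ[k] x) i)
        simp [Algebra.TensorProduct.basis_repr_tmul]
      | add c d hc hd => simp [map_add, hc, hd]
    have hbot : ∀ i, ∃ r : k, algebraMap k L r = E.repr b i := fun i => by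
      have hmem : E.repr b i ∈ (⊥ : IntermediateField k L) :=
        (InfiniteGalois.mem_bot_iff_fixed _).2 fun σ => by rw [← hrepr]; exact congrArg (fun z => E.repr z i) (hb σ)
      exact IntermediateField.mem_bot.1 hmem
    choose r hr using hbot
    refine ⟨∑ i ∈ (E.repr b).support, r i • e i, ?_⟩
    show (1 : L) ⊗ₜ[k] (∑ i ∈ (E.repr b).support, r i • e i) = b
    conv_rhs => rw [← E.linearCombination_repr b, Finsupp.linearCombination_apply, Finsupp.sum]
    rw [TensorProduct.tmul_sum]
    refine Finset.sum_congr rfl fun i _ => ?_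
    rw [← hr, Algebra.TensorProduct.basis_apply, TensorProduct.smul_tmul', TensorProduct.tmul_smul,
      TensorProduct.smul_tmul', smul_eq_mul, mul_one, Algebra.algebraMap_eq_smul_one]⟩
  obtain ⟨g, hg⟩ := Algebra.IsInvariant.exists_smul_of_under_eq_of_profinite (A := K) (G := L ≃ₐ[k] L) P Q (by
    rw [(Ideal.eq_bot_or_top (P.under K)).resolve_right (Ideal.IsPrime.under K P).ne_top,
      (Ideal.eq_bot_or_top (Q.under K)).resolve_right (Ideal.IsPrime.under K Q).ne_top])
  refine ⟨g⁻¹, ?_⟩
  ext z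
  rw [hg, Ideal.mem_pointwise_smul_iff_inv_smul_mem]
  rfl


open TensorProduct in
/-- Let K/k be a field extension and k^sep a separable algebraic closure of k. Then the automorphism
group of k^sep over k acts transitively on the primes of k^sep ⊗_k K: for any two primes P, Q there
is a k-automorphism σ of k^sep with Q the inverse image of P under σ ⊗ id_K. -/
theorem result {k K : Type u} [Field k] [Field K] [Algebra k K]
    (P Q : Ideal (SeparableClosure k ⊗[k] K)) [P.IsPrime] [Q.IsPrime] :
    ∃ σ : SeparableClosure k ≃ₐ[k] SeparableClosure k, Q = P.comap (Algebra.TensorProduct.map (σ : SeparableClosure k →ₐ[k] SeparableClosure k) (AlgHom.id k K)) := by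
  exact aux P Q

end Groth.Agent.S9647
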