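import Groth.Statements.S9648
import Mathlib
import Groth.Agent.S9664
import Groth.Agent.S9669

set_option autoImplicit false
universe u
open CAlg

namespace Groth.Agent.S9648

open TensorProduct in
/-- The inclusion, valid for any ring R: let R → S be a ring map, M an R-module and N an S-module which
is flat over R. For an associated prime p of M (a prime equal to the annihilator of an element) and
an associated prime Q of the fibre module N ⊗_R κ(p) over the fibre ring S ⊗_R κ(p), the inverse
image of Q in S is an associated prime of N ⊗_R M. -/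
theorem result {R S : Type u} [CommRing R] [CommRing S] [Algebra R S] (M : Type u) [AddCommGroup M] [Module R M] (N : Type u) [AddCommGroup N] [Module S N] [Module R N] [IsScalarTower R S N] [Module.Flat R N]
    (p : Ideal R) [p.IsPrime] (hp : p ∈ FlatCA.ass R M) (Q : Ideal (p.Fiber S)) (hQ : Q ∈ FlatCA.ass (p.Fiber S) (FlatCA.fiberMod p S N)) :
    Q.comap (Algebra.TensorProduct.includeRight (R := R) (A := p.ResidueField) (B := S)).toRingHom ∈ FlatCA.ass S (N ⊗[R] M) := by
  classical
  haveI : Q.IsPrime := hQ.1
  set q := Q.comap (Algebra.TensorProduct.includeRight (R := R) (A := p.ResidueField) (B := S)).toRingHom with hqdef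
  have hqp : q.comap (algebraMap R S) = p := by
    refine le_antisymm (fun r hr => ?_) fun r hr => ?_
    · by_contra hrp
      exact (inferInstance : Q.IsPrime).ne_top (Ideal.eq_top_of_isUnit_mem _ (x := Groth.Agent.CAlgFib.ι p (algebraMap R S r)) hr (Groth.Agent.CAlgFib.ι_isUnit p hrp))
    · show Groth.Agent.CAlgFib.ι p (algebraMap R S r) ∈ Q
      rw [Groth.Agent.CAlgFib.ι_eq_zero p hr]; exact Q.zero_mem
  haveI : q.IsPrime := Ideal.comap_isPrime _ _
  have h1 : q ∈ FlatCA.ass S (FlatCA.fiberMod p S N) :=
    (Groth.Agent.S9664.result N p q hqp).mpr ⟨Q, hQ, rfl⟩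
  rw [← (Groth.Agent.S9669.result (R := R) N p).1] at h1
  obtain ⟨hq', m, hm⟩ := h1
  obtain ⟨n, rfl⟩ := Submodule.Quotient.mk_surjective _ m
  obtain ⟨hp', x, hx⟩ := hp
  let j : (R ⧸ p) →ₗ[R] M := Submodule.liftQ p (LinearMap.toSpanSingleton R M x) fun r hr => by
    rw [hx, Submodule.mem_annihilator_span_singleton] at hr
    exact hr
  have hj : Function.Injective j := by
    rw [injective_iff_map_eq_zero]
    intro a ha
    obtain ⟨a, rfl⟩ := Ideal.Quotient.mk_surjective a
    refine Ideal.Quotient.eq_zero_iff_mem.mpr ?_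
    rw [hx, Submodule.mem_annihilator_span_singleton]
    exact ha
  have hjN := Module.Flat.lTensor_preserves_injective_linearMap (M := N) j hj
  refine ⟨hq', n ⊗ₜ[R] x, ?_⟩
  ext s
  rw [hm, Submodule.mem_annihilator_span_singleton, Submodule.mem_annihilator_span_singleton, ← Submodule.Quotient.mk_smul,
    Submodule.Quotient.mk_eq_zero, ← Submodule.restrictScalars_mem R, Submodule.restrictScalars_map_smul_eq, Submodule.restrictScalars_top,
    ← Submodule.Quotient.mk_eq_zero, ← LinearEquiv.map_eq_zero_iff (TensorProduct.tensorQuotEquivQuotSMul N p).symm,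
    TensorProduct.tensorQuotEquivQuotSMul_symm_mk, ← map_eq_zero_iff _ hjN, LinearMap.lTensor_tmul, TensorProduct.smul_tmul']
  simp [j]
  show (s • n) ⊗ₜ[R] ((1 : R) • x) = 0 ↔ _
  rw [one_smul]
end Groth.Agent.S9648
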