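import Groth.Statements.S9649
import Mathlib
import Groth.Agent.FieldExtLib.Separable

set_option autoImplicit false
universe u
open CAlg

namespace Groth.Agent.S9649

/-- A separably generated field extension is separable. Precisely: let K/k be a field extension
admitting a transcendence basis x over whose generated subfield k(x) the field K is separable
algebraic; then every finitely generated subextension K' of K/k also admits such a transcendence
basis. -/
theorem result {k K : Type u} [Field k] [Field K] [Algebra k K]
    (h : ∃ (ι : Type u) (x : ι → K), IsTranscendenceBasis k x ∧ Algebra.IsSeparable (IntermediateField.adjoin k (Set.range x)) K)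
    (K' : IntermediateField k K) (hK' : ∃ s : Finset K, IntermediateField.adjoin k (s : Set K) = K') :
    ∃ (ι : Type u) (x : ι → K'), IsTranscendenceBasis k x ∧ Algebra.IsSeparable (IntermediateField.adjoin k (Set.range x)) K' := by
  obtain ⟨ι, x, hx, hsep⟩ := h
  have hfs : Algebra.FormallySmooth k K := Algebra.FormallySmooth.of_algebraicIndependent_of_isSeparable hx.1
  have hgr := Groth.Agent.FieldExtLib.formallySmooth_iff_isGeometricallyReduced.1 hfs
  have : Algebra.IsGeometricallyReduced k K' := Algebra.IsGeometricallyReduced.of_injective K'.val K'.val.injective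
  obtain ⟨s₀, hs₀⟩ := hK'
  have hess : Algebra.EssFiniteType k K' := IntermediateField.essFiniteType_iff.2 (hs₀ ▸ IntermediateField.fg_adjoin_finset s₀)
  obtain _ | ⟨p, hp, hpk⟩ := CharP.exists' k
  · obtain ⟨s, hs⟩ := exists_isTranscendenceBasis k K'
    have : Algebra.IsAlgebraic (IntermediateField.adjoin k (Set.range ((↑) : s → K'))) K' := hs.isAlgebraic_field
    refine ⟨s, (↑), hs, ?_⟩
    exact Algebra.IsAlgebraic.isSeparable_of_perfectField
  · have := hp
    obtain ⟨s, hs, H⟩ := exists_isTranscendenceBasis_and_isSeparable_of_linearIndepOn_pow_of_essFiniteType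
      (k := k) (K := K') p Fact.out ((Groth.Agent.FieldExtLib.isGeometricallyReduced_iff_powIndep p).1 inferInstance)
    refine ⟨(s : Set K'), (↑), hs, ?_⟩
    convert! H <;> simp

end Groth.Agent.S9649
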