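import Groth.Statements.S9650
import Mathlib

set_option autoImplicit false
universe u
open CAlg

namespace Groth.Agent.S9650

/-- Let K/k be a finitely generated field extension that is separably generated, i.e. admits a
transcendence basis over whose generated subfield K is separable algebraic. Then K is generated over
k by finitely many elements x_1, …, x_r, y such that the x_i form a transcendence basis of K/k and y
is separable over the subfield k(x_1, …, x_r). -/
theorem result {k K : Type u} [Field k] [Field K] [Algebra k K]
    (hfg : ∃ s : Finset K, IntermediateField.adjoin k (s : Set K) = ⊤)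
    (hsep : ∃ (ι : Type u) (x : ι → K), IsTranscendenceBasis k x ∧ Algebra.IsSeparable (IntermediateField.adjoin k (Set.range x)) K) :
    ∃ (r : ℕ) (x : Fin r → K) (y : K), IsTranscendenceBasis k x ∧ IntermediateField.adjoin k (insert y (Set.range x)) = ⊤ ∧ IsSeparable (IntermediateField.adjoin k (Set.range x)) y := by
  obtain ⟨s, hs⟩ := hfg
  obtain ⟨ι, x, hx, hxsep⟩ := hsep
  haveI : Algebra.IsAlgebraic (Algebra.adjoin k (s : Set K)) K := ⟨fun y => by
    obtain ⟨a, ha, b, hb, rfl⟩ := IntermediateField.mem_adjoin_iff_div.mp (hs.ge (IntermediateField.mem_top (x := y)))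
    rw [div_eq_mul_inv]
    exact (isAlgebraic_algebraMap (⟨a, ha⟩ : Algebra.adjoin k (s : Set K))).mul
      (isAlgebraic_algebraMap (⟨b, hb⟩ : Algebra.adjoin k (s : Set K))).inv⟩
  obtain ⟨t, hts, ht⟩ := exists_isTranscendenceBasis_subset (R := k) (s : Set K)
  haveI : Finite t := (s.finite_toSet.subset hts).to_subtype
  haveI : Finite ι := by
    rw [← Cardinal.lt_aleph0_iff_finite, hx.cardinalMk_eq_trdeg, ← ht.cardinalMk_eq_trdeg]
    exact Cardinal.lt_aleph0_iff_finite.mpr ‹_›
  obtain ⟨r, ⟨e⟩⟩ := Finite.exists_equiv_fin ι
  let E := IntermediateField.adjoin k (Set.range x)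
  haveI : Algebra.IsSeparable E K := hxsep
  have htop : IntermediateField.adjoin E (s : Set K) = ⊤ := by
    refine IntermediateField.restrictScalars_injective k ?_
    rw [IntermediateField.restrictScalars_top]
    exact top_le_iff.mp (hs.ge.trans (IntermediateField.adjoin_le_iff.mpr (IntermediateField.subset_adjoin E _)))
  haveI : FiniteDimensional E (⊤ : IntermediateField E K) :=
    htop ▸ IntermediateField.finiteDimensional_adjoin fun a _ => Algebra.IsIntegral.isIntegral a
  haveI : FiniteDimensional E K := IntermediateField.topEquiv.toLinearEquiv.finiteDimensional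
  obtain ⟨y, hy⟩ := Field.exists_primitive_element E K
  have hr : Set.range (x ∘ e.symm) = Set.range x := e.symm.surjective.range_comp x
  refine ⟨r, x ∘ e.symm, y, hx.comp_equiv e.symm, ?_, ?_⟩
  · rw [hr, Set.insert_eq, Set.union_comm, ← IntermediateField.adjoin_adjoin_left, hy, IntermediateField.restrictScalars_top]
  · rw [hr]; exact Algebra.IsSeparable.isSeparable E y

end Groth.Agent.S9650
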