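import Groth.Statements.S9652
import Groth.Agent.JacImgLib.Basic

set_option autoImplicit false
universe u
open CAlg

namespace Groth.Agent.S9652

/-- Let R and S be Jacobson rings, R → S a ring map of finite type with induced map f : Spec(S) →
Spec(R), and E ⊆ Spec(S) a constructible subset. Writing T₀ for the set of points of a subspace T
which are closed in T, one has f(E)₀ = f(E₀) = (Spec R)₀ ∩ f(E). -/
theorem result {R S : Type u} [CommRing R] [CommRing S] [Algebra R S] [IsJacobsonRing R] [IsJacobsonRing S] [Algebra.FiniteType R S]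
    (E : Set (PrimeSpectrum S)) (hE : Topology.IsConstructible E) :
    {x | x ∈ PrimeSpectrum.comap (algebraMap R S) '' E ∧ closure {x} ∩ PrimeSpectrum.comap (algebraMap R S) '' E = {x}} =
        PrimeSpectrum.comap (algebraMap R S) '' {y | y ∈ E ∧ closure {y} ∩ E = {y}} ∧
      PrimeSpectrum.comap (algebraMap R S) '' {y | y ∈ E ∧ closure {y} ∩ E = {y}} =
        {x | IsClosed ({x} : Set (PrimeSpectrum R))} ∩ PrimeSpectrum.comap (algebraMap R S) '' E := by
  refine ⟨?_, Groth.Agent.JacImgLib.image_closedPoints E hE⟩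
  rw [Groth.Agent.JacImgLib.image_closedPoints E hE]
  ext x
  refine ⟨fun h => ⟨Groth.Agent.JacImgLib.closed_of_closedIn E hE x h.1 h.2, h.1⟩, fun h => ⟨h.2, ?_⟩⟩
  rw [IsClosed.closure_eq h.1, Set.inter_eq_left.2 (Set.singleton_subset_iff.2 h.2)]

end Groth.Agent.S9652
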