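import Groth.Statements.S9653
import Groth.Agent.JacImgLib.Basic

set_option autoImplicit false
universe u
open CAlg

namespace Groth.Agent.S9653

/-- Let R and S be Jacobson rings, R → S a ring map of finite type with induced map f : Spec(S) →
Spec(R), E ⊆ Spec(S) constructible and E₀ the set of points of E closed in E. Then a point ξ of
Spec(R) lies in f(E) if and only if cl{ξ} ∩ f(E₀) is dense in the closure cl{ξ}. -/
theorem result {R S : Type u} [CommRing R] [CommRing S] [Algebra R S] [IsJacobsonRing R] [IsJacobsonRing S] [Algebra.FiniteType R S]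
    (E : Set (PrimeSpectrum S)) (hE : Topology.IsConstructible E) (ξ : PrimeSpectrum R) :
    ξ ∈ PrimeSpectrum.comap (algebraMap R S) '' E ↔
      closure ({ξ} : Set (PrimeSpectrum R)) ⊆ closure (closure {ξ} ∩ PrimeSpectrum.comap (algebraMap R S) '' {y | y ∈ E ∧ closure {y} ∩ E = {y}}) := by
  rw [Groth.Agent.JacImgLib.image_closedPoints E hE]
  constructor
  · intro h
    obtain ⟨U, hU, hξU, hsub⟩ := (Groth.Agent.JacImgLib.reduce E hE ξ).1 h
    have hl : IsLocallyClosed (U ∩ closure {ξ}) := ⟨U, closure {ξ}, hU, isClosed_closure, rfl⟩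
    refine (isClosed_closure.closure_subset_iff.2 (Set.singleton_subset_iff.2 ?_))
    have h1 : ξ ∈ closure ((U ∩ closure {ξ}) ∩ closedPoints (PrimeSpectrum R)) := by
      rw [JacobsonSpace.closure_inter_closedPoints_eq_closure hl]
      exact subset_closure ⟨hξU, subset_closure rfl⟩
    refine closure_mono ?_ h1
    exact fun z hz => ⟨hz.1.2, hz.2, hsub hz.1⟩
  · intro h
    refine (Groth.Agent.JacImgLib.reduce E hE ξ).2 (h.trans (closure_mono ?_))
    exact fun z hz => ⟨hz.1, hz.2.2⟩

end Groth.Agent.S9653
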