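import Groth.Statements.S9654
import Mathlib

set_option autoImplicit false
universe u
open CAlg

namespace Groth.Agent.S9654

/-- Let R be a ring and x, y ∈ R nonzerodivisors. In the localization R_{xy} let a = x/y and b = y/x,
and let R[a], R[b], R[a, b] be the R-subalgebras they generate. If R is integrally closed in R_x or
in R_y, then the sequence 0 → R → R[a] ⊕ R[b] → R[a, b] → 0 (difference map, then sum map) is short
exact; equivalently R[a] ∩ R[b] is the image of R and R[a] + R[b] = R[a, b] inside R_{xy}. -/
theorem result {R : Type u} [CommRing R] (x y : R) (hx : x ∈ nonZeroDivisors R) (hy : y ∈ nonZeroDivisors R)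
    (hint : IsIntegrallyClosedIn R (Localization.Away x) ∨ IsIntegrallyClosedIn R (Localization.Away y)) :
    (Algebra.adjoin R {algebraMap R (Localization.Away (x * y)) (x * x) * IsLocalization.Away.invSelf (x * y)}).toSubmodule ⊓
        (Algebra.adjoin R {algebraMap R (Localization.Away (x * y)) (y * y) * IsLocalization.Away.invSelf (x * y)}).toSubmodule =
        (⊥ : Subalgebra R (Localization.Away (x * y))).toSubmodule ∧
      (Algebra.adjoin R {algebraMap R (Localization.Away (x * y)) (x * x) * IsLocalization.Away.invSelf (x * y)}).toSubmodule ⊔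
        (Algebra.adjoin R {algebraMap R (Localization.Away (x * y)) (y * y) * IsLocalization.Away.invSelf (x * y)}).toSubmodule =
        (Algebra.adjoin R {algebraMap R (Localization.Away (x * y)) (x * x) * IsLocalization.Away.invSelf (x * y), algebraMap R (Localization.Away (x * y)) (y * y) * IsLocalization.Away.invSelf (x * y)}).toSubmodule := by
  let Z := Localization.Away (x * y)
  let g : R →+* Z := algebraMap R Z
  let inv : Z := IsLocalization.Away.invSelf (x * y)
  let a : Z := g (x * x) * inv
  let b : Z := g (y * y) * inv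
  have hinv : g (x * y) * inv = 1 := IsLocalization.Away.mul_invSelf (x * y)
  have hab : a * b = 1 := by
    calc a * b = (g (x * y) * inv) * (g (x * y) * inv) := by simp only [a, b, g, map_mul]; ring
      _ = 1 := by rw [hinv, one_mul]
  have hmon : ∀ (P : Submodule R Z), (∀ i, a ^ i ∈ P) → (∀ j, b ^ j ∈ P) → ∀ i j, a ^ i * b ^ j ∈ P := by
    intro P ha hb i j
    rcases le_total j i with h | h
    · rw [← Nat.sub_add_cancel h, pow_add, mul_assoc, ← mul_pow, hab, one_pow, mul_one]; exact ha _
    · rw [← Nat.sub_add_cancel h, pow_add, mul_left_comm, ← mul_pow, hab, one_pow, mul_one]; exact hb _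
  refine ⟨?_, ?_⟩
  swap
  · refine le_antisymm (sup_le (Algebra.adjoin_mono (Set.singleton_subset_iff.mpr (Set.mem_insert _ _))) (Algebra.adjoin_mono (Set.singleton_subset_iff.mpr (Set.mem_insert_of_mem _ rfl)))) ?_
    rw [Algebra.adjoin_eq_span, Submodule.span_le]
    intro z hz
    obtain ⟨i, j, rfl⟩ := (Submonoid.mem_closure_pair _ _ _).mp hz
    exact hmon _ (fun i => Submodule.mem_sup_left (pow_mem (Algebra.self_mem_adjoin_singleton R a) i))
      (fun j => Submodule.mem_sup_right (pow_mem (Algebra.self_mem_adjoin_singleton R b) j)) i j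
  refine le_antisymm ?_ (le_inf (fun z hz => ?_) (fun z hz => ?_))
  rotate_left
  · obtain ⟨r, rfl⟩ := Algebra.mem_bot.mp hz; exact Subalgebra.algebraMap_mem _ r
  · obtain ⟨r, rfl⟩ := Algebra.mem_bot.mp hz; exact Subalgebra.algebraMap_mem _ r
  intro z hz
  rw [Submodule.mem_inf, Subalgebra.mem_toSubmodule, Subalgebra.mem_toSubmodule,
    Algebra.adjoin_singleton_eq_range_aeval, Algebra.adjoin_singleton_eq_range_aeval] at hz
  obtain ⟨⟨P, hP⟩, ⟨Q, hQ⟩⟩ := hz
  have hP : Polynomial.aeval a P = z := hP
  have hQ : Polynomial.aeval b Q = z := hQ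
  -- `z` is integral over `R`
  have hzint : IsIntegral R z := by
    let s : Set Z := (fun i : ℕ => a ^ i) '' Set.Iic P.natDegree ∪ (fun j : ℕ => b ^ j) '' Set.Iic Q.natDegree
    let L : Submodule R Z := Submodule.span R s
    haveI : Module.Finite R L := Module.Finite.span_of_finite R (((Set.finite_Iic _).image _).union ((Set.finite_Iic _).image _))
    have h1 : (1 : Z) ∈ L := Submodule.subset_span (Or.inl ⟨0, Nat.zero_le _, pow_zero a⟩)
    let W : Subalgebra R Z :=
      { carrier := {w | ∀ l ∈ L, w * l ∈ L}
        mul_mem' := fun {u v} hu hv l hl => by rw [mul_assoc]; exact hu _ (hv l hl)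
        add_mem' := fun {u v} hu hv l hl => by rw [add_mul]; exact add_mem (hu l hl) (hv l hl)
        algebraMap_mem' := fun r l hl => by rw [← Algebra.smul_def]; exact L.smul_mem r hl }
    let φ : W →ₐ[R] Module.End R L := AlgHom.ofLinearMap
      { toFun := fun w => ((LinearMap.mulLeft R (w : Z)).domRestrict L).codRestrict L fun l => w.2 _ l.2
        map_add' := fun u v => LinearMap.ext fun l => Subtype.ext (add_mul _ _ _)
        map_smul' := fun r u => LinearMap.ext fun l => Subtype.ext (smul_mul_assoc r _ _) }
      (LinearMap.ext fun l => Subtype.ext (one_mul _))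
      (fun u v => LinearMap.ext fun l => Subtype.ext (mul_assoc _ _ _))
    have hφ : Function.Injective φ := fun u v huv => Subtype.ext (by
      simpa [φ] using congrArg Subtype.val (LinearMap.congr_fun huv ⟨1, h1⟩))
    have hzW : z ∈ W := by
      intro l hl
      induction hl using Submodule.span_induction with
      | zero => simp
      | add u v _ _ hu hv => rw [mul_add]; exact add_mem hu hv
      | smul r u _ hu => rw [mul_smul_comm]; exact L.smul_mem r hu
      | mem l hl =>
        rcases hl with ⟨i, hi, rfl⟩ | ⟨j, hj, rfl⟩ <;> dsimp only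
        · rw [← hQ, Polynomial.aeval_eq_sum_range, Finset.sum_mul]
          refine L.sum_mem fun j hj => ?_
          rw [Finset.mem_range] at hj
          rw [smul_mul_assoc, mul_comm (b ^ j)]
          refine L.smul_mem _ ?_
          rcases le_total j i with h | h
          · rw [← Nat.sub_add_cancel h, pow_add, mul_assoc, ← mul_pow, hab, one_pow, mul_one]
            exact Submodule.subset_span (Or.inl ⟨i - j, le_trans (Nat.sub_le _ _) hi, rfl⟩)
          · rw [← Nat.sub_add_cancel h, pow_add, mul_left_comm, ← mul_pow, hab, one_pow, mul_one]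
            exact Submodule.subset_span (Or.inr ⟨j - i, le_trans (Nat.sub_le _ _) (by omega : j ≤ Q.natDegree), rfl⟩)
        · rw [← hP, Polynomial.aeval_eq_sum_range, Finset.sum_mul]
          refine L.sum_mem fun i hi => ?_
          rw [Finset.mem_range] at hi
          rw [smul_mul_assoc]
          refine L.smul_mem _ ?_
          rcases le_total j i with h | h
          · rw [← Nat.sub_add_cancel h, pow_add, mul_assoc, ← mul_pow, hab, one_pow, mul_one]
            exact Submodule.subset_span (Or.inl ⟨i - j, le_trans (Nat.sub_le _ _) (by omega : i ≤ P.natDegree), rfl⟩)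
          · rw [← Nat.sub_add_cancel h, pow_add, mul_left_comm, ← mul_pow, hab, one_pow, mul_one]
            exact Submodule.subset_span (Or.inr ⟨j - i, le_trans (Nat.sub_le _ _) hj, rfl⟩)
    obtain ⟨p, hp, hpz⟩ := LinearMap.exists_monic_and_aeval_eq_zero R (φ ⟨z, hzW⟩ : Module.End R L)
    rw [Polynomial.aeval_algHom_apply] at hpz
    have h2 : Polynomial.aeval (⟨z, hzW⟩ : W) p = 0 := hφ (hpz.trans (map_zero φ).symm)
    refine ⟨p, hp, ?_⟩
    rw [← Polynomial.aeval_def, show z = W.val ⟨z, hzW⟩ from rfl, Polynomial.aeval_algHom_apply, h2, map_zero]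
  -- descend to one of the two smaller localizations
  have hxy : x * y ∈ nonZeroDivisors R := mul_mem hx hy
  have hgi : Function.Injective g := IsLocalization.injective Z (M := Submonoid.powers (x * y)) (Submonoid.powers_le.mpr hxy)
  have hdesc : ∀ (t w : R), g t * (g w * inv) = 1 → IsIntegrallyClosedIn R (Localization.Away t) →
      ∀ c : R, (∃ P : Polynomial R, Polynomial.aeval (g c * (g w * inv)) P = z) → z ∈ (⊥ : Subalgebra R Z) := by
    rintro t w htw hcl c ⟨P, hP⟩
    have hu : IsUnit (g t) := IsUnit.of_mul_eq_one _ htw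
    let ψ : Localization.Away t →ₐ[R] Z :=
      { IsLocalization.Away.lift (S := Localization.Away t) t hu with commutes' := IsLocalization.Away.lift_eq t hu }
    have hψ : ∀ r, ψ (algebraMap R _ r) = g r := ψ.commutes
    have hψi : Function.Injective ψ := by
      rw [injective_iff_map_eq_zero]
      intro q hq
      obtain ⟨r, ⟨_, k, rfl⟩, rfl⟩ := IsLocalization.exists_mk'_eq (Submonoid.powers t) q
      have h := congrArg (fun e => e * g (t ^ k)) hq
      simp only [zero_mul] at h
      rw [← hψ (t ^ k), ← map_mul, IsLocalization.mk'_spec, hψ, ← map_zero g] at h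
      simp [hgi h]
    let b' : Localization.Away t := algebraMap R _ c * IsLocalization.Away.invSelf t
    have hb' : ψ b' = g c * (g w * inv) := by
      rw [map_mul, hψ]
      congr 1
      refine hu.mul_left_cancel ?_
      rw [htw, ← hψ, ← map_mul, IsLocalization.Away.mul_invSelf, map_one]
    have hz' : ψ (Polynomial.aeval b' P) = z := by rw [← Polynomial.aeval_algHom_apply, hb', hP]
    have hint' : IsIntegral R (Polynomial.aeval b' P) := (isIntegral_algHom_iff ψ hψi).mp (hz'.symm ▸ hzint)
    obtain ⟨r, hr⟩ := (isIntegrallyClosedIn_iff.mp hcl).2 hint'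
    exact Algebra.mem_bot.mpr ⟨r, by rw [← hz', ← hr]; exact (hψ r).symm⟩
  rcases hint with h | h
  · refine hdesc x y (by rw [← mul_assoc, ← map_mul]; exact hinv) h y ⟨Q, ?_⟩
    rw [← mul_assoc, ← map_mul]; exact hQ
  · refine hdesc y x (by rw [← mul_assoc, ← map_mul, mul_comm y x]; exact hinv) h x ⟨P, ?_⟩
    rw [← mul_assoc, ← map_mul]; exact hP
end Groth.Agent.S9654
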