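import Groth.Statements.S9655
import Mathlib

set_option autoImplicit false
universe u
open CAlg

namespace Groth.Agent.S9655

/-- Let R and S be local rings and R → S a ring map, not necessarily local, that is essentially of
finite type. Then for some n there is a maximal ideal m of the polynomial ring R[x_1, …, x_n] lying
over the maximal ideal of R, together with an R-algebra map φ : R[x_1, …, x_n]_m → S making S a
localization of the image of φ; thus S arises from R[x_1, …, x_n]_m by passing to a quotient and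
then localizing. -/
theorem result {R S : Type u} [CommRing R] [CommRing S] [Algebra R S] [IsLocalRing R] [IsLocalRing S] [Algebra.EssFiniteType R S] :
    ∃ (n : ℕ) (m : Ideal (MvPolynomial (Fin n) R)) (_ : m.IsMaximal), m.under R = IsLocalRing.maximalIdeal R ∧
      ∃ (φ : Localization.AtPrime m →ₐ[R] S) (T : Submonoid φ.range), IsLocalization T S := by
  classical
  let κ := IsLocalRing.ResidueField S
  let ρ : R →+* κ := (IsLocalRing.residue S).comp (algebraMap R S)
  let I : Ideal ρ.range := (IsLocalRing.maximalIdeal R).map ρ.rangeRestrict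
  have hI : I ≠ ⊤ := fun h => by
    have h2 := congrArg (Ideal.comap ρ.rangeRestrict) h
    rw [Ideal.comap_top, Ideal.comap_map_of_surjective _ ρ.rangeRestrict_surjective, sup_eq_left.mpr
      (IsLocalRing.le_maximalIdeal (Ideal.comap_ne_top _ (bot_ne_top)))] at h2
    exact (IsLocalRing.maximalIdeal.isMaximal R).ne_top h2
  obtain ⟨V, hAV, hIV⟩ := Ideal.image_subset_nonunits_valuationSubring I hI
  let s := Algebra.EssFiniteType.finset R S
  have hyex : ∀ x : S, ∃ y : S, IsLocalRing.residue S y ∈ V ∧ (y = x ∨ (IsUnit y ∧ x * y = 1)) := fun x => by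
    by_cases h : IsLocalRing.residue S x ∈ V
    · exact ⟨x, h, Or.inl rfl⟩
    · have h0 : IsLocalRing.residue S x ≠ 0 := fun h0 => h (h0 ▸ V.zero_mem)
      obtain ⟨u, hu⟩ := (IsLocalRing.residue_ne_zero_iff_isUnit x).mp h0
      refine ⟨↑u⁻¹, ?_, Or.inr ⟨u⁻¹.isUnit, hu ▸ u.mul_inv⟩⟩
      have := (V.mem_or_inv_mem (IsLocalRing.residue S x)).resolve_left h
      rwa [inv_eq_of_mul_eq_one_right (show IsLocalRing.residue S x * IsLocalRing.residue S ↑u⁻¹ = 1 by
        rw [← map_mul, ← hu, u.mul_inv, map_one])] at this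
  choose y hyV hy using hyex
  let n := s.card
  let e := s.equivFin
  let φ₀ : MvPolynomial (Fin n) R →ₐ[R] S := MvPolynomial.aeval fun i => y (e.symm i).1
  let θ : MvPolynomial (Fin n) R →+* κ := (IsLocalRing.residue S).comp φ₀.toRingHom
  have hθ : ∀ p, θ p ∈ V := fun p => by
    induction p using MvPolynomial.induction_on with
    | C r =>
      have : θ (MvPolynomial.C r) = ρ r := by simp [θ, φ₀, ρ]
      rw [this]; exact hAV ⟨r, rfl⟩
    | add p q hp hq => rw [map_add]; exact V.add_mem _ _ hp hq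
    | mul_X p i hp =>
      rw [map_mul]
      refine V.mul_mem _ _ hp ?_
      simpa [θ, φ₀] using hyV (e.symm i).1
  let ψ : MvPolynomial (Fin n) R →+* V := θ.codRestrict V hθ
  obtain ⟨m, hm, hle⟩ := Ideal.exists_le_maximal ((IsLocalRing.maximalIdeal V).comap ψ)
    (Ideal.comap_ne_top _ (IsLocalRing.maximalIdeal.isMaximal V).ne_top)
  have hunder : IsLocalRing.maximalIdeal R ≤ m.under R := fun r hr => by
    refine hle ?_
    rw [Ideal.mem_comap, ← ValuationSubring.coe_mem_nonunits_iff]
    refine hIV ⟨ρ.rangeRestrict r, Ideal.mem_map_of_mem _ hr, ?_⟩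
    simp [ψ, θ, φ₀, ρ]
  have hunit : ∀ p : m.primeCompl, IsUnit (φ₀ p.1) := fun p => by
    refine (IsLocalRing.residue_ne_zero_iff_isUnit _).mp fun h => p.2 (hle ?_)
    rw [Ideal.mem_comap, show ψ p.1 = 0 from Subtype.ext h]
    exact zero_mem _
  let φ : Localization.AtPrime m →ₐ[R] S := IsLocalization.liftAlgHom (f := φ₀) hunit
  have hφ : ∀ p, φ₀ p ∈ φ.range := fun p => ⟨algebraMap _ _ p, IsLocalization.lift_eq _ p⟩
  refine ⟨n, m, hm, ((IsLocalRing.maximalIdeal.isMaximal R).eq_of_le
    (Ideal.IsPrime.ne_top inferInstance) hunder).symm, φ, (IsUnit.submonoid S).comap (algebraMap φ.range S), ?_⟩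
  let P : S → Prop := fun x => ∃ b ∈ φ.range, IsUnit b ∧ x * b ∈ φ.range
  have hP : ∀ x ∈ Algebra.adjoin R (s : Set S), P x := fun x hx => by
    induction hx using Algebra.adjoin_induction with
    | mem x hx =>
      have hyr : y x ∈ φ.range := by
        have := hφ (MvPolynomial.X (e ⟨x, hx⟩))
        simpa [φ₀] using this
      rcases hy x with h | ⟨h, h'⟩
      · exact ⟨1, one_mem _, isUnit_one, by rw [mul_one, ← h]; exact hyr⟩
      · exact ⟨y x, hyr, h, by rw [h']; exact one_mem _⟩
    | algebraMap r => exact ⟨1, one_mem _, isUnit_one, by rw [mul_one]; exact φ.range.algebraMap_mem r⟩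
    | add a b _ _ ha hb =>
      obtain ⟨u, hu, hu', hau⟩ := ha
      obtain ⟨v, hv, hv', hbv⟩ := hb
      exact ⟨u * v, mul_mem hu hv, hu'.mul hv', by
        rw [show (a + b) * (u * v) = a * u * v + b * v * u by ring]
        exact add_mem (mul_mem hau hv) (mul_mem hbv hu)⟩
    | mul a b _ _ ha hb =>
      obtain ⟨u, hu, hu', hau⟩ := ha
      obtain ⟨v, hv, hv', hbv⟩ := hb
      exact ⟨u * v, mul_mem hu hv, hu'.mul hv', by
        rw [show (a * b) * (u * v) = (a * u) * (b * v) by ring]
        exact mul_mem hau hbv⟩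
  refine ⟨fun z => z.2, fun x => ?_, fun {x z} h => ⟨1, by simpa using Subtype.ext h⟩⟩
  obtain ⟨⟨⟨a, ha⟩, ⟨t, ht⟩, htu⟩, hxt⟩ := IsLocalization.surj (Algebra.EssFiniteType.submonoid R S) x
  replace hxt : x * t = a := hxt
  obtain ⟨u, hu, hu', hau⟩ := hP a ha
  obtain ⟨v, hv, hv', htv⟩ := hP t ht
  have htu' : IsUnit t := htu
  exact ⟨⟨⟨a * u * v, mul_mem hau hv⟩, ⟨⟨t * v * u, mul_mem htv hu⟩, (htu'.mul hv').mul hu'⟩⟩,
    show x * (t * v * u) = a * u * v by rw [← hxt]; ring⟩

end Groth.Agent.S9655
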