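import Groth.Statements.S9656
import Mathlib

set_option autoImplicit false
universe u
open CAlg

namespace Groth.Agent.S9656

/-- Let R_i → S_i be ring maps indexed by a finite type ι, with product map R = Π R_i → S = Π S_i. Then
an element (s_i) of S is integral over R exactly when s_i is integral over R_i for every i; so
integral closure in a finite product is computed factor by factor. -/
theorem result {ι : Type u} [Fintype ι] {R S : ι → Type u} [∀ i, CommRing (R i)] [∀ i, CommRing (S i)] (f : ∀ i, R i →+* S i) (s : ∀ i, S i) :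
    (RingHom.pi fun i => (f i).comp (Pi.evalRingHom R i)).IsIntegralElem s ↔ ∀ i, (f i).IsIntegralElem (s i) := by
  letI : Algebra (∀ i, R i) (∀ i, S i) := (RingHom.pi fun i => (f i).comp (Pi.evalRingHom R i)).toAlgebra
  constructor
  · rintro ⟨p, hp, hp0⟩ i
    refine ⟨p.map (Pi.evalRingHom R i), hp.map _, ?_⟩
    have := congrFun hp0 i
    rw [Polynomial.eval₂_map]
    simpa [Polynomial.eval₂_eq_sum, Polynomial.sum, Finset.sum_apply] using this
  · intro h
    classical
    rw [← Finset.univ_sum_single s]
    refine IsIntegral.sum (R := ∀ i, R i) (A := ∀ i, S i) _ fun i _ => ?_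
    obtain ⟨p, hp, hp0⟩ := h i
    obtain ⟨q, hq, -, hqm⟩ := Polynomial.lifts_and_natDegree_eq_and_monic
      ((Polynomial.lifts_iff_coeff_lifts (f := Pi.evalRingHom R i) p).mpr fun n =>
        ⟨Pi.single i (p.coeff n), by simp⟩) hp
    refine ⟨q * Polynomial.X, hqm.mul Polynomial.monic_X, ?_⟩
    funext j
    show Pi.evalRingHom S j (Polynomial.eval₂ (RingHom.pi fun i => (f i).comp (Pi.evalRingHom R i)) (Pi.single i (s i)) (q * Polynomial.X)) = 0
    rw [Polynomial.hom_eval₂]
    rcases eq_or_ne j i with rfl | hj
    · have : (Pi.evalRingHom S j).comp (RingHom.pi fun i => (f i).comp (Pi.evalRingHom R i)) = (f j).comp (Pi.evalRingHom R j) := rfl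
      rw [this, ← Polynomial.eval₂_map, Polynomial.map_mul, hq, Polynomial.map_X, Polynomial.eval₂_mul]
      simp [hp0]
    · simp [Polynomial.eval₂_mul, hj]

end Groth.Agent.S9656
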