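import Groth.Statements.S9657
import Groth.Agent.GeomIrred.Criteria
-- import your own Groth.Agent.* helpers here

set_option autoImplicit false
universe u
open CAlg

namespace Groth.Agent.S9657

section

open TensorProduct

variable {k kt K Kt : Type u} [Field k] [Field kt] [Field K] [Field Kt] [Algebra k kt]
  [Algebra k K] [Algebra k Kt] [Algebra K Kt] [Algebra kt Kt] [IsScalarTower k kt Kt]
  [IsScalarTower k K Kt] [Algebra (Polynomial k) kt] [IsFractionRing (Polynomial k) kt]
  [Algebra (Polynomial K) Kt] [IsFractionRing (Polynomial K) Kt]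

/-- `kt ⊗ K → Kt`. -/
noncomputable def psi : kt ⊗[k] K →ₐ[kt] Kt :=
  Algebra.TensorProduct.lift (Algebra.ofId kt Kt) (IsScalarTower.toAlgHom k K Kt)
    fun _ _ => Commute.all _ _

theorem psi_tmul (a : kt) (c : K) :
    psi (Kt := Kt) (a ⊗ₜ[k] c) = algebraMap kt Kt a * algebraMap K Kt c := by
  simp [psi, Algebra.ofId_apply]

variable (hk : ∀ c : k, algebraMap (Polynomial k) kt (Polynomial.C c) = algebraMap k kt c)
  (hK : ∀ c : K, algebraMap (Polynomial K) Kt (Polynomial.C c) = algebraMap K Kt c)
  (hcompat : ∀ p : Polynomial k, algebraMap kt Kt (algebraMap (Polynomial k) kt p) =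
    algebraMap (Polynomial K) Kt (Polynomial.map (algebraMap k K) p))

include hk hK hcompat in
theorem psi_injective : Function.Injective (psi (k := k) (kt := kt) (K := K) (Kt := Kt)) := by
  let j : Polynomial k →ₐ[k] kt :=
    { toRingHom := algebraMap (Polynomial k) kt, commutes' := fun c => hk c }
  let J : K ⊗[k] Polynomial k →ₐ[k] kt ⊗[k] K :=
    ((Algebra.TensorProduct.comm k K kt).toAlgHom).comp
      (Algebra.TensorProduct.map (AlgHom.id k K) j)
  have hclear : ∀ z : kt ⊗[k] K, ∃ d : Polynomial k, d ≠ 0 ∧ ∃ w,
      (j d ⊗ₜ[k] (1 : K)) * z = J w := by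
    intro z
    induction z using TensorProduct.induction_on with
    | zero => exact ⟨1, one_ne_zero, 0, by simp⟩
    | tmul a c =>
      obtain ⟨n, d, hd, rfl⟩ := IsFractionRing.div_surjective (A := Polynomial k) a
      refine ⟨d, nonZeroDivisors.ne_zero hd, c ⊗ₜ n, ?_⟩
      have hd' : algebraMap (Polynomial k) kt d ≠ 0 := fun h =>
        nonZeroDivisors.ne_zero hd ((map_eq_zero_iff _ (IsFractionRing.injective (Polynomial k) kt)).mp h)
      simp [J, j, Algebra.TensorProduct.tmul_mul_tmul, mul_div_cancel₀ _ hd']
    | add x y hx hy =>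
      obtain ⟨d, hd, w, hw⟩ := hx
      obtain ⟨d', hd', w', hw'⟩ := hy
      refine ⟨d * d', mul_ne_zero hd hd', ((1 : K) ⊗ₜ d') * w + ((1 : K) ⊗ₜ d) * w', ?_⟩
      have hJ : ∀ e : Polynomial k, J ((1 : K) ⊗ₜ e) = j e ⊗ₜ[k] (1 : K) := fun e => by simp [J]
      have he : j (d * d') ⊗ₜ[k] (1 : K) = (j d ⊗ₜ[k] (1 : K)) * (j d' ⊗ₜ[k] (1 : K)) := by
        simp [Algebra.TensorProduct.tmul_mul_tmul]
      simp only [map_add, map_mul J, ← hw, ← hw', hJ, he]
      ring
  have hpsiJ : ∀ w : K ⊗[k] Polynomial k, psi (Kt := Kt) (J w) =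
      algebraMap (Polynomial K) Kt ((polyEquivTensor' k K).symm w) := by
    intro w
    induction w using TensorProduct.induction_on with
    | zero => simp
    | tmul c p =>
      have he : (polyEquivTensor' k K).symm (c ⊗ₜ p) =
          Polynomial.C c * Polynomial.map (algebraMap k K) p :=
        polyEquivTensor_symm_apply_tmul_eq_smul k K c p |>.trans (Polynomial.smul_eq_C_mul c)
      rw [he, map_mul, hK, ← hcompat]
      simp [J, j, psi_tmul, mul_comm]
    | add x y hx hy => simp only [map_add, hx, hy]
  rw [injective_iff_map_eq_zero]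
  intro z hz
  obtain ⟨d, hd, w, hw⟩ := hclear z
  have hu : IsUnit (j d ⊗ₜ[k] (1 : K)) :=
    ((isUnit_iff_ne_zero (a := j d)).mpr fun h =>
      hd ((map_eq_zero_iff _ (IsFractionRing.injective (Polynomial k) kt)).mp h)).map
      (Algebra.TensorProduct.includeLeft : kt →ₐ[k] kt ⊗[k] K)
  rw [← hu.mul_right_eq_zero, hw]
  have : psi (Kt := Kt) (J w) = 0 := by rw [← hw, map_mul, hz, mul_zero]
  rw [hpsiJ, map_eq_zero_iff _ (IsFractionRing.injective (Polynomial K) Kt),
    map_eq_zero_iff _ (AlgEquiv.injective _)] at this
  rw [this, map_zero]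

variable (L : Type u) [Field L] [Algebra k L] [Algebra kt L] [IsScalarTower k kt L]

/-- `L ⊗_k K → L ⊗_kt Kt`. -/
noncomputable def phi : L ⊗[k] K →ₐ[L] L ⊗[kt] Kt :=
  (Algebra.TensorProduct.map (AlgHom.id L L) (psi (k := k) (kt := kt) (K := K) (Kt := Kt))).comp
    (Algebra.TensorProduct.cancelBaseChange k kt L L K).symm.toAlgHom

theorem phi_tmul (l : L) (c : K) :
    phi (kt := kt) (Kt := Kt) L (l ⊗ₜ[k] c) = l ⊗ₜ[kt] algebraMap K Kt c := by
  simp [phi, psi_tmul]

include hk hK hcompat in
theorem phi_injective : Function.Injective (phi (k := k) (kt := kt) (K := K) (Kt := Kt) L) := by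
  have h := Module.Flat.lTensor_preserves_injective_linearMap (M := L)
    (psi (k := k) (kt := kt) (K := K) (Kt := Kt)).toLinearMap (psi_injective hk hK hcompat)
  have e : ∀ z, Algebra.TensorProduct.map (AlgHom.id L L)
      (psi (k := k) (kt := kt) (K := K) (Kt := Kt)) z =
      LinearMap.lTensor L (psi (k := k) (kt := kt) (K := K) (Kt := Kt)).toLinearMap z := by
    intro z
    induction z using TensorProduct.induction_on with
    | zero => simp
    | tmul a b => simp
    | add x y hx hy => simp only [map_add, hx, hy]
  intro x y hxy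
  apply (Algebra.TensorProduct.cancelBaseChange k kt L L K).symm.injective
  apply h
  rw [← e, ← e]
  exact hxy

include hk hK hcompat in
theorem exists_unit_mul_mem_range (y : L ⊗[kt] Kt) :
    ∃ u : L ⊗[kt] Kt, IsUnit u ∧ u ∈ (phi (k := k) (kt := kt) (K := K) (Kt := Kt) L).range ∧
      u * y ∈ (phi (k := k) (kt := kt) (K := K) (Kt := Kt) L).range := by
  have hpoly : ∀ (l : L) (a : Polynomial K), l ⊗ₜ[kt] algebraMap (Polynomial K) Kt a ∈
      (phi (k := k) (kt := kt) (K := K) (Kt := Kt) L).range := by
    intro l a
    induction a using Polynomial.induction_on' with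
    | add p q hp hq => rw [map_add, TensorProduct.tmul_add]; exact add_mem hp hq
    | monomial n c =>
      refine ⟨(algebraMap kt L (algebraMap (Polynomial k) kt (Polynomial.X ^ n)) * l) ⊗ₜ c, ?_⟩
      have ha : algebraMap (Polynomial K) Kt (Polynomial.monomial n c) =
          algebraMap (Polynomial k) kt (Polynomial.X ^ n) • algebraMap K Kt c := by
        rw [Algebra.smul_def, hcompat, ← hK, ← map_mul, Polynomial.map_pow, Polynomial.map_X,
          Polynomial.X_pow_mul_C, ← Polynomial.C_mul_X_pow_eq_monomial]
      change phi (kt := kt) (Kt := Kt) L _ = _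
      rw [phi_tmul, ha, TensorProduct.tmul_smul, ← Algebra.smul_def, TensorProduct.smul_tmul']
  induction y using TensorProduct.induction_on with
  | zero => exact ⟨1, isUnit_one, one_mem _, by rw [mul_zero]; exact zero_mem _⟩
  | tmul l x =>
    obtain ⟨a, b, hb, rfl⟩ := IsFractionRing.div_surjective (A := Polynomial K) x
    have hb' : algebraMap (Polynomial K) Kt b ≠ 0 := fun h => nonZeroDivisors.ne_zero hb
      ((map_eq_zero_iff _ (IsFractionRing.injective (Polynomial K) Kt)).mp h)
    refine ⟨(1 : L) ⊗ₜ algebraMap (Polynomial K) Kt b,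
      ((isUnit_iff_ne_zero).mpr hb').map (Algebra.TensorProduct.includeRight : Kt →ₐ[kt] L ⊗[kt] Kt), hpoly 1 b, ?_⟩
    rw [Algebra.TensorProduct.tmul_mul_tmul, one_mul, mul_div_cancel₀ _ hb']
    exact hpoly l a
  | add x y hx hy =>
    obtain ⟨u, hu, hum, hux⟩ := hx
    obtain ⟨v, hv, hvm, hvy⟩ := hy
    refine ⟨u * v, hu.mul hv, mul_mem hum hvm, ?_⟩
    have h : u * v * (x + y) = v * (u * x) + u * (v * y) := by ring
    rw [h]
    exact add_mem (mul_mem hvm hux) (mul_mem hum hvy)

/-- Irreducibility passes to an overring in which every element is a unit times an element of the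
subring. -/
theorem irreducibleSpace_of_unit_mul {A B : Type u} [CommRing A] [CommRing B] [Nontrivial B]
    (f : A →+* B) (hf : Function.Injective f)
    (h : ∀ y : B, ∃ u : B, IsUnit u ∧ ∃ a, f a = u * y)
    (hA : IrreducibleSpace (PrimeSpectrum A)) : IrreducibleSpace (PrimeSpectrum B) := by
  have hp := PrimeSpectrum.irreducibleSpace_iff_isPrime_nilradical.mp hA
  rw [PrimeSpectrum.irreducibleSpace_iff_isPrime_nilradical]
  refine ⟨fun hh => ?_, fun {x y} hxy => ?_⟩
  · have h1 : (1 : B) ∈ nilradical B := hh ▸ Submodule.mem_top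
    exact not_isNilpotent_one (mem_nilradical.mp h1)
  · obtain ⟨u, hu, a, ha⟩ := h x
    obtain ⟨v, hv, b, hb⟩ := h y
    have hab : a * b ∈ nilradical A := by
      rw [mem_nilradical, ← IsNilpotent.map_iff hf, map_mul, ha, hb]
      rw [show u * x * (v * y) = u * v * (x * y) by ring]
      exact (Commute.all _ _).isNilpotent_mul_left (mem_nilradical.mp hxy)
    rcases hp.mem_or_mem hab with h' | h'
    · left
      have := (mem_nilradical.mp h').map f
      rw [ha] at this
      rw [mem_nilradical]
      exact (hu.isNilpotent_unit_mul_of_commute_iff (Commute.all _ _)).mp this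
    · right
      have := (mem_nilradical.mp h').map f
      rw [hb] at this
      rw [mem_nilradical]
      exact (hv.isNilpotent_unit_mul_of_commute_iff (Commute.all _ _)).mp this

end

open TensorProduct in
/-- Let K/k be a field extension and let k(t) ⊆ K(t) be the purely transcendental extensions in one
variable, realised as fraction fields of k[t] and K[t] compatibly with k[t] → K[t]. Then K is
geometrically irreducible over k (Spec(k' ⊗_k K) irreducible for every field extension k'/k) if and
only if K(t) is geometrically irreducible over k(t). Here the test fields range over field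
extensions of k, respectively of k(t), in the universe of k; this is equivalent to the unrestricted
notions, since an algebraic closure of the base field suffices as a test. -/
theorem result {k K : Type u} [Field k] [Field K] [Algebra k K]
    (kt Kt : Type u) [Field kt] [Field Kt] [Algebra (Polynomial k) kt] [IsFractionRing (Polynomial k) kt] [Algebra (Polynomial K) Kt] [IsFractionRing (Polynomial K) Kt]
    [Algebra kt Kt] (hcompat : ∀ p : Polynomial k, algebraMap kt Kt (algebraMap (Polynomial k) kt p) = algebraMap (Polynomial K) Kt (Polynomial.map (algebraMap k K) p)) :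
    (∀ (k' : Type u) [Field k'] [Algebra k k'], IrreducibleSpace (PrimeSpectrum (k' ⊗[k] K))) ↔
      ∀ (L : Type u) [Field L] [Algebra kt L], IrreducibleSpace (PrimeSpectrum (L ⊗[kt] Kt)) := by
  letI : Algebra k kt := ((algebraMap (Polynomial k) kt).comp Polynomial.C).toAlgebra
  letI : Algebra K Kt := ((algebraMap (Polynomial K) Kt).comp Polynomial.C).toAlgebra
  letI : Algebra k Kt := ((algebraMap K Kt).comp (algebraMap k K)).toAlgebra
  haveI : IsScalarTower k K Kt := .of_algebraMap_eq fun _ => rfl
  haveI : IsScalarTower k kt Kt := .of_algebraMap_eq fun c => by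
    refine Eq.trans ?_ (hcompat (Polynomial.C c)).symm
    rw [Polynomial.map_C]; rfl
  have hk : ∀ c : k, algebraMap (Polynomial k) kt (Polynomial.C c) = algebraMap k kt c := fun _ => rfl
  have hK : ∀ c : K, algebraMap (Polynomial K) Kt (Polynomial.C c) = algebraMap K Kt c := fun _ => rfl
  constructor
  · intro h L _ _
    letI : Algebra k L := ((algebraMap kt L).comp (algebraMap k kt)).toAlgebra
    haveI : IsScalarTower k kt L := .of_algebraMap_eq fun _ => rfl
    haveI : Nontrivial (L ⊗[kt] Kt) :=
      (Algebra.TensorProduct.includeLeft_injective (S := kt) (algebraMap kt Kt).injective).nontrivial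
    refine irreducibleSpace_of_unit_mul (phi (k := k) (kt := kt) (K := K) (Kt := Kt) L).toRingHom
      (phi_injective hk hK hcompat L) (fun y => ?_) (h L)
    obtain ⟨u, hu, -, a, ha⟩ := exists_unit_mul_mem_range hk hK hcompat L y
    exact ⟨u, hu, a, ha⟩
  · intro h k' _ _
    let f : Polynomial k →+* FractionRing (Polynomial k') :=
      (algebraMap (Polynomial k') (FractionRing (Polynomial k'))).comp
        (Polynomial.mapRingHom (algebraMap k k'))
    have hf : Function.Injective f := (IsFractionRing.injective _ _).comp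
      (Polynomial.map_injective _ (algebraMap k k').injective)
    let L := FractionRing (Polynomial k')
    letI : Algebra kt L := (IsFractionRing.lift (g := f) hf).toAlgebra
    haveI : IsScalarTower k kt L := .of_algebraMap_eq fun c => by
      change _ = IsFractionRing.lift hf (algebraMap (Polynomial k) kt (Polynomial.C c))
      rw [IsFractionRing.lift_algebraMap, IsScalarTower.algebraMap_apply k (Polynomial k') L]
      simp [f, L]
    let ι : k' →ₐ[k] L := (IsScalarTower.toAlgHom k (Polynomial k') L).comp
      (Polynomial.CAlgHom : k' →ₐ[k] Polynomial k')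
    refine Groth.Agent.GeomIrred.irreducibleSpace_of_injective
      ((phi (k := k) (kt := kt) (K := K) (Kt := Kt) L).toRingHom.comp
        (Algebra.TensorProduct.map ι (AlgHom.id k K)).toRingHom) ?_ (h L)
    exact (phi_injective hk hK hcompat L).comp
      (Module.Flat.rTensor_preserves_injective_linearMap (M := K) ι.toLinearMap
        ι.toRingHom.injective)

end Groth.Agent.S9657
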