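import Groth.Statements.S9658
import Mathlib

set_option autoImplicit false
universe u
open CAlg

namespace Groth.Agent.S9658

/-- Let R be a ring, f_1, …, f_n ∈ R generating the unit ideal and M an R-module. With M_i = M_{f_i},
M_ij = M_{f_i f_j} (any localizations, with the canonical compatible maps M → M_i → M_ij), the
sequence 0 → M → ⊕ M_i → ⊕ M_ij is exact: an element of M whose image vanishes in every M_i is zero,
and every family (m_i ∈ M_i) such that m_i and m_j have the same image in M_ij for all i, j is the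
image of an element of M. -/
theorem result {R : Type u} [CommRing R] {ι : Type u} [Fintype ι] (f : ι → R) (hf : Ideal.span (Set.range f) = ⊤)
    (M : Type u) [AddCommGroup M] [Module R M]
    (Mi : ι → Type u) [∀ i, AddCommGroup (Mi i)] [∀ i, Module R (Mi i)] (g : ∀ i, M →ₗ[R] Mi i) [∀ i, IsLocalizedModule (Submonoid.powers (f i)) (g i)]
    (Mij : ι → ι → Type u) [∀ i j, AddCommGroup (Mij i j)] [∀ i j, Module R (Mij i j)] (gij : ∀ i j, M →ₗ[R] Mij i j) [∀ i j, IsLocalizedModule (Submonoid.powers (f i * f j)) (gij i j)]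
    (ρ₁ : ∀ i j, Mi i →ₗ[R] Mij i j) (hρ₁ : ∀ i j, ρ₁ i j ∘ₗ g i = gij i j) (ρ₂ : ∀ i j, Mi j →ₗ[R] Mij i j) (hρ₂ : ∀ i j, ρ₂ i j ∘ₗ g j = gij i j) :
    (∀ m : M, (∀ i, g i m = 0) → m = 0) ∧
      ∀ s : ∀ i, Mi i, (∀ i j, ρ₁ i j (s i) = ρ₂ i j (s j)) → ∃ m : M, ∀ i, g i m = s i := by
  classical
  refine ⟨fun m hm => ?_, fun s hs => ?_⟩
  · let J : Ideal R := LinearMap.ker (LinearMap.toSpanSingleton R M m)
    have hJ : ∀ i, f i ∈ J.radical := fun i => by
      obtain ⟨⟨_, n, rfl⟩, hn⟩ := (IsLocalizedModule.eq_zero_iff (Submonoid.powers (f i)) (g i)).mp (hm i)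
      exact ⟨n, by simpa [J, Submonoid.smul_def] using hn⟩
    have : J = ⊤ := Ideal.radical_eq_top.mp (top_le_iff.mp (hf ▸ Ideal.span_le.mpr (by rintro _ ⟨i, rfl⟩; exact hJ i)))
    simpa [J] using (this.symm.le Submodule.mem_top : (1 : R) ∈ J)
  · -- write all sections with one exponent
    have hrep : ∀ i, ∃ (n : ℕ) (m : M), (f i ^ n) • s i = g i m := fun i => by
      obtain ⟨⟨m, ⟨_, n, rfl⟩⟩, h⟩ := IsLocalizedModule.surj (Submonoid.powers (f i)) (g i) (s i)
      exact ⟨n, m, h⟩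
    choose n m hm using hrep
    let N := Finset.univ.sup n
    let m1 : ι → M := fun i => f i ^ (N - n i) • m i
    have hm1 : ∀ i, g i (m1 i) = f i ^ N • s i := fun i => by
      rw [map_smul, ← hm, smul_smul, ← pow_add, Nat.sub_add_cancel (Finset.le_sup (Finset.mem_univ i))]
    have hagree : ∀ i j, ∃ k : ℕ, (f i * f j) ^ k • (f j ^ N • m1 i) = (f i * f j) ^ k • (f i ^ N • m1 j) := fun i j => by
      have h1 : gij i j (f j ^ N • m1 i) = gij i j (f i ^ N • m1 j) := by
        rw [map_smul (gij i j) (f j ^ N) (m1 i), map_smul (gij i j) (f i ^ N) (m1 j), ← LinearMap.congr_fun (hρ₁ i j) (m1 i), ← LinearMap.congr_fun (hρ₂ i j) (m1 j),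
          LinearMap.comp_apply, LinearMap.comp_apply, hm1, hm1, map_smul, map_smul, hs i j, smul_comm]
      obtain ⟨⟨_, k, rfl⟩, hk⟩ := (IsLocalizedModule.eq_iff_exists (Submonoid.powers (f i * f j)) (gij i j)).mp h1
      exact ⟨k, hk⟩
    choose k hk using hagree
    let K := Finset.univ.sup fun p : ι × ι => k p.1 p.2
    let m2 : ι → M := fun i => f i ^ K • m1 i
    have hk' : ∀ i j, f j ^ (K + N) • m2 i = f i ^ (K + N) • m2 j := fun i j => by
      have hle : k i j ≤ K := Finset.le_sup (f := fun p : ι × ι => k p.1 p.2) (Finset.mem_univ (i, j))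
      have h2 := congrArg ((f i * f j) ^ (K - k i j) • ·) (hk i j)
      simp only [smul_smul, ← mul_assoc, ← pow_add, Nat.sub_add_cancel hle] at h2
      simp only [m2, smul_smul]
      rw [show f j ^ (K + N) * f i ^ K = (f i * f j) ^ K * f j ^ N by ring, h2,
        show (f i * f j) ^ K * f i ^ N = f i ^ (K + N) * f j ^ K by ring]
    obtain ⟨c, hc⟩ : ∃ c : ι → R, ∑ i, c i * f i ^ (K + N) = 1 := by
      have h3 : Ideal.span (Set.range fun i => f i ^ (K + N)) = ⊤ := by
        refine Ideal.radical_eq_top.mp (top_le_iff.mp (hf ▸ Ideal.span_le.mpr ?_))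
        rintro _ ⟨i, rfl⟩
        exact ⟨K + N, Ideal.subset_span ⟨i, rfl⟩⟩
      exact Ideal.mem_span_range_iff_exists_fun.mp (h3.symm.le Submodule.mem_top : (1 : R) ∈ _)
    refine ⟨∑ j, c j • m2 j, fun i => ?_⟩
    have h4 : f i ^ (K + N) • (∑ j, c j • m2 j) = m2 i := by
      rw [Finset.smul_sum, Finset.sum_congr rfl fun j _ => show f i ^ (K + N) • c j • m2 j = (c j * f j ^ (K + N)) • m2 i by
        rw [smul_comm, ← hk' i j, smul_smul]]
      rw [← Finset.sum_smul, hc, one_smul]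
    have h5 := congrArg (g i) h4
    have hm2 : g i (m2 i) = f i ^ (K + N) • s i := by
      rw [map_smul, hm1, smul_smul, ← pow_add]
    rw [map_smul, hm2] at h5
    exact IsLocalizedModule.smul_injective (g i) (⟨_, K + N, rfl⟩ : Submonoid.powers (f i)) h5
end Groth.Agent.S9658
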