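import Groth.Statements.S9659
import Mathlib
-- import your own Groth.Agent.* helpers here

set_option autoImplicit false
universe u
open CAlg

namespace Groth.Agent.S9659

/-- Let S be a ℤ-graded ring which contains an invertible homogeneous element of positive degree. Then
the set of homogeneous prime ideals of S, with the topology induced from Spec(S), maps
homeomorphically onto Spec(S₀) by p ↦ p ∩ S₀. -/
theorem result {R S : Type u} [CommRing R] [CommRing S] [Algebra R S] (𝒜 : ℤ → Submodule R S) [GradedAlgebra 𝒜]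
    (f : S) (d : ℤ) (hd : 0 < d) (hf : f ∈ 𝒜 d) (hu : IsUnit f) :
    IsHomeomorph (fun p : {p : PrimeSpectrum S // p.asIdeal.IsHomogeneous 𝒜} => PrimeSpectrum.comap (SetLike.GradeZero.subring 𝒜).subtype p.1) := by
  classical
  let u : Sˣ := hu.unit
  have hinv : (↑u⁻¹ : S) ∈ 𝒜 (-d) := by
    have h1 : f * ↑u⁻¹ = 1 := u.mul_inv
    have h2 : f * (DirectSum.decompose 𝒜 (↑u⁻¹ : S) (-d) : S) = 1 := by
      rw [← DirectSum.coe_decompose_mul_add_of_left_mem 𝒜 hf, h1, add_neg_cancel]
      exact DirectSum.decompose_of_mem_same 𝒜 (SetLike.one_mem_graded 𝒜)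
    have h3 : (DirectSum.decompose 𝒜 (↑u⁻¹ : S) (-d) : S) = ↑u⁻¹ := hu.mul_left_cancel (h2.trans h1.symm)
    exact h3 ▸ Subtype.property _
  have hpow : ∀ i : ℤ, (↑(u ^ i) : S) ∈ 𝒜 (i * d) := by
    intro i
    induction i using Int.induction_on with
    | zero => rw [zpow_zero, zero_mul, Units.val_one]; exact SetLike.one_mem_graded 𝒜
    | succ n ih => rw [zpow_add_one, Units.val_mul, add_mul, one_mul]; exact SetLike.mul_mem_graded ih hf
    | pred n ih =>
      rw [zpow_sub_one, Units.val_mul, sub_mul, one_mul, sub_eq_add_neg]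
      exact SetLike.mul_mem_graded ih hinv
  obtain ⟨D, rfl⟩ := Int.eq_ofNat_of_zero_le hd.le
  have hD : 0 < D := by omega
  let ι₀ : SetLike.GradeZero.subring 𝒜 →+* S := (SetLike.GradeZero.subring 𝒜).subtype
  let φ : {p : PrimeSpectrum S // p.asIdeal.IsHomogeneous 𝒜} → PrimeSpectrum (SetLike.GradeZero.subring 𝒜) :=
    fun p => PrimeSpectrum.comap ι₀ p.1
  let Y : ∀ (i : ℤ) (x : S), x ∈ 𝒜 i → SetLike.GradeZero.subring 𝒜 := fun i x hx =>
    ⟨x ^ D * ↑(u ^ (-i)), by
      have h := SetLike.mul_mem_graded (SetLike.pow_mem_graded D hx) (hpow (-i))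
      rwa [show D • i + -i * (D : ℤ) = 0 by rw [nsmul_eq_mul]; ring] at h⟩
  have hY : ∀ (i : ℤ) (x : S) (hx : x ∈ 𝒜 i) (P : PrimeSpectrum S),
      Y i x hx ∈ (PrimeSpectrum.comap ι₀ P).asIdeal ↔ x ∈ P.asIdeal := by
    intro i x hx P
    show x ^ D * ↑(u ^ (-i)) ∈ P.asIdeal ↔ _
    rw [Ideal.mul_unit_mem_iff_mem _ (u ^ (-i)).isUnit, P.2.pow_mem_iff_mem D hD]
  have hcomp : ∀ (P : {p : PrimeSpectrum S // p.asIdeal.IsHomogeneous 𝒜}) (x : S),
      x ∈ P.1.asIdeal ↔ ∀ i, (DirectSum.decompose 𝒜 x i : S) ∈ P.1.asIdeal := fun P x =>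
    Ideal.IsHomogeneous.mem_iff 𝒜 P.2
  have hinj : Function.Injective φ := by
    intro P Q h
    refine Subtype.ext (PrimeSpectrum.ext (Ideal.ext fun x => ?_))
    rw [hcomp P x, hcomp Q x]
    refine forall_congr' fun i => ?_
    rw [← hY i _ (Subtype.property _) P.1, ← hY i _ (Subtype.property _) Q.1]
    exact iff_of_eq (congrArg (fun q : PrimeSpectrum (SetLike.GradeZero.subring 𝒜) =>
      Y i _ (Subtype.property _) ∈ q.asIdeal) h)
  have hsurj : Function.Surjective φ := by
    intro q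
    have hker : ∀ y : S, y ∈ q.asIdeal.map ι₀ → ∀ a : S,
        (⟨(DirectSum.decompose 𝒜 (a * y) 0 : S), Subtype.property _⟩ : SetLike.GradeZero.subring 𝒜) ∈ q.asIdeal := by
      intro y hy
      induction hy using Submodule.span_induction with
      | mem z hz =>
        obtain ⟨z', hz', rfl⟩ := hz
        intro a
        rw [show (⟨(DirectSum.decompose 𝒜 (a * ι₀ z') 0 : S), Subtype.property _⟩ : SetLike.GradeZero.subring 𝒜) =
          ⟨(DirectSum.decompose 𝒜 a 0 : S), Subtype.property _⟩ * z' from Subtype.ext (DirectSum.coe_decompose_mul_of_right_mem_zero 𝒜 z'.2)]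
        exact Ideal.mul_mem_left _ _ hz'
      | zero =>
        intro a
        convert q.asIdeal.zero_mem using 1
        exact Subtype.ext (by simp)
      | add z w _ _ hz hw =>
        intro a
        convert q.asIdeal.add_mem (hz a) (hw a) using 1
        exact Subtype.ext (by simp only [mul_add, DirectSum.decompose_add, DirectSum.add_apply]; rfl)
      | smul r z _ hz =>
        intro a
        convert hz (a * r) using 1
        exact Subtype.ext (by simp [mul_assoc])
    have hcm : (q.asIdeal.map ι₀).comap ι₀ = q.asIdeal := by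
      refine le_antisymm (fun y hy => ?_) Ideal.le_comap_map
      convert hker _ hy 1 using 1
      refine Subtype.ext ?_
      show (y : S) = _
      simp only [one_mul]
      exact (DirectSum.decompose_of_mem_same 𝒜 y.2).symm
    obtain ⟨P, hP⟩ := (PrimeSpectrum.mem_range_comap_iff ι₀).mpr hcm
    refine ⟨⟨⟨(P.asIdeal.homogeneousCore 𝒜).toIdeal, P.2.homogeneousCore⟩,
      (P.asIdeal.homogeneousCore 𝒜).isHomogeneous⟩, ?_⟩
    rw [← hP]
    refine PrimeSpectrum.ext (Ideal.ext fun y => ?_)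
    exact ⟨fun h => P.asIdeal.toIdeal_homogeneousCore_le 𝒜 h,
      fun h => Ideal.mem_homogeneousCore_of_homogeneous_of_mem ⟨0, y.2⟩ h⟩
  have hcont : Continuous φ := (PrimeSpectrum.continuous_comap ι₀).comp continuous_subtype_val
  refine (Equiv.ofBijective φ ⟨hinj, hsurj⟩).toHomeomorphOfContinuousOpen hcont ?_ |>.isHomeomorph
  intro U hU
  obtain ⟨V, hV, rfl⟩ := isOpen_induced_iff.mp hU
  refine isOpen_iff_forall_mem_open.mpr ?_
  rintro _ ⟨P, hP, rfl⟩
  obtain ⟨_, ⟨x, rfl⟩, hPx, hxV⟩ := PrimeSpectrum.isTopologicalBasis_basic_opens.exists_subset_of_mem_open hP hV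
  obtain ⟨i, hi⟩ : ∃ i, (DirectSum.decompose 𝒜 x i : S) ∉ P.1.asIdeal := by
    by_contra h
    push Not at h
    exact hPx ((hcomp P x).mpr h)
  refine ⟨PrimeSpectrum.basicOpen (Y i _ (DirectSum.decompose 𝒜 x i).2), ?_, PrimeSpectrum.isOpen_basicOpen, ?_⟩
  · intro q hq
    obtain ⟨Q, rfl⟩ := hsurj q
    exact ⟨Q, hxV fun hQx => hq ((hY i _ (Subtype.property _) Q.1).mpr ((hcomp Q x).mp hQx i)), rfl⟩
  · exact fun h => hi ((hY i _ (Subtype.property _) P.1).mp h)

end Groth.Agent.S9659
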