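import Groth.Statements.S9661
import Groth.Agent.HSLib.ProjDeg
-- import your own Groth.Agent.* helpers here

set_option autoImplicit false
set_option backward.isDefEq.respectTransparency false
set_option maxHeartbeats 800000
set_option synthInstance.maxHeartbeats 200000
universe u
attribute [local instance] MvPolynomial.gradedAlgebra
open CAlg

namespace Groth.Agent.S9661

/-- Let k be a field, d ≥ 1, and I a nonzero homogeneous ideal of the standard-graded polynomial ring
k[X_1, …, X_d]; put M = k[X_1, …, X_d]/I. Then the function n ↦ dim_k M_n (equal to dim_k of the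
degree-n part of the polynomial ring minus dim_k of the degree-n part of I) coincides for all large
n with a polynomial of degree < d - 1, the zero polynomial if d = 1. -/
theorem result {k : Type u} [Field k] (d : ℕ) (hd : 0 < d)
    (I : HomogeneousIdeal (MvPolynomial.homogeneousSubmodule (Fin d) k)) (hI : I ≠ ⊥) :
    ∃ P : Polynomial ℚ, P.degree < ((d - 1 : ℕ) : WithBot ℕ) ∧ ∃ N : ℕ, ∀ n : ℕ, N ≤ n →
      ((Module.finrank k ↥(MvPolynomial.homogeneousSubmodule (Fin d) k n) : ℚ) -
        (Module.finrank k ↥(I.toIdeal.restrictScalars k ⊓ MvPolynomial.homogeneousSubmodule (Fin d) k n) : ℚ)) = P.eval (n : ℚ) := by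
    classical
    obtain ⟨n, rfl⟩ : ∃ n, d = n + 1 := ⟨d - 1, by omega⟩
    obtain ⟨J, hJ⟩ := I
    change J.IsHomogeneous (CohB1.polyGrading n k) at hJ
    have hne : J ≠ ⊥ := fun h => hI (HomogeneousIdeal.toIdeal_injective (by simp [HomogeneousIdeal.toIdeal, h]))
    simp only [Nat.add_sub_cancel]
    show ∃ P : Polynomial ℚ, P.degree < (n : WithBot ℕ) ∧ ∃ N : ℕ, ∀ m : ℕ, N ≤ m → HSLib.hilb J m = P.eval (m : ℚ)
    by_cases htop : J = ⊤
    · refine ⟨0, by rw [Polynomial.degree_zero]; exact WithBot.bot_lt_coe n, 0, fun m _ => ?_⟩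
      subst htop
      rw [Polynomial.eval_zero, HSLib.hilb, Submodule.restrictScalars_top, top_inf_eq, sub_self]
    have := HSLib.finite_vMod (k := k) (n := n) (I := J)
    obtain ⟨S, hS⟩ := HSLib.exists_isHSPoly (M := HSLib.vMod J) (IsLocalRing.maximalIdeal (HSLib.vRing k n))
      (HSLib.length_pow_ne_top fun p _ h => by
        rw [← (IsLocalRing.maximalIdeal.isMaximal _).eq_of_le p.isPrime.ne_top h]
        exact IsLocalRing.maximalIdeal.isMaximal _)
    have hP : ∀ᶠ j : ℕ in Filter.atTop, (Polynomial.taylor 1 S - S).eval (j : ℚ) = HSLib.hilb J j := by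
      filter_upwards [hS, (Filter.tendsto_add_atTop_nat 1).eventually hS] with j h2 h3
      rw [HSLib.colen_vMod hJ] at h2 h3
      rw [Polynomial.eval_sub, Polynomial.taylor_eval]
      push_cast at h3
      rw [← h2, ← h3, Finset.sum_range_succ]
      ring
    set P := Polynomial.taylor 1 S - S
    obtain ⟨N, hN⟩ := Filter.eventually_atTop.1 hP
    refine ⟨P, ?_, N, fun m hm => (hN m hm).symm⟩
    by_cases h0 : P = 0
    · rw [h0, Polynomial.degree_zero]
      exact WithBot.bot_lt_coe n
    obtain ⟨D, hD, -, hDP, -⟩ := HSLib.ringKrullDim_eq_of_hilb hJ htop hP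
    obtain ⟨a, ha, ha0⟩ := (Submodule.ne_bot_iff J).1 hne
    have h1 : ringKrullDim (MvPolynomial (Fin (n + 1)) k ⧸ J) + 1 ≤ ((n + 1 : ℕ) : WithBot ℕ∞) := by
      have h2 := ringKrullDim_quotient_succ_le_of_nonZeroDivisor (mem_nonZeroDivisors_of_ne_zero ha0)
      rw [MvPolynomial.ringKrullDim_of_isNoetherianRing, ringKrullDim_eq_zero_of_field, zero_add, Nat.card_eq_fintype_card,
        Fintype.card_fin] at h2
      refine le_trans (add_le_add (ringKrullDim_le_of_surjective (Ideal.Quotient.factor
        ((Ideal.span_singleton_le_iff_mem J).2 ha)) (Ideal.Quotient.factor_surjective _)) le_rfl) h2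
    rw [hD, hDP h0] at h1
    norm_cast at h1
    rw [Polynomial.degree_eq_natDegree h0]
    exact_mod_cast (by omega : P.natDegree < n)

end Groth.Agent.S9661
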