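import Groth.Statements.S9662
import Mathlib
import Groth.Agent.HilbK0Lib.Basic

set_option autoImplicit false
universe u
open CategoryTheory
open CAlg

namespace Groth.Agent.S9662

/-- Let S be a Noetherian ℕ-graded ring, presented as a graded algebra over a ring A mapping onto S₀,
whose irrelevant ideal S₊ is generated as an ideal by the degree-1 part S₁, and let M be a finitely
generated graded S-module, graded in nonnegative degrees. (The published statement allows modules
graded in all integer degrees; this row takes modules graded in degrees ≥ 0, which loses nothing for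
large n.) Write K'₀(A) for the Grothendieck group of finite A-modules (the free abelian group on the
finite A-modules modulo the relations given by short exact sequences) and [M_n] for the class of the
finite A-module M_n. Then n ↦ [M_n] is a numerical polynomial: there are a_0, …, a_{r-1} in K'₀(A)
with [M_n] = Σ_i C(n, i) · a_i for all large n. (When A → S₀ is bijective K'₀(A) is K'₀(S₀), the
group of the published statement; in general the classes are taken after restricting scalars along A
→ S₀.) -/
theorem result {A S : Type u} [CommRing A] [CommRing S] [Algebra A S] [IsNoetherianRing S] (𝒜 : ℕ → Submodule A S) [GradedAlgebra 𝒜]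
    (h0 : ∀ s ∈ 𝒜 0, s ∈ Set.range (algebraMap A S))
    (h1 : (HomogeneousIdeal.irrelevant 𝒜).toIdeal = Ideal.span (𝒜 1 : Set S))
    (M : Type u) [AddCommGroup M] [Module A M] [Module S M] [IsScalarTower A S M] [Module.Finite S M] (ℳ : ℕ → Submodule A M) [DirectSum.Decomposition ℳ] [SetLike.GradedSMul 𝒜 ℳ] :
    ∃ (r : ℕ) (a : Fin r → KZero.K0sub (fun X : ModuleCat.{u} A => Module.Finite A X)) (N : ℕ), ∀ n : ℕ, N ≤ n →
      KZero.clSub (fun X : ModuleCat.{u} A => Module.Finite A X) (ModuleCat.of A ↥(ℳ n)) = ∑ i : Fin r, ((n.choose (i : ℕ) : ℕ) : ℤ) • a i := by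
  classical
  obtain ⟨T, hT1, hT⟩ := Submodule.fg_span_iff_fg_span_finset_subset (R := S) (𝒜 1 : Set S) |>.mp (IsNoetherian.noetherian _)
  let x : Fin T.card → S := fun j => (T.equivFin.symm j).1
  have hx : Set.range x = (T : Set S) := by
    ext s
    exact ⟨fun ⟨j, hj⟩ => hj ▸ (T.equivFin.symm j).2, fun hs => ⟨T.equivFin ⟨s, hs⟩, by simp [x]⟩⟩
  have hirr : ∀ i, ∀ s ∈ 𝒜 (i + 1), s ∈ Ideal.span (Set.range x) := fun i s hs => by
    rw [hx]
    have h : s ∈ (HomogeneousIdeal.irrelevant 𝒜).toIdeal := by
      show GradedRing.proj 𝒜 0 s = 0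
      rw [GradedRing.proj_apply]
      exact DirectSum.decompose_of_mem_ne 𝒜 hs (Nat.succ_ne_zero i)
    rw [h1] at h
    exact hT.le h
  have hP := HilbK0Lib.isP 𝒜 ℳ h0 x (fun j => hT1 (T.equivFin.symm j).2) hirr T.card ⊤ ⊥
    (fun z _ i => Submodule.mem_top) (fun z hz i => by rw [(Submodule.mem_bot S).mp hz]; simp) bot_le
    (fun j hj => absurd j.2 (by omega))
  obtain ⟨a, N, hN⟩ := hP.exists_choose
  refine ⟨T.card, a, N, fun n hn => ?_⟩
  rw [← hN n hn]
  have hbot : HilbK0Lib.cls ℳ (⊥ : Submodule S M) n = 0 := by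
    let Z : Submodule A M := (⊥ : Submodule S M).restrictScalars A ⊓ ℳ n
    haveI : Subsingleton Z := ⟨fun a b => Subtype.ext (((Submodule.mem_bot S).mp (Submodule.mem_inf.mp a.2).1).trans ((Submodule.mem_bot S).mp (Submodule.mem_inf.mp b.2).1).symm)⟩
    have h := Groth.Agent.K0ResLib.clSub_add (P := HilbK0Lib.fin A)
      (ModuleCat.shortComplex_shortExact (ModuleCat.shortComplexOfCompEqZero (LinearMap.id : Z →ₗ[A] Z) (0 : Z →ₗ[A] Z) (LinearMap.zero_comp _))
        (fun z => ⟨fun _ => ⟨z, rfl⟩, fun _ => rfl⟩) Function.injective_id (fun z => ⟨z, Subsingleton.elim _ _⟩))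
      (inferInstanceAs (Module.Finite A Z)) (inferInstanceAs (Module.Finite A Z)) (inferInstanceAs (Module.Finite A Z))
    exact left_eq_add.mp h
  rw [hbot, sub_zero]
  unfold HilbK0Lib.cls
  rw [Submodule.restrictScalars_top, top_inf_eq]

end Groth.Agent.S9662
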