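import Groth.Statements.S9663
import Mathlib.Algebra.Module.LocalizedModule.Basic

set_option autoImplicit false
universe u
open CAlg

namespace Groth.Agent.S9663

section
variable {R : Type*} [CommRing R]

theorem smul_cancel {X : Type*} [AddCommGroup X] [Module R X] {s : R}
    (h : IsUnit (algebraMap R (Module.End R X) s)) {x y : X} (e : s • x = s • y) : x = y :=
  ((Module.End.isUnit_iff _).1 h).1 e

theorem isUnit_left {X : Type*} [AddCommGroup X] [Module R X] {a b : R}
    (h : IsUnit (algebraMap R (Module.End R X) (a * b))) : IsUnit (algebraMap R (Module.End R X) a) := by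
  rw [map_mul] at h
  exact (Commute.isUnit_mul_iff (by
    show _ * _ = _ * _
    rw [← map_mul, ← map_mul, mul_comm])).1 h |>.1

variable {M N T : Type*} [AddCommGroup M] [Module R M] [AddCommGroup N] [Module R N] [AddCommGroup T] [Module R T]
  {a b : R} (g : M →ₗ[R] N) [IsLocalizedModule (Submonoid.powers a) g]
  (t : M →ₗ[R] T) (w : N →ₗ[R] T) (hw : ∀ m, w (g m) = t m)

theorem unit_of {c : R} [IsLocalizedModule (Submonoid.powers c) t] : IsUnit (algebraMap R (Module.End R T) c) :=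
  IsLocalizedModule.map_units t ⟨c, Submonoid.mem_powers c⟩

include hw in
/-- The kernel of the further localisation is killed by powers. -/
theorem exists_pow_smul_eq_zero (c : R) [IsLocalizedModule (Submonoid.powers c) t] (hc : c = a * b ∨ c = b * a)
    {z : N} (hz : w z = 0) : ∃ n : ℕ, b ^ n • z = 0 := by
  obtain ⟨⟨y, ⟨_, k, rfl⟩⟩, hy⟩ := IsLocalizedModule.surj (Submonoid.powers a) g z
  have hy' : a ^ k • z = g y := hy
  have ht : t y = 0 := by rw [← hw, ← hy', map_smul, hz, smul_zero]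
  obtain ⟨⟨_, n, rfl⟩, hn⟩ := (IsLocalizedModule.eq_zero_iff (Submonoid.powers c) t).1 ht
  have hn' : c ^ n • y = 0 := hn
  refine ⟨n, smul_cancel (s := a ^ (n + k)) ?_ ?_⟩
  · rw [map_pow]; exact (IsLocalizedModule.map_units g ⟨a, Submonoid.mem_powers a⟩).pow _
  · have h0 : c ^ n • g y = 0 := by rw [← map_smul, hn', map_zero]
    rw [smul_zero, ← h0, ← hy', smul_smul, smul_smul]
    congr 1
    rcases hc with rfl | rfl <;> ring

end

/-- Let R be a ring and f_i, i in a finite index set, elements of R (no condition on the ideal they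
generate). Suppose given for each i an R-module M_i on which f_i acts invertibly, for each pair (i,
j) an R-linear isomorphism ψ_ij : (M_i)_{f_j} → (M_j)_{f_i}, and suppose the cocycle condition ψ_jk
∘ ψ_ij = ψ_ik holds as maps (M_i)_{f_j f_k} → (M_k)_{f_i f_j} for all triples (i, j, k). All
localizations are given through their universal properties: (M_i)_{f_j} with its map g from M_i;
(M_i)_{f_j f_k} with its map t from M_i and the compatible maps u from (M_i)_{f_j} and v from
(M_i)_{f_k}; and the three localized isomorphisms Ψ₁ (ψ_ij on (M_i)_{f_j f_k}), Ψ₂ (ψ_jk on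
(M_j)_{f_i f_k}) and Ψ₃ (ψ_ik on (M_i)_{f_j f_k}) are given as maps compatible with the ψ's. Let M ⊆
Π_i M_i be the submodule of families (m_i) with m_i/1 = ψ_ji(m_j/1) in (M_i)_{f_j} for all i, j.
Then for each i the projection M → M_i exhibits M_i as the localization of M at f_i. -/
theorem result {R : Type u} [CommRing R] {ι : Type u} [Finite ι] (f : ι → R)
    (Mi : ι → Type u) [∀ i, AddCommGroup (Mi i)] [∀ i, Module R (Mi i)]
    (hMi : ∀ i, IsUnit (algebraMap R (Module.End R (Mi i)) (f i)))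
    (Mij : ι → ι → Type u) [∀ i j, AddCommGroup (Mij i j)] [∀ i j, Module R (Mij i j)]
    (g : ∀ i j, Mi i →ₗ[R] Mij i j) [∀ i j, IsLocalizedModule (Submonoid.powers (f j)) (g i j)]
    (ψ : ∀ i j, Mij i j ≃ₗ[R] Mij j i)
    (T : ι → ι → ι → Type u) [∀ i j k, AddCommGroup (T i j k)] [∀ i j k, Module R (T i j k)]
    (t : ∀ i j k, Mi i →ₗ[R] T i j k) [∀ i j k, IsLocalizedModule (Submonoid.powers (f j * f k)) (t i j k)]
    (u : ∀ i j k, Mij i j →ₗ[R] T i j k) (hu : ∀ i j k, u i j k ∘ₗ g i j = t i j k)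
    (v : ∀ i j k, Mij i k →ₗ[R] T i j k) (hv : ∀ i j k, v i j k ∘ₗ g i k = t i j k)
    (Ψ₁ : ∀ i j k, T i j k →ₗ[R] T j i k) (hΨ₁ : ∀ i j k, Ψ₁ i j k ∘ₗ u i j k = u j i k ∘ₗ (ψ i j).toLinearMap)
    (Ψ₂ : ∀ i j k, T j i k →ₗ[R] T k i j) (hΨ₂ : ∀ i j k, Ψ₂ i j k ∘ₗ v j i k = v k i j ∘ₗ (ψ j k).toLinearMap)
    (Ψ₃ : ∀ i j k, T i j k →ₗ[R] T k i j) (hΨ₃ : ∀ i j k, Ψ₃ i j k ∘ₗ v i j k = u k i j ∘ₗ (ψ i k).toLinearMap)
    (hcoc : ∀ i j k, Ψ₂ i j k ∘ₗ Ψ₁ i j k = Ψ₃ i j k)
    (M : Submodule R (∀ i, Mi i)) (hM : ∀ m : ∀ i, Mi i, m ∈ M ↔ ∀ i j, g i j (m i) = ψ j i (g j i (m j))) (i : ι) :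
    IsLocalizedModule (Submonoid.powers (f i)) ((LinearMap.proj i).comp M.subtype : ↥M →ₗ[R] Mi i) := by
  classical
  have : Fintype ι := Fintype.ofFinite ι
  have hu' : ∀ i j k x, u i j k (g i j x) = t i j k x := fun i j k x => LinearMap.congr_fun (hu i j k) x
  have hv' : ∀ i j k x, v i j k (g i k x) = t i j k x := fun i j k x => LinearMap.congr_fun (hv i j k) x
  have h1 : ∀ i j k x, Ψ₁ i j k (u i j k x) = u j i k (ψ i j x) := fun i j k x => LinearMap.congr_fun (hΨ₁ i j k) x
  have h2 : ∀ i j k x, Ψ₂ i j k (v j i k x) = v k i j (ψ j k x) := fun i j k x => LinearMap.congr_fun (hΨ₂ i j k) x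
  have h3 : ∀ i j k x, Ψ₃ i j k (v i j k x) = u k i j (ψ i k x) := fun i j k x => LinearMap.congr_fun (hΨ₃ i j k) x
  have hc' : ∀ i j k x, Ψ₂ i j k (Ψ₁ i j k x) = Ψ₃ i j k x := fun i j k x => LinearMap.congr_fun (hcoc i j k) x
  have hT : ∀ i j k, IsUnit (algebraMap R (Module.End R (T i j k)) (f j * f k)) := fun i j k => unit_of (t i j k)
  have hTl : ∀ i j k, IsUnit (algebraMap R (Module.End R (T i j k)) (f j)) := fun i j k => isUnit_left (hT i j k)
  have hTr : ∀ i j k, IsUnit (algebraMap R (Module.End R (T i j k)) (f k)) := fun i j k =>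
    isUnit_left (b := f j) (by rw [mul_comm]; exact hT i j k)
  have powUnit : ∀ {X : Type u} [AddCommGroup X] [Module R X] {a : R},
      IsUnit (algebraMap R (Module.End R X) a) → ∀ s ∈ Submonoid.powers a, IsUnit (algebraMap R (Module.End R X) s) := by
    rintro X _ _ a ha _ ⟨n, rfl⟩
    show IsUnit (algebraMap R (Module.End R X) (a ^ n))
    rw [map_pow]; exact ha.pow n
  have kerU : ∀ i j k z, u i j k z = 0 → ∃ n : ℕ, f k ^ n • z = 0 := fun i j k z hz =>
    exists_pow_smul_eq_zero (g i j) (t i j k) (u i j k) (hu' i j k) (f j * f k) (Or.inl rfl) hz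
  have kerV : ∀ i j k z, v i j k z = 0 → ∃ n : ℕ, f j ^ n • z = 0 := fun i j k z hz =>
    exists_pow_smul_eq_zero (g i k) (t i j k) (v i j k) (hv' i j k) (f j * f k) (Or.inr rfl) hz
  have gUnit : ∀ a b, IsUnit (algebraMap R (Module.End R (Mij a b)) (f a)) := fun a b => by
    refine (Module.End.isUnit_iff _).2 ⟨fun z z' hzz => ?_, fun z => ?_⟩
    · have h0 : f a • (z - z') = 0 := by rw [smul_sub]; exact sub_eq_zero.2 hzz
      obtain ⟨⟨y, s⟩, hy⟩ := IsLocalizedModule.surj (Submonoid.powers (f b)) (g a b) (z - z')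
      have e : g a b (f a • y) = 0 := by
        rw [map_smul, ← hy, smul_comm]
        show (s : R) • f a • (z - z') = 0
        rw [h0, smul_zero]
      obtain ⟨c, hc⟩ := (IsLocalizedModule.eq_zero_iff (Submonoid.powers (f b)) (g a b)).1 e
      have hcy : (c : R) • y = 0 := smul_cancel (hMi a) (by rw [smul_comm, smul_zero]; exact hc)
      have e0 : g a b y = 0 := (IsLocalizedModule.eq_zero_iff (Submonoid.powers (f b)) (g a b)).2 ⟨c, hcy⟩
      exact sub_eq_zero.1 (smul_cancel (IsLocalizedModule.map_units (g a b) s) (by rw [smul_zero]; exact hy.trans e0))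
    · obtain ⟨⟨y, s⟩, hy⟩ := IsLocalizedModule.surj (Submonoid.powers (f b)) (g a b) z
      obtain ⟨y', hy'⟩ := ((Module.End.isUnit_iff _).1 (hMi a)).2 y
      obtain ⟨z', hz'⟩ := ((Module.End.isUnit_iff _).1 (IsLocalizedModule.map_units (g a b) s)).2 (g a b y')
      refine ⟨z', smul_cancel (IsLocalizedModule.map_units (g a b) s) ?_⟩
      show (s : R) • f a • z' = _
      rw [smul_comm]
      calc f a • (s : R) • z' = f a • g a b y' := by rw [show (s : R) • z' = g a b y' from hz']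
        _ = g a b y := by rw [← map_smul]; exact congrArg (g a b) hy'
        _ = (s : R) • z := hy.symm
  have injU : ∀ a b z, u a b a z = 0 → z = 0 := fun a b z hz => by
    obtain ⟨n, hn⟩ := kerU a b a z hz
    exact smul_cancel (powUnit (gUnit a b) _ ⟨n, rfl⟩) (by rw [smul_zero]; exact hn)
  have injV : ∀ a b z, v a a b z = 0 → z = 0 := fun a b z hz => by
    obtain ⟨n, hn⟩ := kerV a a b z hz
    exact smul_cancel (powUnit (gUnit a b) _ ⟨n, rfl⟩) (by rw [smul_zero]; exact hn)
  have uv : ∀ k j, u k j j = v k j j := fun k j =>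
    IsLocalizedModule.ext (Submonoid.powers (f j)) (g k j) (fun s => powUnit (hTl k j j) _ s.2) ((hu k j j).trans (hv k j j).symm)
  have id' : ∀ a z, ψ a a z = z := fun a z => by
    obtain ⟨z₀, rfl⟩ := (ψ a a).surjective z
    have e1 := h2 a a a (ψ a a z₀)
    have e2 := h1 a a a z₀
    have e3 := h3 a a a z₀
    have e4 := hc' a a a (u a a a z₀)
    rw [e2, uv a a] at e4
    rw [e1, e3, uv a a] at e4
    exact sub_eq_zero.1 (injV a a _ (by rw [map_sub]; exact sub_eq_zero.2 e4))
  have inv' : ∀ j k z, ψ k j (ψ j k z) = z := fun j k z => by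
    have key : (Ψ₃ j k j) ∘ₗ u j k j = v j j k := by
      refine IsLocalizedModule.ext (Submonoid.powers (f k)) (g j k) (fun s => powUnit (hTr j j k) _ s.2) ?_
      refine LinearMap.ext fun y => ?_
      show Ψ₃ j k j (u j k j (g j k y)) = v j j k (g j k y)
      rw [hu', ← hv' j k j, h3, id', hu', hv']
    have e := hc' j k j (u j k j z)
    rw [h1, uv k j, h2] at e
    exact sub_eq_zero.1 (injV j k _ (by
      rw [map_sub]; exact sub_eq_zero.2 (e.trans (LinearMap.congr_fun key z))))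
  have inj2 : ∀ a b c x, Ψ₂ a b c x = 0 → x = 0 := fun a b c x hx => by
    obtain ⟨⟨y, s⟩, hy⟩ := IsLocalizedModule.surj (Submonoid.powers (f a * f c)) (t b a c) x
    have e0 : v c a b (ψ b c (g b c y)) = 0 := by
      rw [← h2, hv', ← hy]
      show Ψ₂ a b c ((s : R) • x) = 0
      rw [map_smul, hx, smul_zero]
    obtain ⟨n, hn⟩ := kerV c a b _ e0
    rw [← map_smul] at hn
    have hn' : f a ^ n • g b c y = 0 := (ψ b c).map_eq_zero_iff.1 hn
    have e1 : f a ^ n • t b a c y = 0 := by rw [← hv', ← map_smul, hn', map_zero]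
    have e2 : t b a c y = 0 := smul_cancel (powUnit (hTl b a c) _ ⟨n, rfl⟩) (by rw [smul_zero]; exact e1)
    exact smul_cancel (IsLocalizedModule.map_units (t b a c) s) (by rw [smul_zero]; exact hy.trans e2)
  refine { map_units := fun s => powUnit (hMi i) _ s.2, surj := fun x => ?_, exists_of_eq := fun {m m'} h => ?_ }
  · -- lift
    have hex : ∀ j, ∃ (n : ℕ) (y : Mi j), f i ^ n • ψ i j (g i j x) = g j i y := fun j => by
      obtain ⟨⟨y, ⟨_, n, rfl⟩⟩, hy⟩ := IsLocalizedModule.surj (Submonoid.powers (f i)) (g j i) (ψ i j (g i j x))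
      exact ⟨n, y, hy⟩
    choose n y hy using hex
    let N := Finset.univ.sup n
    obtain ⟨z, hz⟩ : ∃ z : ∀ j, Mi j, ∀ j, g j i (z j) = f i ^ N • ψ i j (g i j x) :=
      ⟨fun j => f i ^ (N - n j) • y j, fun j => by
      rw [map_smul, ← hy, smul_smul, ← pow_add, Nat.sub_add_cancel (Finset.le_sup (Finset.mem_univ j))]⟩
    have hd : ∀ j k, ∃ p : ℕ, f i ^ p • (g j k (z j) - ψ k j (g k j (z k))) = 0 := fun j k => by
      refine kerV j i k _ (inj2 i j k _ ?_)
      rw [map_sub, map_sub, sub_eq_zero]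
      conv_rhs => rw [h2, inv' k j, hv', ← hu' k i j, hz, map_smul, ← h3, hv']
      conv_lhs => rw [hv', ← hu' j i k, hz, map_smul, map_smul, ← h1, hu', hc']
    choose p hp using hd
    let P := Finset.univ.sup fun jk : ι × ι => p jk.1 jk.2
    let m : ∀ j, Mi j := fun j => f i ^ P • z j
    have hm : m ∈ M := (hM m).2 fun j k => by
      have hjk := hp j k
      rw [smul_sub, sub_eq_zero] at hjk
      show g j k (f i ^ P • z j) = ψ k j (g k j (f i ^ P • z k))
      have hle : p j k ≤ P := Finset.le_sup (f := fun jk : ι × ι => p jk.1 jk.2) (Finset.mem_univ (j, k))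
      rw [map_smul, map_smul, map_smul, ← Nat.sub_add_cancel hle, pow_add, mul_smul, mul_smul, hjk]
    refine ⟨⟨⟨m, hm⟩, ⟨f i ^ (P + N), P + N, rfl⟩⟩, ?_⟩
    show f i ^ (P + N) • x = m i
    have ginj : ∀ a b : Mi i, g i i a = g i i b → a = b := fun a b hab => by
      obtain ⟨c, hc⟩ := (IsLocalizedModule.eq_iff_exists (Submonoid.powers (f i)) (g i i)).1 hab
      exact smul_cancel (powUnit (hMi i) _ c.2) hc
    have hzi : z i = f i ^ N • x := ginj _ _ (by rw [hz, id', map_smul])
    show f i ^ (P + N) • x = f i ^ P • z i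
    rw [hzi, smul_smul, ← pow_add]
  · -- injectivity
    have hj : ∀ j, ∃ n : ℕ, f i ^ n • (m.1 j - m'.1 j) = 0 := fun j => by
      have e : g j i (m.1 j - m'.1 j) = 0 := by
        rw [map_sub, (hM _).1 m.2 j i, (hM _).1 m'.2 j i, show m.1 i = m'.1 i from h, sub_self]
      obtain ⟨⟨_, n, rfl⟩, hn⟩ := (IsLocalizedModule.eq_zero_iff (Submonoid.powers (f i)) (g j i)).1 e
      exact ⟨n, hn⟩
    choose n hn using hj
    refine ⟨⟨f i ^ Finset.univ.sup n, _, rfl⟩, Subtype.ext (funext fun j => sub_eq_zero.1 ?_)⟩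
    show f i ^ Finset.univ.sup n • m.1 j - f i ^ Finset.univ.sup n • m'.1 j = 0
    rw [← smul_sub, ← Nat.sub_add_cancel (Finset.le_sup (f := n) (Finset.mem_univ j)), pow_add, mul_smul, hn, smul_zero]

end Groth.Agent.S9663
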