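import Groth.Statements.S9666
import Mathlib
import Groth.Agent.CAlgFib.Basic

set_option autoImplicit false
universe u
open CAlg

namespace Groth.Agent.S9666

/-- Part (3): (A ⊆ A_fin): let R → S be a ring map with S Noetherian, N an S-module, q a prime of S and
p the prime of R below q; an associated prime of a module is a prime ideal equal to the annihilator
of some element. If q is an associated prime of the S-module N ⊗_R κ(p) (the fibre module over p, an
S-module by restriction of scalars), then q is an associated prime of the S-module N/pN. -/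
theorem result {R S : Type u} [CommRing R] [CommRing S] [Algebra R S] (N : Type u) [AddCommGroup N] [Module S N] [Module R N] [IsScalarTower R S N] [IsNoetherianRing S]
    (p : Ideal R) [p.IsPrime] (q : Ideal S) [q.IsPrime] (hq : q.comap (algebraMap R S) = p)
    (h : q ∈ FlatCA.ass S (FlatCA.fiberMod p S N)) :
    q ∈ FlatCA.ass S (N ⧸ (p.map (algebraMap R S)) • (⊤ : Submodule S N)) := by
  classical
  obtain ⟨hq', m, hm⟩ := h
  obtain ⟨r₀, hr₀, n, hn⟩ := Groth.Agent.CAlgFib.exists_factor_mod p N m
  have hu := Groth.Agent.CAlgFib.ι_isUnit (S := S) p hr₀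
  have hmem : ∀ s, s ∈ q ↔ ∃ r ∉ p, (algebraMap R S r * s) • n ∈ (p.map (algebraMap R S)) • (⊤ : Submodule S N) := fun s => by
    rw [hm, Submodule.mem_annihilator_span_singleton]
    simp only [← smul_smul (α := N)]
    rw [← Groth.Agent.CAlgFib.toFiberMod_eq_zero_iff, map_smul, ← hn, smul_comm]
    rw [Groth.Agent.CAlgFib.smul_eq p N (algebraMap R S r₀)]
    exact hu.smul_eq_zero.symm
  obtain ⟨T, hT⟩ := (inferInstance : IsNoetherianRing S).noetherian q
  choose r hr hrn using fun t : T => (hmem t.1).mp (hT ▸ Submodule.subset_span t.2)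
  refine ⟨hq', Submodule.Quotient.mk (algebraMap R S (∏ t, r t) • n), le_antisymm ?_ ?_⟩
  · rw [← hT, Submodule.span_le]
    intro t ht
    rw [SetLike.mem_coe, Submodule.mem_annihilator_span_singleton, ← Submodule.Quotient.mk_smul, Submodule.Quotient.mk_eq_zero]
    obtain ⟨c, hc⟩ : r ⟨t, ht⟩ ∣ ∏ t, r t := Finset.dvd_prod_of_mem r (Finset.mem_univ _)
    rw [hc, smul_smul, show t * algebraMap R S (r ⟨t, ht⟩ * c) = algebraMap R S c * (algebraMap R S (r ⟨t, ht⟩) * t) by rw [map_mul]; ring, ← smul_smul]
    exact Submodule.smul_mem _ _ (hrn ⟨t, ht⟩)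
  · intro s hs
    rw [Submodule.mem_annihilator_span_singleton, ← Submodule.Quotient.mk_smul, Submodule.Quotient.mk_eq_zero, smul_smul, mul_comm] at hs
    exact (hmem s).mpr ⟨∏ t, r t, fun h => by
      obtain ⟨t, -, ht⟩ := ((inferInstance : p.IsPrime).prod_mem_iff).mp h
      exact hr t ht, hs⟩
end Groth.Agent.S9666
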