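import Groth.Statements.S9667
import Mathlib

set_option autoImplicit false
universe u
open CAlg

namespace Groth.Agent.S9667

open TensorProduct in
/-- Part (3): (B = B_fin): let R → S be a ring map with S Noetherian, N an S-module, M an R-module and q
a prime of S; an associated prime of a module is a prime ideal equal to the annihilator of some
element. If q is an associated prime of the S-module N ⊗_R M, then there is a finitely generated
R-submodule M' ⊆ M such that q is an associated prime of the S-module N ⊗_R M'. -/
theorem result {R S : Type u} [CommRing R] [CommRing S] [Algebra R S] (N : Type u) [AddCommGroup N] [Module S N] [Module R N] [IsScalarTower R S N] [IsNoetherianRing S]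
    (M : Type u) [AddCommGroup M] [Module R M] (q : Ideal S) [q.IsPrime] (h : q ∈ FlatCA.ass S (N ⊗[R] M)) :
    ∃ M' : Submodule R M, M'.FG ∧ q ∈ FlatCA.ass S (N ⊗[R] ↥M') := by
  classical
  obtain ⟨hq, z, hz⟩ := h
  obtain ⟨M', hM', hzM⟩ := TensorProduct.exists_finite_submodule_right_of_setFinite ({z} : Set (N ⊗[R] M)) (Set.finite_singleton z)
  obtain ⟨w, rfl⟩ := hzM rfl
  obtain ⟨T, hT⟩ := (inferInstance : IsNoetherianRing S).noetherian q
  have hsm : ∀ (A : Submodule R M) (s : S) (x : N ⊗[R] A), A.subtype.lTensor N (s • x) = s • A.subtype.lTensor N x :=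
    fun A s x => (TensorProduct.AlgebraTensorModule.lTensor S N A.subtype).map_smul s x
  have hincl : ∀ (A B : Submodule R M) (hAB : A ≤ B) (x : N ⊗[R] A),
      B.subtype.lTensor N ((Submodule.inclusion hAB).lTensor N x) = A.subtype.lTensor N x := fun A B hAB x => by
    rw [← LinearMap.lTensor_comp_apply]; rfl
  have hkill : ∀ U : Finset S, (∀ t ∈ U, t ∈ q) → ∃ (A : Submodule R M) (hA : M' ≤ A), A.FG ∧
      ∀ t ∈ U, (Submodule.inclusion hA).lTensor N (t • w) = 0 := by
    intro U
    induction U using Finset.induction_on with
    | empty => exact fun _ => ⟨M', le_rfl, Module.Finite.iff_fg.mp hM', by simp⟩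
    | @insert t U ht ih =>
      intro hU
      obtain ⟨A, hA, hAfg, hAU⟩ := ih fun x hx => hU x (Finset.mem_insert_of_mem hx)
      have h0 : A.subtype.rTensor N (TensorProduct.comm R N A ((Submodule.inclusion hA).lTensor N (t • w))) = 0 := by
        have hc : A.subtype.rTensor N ∘ₗ (TensorProduct.comm R N A).toLinearMap = (TensorProduct.comm R N M).toLinearMap ∘ₗ A.subtype.lTensor N :=
          TensorProduct.ext' fun a b => by simp
        refine (LinearMap.congr_fun hc _).trans ?_
        show TensorProduct.comm R N M (A.subtype.lTensor N ((Submodule.inclusion hA).lTensor N (t • w))) = 0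
        rw [hincl, hsm]
        have : t • M'.subtype.lTensor N w = 0 := by
          rw [← Submodule.mem_annihilator_span_singleton, ← hz]; exact hU t (Finset.mem_insert_self _ _)
        rw [this, map_zero]
      obtain ⟨B, hB, hBfg, hB0⟩ := TensorProduct.eq_zero_of_fg_of_subtype_eq_zero hAfg h0
      have hB0' : (Submodule.inclusion hB).lTensor N ((Submodule.inclusion hA).lTensor N (t • w)) = 0 := by
        refine (TensorProduct.comm R N B).injective ?_
        rw [map_zero, ← hB0]
        generalize (Submodule.inclusion hA).lTensor N (t • w) = x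
        induction x using TensorProduct.induction_on with
        | zero => simp
        | tmul a b => simp
        | add a b ha hb => simp only [map_add, ha, hb]
      refine ⟨B, hA.trans hB, hBfg, fun x hx => ?_⟩
      have hc : (Submodule.inclusion (hA.trans hB)).lTensor N (x • w) = (Submodule.inclusion hB).lTensor N ((Submodule.inclusion hA).lTensor N (x • w)) := by
        rw [← LinearMap.lTensor_comp_apply]; rfl
      rw [hc]
      rcases Finset.mem_insert.mp hx with rfl | hx
      · exact hB0'
      · rw [hAU x hx, map_zero]
  obtain ⟨A, hA, hAfg, hA0⟩ := hkill T fun t ht => hT ▸ Submodule.subset_span ht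
  refine ⟨A, hAfg, hq, (Submodule.inclusion hA).lTensor N w, le_antisymm ?_ ?_⟩
  · rw [← hT, Submodule.span_le]
    intro t ht
    rw [SetLike.mem_coe, Submodule.mem_annihilator_span_singleton]
    exact ((TensorProduct.AlgebraTensorModule.lTensor S N (Submodule.inclusion hA)).map_smul t w).symm.trans (hA0 t ht)
  · intro s hs
    rw [Submodule.mem_annihilator_span_singleton] at hs
    rw [hz, Submodule.mem_annihilator_span_singleton, ← hincl M' A hA, ← hsm, hs, map_zero]
end Groth.Agent.S9667
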