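import Groth.Statements.S9671
import Mathlib
import Groth.Agent.HomogenizeLib.Basic

set_option autoImplicit false
universe u
open CAlg

namespace Groth.Agent.S9671

/-- Let R be a ring and R' an R-algebra of finite type. Then there are an ℕ-graded R-algebra S such that
R → S₀ is bijective and S is generated as an R-algebra by a finite set of degree-1 elements, an
element f ∈ S₁, and a ring isomorphism e between the degree-zero part S_(f) of the localization S_f
and R' which matches r/1 with the image of r in R' for every r ∈ R (so R' is identified with S_(f)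
as an R-algebra). The published statement also produces, from a finite R'-module, a finite graded
S-module whose degree-zero localization at f recovers it; that half is not part of this row. -/
theorem result (R R' : Type u) [CommRing R] [CommRing R'] [Algebra R R'] [Algebra.FiniteType R R'] :
    ∃ (S : Type u) (_ : CommRing S) (_ : Algebra R S) (𝒜 : ℕ → Submodule R S) (_ : GradedAlgebra 𝒜) (f : S) (_ : f ∈ 𝒜 1) (s : Finset S)
      (e : HomogeneousLocalization.Away 𝒜 f ≃+* R'),
      Function.Injective (algebraMap R S) ∧ (∀ x ∈ 𝒜 0, x ∈ Set.range (algebraMap R S)) ∧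
      (↑s ⊆ (𝒜 1 : Set S)) ∧ Algebra.adjoin R (s : Set S) = ⊤ ∧
      ∀ r : R, (e.symm (algebraMap R R' r)).val = algebraMap S (Localization.Away f) (algebraMap R S r) := by
  classical
  obtain ⟨g, hg⟩ := (Algebra.FiniteType.out : (⊤ : Subalgebra R R').FG)
  let v : Option g → R × R' := fun o => o.elim (0, 1) (fun i => (0, (i : R')))
  let 𝒜 := HomogenizeLib.grade R v
  let X' : Option g → HomogenizeLib.homSub R v :=
    fun o => ⟨Polynomial.monomial 1 (v o), Algebra.subset_adjoin ⟨o, rfl⟩⟩
  have hX' : ∀ o, X' o ∈ 𝒜 1 := fun o => ⟨v o, rfl⟩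
  let ψ : HomogenizeLib.homSub R v →ₐ[R] R' :=
    (AlgHom.snd R R R').comp (((Polynomial.aeval (1 : R × R')).restrictScalars R).comp
      (HomogenizeLib.homSub R v).val)
  have hψX : ∀ o, ψ (X' o) = (v o).2 := fun o => by
    show ((Polynomial.aeval (1 : R × R')) (Polynomial.monomial 1 (v o))).2 = _
    rw [Polynomial.aeval_monomial]
    simp
  set f := X' none with hf
  have hψf : ψ f = 1 := hψX none
  let lift : Localization.Away f →+* R' :=
    IsLocalization.Away.lift f (g := ψ.toRingHom) (hψf ▸ isUnit_one)
  have hlift : ∀ a, lift (algebraMap _ _ a) = ψ a := fun a => IsLocalization.Away.lift_eq f _ a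
  let Φ : HomogeneousLocalization.Away 𝒜 f →+* R' :=
    lift.comp (algebraMap (HomogeneousLocalization.Away 𝒜 f) (Localization.Away f))
  have hΦ : ∀ y, Φ y = lift y.val := fun y => rfl
  have hmk : ∀ (a : HomogenizeLib.homSub R v) (b : Submonoid.powers f),
      lift (Localization.mk a b) = ψ a := by
    intro a b
    obtain ⟨k, hk⟩ := b.2
    have h1 : lift (Localization.mk a b) * ψ (b : HomogenizeLib.homSub R v) = ψ a := by
      rw [← hlift, ← map_mul, Localization.mk_eq_mk', IsLocalization.mk'_spec, hlift]
    rwa [show (b : HomogenizeLib.homSub R v) = f ^ k from hk.symm, map_pow, hψf, one_pow,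
      mul_one] at h1
  have hinj : Function.Injective Φ := by
    rw [injective_iff_map_eq_zero]
    intro y hy
    obtain ⟨c, rfl⟩ := HomogeneousLocalization.mk_surjective y
    rw [hΦ, HomogeneousLocalization.val_mk, hmk] at hy
    apply HomogeneousLocalization.val_injective
    rw [HomogeneousLocalization.val_mk, HomogeneousLocalization.val_zero, Localization.mk_eq_mk',
      IsLocalization.mk'_eq_zero_iff]
    refine ⟨⟨f, Submonoid.mem_powers f⟩, Subtype.ext ?_⟩
    obtain ⟨b, hb⟩ := HomogenizeLib.mem_grade.1 c.num.2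
    have hb2 : b.2 = 0 := by
      rw [← hy]
      show b.2 = ((Polynomial.aeval (1 : R × R')) ((c.num : HomogenizeLib.homSub R v) : Polynomial (R × R'))).2
      rw [← hb, Polynomial.aeval_monomial]
      simp
    rw [MulMemClass.coe_mul, ← hb]
    show Polynomial.monomial 1 ((0, 1) : R × R') * Polynomial.monomial c.deg b = 0
    rw [Polynomial.monomial_mul_monomial]
    rw [show ((0, 1) : R × R') * b = 0 from Prod.ext (zero_mul _) (by simp [hb2]), map_zero]
  have hpow : ∀ k, f ^ k ∈ 𝒜 k := fun k => by
    simpa using SetLike.pow_mem_graded k (hX' none)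
  let T : Subalgebra R R' :=
    { carrier := {r | ∃ d, ∃ x ∈ 𝒜 d, ψ x = r}
      algebraMap_mem' := fun r => ⟨0, _, SetLike.algebraMap_mem_graded 𝒜 r, AlgHom.commutes _ _⟩
      mul_mem' := fun {a b} ha hb => by
        obtain ⟨d, x, hx, rfl⟩ := ha
        obtain ⟨e, y, hy, rfl⟩ := hb
        exact ⟨d + e, x * y, SetLike.mul_mem_graded hx hy, map_mul _ _ _⟩
      add_mem' := fun {a b} ha hb => by
        obtain ⟨d, x, hx, rfl⟩ := ha
        obtain ⟨e, y, hy, rfl⟩ := hb
        refine ⟨d + e, x * f ^ e + f ^ d * y,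
          add_mem (SetLike.mul_mem_graded hx (hpow e)) (SetLike.mul_mem_graded (hpow d) hy), ?_⟩
        simp [hψf] }
  have hT : T = ⊤ := by
    rw [eq_top_iff, ← hg]
    exact Algebra.adjoin_le fun i hi => ⟨1, X' (some ⟨i, hi⟩), hX' _, hψX _⟩
  have hsur : Function.Surjective Φ := by
    intro r
    obtain ⟨d, x, hx, rfl⟩ : r ∈ T := hT ▸ Algebra.mem_top
    refine ⟨HomogeneousLocalization.mk ⟨d, ⟨x, hx⟩, ⟨f ^ d, hpow d⟩, ⟨d, rfl⟩⟩, ?_⟩
    rw [hΦ, HomogeneousLocalization.val_mk, hmk]
  refine ⟨HomogenizeLib.homSub R v, inferInstance, inferInstance, 𝒜,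
    HomogenizeLib.gradedAlgebra R v, f, hX' none, Finset.univ.image X',
    RingEquiv.ofBijective Φ ⟨hinj, hsur⟩, ?_, fun x hx => HomogenizeLib.mem_grade_zero hx, ?_, ?_, ?_⟩
  · intro a b h
    have := congrArg (fun p : HomogenizeLib.homSub R v => ((p : Polynomial (R × R')).coeff 0).1) h
    simpa [Polynomial.coeff_C] using this
  · intro x hx
    obtain ⟨o, -, rfl⟩ := Finset.mem_image.1 (Finset.mem_coe.1 hx)
    exact hX' o
  · rw [Finset.coe_image, Finset.coe_univ, Set.image_univ]
    have := Algebra.adjoin_adjoin_coe_preimage (R := R)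
      (s := Set.range fun i => Polynomial.monomial 1 (v i))
    rw [← this]
    congr 1
    ext x
    simp only [Set.mem_range, Set.mem_preimage, X', Subtype.ext_iff]
  · intro r
    have e1 : algebraMap (HomogenizeLib.homSub R v) (Localization.Away f)
        (algebraMap R (HomogenizeLib.homSub R v) r) =
        (HomogeneousLocalization.mk (x := Submonoid.powers f)
          ⟨0, ⟨algebraMap R _ r, SetLike.algebraMap_mem_graded 𝒜 r⟩, ⟨1, SetLike.one_mem_graded 𝒜⟩,
            one_mem _⟩).val := by
      rw [HomogeneousLocalization.val_mk, Localization.mk_eq_mk', ← IsLocalization.mk'_one (M := Submonoid.powers f)]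
      rfl
    rw [e1]
    congr 1
    rw [RingEquiv.symm_apply_eq]
    show _ = Φ _
    rw [hΦ, HomogeneousLocalization.val_mk, hmk]
    exact (AlgHom.commutes ψ r).symm

end Groth.Agent.S9671
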