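import Groth.Statements.S9680
import Groth.Agent.SpreadOut.Birational

set_option autoImplicit false
universe u
open CategoryTheory CategoryTheory.Limits AlgebraicGeometry
open Mor

namespace Groth.Agent.S9680

/-- Suppose X and Y are irreducible S-schemes, each locally of finite presentation over S, with generic
points x and y. Then X and Y are S-birational (they admit S-isomorphic nonempty opens) if and only
if x and y map to the same point s of S and the local rings of X at x and of Y at y are isomorphic
as algebras over the local ring of S at s. -/
theorem result {S X Y : Scheme.{u}}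
    [IrreducibleSpace ↥X] [IrreducibleSpace ↥Y] (sX : X ⟶ S) (sY : Y ⟶ S)
    [LocallyOfFinitePresentation sX] [LocallyOfFinitePresentation sY] :
    Scheme.BirationalOver sX sY ↔
      ∃ (hs : sX.base (genericPoint ↥X) = sY.base (genericPoint ↥Y))
        (e : X.presheaf.stalk (genericPoint ↥X) ≅ Y.presheaf.stalk (genericPoint ↥Y)),
        sX.stalkMap (genericPoint ↥X) ≫ e.hom =
          eqToHom (congrArg S.presheaf.stalk hs) ≫ sY.stalkMap (genericPoint ↥Y) := by
  constructor
  · exact Groth.Agent.SpreadOut.exists_stalkIso sX sY
  · rintro ⟨hs, e, he⟩
    exact Groth.Agent.SpreadOut.birationalOver_of_stalkIso sX sY hs e he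
      (fun h => Groth.Agent.SpreadOut.spread_out sX sY hs e.inv h)
      (fun h => Groth.Agent.SpreadOut.spread_out sY sX hs.symm e.hom h)

end Groth.Agent.S9680
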