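import Groth.Statements.S9681
import Groth.Agent.SpreadOut.Birational

set_option autoImplicit false
set_option linter.style.haveILetI false
set_option backward.isDefEq.respectTransparency false
universe u
open CategoryTheory CategoryTheory.Limits AlgebraicGeometry
open Mor

namespace Groth.Agent.S9681

/-- Suppose X and Y are integral S-schemes, each locally of finite type over S, with generic points x
and y. Then X and Y are S-birational (they admit S-isomorphic nonempty opens) if and only if x and y
map to the same point s of S and the residue fields of x and y are isomorphic as extensions of the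
residue field of s. -/
theorem result {S X Y : Scheme.{u}}
    [IsIntegral X] [IsIntegral Y] (sX : X ⟶ S) (sY : Y ⟶ S)
    [LocallyOfFiniteType sX] [LocallyOfFiniteType sY] :
    Scheme.BirationalOver sX sY ↔
      ∃ (hs : sX.base (genericPoint ↥X) = sY.base (genericPoint ↥Y))
        (e : X.residueField (genericPoint ↥X) ≅ Y.residueField (genericPoint ↥Y)),
        sX.residueFieldMap (genericPoint ↥X) ≫ e.hom =
          eqToHom (congrArg S.residueField hs) ≫ sY.residueFieldMap (genericPoint ↥Y) := by
  haveI hresX : IsIso (X.residue (genericPoint X)) := by
    letI : Field (X.presheaf.stalk (genericPoint X)) := inferInstanceAs (Field X.functionField)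
    rw [ConcreteCategory.isIso_iff_bijective]
    exact ⟨RingHom.injective _, X.residue_surjective _⟩
  haveI hresY : IsIso (Y.residue (genericPoint Y)) := by
    letI : Field (Y.presheaf.stalk (genericPoint Y)) := inferInstanceAs (Field Y.functionField)
    rw [ConcreteCategory.isIso_iff_bijective]
    exact ⟨RingHom.injective _, Y.residue_surjective _⟩
  constructor
  · intro h
    obtain ⟨hs, e, he⟩ := Groth.Agent.SpreadOut.exists_stalkIso sX sY h
    refine ⟨hs, (asIso (X.residue _)).symm ≪≫ e ≪≫ asIso (Y.residue _), ?_⟩
    rw [← cancel_epi (S.residue _)]
    simp only [Iso.trans_hom, Iso.symm_hom, asIso_hom, asIso_inv]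
    rw [Scheme.residue_residueFieldMap_assoc, IsIso.hom_inv_id_assoc, reassoc_of% he,
      ← Category.assoc (S.residue _), ← Groth.Agent.SpreadOut.residue_eqToHom hs, Category.assoc,
      Scheme.residue_residueFieldMap]
  · rintro ⟨hs, e, he⟩
    refine Groth.Agent.SpreadOut.birationalOver_of_stalkIso sX sY hs
      (asIso (X.residue _) ≪≫ e ≪≫ (asIso (Y.residue _)).symm) ?_
      (fun h => spread_out_of_isGermInjective sX sY hs _ h)
      (fun h => spread_out_of_isGermInjective sY sX hs.symm _ h)
    simp only [Iso.trans_hom, Iso.symm_hom, asIso_hom, asIso_inv]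
    rw [← Scheme.residue_residueFieldMap_assoc, reassoc_of% he,
      ← Category.assoc (S.residue _), ← Groth.Agent.SpreadOut.residue_eqToHom hs, Category.assoc,
      Scheme.residue_residueFieldMap_assoc, IsIso.hom_inv_id, Category.comp_id]

end Groth.Agent.S9681
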