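import Groth.Statements.S9682
import Mathlib
import Groth.Agent.GenPtLib.Basic

set_option autoImplicit false
universe u
open CategoryTheory CategoryTheory.Limits AlgebraicGeometry
open Mor

namespace Groth.Agent.S9682

/-- Take f : X ⟶ Y locally of finite type and η the generic point of some irreducible component of Y.
Three conditions turn out to coincide: (1) each point of X mapping to η is the generic point of some
irreducible component of X; (2) f is quasi-finite at every point over η; (3) f is quasi-finite at
each point over η that is generic in some irreducible component of X. Stated as (1) iff (2) together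
with (1) iff (3). -/
theorem result {X Y : Scheme.{u}} (f : X ⟶ Y)
    [LocallyOfFiniteType f] (η : Y) (hη : closure {η} ∈ irreducibleComponents ↥Y) :
    ((∀ x : X, f.base x = η → closure {x} ∈ irreducibleComponents ↥X) ↔
      (∀ x : X, f.base x = η → f.QuasiFiniteAt x)) ∧
    ((∀ x : X, f.base x = η → closure {x} ∈ irreducibleComponents ↥X) ↔
      (∀ x : X, f.base x = η → closure {x} ∈ irreducibleComponents ↥X → f.QuasiFiniteAt x)) := by
  obtain ⟨Z, hZ, hZη⟩ : ∃ Z, Z ∈ irreducibleComponents ↥Y ∧ IsGenericPoint η Z := ⟨_, hη, isGenericPoint_closure⟩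
  have hgen : ∀ {x z : X}, f x = η → z ⤳ x → f z = η := fun {x z} hx hz =>
    GenPtLib.eq_of_specializes hZ hZη (hx ▸ hz.map f.continuous)
  have hqm : ∀ x : X, f x = η → f.QuasiFiniteAt x → closure {x} ∈ irreducibleComponents ↥X := by
    intro x hx hq
    refine GenPtLib.closure_mem_irreducibleComponents fun z hz => ?_
    obtain ⟨z', rfl⟩ : z ∈ Set.range (f.fiberι (f x)) := by
      rw [Scheme.Hom.range_fiberι]
      exact (hgen hx hz).trans hx.symm
    have h1 := (Scheme.Hom.QuasiFiniteAt.isClopen_singleton_asFiber f hq).isOpen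
    have hs : z' ⤳ f.asFiber x := by
      rw [← (f.fiberι (f x)).isEmbedding.toIsInducing.specializes_iff, Scheme.Hom.fiberι_asFiber]
      exact hz
    have h2 : z' = f.asFiber x := hs.mem_open h1 rfl
    rw [h2, Scheme.Hom.fiberι_asFiber]
  have hmq : (∀ x : X, f.base x = η → closure {x} ∈ irreducibleComponents ↥X) →
      ∀ x : X, f x = η → f.QuasiFiniteAt x := by
    intro h x hx
    rw [Scheme.Hom.quasiFiniteAt_iff_isOpen_singleton_asFiber]
    haveI : LocallyOfFiniteType (Y := Spec (CommRingCat.of (Y.residueField (f x)))) (f.fiberToSpecResidueField (f x)) :=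
      show LocallyOfFiniteType (Limits.pullback.snd f (Y.fromSpecResidueField (f x))) from inferInstance
    haveI : IsLocallyNoetherian (f.fiber (f x)) :=
      LocallyOfFiniteType.isLocallyNoetherian (Y := Spec (CommRingCat.of (Y.residueField (f x)))) (f.fiberToSpecResidueField (f x))
    have heq : ∀ a b : f.fiber (f x), a ⤳ b → a = b := fun a b hab => by
      have hb : f (f.fiberι (f x) b) = η := by
        have : f.fiberι (f x) b ∈ Set.range (f.fiberι (f x)) := ⟨b, rfl⟩
        rw [Scheme.Hom.range_fiberι] at this
        exact (Set.mem_singleton_iff.1 this).trans hx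
      exact (f.fiberι (f x)).isEmbedding.injective
        (GenPtLib.eq_of_specializes (h _ hb) isGenericPoint_closure (hab.map (f.fiberι (f x)).continuous))
    refine GenPtLib.isOpen_of_isClosed_of_stableUnderGeneralization
      (closure_subset_iff_isClosed.1 fun b hb => ?_) fun b a hab hb => ?_
    · exact (heq _ b (specializes_iff_mem_closure.2 hb)).symm
    · exact (heq a b hab).trans hb
  refine ⟨⟨hmq, fun h x hx => hqm x hx (h x hx)⟩, ⟨fun h x hx _ => hmq h x hx, fun h x hx => ?_⟩⟩
  obtain ⟨ξ, hξx, hξ⟩ := GenPtLib.exists_maximal x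
  have hξη : f ξ = η := hgen hx hξx
  have hq := h ξ hξη (GenPtLib.closure_mem_irreducibleComponents hξ)
  obtain ⟨x', rfl⟩ : x ∈ Set.range (f.fiberι (f ξ)) := by
    rw [Scheme.Hom.range_fiberι]
    exact hx.trans hξη.symm
  have hs : f.asFiber ξ ⤳ x' := by
    rw [← (f.fiberι (f ξ)).isEmbedding.toIsInducing.specializes_iff, Scheme.Hom.fiberι_asFiber]
    exact hξx
  have h2 : x' = f.asFiber ξ := hs.mem_closed (Scheme.Hom.QuasiFiniteAt.isClopen_singleton_asFiber f hq).isClosed rfl
  rw [h2, Scheme.Hom.fiberι_asFiber]
  exact GenPtLib.closure_mem_irreducibleComponents hξ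

end Groth.Agent.S9682
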