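import Groth.Statements.S9689
import Groth.Agent.S7657

set_option autoImplicit false
universe u
open CategoryTheory CategoryTheory.Limits AlgebraicGeometry
open Mor

namespace Groth.Agent.S9689

/-- For an integral scheme X: if every local ring of X is geometrically unibranch, then the
normalization morphism X^ν ⟶ X is a universal homeomorphism. (The published statement assumes only X
irreducible; this row takes X integral, which loses nothing since the normalization of X equals that
of its reduction.) (The quasi-compactness and quasi-separatedness binders on Spec K(X) ⟶ X always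
hold; they are only needed to form the normalization.) -/
theorem result (X : Scheme.{u}) [IsIntegral X] [QuasiCompact (X.fromSpecStalk (genericPoint ↥X))] [QuasiSeparated (X.fromSpecStalk (genericPoint ↥X))]
    (hX : ∀ x : X, CAlg2.IsGeomUnibranch (X.presheaf.stalk x)) :
    FlatMor.IsUnivHomeo (Curv2.normalizationι X) := by
  let ν := Curv2.normalizationι X
  haveI : IsIntegralHom ν := inferInstanceAs (IsIntegralHom (X.fromSpecStalk (genericPoint X)).fromNormalization)
  have hinj : Function.Injective ν.base := fun y y' hy => by
    obtain ⟨Φ, hΦ, -, hker⟩ := Groth.Agent.S7657.fibre_data X (ν.base y)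
    haveI := (hX (ν.base y)).1.2
    have hm : ∀ z, (RingHom.ker (Φ z)).IsMaximal := fun z =>
      RingHom.ker_isMaximal_of_surjective _ (hΦ z).1
    exact congrArg Subtype.val (hker ⟨y, rfl⟩ ⟨y', hy.symm⟩
      ((IsLocalRing.eq_maximalIdeal (hm _)).trans (IsLocalRing.eq_maximalIdeal (hm _)).symm))
  have hsurj : Surjective ν := ⟨fun x => by
    obtain ⟨Φ, -, hex, -⟩ := Groth.Agent.S7657.fibre_data X x
    haveI := (hX x).1.2
    obtain ⟨m, hm⟩ := Ideal.exists_maximal (CAlg2.normRed (X.presheaf.stalk x))
    obtain ⟨z, -⟩ := hex m hm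
    exact ⟨z.1, z.2⟩⟩
  have huinj : UniversallyInjective ν := by
    have t := (tfae_universallyInjective ν).out 0 2 rfl rfl
    refine t.2 ⟨hinj, fun y => ?_⟩
    obtain ⟨Φ, hΦ, -, -⟩ := Groth.Agent.S7657.fibre_data X (ν.base y)
    let y' : {z : ↥(Curv2.normalization X) // ν.base z = ν.base y} := ⟨y, rfl⟩
    haveI hm : (RingHom.ker (Φ y')).IsMaximal := RingHom.ker_isMaximal_of_surjective _ (hΦ y').1
    let Ψ := RingHom.quotientKerEquivOfSurjective (hΦ y').1
    have hΨ : ∀ w, Ψ (Ideal.Quotient.mk _ w) = Φ y' w := fun w => RingHom.kerLift_mk _ w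
    algebraize [(ν.residueFieldMap y).hom]
    rw [RingHom.IsPurelyInseparable, isPurelyInseparable_iff_pow_mem (X.residueField (ν.base y))
      (ringExpChar (X.residueField (ν.base y)))]
    intro z
    obtain ⟨w, rfl⟩ := (hΦ y').1 z
    obtain ⟨n, a, ha⟩ := (hX (ν.base y)).2 (RingHom.ker (Φ y')) (Ideal.Quotient.mk _ w)
    have hq : ringExpChar (CAlg2.normRed (X.presheaf.stalk (ν.base y)) ⧸ RingHom.ker (Φ y')) =
        ringExpChar (X.residueField (ν.base y)) := by
      haveI := expChar_of_injective_ringHom (ν.residueFieldMap y).hom.injective (ringExpChar (X.residueField (ν.base y)))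
      haveI := expChar_of_injective_ringHom Ψ.symm.toRingHom.injective (ringExpChar (X.residueField (ν.base y)))
      exact ringExpChar.eq _ _
    rw [← hq]
    refine ⟨n, (X.residue _).hom a, ?_⟩
    have h1 := DFunLike.congr_fun (hΦ y').2 a
    have h3 := congrArg Ψ ha
    rw [map_pow, hΨ] at h3
    rw [← h3]
    refine Eq.trans ?_ (hΨ _).symm
    refine Eq.trans ?_ h1.symm
    simp only [RingHom.comp_apply]
    erw [TopCat.Presheaf.stalkSpecializes_refl]
    rfl
  intro X' Y' i₁ i₂ f' h
  haveI : UniversallyClosed f' := MorphismProperty.of_isPullback h.flip (inferInstance : UniversallyClosed ν)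
  haveI : UniversallyInjective f' := MorphismProperty.of_isPullback h.flip huinj
  haveI : Surjective f' := MorphismProperty.of_isPullback h.flip hsurj
  exact isHomeomorph_iff_continuous_isClosedMap_bijective.2
    ⟨f'.continuous, f'.isClosedMap, f'.injective, f'.surjective⟩

end Groth.Agent.S9689
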