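import Groth.Statements.S9698
import Mathlib

set_option autoImplicit false
set_option linter.style.haveILetI false
universe u
open CategoryTheory CategoryTheory.Limits AlgebraicGeometry
open Mor

namespace Groth.Agent.S9698

/-- Let π : X ⟶ S be locally of finite type with X quasi-affine. Then there exist n ≥ 0 and an immersion
i : X ⟶ A^n_S over S (affine n-space on the index type Fin n, lifted to the ambient universe). -/
theorem result {X S : Scheme.{u}} (π : X ⟶ S)
    [LocallyOfFiniteType π] [X.IsQuasiAffine] :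
    ∃ (n : ℕ) (i : X ⟶ 𝔸(ULift.{u} (Fin n); S)), IsImmersion i ∧ i ≫ (𝔸(ULift.{u} (Fin n); S) ↘ S) = π := by
  classical
  haveI : QuasiSeparatedSpace X := inferInstance
  have key : ∀ x : X, ∃ (V : S.Opens) (r : Γ(X, ⊤)), IsAffineOpen V ∧ IsAffineOpen (X.basicOpen r) ∧
      X.basicOpen r ≤ π ⁻¹ᵁ V ∧ x ∈ X.basicOpen r := by
    intro x
    obtain ⟨_, ⟨V : S.Opens, hV, rfl⟩, hxV, -⟩ :=
      S.isBasis_affineOpens.exists_subset_of_mem_open (Set.mem_univ (π x)) isOpen_univ
    obtain ⟨_, ⟨_, ⟨r, hr, rfl⟩, rfl⟩, hxr, hrV⟩ :=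
      (Scheme.IsQuasiAffine.isBasis_basicOpen X).exists_subset_of_mem_open
        (show x ∈ π ⁻¹ᵁ V from hxV) (π ⁻¹ᵁ V).2
    exact ⟨V, r, hV, hr, hrV, hxr⟩
  choose V r hV hr hrV hxr using key
  obtain ⟨s, hs⟩ := isCompact_univ.elim_finite_subcover (fun x => (X.basicOpen (r x) : Set X))
    (fun x => (X.basicOpen (r x)).2) (fun x _ => Set.mem_iUnion.mpr ⟨x, hxr x⟩)
  have gen : ∀ x : X, ∃ G : Finset Γ(X, ⊤), ∀ R : Subring Γ(X, X.basicOpen (r x)),
      (∀ c, π.appLE (V x) _ (hrV x) c ∈ R) →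
      (∀ a ∈ G, X.presheaf.map (homOfLE le_top).op a ∈ R) →
      (∀ u, IsUnit u → u = X.presheaf.map (homOfLE le_top).op (r x) → ∀ w, w * u = 1 → w ∈ R) →
      R = ⊤ := by
    intro x
    have hft := π.finiteType_appLE (hV x) (hr x) (hrV x)
    algebraize [(π.appLE (V x) _ (hrV x)).hom]
    obtain ⟨T, hT⟩ := (RingHom.finiteType_algebraMap.mp hft).out
    letI alg := (X.presheaf.map (homOfLE (le_top : X.basicOpen (r x) ≤ ⊤)).op).hom.toAlgebra
    haveI : IsLocalization.Away (r x) Γ(X, X.basicOpen (r x)) :=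
      isLocalization_basicOpen_of_qcqs isCompact_univ isQuasiSeparated_univ _
    choose n a ha using fun t : Γ(X, X.basicOpen (r x)) => IsLocalization.Away.surj (r x) t
    refine ⟨T.image a, fun R hbase hG hinv => eq_top_iff.mpr fun z _ => ?_⟩
    have hu : IsUnit (algebraMap Γ(X, ⊤) Γ(X, X.basicOpen (r x)) (r x)) :=
      IsLocalization.Away.algebraMap_isUnit _
    obtain ⟨w, hw⟩ := hu.exists_left_inv
    have hwR : w ∈ R := hinv _ hu rfl w hw
    let R' : Subalgebra Γ(S, V x) Γ(X, X.basicOpen (r x)) := { R with algebraMap_mem' := hbase }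
    have hle : Algebra.adjoin Γ(S, V x) (T : Set Γ(X, X.basicOpen (r x))) ≤ R' := by
      refine Algebra.adjoin_le fun t ht => ?_
      have h1 : algebraMap Γ(X, ⊤) Γ(X, X.basicOpen (r x)) (a t) * w ^ n t = t := by
        rw [← ha t, mul_assoc, ← mul_pow, mul_comm (algebraMap _ _ (r x)) w, hw, one_pow, mul_one]
      show t ∈ R
      rw [← h1]
      exact R.mul_mem (hG _ (Finset.mem_image_of_mem a ht)) (R.pow_mem hwR _)
    rw [hT] at hle
    exact hle trivial
  choose G hG using gen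
  let C : Finset Γ(X, ⊤) := s.image r ∪ s.biUnion G
  let v : ULift.{u} (Fin C.card) → Γ(X, ⊤) := fun i => (C.equivFin.symm i.down).1
  let A := 𝔸(ULift.{u} (Fin C.card); S)
  let p : A ⟶ S := 𝔸(ULift.{u} (Fin C.card); S) ↘ S
  let i : X ⟶ A := AffineSpace.homOfVector π v
  have hip : i ≫ p = π := AffineSpace.homOfVector_over _ _
  refine ⟨C.card, i, ?_, hip⟩
  have hv : ∀ a ∈ C, ∃ j, i.appTop (AffineSpace.coord S j) = a := fun a ha => by
    refine ⟨⟨C.equivFin ⟨a, ha⟩⟩, ?_⟩
    rw [show i.appTop (AffineSpace.coord S _) = v _ from AffineSpace.homOfVector_appTop_coord _ _ _]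
    simp [v]
  choose idx hidx using fun x : s => hv (r x) (Finset.mem_union_left _ (Finset.mem_image_of_mem r x.2))
  let W : s → A.Opens := fun x =>
    A.basicOpen ((A.presheaf.map (homOfLE (le_top : p ⁻¹ᵁ V x ≤ ⊤)).op) (AffineSpace.coord S (idx x)))
  have hW : ∀ x, IsAffineOpen (W x) := fun x => ((hV x).preimage p).basicOpen _
  have hpre : ∀ x, i ⁻¹ᵁ W x = X.basicOpen (r x) := by
    intro x
    simp only [W]
    rw [A.basicOpen_res, Scheme.Hom.preimage_inf, ← Scheme.Hom.comp_preimage, hip, Scheme.preimage_basicOpen_top,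
      hidx x]
    exact inf_eq_right.mpr (hrV x)
  have hci : ∀ x, IsClosedImmersion (i ∣_ W x) := by
    intro x
    haveI : IsAffine (W x).toScheme := hW x
    haveI : IsAffine (i ⁻¹ᵁ W x).toScheme := by
      have := hr x; rw [← hpre x] at this; exact this
    have hWp : W x ≤ p ⁻¹ᵁ V x := A.basicOpen_le _
    have hs' : Function.Surjective (i.appLE (W x) (X.basicOpen (r x)) (hpre x).ge) := by
      intro z
      have htop := hG x.1 (i.appLE (W x) (X.basicOpen (r x)) (hpre x).ge).hom.range ?_ ?_ ?_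
      · have : z ∈ (i.appLE (W x) (X.basicOpen (r x)) (hpre x).ge).hom.range := by rw [htop]; trivial
        exact this
      · intro c
        refine ⟨p.appLE (V x) (W x) hWp c, ?_⟩
        show (p.appLE (V x) (W x) hWp ≫ i.appLE (W x) _ (hpre x).ge) c = _
        simp only [Scheme.Hom.appLE_comp_appLE, hip]
      · intro a ha
        obtain ⟨j, hj⟩ := hv a (Finset.mem_union_right _ (Finset.mem_biUnion.mpr ⟨x.1, x.2, ha⟩))
        refine ⟨A.presheaf.map (homOfLE le_top).op (AffineSpace.coord S j), ?_⟩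
        rw [← hj]
        show (A.presheaf.map _ ≫ i.appLE (W x) _ (hpre x).ge) _ = (i.appTop ≫ X.presheaf.map _) _
        rw [Scheme.Hom.map_appLE]
        rfl
      · intro u hu hue w hw
        have hunit : IsUnit (A.presheaf.map (homOfLE (A.basicOpen_le
            ((A.presheaf.map (homOfLE (le_top : p ⁻¹ᵁ V x ≤ ⊤)).op) (AffineSpace.coord S (idx x))))).op
            ((A.presheaf.map (homOfLE (le_top : p ⁻¹ᵁ V x ≤ ⊤)).op) (AffineSpace.coord S (idx x)))) :=
          RingedSpace.isUnit_res_basicOpen _ _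
        obtain ⟨w', hw'⟩ := hunit.exists_left_inv
        refine ⟨w', hu.mul_right_cancel ?_⟩
        rw [hw]
        have h2 := congrArg (i.appLE (W x) (X.basicOpen (r x)) (hpre x).ge) hw'
        rw [map_mul, map_one] at h2
        rw [← h2]
        congr 1
        refine hue.trans ((congrArg _ (hidx x).symm).trans ?_)
        show (i.appTop ≫ X.presheaf.map _) _ =
          (A.presheaf.map _ ≫ A.presheaf.map _ ≫ i.appLE (W x) _ (hpre x).ge) _
        simp only [← Functor.map_comp_assoc, Scheme.Hom.map_appLE]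
        rfl
    refine IsClosedImmersion.of_surjective_of_isAffine _ ?_
    have h := morphismRestrict_appLE i (W x) ⊤ ⊤ le_rfl
    rw [Scheme.Hom.appTop, ← Scheme.Hom.appLE_eq_app]
    erw [h]
    have hWe : (W x).ι ''ᵁ ⊤ = W x := (W x).ι_image_top
    have hXe : (i ⁻¹ᵁ W x).ι ''ᵁ ⊤ = X.basicOpen (r x) := by rw [(i ⁻¹ᵁ W x).ι_image_top, hpre x]
    intro z
    obtain ⟨c, hc⟩ := hs' (X.presheaf.map (eqToHom hXe.symm).op z)
    refine ⟨A.presheaf.map (eqToHom hWe).op c, ?_⟩
    have h2 := congrArg (X.presheaf.map (eqToHom hXe).op) hc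
    refine Eq.trans ?_ (h2.trans ?_)
    · show (A.presheaf.map _ ≫ i.appLE _ _ _) c = (i.appLE _ _ _ ≫ X.presheaf.map _) c
      rw [Scheme.Hom.map_appLE, Scheme.Hom.appLE_map]
    · show (X.presheaf.map _ ≫ X.presheaf.map _) z = z
      have h3 : ∀ {P Q : X.Opens} (hPQ : P = Q), X.presheaf.map (eqToHom hPQ.symm).op ≫ X.presheaf.map (eqToHom hPQ).op = 𝟙 _ := by
        rintro P Q rfl; simp
      exact congrArg (fun g => g z) (h3 hXe)
  let U : A.Opens := ⨆ x, W x
  have hU : i ⁻¹ᵁ U = ⊤ := by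
    refine top_le_iff.mp fun y _ => ?_
    obtain ⟨x, hx, hyx⟩ := Set.mem_iUnion₂.mp (hs (Set.mem_univ y))
    refine (show i ⁻¹ᵁ W ⟨x, hx⟩ ≤ i ⁻¹ᵁ U from Scheme.Hom.preimage_mono i (le_iSup W _)) ?_
    rw [hpre]; exact hyx
  haveI : IsClosedImmersion (i ∣_ U) := by
    refine IsZariskiLocalAtTarget.of_iSup_eq_top (fun x => U.ι ⁻¹ᵁ W x) ?_ fun x => ?_
    · rw [← Scheme.Hom.preimage_iSup]
      exact U.ι_preimage_self
    · refine (MorphismProperty.arrow_mk_iso_iff @IsClosedImmersion (morphismRestrictRestrict i U _)).mpr ?_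
      rw [show U.ι ''ᵁ (U.ι ⁻¹ᵁ W x) = W x from by
        rw [Scheme.Hom.image_preimage_eq_opensRange_inf, Scheme.Opens.opensRange_ι]
        exact inf_eq_right.mpr (le_iSup W x)]
      exact hci x
  haveI : IsImmersion ((i ⁻¹ᵁ U).ι ≫ i) := by rw [← morphismRestrict_ι]; infer_instance
  haveI : IsIso (i ⁻¹ᵁ U).ι := by
    rw [hU]; exact inferInstanceAs (IsIso X.topIso.hom)
  exact (MorphismProperty.cancel_left_of_respectsIso @IsImmersion (i ⁻¹ᵁ U).ι i).mp ‹_›


end Groth.Agent.S9698
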