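import Groth.Statements.S9703
import Groth.Agent.SectCover.Alg
-- import your own Groth.Agent.* helpers here

set_option autoImplicit false
universe u
open CategoryTheory CategoryTheory.Limits AlgebraicGeometry
open Mor

open Groth.Agent CategoryTheory.Limits
set_option backward.isDefEq.respectTransparency false
namespace Groth.Agent.S9703

/-- Let f : Y ⟶ X be finite with X affine. Then there exist a surjective finite locally free b : X' ⟶ X,
a finite locally free c : Z' ⟶ X' and a closed immersion i of Y' = X' ×_X Y into Z' over X' such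
that Z' is, as a set, the union of finitely many closed subschemes each mapping isomorphically onto
X'. (The published statement also records that Y' ⟶ Y is surjective finite locally free, which
follows by base change; this row omits it.) -/
theorem result {X Y : Scheme.{u}} [IsAffine X] (f : Y ⟶ X)
    [IsFinite f] :
    ∃ (X' : Scheme.{u}) (b : X' ⟶ X) (Z' : Scheme.{u}) (c : Z' ⟶ X') (i : pullback f b ⟶ Z'),
      Mor2.IsFinLocFree b ∧ Surjective b ∧ Mor2.IsFinLocFree c ∧ IsClosedImmersion i ∧
      i ≫ c = pullback.snd f b ∧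
      ∃ (m : ℕ) (Zj : Fin m → Scheme.{u}) (ιj : ∀ j, Zj j ⟶ Z'),
        (∀ j, IsClosedImmersion (ιj j)) ∧ (∀ j, IsIso (ιj j ≫ c)) ∧
        (⋃ j, Set.range (ιj j).base) = Set.univ := by
  haveI : IsAffine Y := isAffine_of_isAffineHom f
  letI : Algebra Γ(X, ⊤) Γ(Y, ⊤) := f.appTop.hom.toAlgebra
  haveI : Module.Finite Γ(X, ⊤) Γ(Y, ⊤) := by
    exact IsFinite.finite_app (f := f) ⊤ (isAffineOpen_top X)
  obtain ⟨S, _, _, hSf, hSfree, hsurj, C, _, _, hCfree, hCfin, ⟨π, hπ⟩, m, σ, hσ⟩ :=
    SectCover.exists_cover Γ(X, ⊤) Γ(Y, ⊤)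
  let b : Spec (CommRingCat.of S) ⟶ X := Spec.map (CommRingCat.ofHom (algebraMap Γ(X, ⊤) S)) ≫ X.isoSpec.inv
  let c : Spec (CommRingCat.of C) ⟶ Spec (CommRingCat.of S) := Spec.map (CommRingCat.ofHom (algebraMap S C))
  have flf : ∀ (R T : Type u) [CommRing R] [CommRing T] [Algebra R T] [Module.Finite R T] [Module.Free R T],
      Mor2.IsFinLocFree (Spec.map (CommRingCat.ofHom (algebraMap R T))) := fun R T _ _ _ _ _ => by
    haveI : Module.FinitePresentation R T := Module.finitePresentation_of_projective R T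
    exact ⟨(IsFinite.SpecMap_iff _).mpr (RingHom.finite_algebraMap.mpr inferInstance),
      Flat.SpecMap_iff.mpr (RingHom.flat_algebraMap_iff.mpr inferInstance),
      (HasRingHomProperty.Spec_iff (P := @LocallyOfFinitePresentation)).mpr
        (RingHom.finitePresentation_algebraMap.mpr (Algebra.FinitePresentation.of_finitePresentation R T))⟩
  have hb : Mor2.IsFinLocFree b := by
    obtain ⟨h1, h2, h3⟩ := flf Γ(X, ⊤) S
    exact ⟨(MorphismProperty.cancel_right_of_respectsIso @AlgebraicGeometry.IsFinite _ _).mpr h1,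
      (MorphismProperty.cancel_right_of_respectsIso @Flat _ _).mpr h2,
      (MorphismProperty.cancel_right_of_respectsIso @LocallyOfFinitePresentation _ _).mpr h3⟩
  haveI : Surjective (Spec.map (CommRingCat.ofHom (algebraMap Γ(X, ⊤) S))) := ⟨hsurj⟩
  let p := CommRingCat.isPushout_tensorProduct Γ(X, ⊤) S Γ(Y, ⊤)
  have sq : IsPullback
      (Spec.map (CommRingCat.ofHom (Algebra.TensorProduct.includeRight : Γ(Y, ⊤) →ₐ[Γ(X, ⊤)] TensorProduct Γ(X, ⊤) S Γ(Y, ⊤)).toRingHom) ≫ Y.isoSpec.inv)
      (Spec.map (CommRingCat.ofHom (Algebra.TensorProduct.includeLeftRingHom : S →+* TensorProduct Γ(X, ⊤) S Γ(Y, ⊤))))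
      f b := by
    refine (isPullback_SpecMap_of_isPushout _ _ _ _ p).flip.of_iso (Iso.refl _) Y.isoSpec.symm (Iso.refl _)
      X.isoSpec.symm (by simp) (by simp) ?_ (by simp [b])
    rw [Iso.symm_hom, Iso.symm_hom, ← Scheme.isoSpec_inv_naturality]
    rfl
  have hπc : Spec.map (CommRingCat.ofHom π.toRingHom) ≫ c =
      Spec.map (CommRingCat.ofHom (Algebra.TensorProduct.includeLeftRingHom : S →+* TensorProduct Γ(X, ⊤) S Γ(Y, ⊤))) := by
    rw [← Spec.map_comp]
    congr 1
    ext s
    exact π.commutes s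
  haveI : IsClosedImmersion (Spec.map (CommRingCat.ofHom π.toRingHom)) := IsClosedImmersion.spec_of_surjective _ hπ
  refine ⟨_, b, _, c, sq.isoPullback.inv ≫ Spec.map (CommRingCat.ofHom π.toRingHom), hb, inferInstance,
    flf S C, inferInstance, ?_, m, fun _ => Spec (CommRingCat.of S),
    fun j => Spec.map (CommRingCat.ofHom (σ j).toRingHom), fun j => ?_, fun j => ?_, ?_⟩
  · rw [Category.assoc, hπc, sq.isoPullback_inv_snd]
  · exact IsClosedImmersion.spec_of_surjective _ fun s => ⟨algebraMap S C s, (σ j).commutes s⟩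
  · have : Spec.map (CommRingCat.ofHom (σ j).toRingHom) ≫ c = 𝟙 _ := by
      rw [← Spec.map_comp, ← Spec.map_id]
      congr 1
      ext s
      exact (σ j).commutes s
    rw [this]
    infer_instance
  · refine Set.eq_univ_of_forall fun q => ?_
    obtain ⟨j, hj⟩ := hσ q.asIdeal q.isPrime
    refine Set.mem_iUnion.mpr ⟨j, ?_⟩
    show q ∈ Set.range (PrimeSpectrum.comap (σ j).toRingHom)
    rw [range_comap_of_surjective _ _ (fun s => ⟨algebraMap S C s, (σ j).commutes s⟩)]
    exact hj

end Groth.Agent.S9703
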