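import Groth.Statements.S9712
import Groth.Agent.ProjBundleLib.OpenDense
import Groth.Agent.ProjBundleLib.PnProj

set_option autoImplicit false
universe u
open CategoryTheory CategoryTheory.Limits AlgebraicGeometry
open Mor

namespace Groth.Agent.S9712

/-- A morphism f : X ⟶ S is locally quasi-projective (S is covered by opens U with f⁻¹(U) ⟶ U
quasi-projective) if and only if S is covered by opens U such that f⁻¹(U) ⟶ U is H-quasi-projective
(a quasi-compact immersion into some P^n_U followed by the projection). -/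
theorem result {X S : Scheme.{u}} (f : X ⟶ S) :
    (∀ s : S, ∃ U : S.Opens, s ∈ U ∧ RelProj.IsQuasiProjective (f ∣_ U)) ↔
      (∀ s : S, ∃ U : S.Opens, s ∈ U ∧ RelProj.IsHQuasiProjective (f ∣_ U)) := by
  refine ⟨fun h s => ?_, fun h s => ?_⟩
  · obtain ⟨U, hs, hU⟩ := h s
    obtain ⟨_, ⟨V, hV, rfl⟩, hsV, hVU⟩ := S.isBasis_affineOpens.exists_subset_of_mem_open hs U.2
    exact ⟨V, hsV, ProjBundleLib.isHQuasiProjective_restrict hVU hV hU⟩
  · obtain ⟨U, hs, n, i, hi, hqc, hif⟩ := h s
    haveI := hi
    haveI := hqc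
    refine ⟨U, hs, ProjBundleLib.isQuasiProjective_of_immersion (g := CohB1.ProjSpaceOver.toBase n U) ?_ i hif⟩
    exact ProjBundleLib.isProjective_of_isHProjective ⟨n, 𝟙 _, inferInstance, Category.id_comp _⟩

end Groth.Agent.S9712
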