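import Groth.Statements.S9713
import Groth.Agent.ProjBundleLib.ProjMor

set_option autoImplicit false
universe u
open CategoryTheory CategoryTheory.Limits AlgebraicGeometry
open Mor

namespace Groth.Agent.S9713

/-- A base change of a locally projective morphism (every point of the base has an open neighbourhood U
with f⁻¹(U) ⟶ U projective) is locally projective. Here f⁻¹(U) ⟶ U projective means isomorphic over
U to the relative Proj of a quasi-coherent graded algebra generated by its finite-type degree-one
part; the published definition uses closed subschemes of P(E) with E of finite type, an equivalent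
condition. -/
theorem result {X S S' : Scheme.{u}} (f : X ⟶ S) (hf : RelProj.IsLocallyProjective f)
    (g : S' ⟶ S) : RelProj.IsLocallyProjective (pullback.snd f g) := by
  intro s'
  obtain ⟨U, hU, hp⟩ := hf (g s')
  refine ⟨g ⁻¹ᵁ U, hU, ?_⟩
  have h1 := IsPullback.of_hasPullback f g
  have sq : IsPullback ((pullback.snd f g ⁻¹ᵁ g ⁻¹ᵁ U).ι ≫ pullback.fst f g) (pullback.snd f g ∣_ g ⁻¹ᵁ U)
      f ((g ⁻¹ᵁ U).ι ≫ g) := ((isPullback_morphismRestrict (pullback.snd f g) (g ⁻¹ᵁ U)).flip).paste_horiz h1
  have hle : pullback.snd f g ⁻¹ᵁ g ⁻¹ᵁ U ≤ pullback.fst f g ⁻¹ᵁ f ⁻¹ᵁ U := fun z hz => by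
    show f (pullback.fst f g z) ∈ U
    have e : f (pullback.fst f g z) = g (pullback.snd f g z) :=
      congrArg (fun t : pullback f g ⟶ S => t z) h1.w
    rw [e]; exact hz
  let a := (pullback.fst f g).resLE (f ⁻¹ᵁ U) (pullback.snd f g ⁻¹ᵁ g ⁻¹ᵁ U) hle
  refine Groth.Agent.ProjBundleLib.isProjective_baseChange (a := a) (g := g ∣_ U) ?_ hp
  refine IsPullback.of_right ?_ ?_ (isPullback_morphismRestrict f U).flip
  · rw [Scheme.Hom.resLE_comp_ι, morphismRestrict_ι]
    exact sq
  · rw [← cancel_mono U.ι, Category.assoc, Category.assoc, morphismRestrict_ι, morphismRestrict_ι,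
      Scheme.Hom.resLE_comp_ι_assoc]
    exact sq.w

end Groth.Agent.S9713
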