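import Groth.Statements.S9714
import Groth.Agent.UnrField.Basic

set_option autoImplicit false
universe u
open CategoryTheory CategoryTheory.Limits AlgebraicGeometry
open Mor

namespace Groth.Agent.S9714

/-- Let k be a field and X a scheme over k. The structure morphism X ⟶ Spec k is unramified (formally
unramified and locally of finite type) if and only if X is isomorphic over k to a disjoint union of
spectra of finite separable field extensions of k. -/
theorem result (k : Type u) [Field k] {X : Scheme.{u}}
    (f : X ⟶ Spec (CommRingCat.of k)) :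
    (FormallyUnramified f ∧ LocallyOfFiniteType f) ↔
      ∃ (ι : Type u) (K : ι → Type u) (_ : ∀ i, Field (K i)) (_ : ∀ i, Algebra k (K i)),
        (∀ i, FiniteDimensional k (K i) ∧ Algebra.IsSeparable k (K i)) ∧
        ∃ e : X ≅ ∐ (fun i => Spec (CommRingCat.of (K i))),
          e.hom ≫ Sigma.desc (fun i => Spec.map (CommRingCat.ofHom (algebraMap k (K i)))) = f := by
  constructor
  · rintro ⟨_, _⟩
    exact Groth.Agent.UnrField.exists_iso_coproduct k f
  · rintro ⟨ι, K, _, _, h, e, rfl⟩
    obtain ⟨h₁, h₂⟩ := Groth.Agent.UnrField.of_coproduct k K h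
    exact ⟨MorphismProperty.comp_mem _ _ _ inferInstance h₁,
      MorphismProperty.comp_mem _ _ _ inferInstance h₂⟩

end Groth.Agent.S9714
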