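import Groth.Statements.S9715
import Groth.Agent.DiffOp.Etale
import Groth.Agent.QCohLib.FPSections
import Groth.Agent.EtAlgEasy.PrinPartOp

set_option autoImplicit false
set_option linter.style.haveILetI false
set_option backward.isDefEq.respectTransparency false
set_option backward.defeqAttrib.useBackward true
universe u
open CategoryTheory CategoryTheory.Limits AlgebraicGeometry
open Opposite
open Mor

namespace Groth.Agent.S9715

section alg

variable {R A A' : Type u} [CommRing R] [CommRing A] [CommRing A'] [Algebra R A] [Algebra R A']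
  [Algebra A A'] [IsScalarTower R A A'] [Algebra.FormallyEtale A A']
  {M N M' N' : Type u} [AddCommGroup M] [Module A M] [Module R M] [IsScalarTower R A M]
  [AddCommGroup N] [Module A N] [Module R N] [IsScalarTower R A N]
  [AddCommGroup M'] [Module A M'] [Module A' M'] [IsScalarTower A A' M'] [Module R M']
  [IsScalarTower R A' M'] [IsScalarTower R A M']
  [AddCommGroup N'] [Module A N'] [Module A' N'] [IsScalarTower A A' N'] [Module R N']
  [IsScalarTower R A' N'] [IsScalarTower R A N']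

theorem alg_extend {k : ℕ} {f : M →ₗ[A] M'} (hf : IsBaseChange A' f) (g : N →ₗ[A] N')
    {D : M →ₗ[R] N} (hD : Diff16.IsDiffOpLE R A M N k D) :
    ∃ E : M' →ₗ[R] N', (∀ m, E (f m) = g (D m)) ∧
      ∀ (a : Fin (k + 1) → A') (t : M'), ∑ H : Finset (Fin (k + 1)),
        ((-1 : ℤ) ^ H.card) • ((∏ i ∈ H, a i) • E ((∏ i ∈ Hᶜ, a i) • t)) = 0 := by
  obtain ⟨E, ⟨hE, hEf⟩, -⟩ := DiffOp.existsUnique_extension hf (hD.comp_linear_left g)
  refine ⟨E, fun m => LinearMap.congr_fun hEf m, fun a t => ?_⟩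
  rw [← DiffOp.act_prod_delta_apply, (DiffOp.isDiffOpLE_iff_prod k E).1 hE a]
  rfl

end alg

section geom

variable {X S : Scheme.{u}} {M : X.Modules}

/-- Restriction of functions. -/
noncomputable abbrev rX {U V : X.Opens} (h : V ≤ U) : Γ(X, U) →+* Γ(X, V) := (X.presheaf.map (homOfLE h).op).hom

/-- Restriction of sections. -/
noncomputable abbrev rM (M : X.Modules) {U V : X.Opens} (h : V ≤ U) : Γ(M, U) →+ Γ(M, V) :=
  (M.presheaf.map (homOfLE h).op).hom

theorem rX_comp {U V W : X.Opens} (h : V ≤ U) (h' : W ≤ V) (a : Γ(X, U)) :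
    rX h' (rX h a) = rX (h'.trans h) a := by
  show (X.presheaf.map _ ≫ X.presheaf.map _) a = _
  rw [← Functor.map_comp]
  rfl

theorem rM_comp {U V W : X.Opens} (h : V ≤ U) (h' : W ≤ V) (t : Γ(M, U)) :
    rM M h' (rM M h t) = rM M (h'.trans h) t := by
  show (M.presheaf.map _ ≫ M.presheaf.map _) t = _
  rw [← Functor.map_comp]
  rfl

theorem rM_smul {U V : X.Opens} (h : V ≤ U) (a : Γ(X, U)) (t : Γ(M, U)) :
    rM M h (a • t) = rX h a • rM M h t :=
  Scheme.Modules.map_smul M (homOfLE h) a t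

variable [IsAffine X] [IsAffine S] (f : X ⟶ S) (F G : X.Modules)

/-- An operator on a basic open extending a global one. -/
def IsExt (k : ℕ) (D' : Γ(F, ⊤) → Γ(G, ⊤)) (g : Γ(X, ⊤))
    (E : Γ(F, X.basicOpen g) →+ Γ(G, X.basicOpen g)) : Prop :=
  (∀ m, E (rM F (X.basicOpen_le g) m) = rM G (X.basicOpen_le g) (D' m)) ∧
  (∀ (r : Γ(S, ⊤)) t, E (rX (X.basicOpen_le g) (f.appTop r) • t) =
    rX (X.basicOpen_le g) (f.appTop r) • E t) ∧
  ∀ (a : Fin (k + 1) → Γ(X, X.basicOpen g)) (t : Γ(F, X.basicOpen g)),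
    ∑ H : Finset (Fin (k + 1)),
      ((-1 : ℤ) ^ H.card) • ((∏ i ∈ H, a i) • E ((∏ i ∈ Hᶜ, a i) • t)) = 0

theorem exists_isExt [hF : Coh.IsQCoh F] (k : ℕ) (g : Γ(X, ⊤)) :
    letI : Algebra Γ(S, ⊤) Γ(X, ⊤) := f.appTop.hom.toAlgebra
    letI : Module Γ(S, ⊤) Γ(F, ⊤) := Module.compHom Γ(F, ⊤) f.appTop.hom
    letI : Module Γ(S, ⊤) Γ(G, ⊤) := Module.compHom Γ(G, ⊤) f.appTop.hom
    haveI : IsScalarTower Γ(S, ⊤) Γ(X, ⊤) Γ(F, ⊤) := IsScalarTower.of_algebraMap_smul fun _ _ => rfl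
    haveI : IsScalarTower Γ(S, ⊤) Γ(X, ⊤) Γ(G, ⊤) := IsScalarTower.of_algebraMap_smul fun _ _ => rfl
    ∀ D' : Γ(F, ⊤) →ₗ[Γ(S, ⊤)] Γ(G, ⊤), Diff16.IsDiffOpLE Γ(S, ⊤) Γ(X, ⊤) Γ(F, ⊤) Γ(G, ⊤) k D' →
      ∃ E, IsExt f F G k D' g E := by
  intro D' hD
  letI : Algebra Γ(S, ⊤) Γ(X, ⊤) := f.appTop.hom.toAlgebra
  letI : Module Γ(S, ⊤) Γ(F, ⊤) := Module.compHom Γ(F, ⊤) f.appTop.hom
  letI : Module Γ(S, ⊤) Γ(G, ⊤) := Module.compHom Γ(G, ⊤) f.appTop.hom
  haveI : IsScalarTower Γ(S, ⊤) Γ(X, ⊤) Γ(F, ⊤) := IsScalarTower.of_algebraMap_smul fun _ _ => rfl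
  haveI : IsScalarTower Γ(S, ⊤) Γ(X, ⊤) Γ(G, ⊤) := IsScalarTower.of_algebraMap_smul fun _ _ => rfl
  let ρ := rX (X.basicOpen_le g)
  letI : Algebra Γ(X, ⊤) Γ(X, X.basicOpen g) := ρ.toAlgebra
  letI : Algebra Γ(S, ⊤) Γ(X, X.basicOpen g) := (ρ.comp f.appTop.hom).toAlgebra
  haveI : IsScalarTower Γ(S, ⊤) Γ(X, ⊤) Γ(X, X.basicOpen g) := .of_algebraMap_eq fun _ => rfl
  letI : Module Γ(X, ⊤) Γ(F, X.basicOpen g) := Module.compHom _ ρ
  letI : Module Γ(X, ⊤) Γ(G, X.basicOpen g) := Module.compHom _ ρ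
  letI : Module Γ(S, ⊤) Γ(F, X.basicOpen g) := Module.compHom _ (ρ.comp f.appTop.hom)
  letI : Module Γ(S, ⊤) Γ(G, X.basicOpen g) := Module.compHom _ (ρ.comp f.appTop.hom)
  haveI : IsScalarTower Γ(X, ⊤) Γ(X, X.basicOpen g) Γ(F, X.basicOpen g) :=
    .of_algebraMap_smul fun _ _ => rfl
  haveI : IsScalarTower Γ(X, ⊤) Γ(X, X.basicOpen g) Γ(G, X.basicOpen g) :=
    .of_algebraMap_smul fun _ _ => rfl
  haveI : IsScalarTower Γ(S, ⊤) Γ(X, X.basicOpen g) Γ(F, X.basicOpen g) :=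
    .of_algebraMap_smul fun _ _ => rfl
  haveI : IsScalarTower Γ(S, ⊤) Γ(X, X.basicOpen g) Γ(G, X.basicOpen g) :=
    .of_algebraMap_smul fun _ _ => rfl
  haveI : IsScalarTower Γ(S, ⊤) Γ(X, ⊤) Γ(F, X.basicOpen g) := .of_algebraMap_smul fun _ _ => rfl
  haveI : IsScalarTower Γ(S, ⊤) Γ(X, ⊤) Γ(G, X.basicOpen g) := .of_algebraMap_smul fun _ _ => rfl
  haveI := (isAffineOpen_top X).isLocalization_basicOpen g
  haveI : Algebra.FormallyEtale Γ(X, ⊤) Γ(X, X.basicOpen g) :=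
    Algebra.FormallyEtale.of_isLocalization (Submonoid.powers g)
  let r : Γ(F, ⊤) →ₗ[Γ(X, ⊤)] Γ(F, X.basicOpen g) :=
    { toFun := rM F (X.basicOpen_le g)
      map_add' := map_add _
      map_smul' := fun a t => rM_smul _ a t }
  have hl := QCohLib.locAt F (isAffineOpen_top X)
  haveI : IsLocalizedModule (Submonoid.powers g) r := by
    refine IsLocalizedModule.Away.mk_of_addCommGroup ?_ ?_ ?_
    · refine (Module.End.isUnit_iff _).mpr ?_
      obtain ⟨u, hu⟩ : IsUnit (ρ g) := X.toRingedSpace.isUnit_res_basicOpen g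
      show Function.Bijective fun v : Γ(F, X.basicOpen g) => ρ g • v
      rw [← hu]
      exact MulAction.bijective u
    · intro t
      obtain ⟨n, s, hs⟩ := hl.extend g t
      exact ⟨n, s, hs.symm⟩
    · intro s hs
      obtain ⟨n, hn⟩ := hl.kill g s hs
      exact ⟨n, (QCohLib.sc_le_rfl (g ^ n) s).symm.trans hn⟩
  let rG : Γ(G, ⊤) →ₗ[Γ(X, ⊤)] Γ(G, X.basicOpen g) :=
    { toFun := rM G (X.basicOpen_le g)
      map_add' := map_add _
      map_smul' := fun a t => rM_smul _ a t }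
  obtain ⟨E, hEf, hsum⟩ := alg_extend
    (IsLocalizedModule.isBaseChange (Submonoid.powers g) Γ(X, X.basicOpen g) r) rG hD
  refine ⟨E.toAddMonoidHom, fun m => ?_, fun c t => E.map_smul c t, hsum⟩
  exact hEf m

variable {f F G}

theorem isExt_comm [hF : Coh.IsQCoh F] {k : ℕ} {D' : Γ(F, ⊤) → Γ(G, ⊤)} {g h : Γ(X, ⊤)}
    (hle : X.basicOpen h ≤ X.basicOpen g) {Eg : Γ(F, X.basicOpen g) →+ Γ(G, X.basicOpen g)}
    {Eh : Γ(F, X.basicOpen h) →+ Γ(G, X.basicOpen h)} (hg : IsExt f F G k D' g Eg)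
    (hh : IsExt f F G k D' h Eh) (t : Γ(F, X.basicOpen g)) :
    rM G hle (Eg t) = Eh (rM F hle t) := by
  obtain ⟨n, m, hm⟩ := (QCohLib.locAt F (isAffineOpen_top X)).extend g t
  set a : Γ(X, X.basicOpen g) := rX (X.basicOpen_le g) (g ^ n) with ha
  have hat : ∀ j : ℕ, rM G hle (Eg (a ^ (j + 1) • t)) = Eh (rM F hle (a ^ (j + 1) • t)) := by
    intro j
    have hj : a ^ (j + 1) • t = rM F (X.basicOpen_le g) ((g ^ n) ^ j • m) := by
      rw [rM_smul, map_pow, ← ha, pow_succ, mul_smul]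
      exact congrArg _ hm.symm
    rw [hj, hg.1, rM_comp, rM_comp, hh.1]
  set b : Γ(X, X.basicOpen h) := rX hle a with hb
  have h1 := congrArg (rM G hle) (hg.2.2 (fun _ => a) t)
  have h2 := hh.2.2 (fun _ => b) (rM F hle t)
  rw [map_zero, map_sum] at h1
  simp only [map_zsmul, rM_smul, map_prod, ← hb] at h1
  rw [← h2] at h1
  have hu : IsUnit b := by
    rw [hb, ha, map_pow, map_pow]
    exact ((X.toRingedSpace.isUnit_res_basicOpen g).map (rX hle)).pow n
  rw [← sub_eq_zero, ← Finset.sum_sub_distrib,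
    Finset.sum_eq_single (Finset.univ : Finset (Fin (k + 1)))] at h1
  · simp only [Finset.compl_univ, Finset.prod_const, Finset.card_empty, pow_zero, one_smul,
      ← smul_sub] at h1
    have h3 := ((isUnit_one (M := ℤ)).neg.pow _).smul_eq_zero.1 h1
    exact sub_eq_zero.1 ((hu.pow _).smul_eq_zero.1 h3)
  · intro H _ hH
    obtain ⟨j, hj⟩ : ∃ j, Hᶜ.card = j + 1 := Nat.exists_eq_succ_of_ne_zero
      (Finset.card_ne_zero.2 (Finset.nonempty_iff_ne_empty.2 (by simpa using hH)))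
    simp only [Finset.prod_const, hj, sub_eq_zero]
    rw [hat j, rM_smul, map_pow]
  · simp

theorem isExt_lin {k : ℕ} {D' : Γ(F, ⊤) → Γ(G, ⊤)} {g : Γ(X, ⊤)}
    {E : Γ(F, X.basicOpen g) →+ Γ(G, X.basicOpen g)} (hE : IsExt f F G k D' g E) (h : Γ(S, ⊤))
    (hgh : X.basicOpen g ≤ f ⁻¹ᵁ S.basicOpen h) (s : Γ(S, S.basicOpen h))
    (t : Γ(F, X.basicOpen g)) :
    E (rX hgh (f.app _ s) • t) = rX hgh (f.app _ s) • E t := by
  haveI := (isAffineOpen_top S).isLocalization_basicOpen h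
  obtain ⟨n, r, hr⟩ := IsLocalization.Away.surj h s
  have hnat : ∀ c : Γ(S, ⊤), rX hgh (f.app _ (algebraMap Γ(S, ⊤) Γ(S, S.basicOpen h) c)) =
      rX (X.basicOpen_le g) (f.appTop c) := fun c => by
    show (S.presheaf.map _ ≫ f.app _ ≫ X.presheaf.map _) c = (f.app ⊤ ≫ X.presheaf.map _) c
    rw [f.naturality_assoc, ← Functor.map_comp]
    rfl
  set u := rX (X.basicOpen_le g) (f.appTop h) with hu'
  set c := rX hgh (f.app _ s) with hc'
  have hu : IsUnit u := by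
    rw [hu', ← hnat]
    exact (((S.toRingedSpace.isUnit_res_basicOpen h).map (f.app _).hom).map (rX hgh))
  have e : u ^ n * c = rX (X.basicOpen_le g) (f.appTop r) := by
    rw [← hnat r, ← hr, map_mul, map_mul, map_pow, map_pow, hnat, ← hu', ← hc', mul_comm]
  apply (hu.pow n).smul_left_cancel.1
  calc u ^ n • E (c • t) = E (u ^ n • c • t) := by
        rw [hu', ← map_pow, ← map_pow]
        exact (hE.2.1 (h ^ n) _).symm
    _ = u ^ n • c • E t := by rw [smul_smul, smul_smul, e, hE.2.1]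

end geom

end Groth.Agent.S9715

namespace Groth.Agent.S9715

/-- Let f : X ⟶ S be a morphism of affine schemes, R = Γ(S, O_S) → A = Γ(X, O_X) the corresponding ring
map, F a quasi-coherent O_X-module and G an O_X-module, with global sections M and N. Every
differential operator M → N of order at most k relative to A over R is induced on global sections by
a differential operator F → G of order at most k relative to X over S. (The published statement
asserts that D ↦ Γ(X, D) is a bijection between the two sets of operators of order at most k; its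
injectivity is not verified in the published proof and is not claimed here. Differential operators
on X/S are taken in the principal-parts sense, those of A/R in the commutator sense.) -/
theorem result {X S : Scheme.{u}} [IsAffine X] [IsAffine S] (f : X ⟶ S)
    (F G : X.Modules) (hF : Coh.IsQCoh F) (k : ℕ) :
    letI : Algebra Γ(S, ⊤) Γ(X, ⊤) := f.appTop.hom.toAlgebra
    letI : Module Γ(S, ⊤) Γ(F, ⊤) := Module.compHom Γ(F, ⊤) f.appTop.hom
    letI : Module Γ(S, ⊤) Γ(G, ⊤) := Module.compHom Γ(G, ⊤) f.appTop.hom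
    haveI : IsScalarTower Γ(S, ⊤) Γ(X, ⊤) Γ(F, ⊤) := IsScalarTower.of_algebraMap_smul fun _ _ => rfl
    haveI : IsScalarTower Γ(S, ⊤) Γ(X, ⊤) Γ(G, ⊤) := IsScalarTower.of_algebraMap_smul fun _ _ => rfl
    ∀ D' : Γ(F, ⊤) →ₗ[Γ(S, ⊤)] Γ(G, ⊤), Diff16.IsDiffOpLE Γ(S, ⊤) Γ(X, ⊤) Γ(F, ⊤) Γ(G, ⊤) k D' →
      ∃ D : F.presheaf ⟶ G.presheaf, PrinPart.IsDiffOpLE f F G k D ∧
        ∀ m : Γ(F, ⊤), (D.app (op ⊤)).hom m = D' m := by
  intro D' hD'
  haveI := hF
  choose E hE using fun g => exists_isExt f F G k g D' hD'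
  have hb := isBasis_basicOpen X
  let α : (inducedFunctor X.basicOpen).op ⋙ F.presheaf ⟶
      (inducedFunctor X.basicOpen).op ⋙ G.presheaf :=
    { app := fun g => AddCommGrpCat.ofHom (E g.unop)
      naturality := fun g h i => by
        ext t
        exact (isExt_comm i.unop.hom.le (hE g.unop) (hE h.unop) t).symm }
  let D : F.presheaf ⟶ G.presheaf :=
    TopCat.Sheaf.restrictHomEquivHom F.presheaf ⟨G.presheaf, G.isSheaf⟩ hb α
  have hDg : ∀ g t, (D.app (op (X.basicOpen g))).hom t = E g t := fun g t => by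
    show (D.app (op (X.basicOpen g))).hom t = (α.app (op g)).hom t
    rw [← TopCat.Sheaf.extend_hom_app F.presheaf ⟨G.presheaf, G.isSheaf⟩ hb α g]
    rfl
  have hnat : ∀ {U : X.Opens} {g : Γ(X, ⊤)} (hg : X.basicOpen g ≤ U) (t : Γ(F, U)),
      rM G hg (D.app (op U) t) = E g (rM F hg t) := fun hg t => by
    rw [← hDg]
    exact (ConcreteCategory.congr_hom (D.naturality (homOfLE hg).op) t).symm
  have hloc : ∀ {U : X.Opens} (y z : Γ(G, U)),
      (∀ x ∈ U, ∃ g : Γ(X, ⊤), x ∈ X.basicOpen g ∧ ∃ hg : X.basicOpen g ≤ U,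
        rM G hg y = rM G hg z) → y = z := fun y z h => by
    refine TopCat.Presheaf.section_ext (⟨G.presheaf, G.isSheaf⟩ : TopCat.Sheaf Ab X) _ _ _
      fun x hx => ?_
    obtain ⟨g, hxg, hg, e⟩ := h x hx
    show G.presheaf.germ _ x hx y = G.presheaf.germ _ x hx z
    rw [← G.presheaf.germ_res_apply (homOfLE hg) x hxg y,
      ← G.presheaf.germ_res_apply (homOfLE hg) x hxg z]
    exact congrArg _ e
  refine ⟨D, EtAlgEasy.PrinPartOp.isDiffOpLE_of_sum f F G k D ?_ ?_, fun m => ?_⟩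
  · intro V s U hU t
    refine hloc _ _ fun x hx => ?_
    obtain ⟨W, ⟨h, rfl⟩, hxh, hhV⟩ :=
      TopologicalSpace.Opens.isBasis_iff_nbhd.1 (isBasis_basicOpen S) (show f x ∈ V from hU hx)
    obtain ⟨W, ⟨g, rfl⟩, hxg, hg⟩ :=
      TopologicalSpace.Opens.isBasis_iff_nbhd.1 hb (show x ∈ U ⊓ f ⁻¹ᵁ S.basicOpen h from ⟨hx, hxh⟩)
    have hgU := hg.trans inf_le_left
    have hgh := hg.trans inf_le_right
    refine ⟨g, hxg, hgU, ?_⟩
    have hc : rX hgU (rX hU (f.app V s)) =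
        rX hgh (f.app _ (S.presheaf.map (homOfLE hhV).op s)) := by
      rw [rX_comp]
      show (f.app V ≫ X.presheaf.map _) s = (S.presheaf.map _ ≫ f.app _ ≫ X.presheaf.map _) s
      rw [f.naturality_assoc, ← Functor.map_comp]
      rfl
    rw [hnat, rM_smul, rM_smul, hnat, hc]
    exact isExt_lin (hE g) h hgh _ _
  · intro U a t
    refine hloc _ _ fun x hx => ?_
    obtain ⟨W, ⟨g, rfl⟩, hxg, hg⟩ := TopologicalSpace.Opens.isBasis_iff_nbhd.1 hb hx
    refine ⟨g, hxg, hg, ?_⟩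
    simp only [map_sum, map_zero, map_zsmul, rM_smul, hnat, map_prod]
    exact (hE g).2.2 _ _
  · have h1 : (⊤ : X.Opens) ≤ X.basicOpen (1 : Γ(X, ⊤)) := (X.basicOpen_one).ge
    have e := hnat (le_top : X.basicOpen (1 : Γ(X, ⊤)) ≤ ⊤) m
    rw [(hE 1).1 m] at e
    refine hloc _ _ fun x hx => ⟨1, h1 hx, le_top, e⟩


end Groth.Agent.S9715
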