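import Groth.Statements.S9719
import Groth.Agent.ProjBundleLib.AffinePn

set_option autoImplicit false
universe u
open CategoryTheory CategoryTheory.Limits AlgebraicGeometry
open Mor

namespace Groth.Agent.S9719

/-- (1) ⇒ (2): let f : X ⟶ S be of finite type and L an invertible O_X-module which is very ample
relative to f (isomorphic to the inverse image of O(1) along an S-immersion into the projective
bundle of a quasi-coherent O_S-module). Then there is an open covering of S by opens V such that,
for each V, the restriction of L to f⁻¹(V) is isomorphic to the inverse image of O(1) along some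
immersion of f⁻¹(V) into a projective space P^n_V over V. (The converse implication of the published
statement is not stated here.) -/
theorem result {X S : Scheme.{u}} (f : X ⟶ S)
    [LocallyOfFiniteType f] [QuasiCompact f] (L : X.Modules) (hLinv : PicF.IsInvertible L)
    (hL : RelProj.IsRelVeryAmple f L) :
    ∃ (ι : Type u) (V : ι → S.Opens), (⨆ j, V j) = ⊤ ∧
      ∀ j, RelAmple.IsRelVeryAmplePn (f ∣_ V j) (L.restrict (f ⁻¹ᵁ V j).ι) := by
  refine ⟨S.affineOpens, fun V => V.1, AlgebraicGeometry.iSup_affineOpens_eq_top S, fun V => ?_⟩
  haveI : IsAffine (V.1 : Scheme.{u}) := V.2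
  exact Groth.Agent.ProjBundleLib.isRelVeryAmplePn_of_isAffine (Groth.Agent.ParaFLib.isInvertible_restrict _ hLinv)
    (Groth.Agent.ProjBundleLib.isRelVeryAmple_of_iso ((Scheme.Modules.restrictFunctorIsoPullback _).app L)
      (Groth.Agent.ProjBundleLib.isRelVeryAmple_baseChange (isPullback_morphismRestrict f V.1).flip hL))

end Groth.Agent.S9719
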