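import Groth.Statements.S9720
import Groth.Agent.UnrField.Basic
import Groth.Agent.PointBC.Basic

set_option autoImplicit false
universe u
open CategoryTheory CategoryTheory.Limits AlgebraicGeometry
open Mor

namespace Groth.Agent.S9720

/-- Let f : X ⟶ S be locally of finite type such that for every point s of S the fibre X_s is isomorphic
over κ(s) to a coproduct of schemes Spec K_i, each K_i a finite separable extension field of κ(s).
In that case f is formally unramified (so unramified, being locally of finite type). -/
theorem result {X S : Scheme.{u}} (f : X ⟶ S) [LocallyOfFiniteType f]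
    (H : ∀ s : S, ∃ (ι : Type u) (K : ι → Type u) (_ : ∀ i, Field (K i))
      (_ : ∀ i, Algebra (S.residueField s) (K i)),
      (∀ i, FiniteDimensional (S.residueField s) (K i) ∧ Algebra.IsSeparable (S.residueField s) (K i)) ∧
        ∃ e : f.fiber s ≅ ∐ (fun i => Spec (CommRingCat.of (K i))),
          e.hom ≫ Sigma.desc (fun i => Spec.map (CommRingCat.ofHom (algebraMap (S.residueField s) (K i)))) =
            f.fiberToSpecResidueField s) :
    FormallyUnramified f := by
  have hU : ∀ x : X, ∃ U : X.Opens, x ∈ U ∧ FormallyUnramified (U.ι ≫ f) := by
    intro x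
    rw [Groth.Agent.FlatLocus.exists_formallyUnramified_nhd_iff]
    obtain ⟨ι, K, _, _, h, e, he⟩ := H (f x)
    have : FormallyUnramified (f.fiberToSpecResidueField (f x)) := by
      rw [← he]
      exact MorphismProperty.comp_mem _ _ _ inferInstance
        (Groth.Agent.UnrField.of_coproduct (S.residueField (f x)) K h).1
    have key := (Groth.Agent.PointBC.formallyUnramified_iff_fibre f (f x) (f.asFiber x)).2
      (FormallyUnramified.stalkMap _ _)
    rwa [Scheme.Hom.fiberι_asFiber] at key
  choose U hxU hfu using hU
  exact IsZariskiLocalAtSource.of_iSup_eq_top U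
    (top_unique fun x _ => TopologicalSpace.Opens.mem_iSup.2 ⟨x, hxU x⟩) hfu

end Groth.Agent.S9720
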