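import Groth.Statements.S9722
import Groth.Agent.LocStdLib.Basic

set_option autoImplicit false
universe u
open CategoryTheory AlgebraicGeometry
open Mor

namespace Groth.Agent.S9722

/-- Let f : X ⟶ S be a morphism, x a point of X and V an affine open neighbourhood of f(x) in S. Then f
is étale on some open neighbourhood of x if and only if there is an affine open neighbourhood U of x
with f(U) ⊆ V such that Γ(X, U) is a standard étale algebra over Γ(S, V) through the induced ring
map. -/
theorem result {X S : Scheme.{u}} (f : X ⟶ S) (x : X)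
    (V : S.Opens) (hV : IsAffineOpen V) (hxV : f x ∈ V) :
    (∃ W : X.Opens, x ∈ W ∧ Etale (W.ι ≫ f)) ↔
      ∃ (U : X.Opens) (_ : IsAffineOpen U) (_ : x ∈ U) (e : U ≤ f ⁻¹ᵁ V),
        letI := (f.appLE V U e).hom.toAlgebra
        Algebra.IsStandardEtale Γ(S, V) Γ(X, U) := by
  constructor
  · rintro ⟨W, hxW, hW⟩
    obtain ⟨U, hU, e, hxU, h⟩ := Groth.Agent.LocStdLib.exists_affine_of_nhd f (P := @Etale) hV hxV hxW hW
    letI := (f.appLE V U e).hom.toAlgebra
    haveI : Algebra.Etale Γ(S, V) Γ(X, U) := h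
    obtain ⟨r, hr, hstd⟩ := Algebra.IsEtaleAt.exists_isStandardEtale (R := Γ(S, V)) (hU.primeIdealOf ⟨x, hxU⟩).asIdeal
    have hrx : x ∈ X.basicOpen r := by
      have := hU.fromSpec_preimage_basicOpen r
      have hp : hU.fromSpec (hU.primeIdealOf ⟨x, hxU⟩) = x := hU.fromSpec_primeIdealOf ⟨x, hxU⟩
      rw [← hp]
      show hU.primeIdealOf ⟨x, hxU⟩ ∈ hU.fromSpec ⁻¹ᵁ X.basicOpen r
      rw [this]
      exact hr
    refine ⟨X.basicOpen r, hU.basicOpen r, hrx, (X.basicOpen_le r).trans e, ?_⟩
    haveI := hU.isLocalization_basicOpen r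
    haveI := hstd
    letI : Algebra Γ(S, V) Γ(X, X.basicOpen r) := (f.appLE V (X.basicOpen r) ((X.basicOpen_le r).trans e)).hom.toAlgebra
    haveI : IsScalarTower Γ(S, V) Γ(X, U) Γ(X, X.basicOpen r) := .of_algebraMap_eq' (by
      show (f.appLE V (X.basicOpen r) ((X.basicOpen_le r).trans e)).hom = _
      rw [← f.appLE_map e (homOfLE (X.basicOpen_le r)).op]; rfl)
    exact Algebra.IsStandardEtale.of_equiv ((IsLocalization.algEquiv (Submonoid.powers r) (Localization.Away r)
      Γ(X, X.basicOpen r)).restrictScalars Γ(S, V))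
  · rintro ⟨U, hU, hxU, e, h⟩
    letI := (f.appLE V U e).hom.toAlgebra
    haveI : Algebra.IsStandardEtale Γ(S, V) Γ(X, U) := h
    exact ⟨U, hxU, Groth.Agent.LocStdLib.of_appLE f (P := @Etale) (fun j _ => inferInstance) hV hU e
      (show Algebra.Etale Γ(S, V) Γ(X, U) from inferInstance)⟩

end Groth.Agent.S9722
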