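import Groth.Statements.S9736
import Groth.Agent.CILib.RelGCI
import Groth.Agent.S9148

set_option autoImplicit false
set_option backward.isDefEq.respectTransparency false
set_option maxHeartbeats 1000000
universe u
open FlatMor

namespace Groth.Agent.S9736

open AlgebraicGeometry CategoryTheory Limits in
/-- A base changed presentation gives a pullback square. -/
theorem exists_isPullback {X S : Scheme.{u}} (f : X ⟶ S) {R R₀ : Type u} [CommRing R] [CommRing R₀] [Algebra R₀ R]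
    {n c : ℕ} (F₀ : Fin c → MvPolynomial (Fin n) R₀)
    (e₁ : X ≅ Spec (CommRingCat.of (Synt.RelGCIRing R n c (Groth.Agent.CILib.mapF R F₀))))
    (e₂ : S ≅ Spec (CommRingCat.of R))
    (he : e₁.hom ≫ Spec.map (CommRingCat.ofHom (algebraMap R (Synt.RelGCIRing R n c (Groth.Agent.CILib.mapF R F₀)))) = f ≫ e₂.hom) :
    ∃ g', IsPullback g' f (Spec.map (CommRingCat.ofHom (algebraMap R₀ (Synt.RelGCIRing R₀ n c F₀))))
      (e₂.hom ≫ Spec.map (CommRingCat.ofHom (algebraMap R₀ R))) := by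
  let C₀ := Synt.RelGCIRing R₀ n c F₀
  let C := Synt.RelGCIRing R n c (Groth.Agent.CILib.mapF R F₀)
  let E := Groth.Agent.CILib.baseChangeEquiv R F₀
  let L : CommRingCat.of R ⟶ CommRingCat.of (TensorProduct R₀ R C₀) :=
    CommRingCat.ofHom (algebraMap R (TensorProduct R₀ R C₀))
  let ε : CommRingCat.of (TensorProduct R₀ R C₀) ≅ CommRingCat.of C := E.toRingEquiv.toCommRingCatIso
  have hT : IsPullback (Spec.map L) (Spec.map (CommRingCat.ofHom
      (Algebra.TensorProduct.includeRight (R := R₀) (A := R) (B := C₀)).toRingHom))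
      (Spec.map (CommRingCat.ofHom (algebraMap R₀ R))) (Spec.map (CommRingCat.ofHom (algebraMap R₀ C₀))) :=
    isPullback_SpecMap_of_isPushout _ _ _ _ (CommRingCat.isPushout_tensorProduct R₀ R C₀)
  have hL : Spec.map ε.hom ≫ Spec.map L = Spec.map (CommRingCat.ofHom (algebraMap R C)) := by
    rw [← Spec.map_comp]
    exact congrArg Spec.map (CommRingCat.hom_ext (RingHom.ext fun r => E.commutes r))
  refine ⟨e₁.hom ≫ Spec.map ε.hom ≫ Spec.map (CommRingCat.ofHom
      (Algebra.TensorProduct.includeRight (R := R₀) (A := R) (B := C₀)).toRingHom), ?_⟩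
  refine hT.flip.of_iso ((asIso (Spec.map ε.hom)).symm ≪≫ e₁.symm) (Iso.refl _) e₂.symm (Iso.refl _) ?_ ?_ ?_ ?_
  · simp
  · rw [← cancel_mono e₂.hom]
    simp only [Iso.trans_hom, Iso.symm_hom, asIso_inv, Category.assoc, Iso.inv_hom_id, Category.comp_id]
    rw [← he, Iso.inv_hom_id_assoc, ← hL, IsIso.inv_hom_id_assoc]
  · simp [C₀]
  · simp

open AlgebraicGeometry CategoryTheory Limits in
theorem of_model {X S : Scheme.{u}} (f : X ⟶ S) {R R₀ : Type u} [CommRing R] [CommRing R₀] [Algebra R₀ R]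
    {n c : ℕ} (F₀ : Fin c → MvPolynomial (Fin n) R₀) (hft : Algebra.FiniteType ℤ R₀) (hgci : Synt.IsRelGCI R₀ n c F₀)
    (e₁ : X ≅ Spec (CommRingCat.of (Synt.RelGCIRing R n c (Groth.Agent.CILib.mapF R F₀))))
    (e₂ : S ≅ Spec (CommRingCat.of R))
    (he : e₁.hom ≫ Spec.map (CommRingCat.ofHom (algebraMap R (Synt.RelGCIRing R n c (Groth.Agent.CILib.mapF R F₀)))) = f ≫ e₂.hom) :
    ∃ (X₀ S₀ : Scheme.{u}) (f₀ : X₀ ⟶ S₀) (g : S ⟶ S₀) (g' : X ⟶ X₀), IsAffine X₀ ∧ IsAffine S₀ ∧ IsPullback g' f f₀ g ∧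
      Algebra.FiniteType ℤ Γ(S₀, ⊤) ∧ LocallyOfFiniteType f₀ ∧ Synt.IsStandardSyntomic f₀ := by
  obtain ⟨g', hpb⟩ := exists_isPullback f F₀ e₁ e₂ he
  let C₀ := Synt.RelGCIRing R₀ n c F₀
  let S₀ := Spec (CommRingCat.of R₀)
  let X₀ := Spec (CommRingCat.of C₀)
  let f₀ : X₀ ⟶ S₀ := Spec.map (CommRingCat.ofHom (algebraMap R₀ C₀))
  refine ⟨X₀, S₀, f₀, _, g', inferInstanceAs (IsAffine (Spec _)), inferInstanceAs (IsAffine (Spec _)), hpb, ?_, ?_,
    ⟨R₀, inferInstance, n, c, F₀, hgci, Iso.refl _, Iso.refl _, by simp [f₀, C₀]⟩⟩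
  · let e : R₀ ≃+* Γ(S₀, ⊤) := (Scheme.ΓSpecIso (CommRingCat.of R₀)).symm.commRingCatIsoToRingEquiv
    exact Algebra.FiniteType.of_surjective (R := ℤ) (A := R₀) e.toRingHom.toIntAlgHom e.surjective
  · haveI : Algebra.FiniteType R₀ C₀ := inferInstance
    rw [HasRingHomProperty.Spec_iff (P := @LocallyOfFiniteType)]
    exact RingHom.finiteType_algebraMap.2 this

open AlgebraicGeometry CategoryTheory Limits in
/-- Let f : X ⟶ S be a standard syntomic morphism of affine schemes. Then f is the base change of a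
morphism of finite type f₀ : X₀ ⟶ S₀ between affine schemes with S₀ of finite type over ℤ and f₀
standard syntomic. -/
theorem result {X S : Scheme.{u}} (f : X ⟶ S) [IsAffine X] [IsAffine S] (hf : Synt.IsStandardSyntomic f) :
    ∃ (X₀ S₀ : Scheme.{u}) (f₀ : X₀ ⟶ S₀) (g : S ⟶ S₀) (g' : X ⟶ X₀), IsAffine X₀ ∧ IsAffine S₀ ∧ IsPullback g' f f₀ g ∧
      Algebra.FiniteType ℤ Γ(S₀, ⊤) ∧ LocallyOfFiniteType f₀ ∧ Synt.IsStandardSyntomic f₀ := by
  obtain ⟨R, _, n, c, F, hF, e₁, e₂, he⟩ := hf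
  obtain ⟨R₀, F₀, hft, hmap, hgci⟩ := Groth.Agent.S9148.result R n c F hF
  have hFeq : Groth.Agent.CILib.mapF R F₀ = F := funext hmap
  subst hFeq
  exact of_model f (R₀ := R₀) F₀ hft hgci e₁ e₂ he

end Groth.Agent.S9736
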