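import Groth.Statements.S9742
import Groth.Agent.FlatnLib.Ops
-- import your own Groth.Agent.* helpers here

set_option autoImplicit false
universe u
open Flatn

namespace Groth.Agent.S9742

open AlgebraicGeometry CategoryTheory Limits in
/-- Given a morphism f : X ⟶ S that is locally of finite type and a quasi-coherent O_X-module F, the
module F is relatively finitely presented over S (the defining condition on some affine open covers)
if and only if, for every affine open V of S and every affine open U of X contained in the preimage
of V, the sections F(U) are finitely presented relative to Γ(V) through the induced ring map. The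
published statement also asserts that, under these conditions, the restriction of F to any open of X
mapping into an open V of S is of finite presentation relative to V; this row states only the
equivalence. -/
theorem result {X S : Scheme.{u}} (f : X ⟶ S) [LocallyOfFiniteType f] (F : X.Modules) [Coh.IsQCoh F] :
    Flatn.IsRelFP f F ↔
      ∀ (U : X.affineOpens) (V : S.affineOpens) (h : (U : X.Opens) ≤ f ⁻¹ᵁ (V : S.Opens)), Flatn.RelFPOn f F U V h := by
  refine ⟨fun hF U V h => FlatnLib.on_of_isRelFP f F hF U.2 V.2 h, fun H => ?_⟩
  exact FlatnLib.isRelFP_of_forall f F fun U V h hU hV => H ⟨U, hU⟩ ⟨V, hV⟩ h

end Groth.Agent.S9742
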