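import Groth.Statements.S9750
import Groth.Agent.ConormalLib.Exist
import Groth.Agent.FEtHom.Affine
import Groth.Agent.ConormalLib.Chart

set_option autoImplicit false
universe u
open FlatMor

namespace Groth.Agent.S9750

open AlgebraicGeometry CategoryTheory Limits

set_option backward.isDefEq.respectTransparency false

theorem formallyUnramified_of_isFormallyEtaleHom {X S : Scheme.{u}} {f : X ⟶ S}
    (hf : MoreMor.IsFormallyEtaleHom f) : FormallyUnramified f := by
  rw [HasRingHomProperty.iff_appLE (P := @FormallyUnramified)]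
  intro V U h
  have he := Groth.Agent.FEtHom.appLE_formallyEtale hf U.2 V.2 h
  algebraize [(f.appLE V.1 U.1 h).hom]
  exact (inferInstance : Algebra.FormallyUnramified Γ(S, V.1) Γ(X, U.1))

theorem isFirstOrderThickening_id (X : Scheme.{u}) : MoreMor.IsFirstOrderThickening (𝟙 X) := by
  refine ⟨⟨inferInstance, ⟨fun x => ⟨x, rfl⟩⟩⟩, ?_⟩
  rw [Scheme.Hom.ker_eq_bot_of_isIso]
  refine Scheme.IdealSheafData.ext (funext fun U => ?_)
  simp [Scheme.IdealSheafData.ideal_mul]

theorem isUnivThickening_id_of_isFormallyEtaleHom {X S : Scheme.{u}} {f : X ⟶ S}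
    (hf : MoreMor.IsFormallyEtaleHom f) : OmegaSh.IsUnivThickening f (𝟙 X) f := by
  refine Groth.Agent.ConormalLib.isUnivThickening_of_spec (isFirstOrderThickening_id X)
    (Category.id_comp f) fun A _ I hI a b w => ?_
  simpa only [Category.comp_id] using hf A I hI a b w

theorem isFormallyEtaleHom_of_isUnivThickening {X X' S : Scheme.{u}} {f : X ⟶ S} {i : X ⟶ X'}
    {h' : X' ⟶ S} [IsIso i] (hu : OmegaSh.IsUnivThickening f i h') :
    MoreMor.IsFormallyEtaleHom f := by
  intro A _ I hI a b w
  obtain ⟨l, ⟨h1, h2⟩, hl⟩ := hu.2.2 _ _ (Spec.map (CommRingCat.ofHom (Ideal.Quotient.mk I))) b a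
    (Groth.Agent.ConormalLib.isFirstOrderThickening_spec A I hI) w
  refine ⟨l ≫ inv i, ⟨?_, ?_⟩, fun m ⟨m1, m2⟩ => ?_⟩
  · rw [← Category.assoc, h1, Category.assoc, IsIso.hom_inv_id, Category.comp_id]
  · rw [Category.assoc, show inv i ≫ f = h' by rw [IsIso.inv_comp_eq, hu.2.1], h2]
  · rw [← hl (m ≫ i) ⟨by rw [← Category.assoc, m1], by rw [Category.assoc, hu.2.1, m2]⟩,
      Category.assoc, IsIso.hom_inv_id, Category.comp_id]

theorem isIso_of_isUnivThickening {X X' S : Scheme.{u}} {f : X ⟶ S} {i : X ⟶ X'} {h' : X' ⟶ S}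
    (hu : OmegaSh.IsUnivThickening f i h') (hf : OmegaSh.IsUnivThickening f (𝟙 X) f) : IsIso i := by
  obtain ⟨r, ⟨hr1, hr2⟩, -⟩ := hf.2.2 X X' i h' (𝟙 X) hu.1 (by rw [Category.id_comp, hu.2.1])
  rw [Category.id_comp] at hr1
  obtain ⟨l, -, hl⟩ := hu.2.2 X X' i h' (𝟙 X) hu.1 (by rw [Category.id_comp, hu.2.1])
  have e1 := hl (r ≫ i) ⟨by rw [← Category.assoc, hr1], by rw [Category.assoc, hu.2.1, hr2]⟩
  have e2 := hl (𝟙 X') ⟨by simp, by simp⟩
  exact ⟨r, hr1, e1.trans e2.symm⟩

theorem isZero_conormal_of_isIso {X X' : Scheme.{u}} (i : X ⟶ X') [IsIso i] :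
    IsZero (Omega.conormal i) := by
  refine (Scheme.Modules.pullback i).map_isZero ((IsZero.iff_id_eq_zero _).2 ?_)
  apply Scheme.Modules.hom_ext
  intro U
  ext m
  apply Groth.Agent.OmegaAffLib.idealSect_injective i.ker U
  have h0 := Groth.Agent.ConormalLib.app_idealSect i U m
  have hinj : Function.Injective (i.app U) := (ConcreteCategory.bijective_of_isIso (i.app U)).1
  have hm : OmegaSh.idealSect i.ker U m = 0 := hinj (h0.trans (map_zero _).symm)
  exact hm.trans (map_zero _).symm

theorem isIso_of_isZero_conormal {X X' : Scheme.{u}} (i : X ⟶ X')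
    (hi : MoreMor.IsFirstOrderThickening i) (hz : IsZero (Omega.conormal i)) : IsIso i := by
  haveI := hi.1.1
  rw [IsClosedImmersion.isIso_iff_ker_eq_bot]
  refine Scheme.IdealSheafData.ext (funext fun U => ?_)
  have hU : IsAffineOpen U.1 := U.2
  obtain ⟨hW, hs⟩ := Groth.Agent.ConormalLib.chart_of_le i hU
    (Groth.Agent.ConormalLib.le_coborderRange i U.1)
  obtain ⟨-, h2⟩ := Groth.Agent.ConormalLib.cls_surjective_and_eq_zero_iff i hU hW hs
  have hsq : i.ker.ideal U * i.ker.ideal U = ⊥ := by
    have := congr(($(hi.2)).ideal U)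
    simpa [Scheme.IdealSheafData.ideal_mul] using this
  rw [Scheme.Hom.ker_apply] at hsq ⊢
  refine (eq_bot_iff.2 fun x hx => ?_).trans (by simp)
  obtain ⟨m, rfl⟩ := (Groth.Agent.ConormalLib.mem_range_iff i x).2 hx
  rw [← hsq]
  refine (h2 m).1 ?_
  have : ∀ y : Γ(Omega.conormal i, i ⁻¹ᵁ U.1), y = 0 := fun y => by
    have e : (𝟙 (Omega.conormal i)) = 0 := hz.eq_of_src _ _
    exact congr(($e).app (i ⁻¹ᵁ U.1) y)
  exact this _

open AlgebraicGeometry CategoryTheory Limits in
/-- (1) ⇔ (2) ⇔ (3): a morphism f : X ⟶ S is formally étale (unique infinitesimal lifting against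
square-zero thickenings of affine schemes) if and only if f is formally unramified and X, through
the identity and f, is its own universal square-zero (first order) thickening relative to f; and,
for f formally unramified with universal first order thickening data (i : X ⟶ X', h' : X' ⟶ S), f is
formally étale if and only if the conormal sheaf of i (the conormal sheaf of f) is zero. The
published statement also lists a fourth equivalent condition, the vanishing of both the sheaf of
differentials and the conormal sheaf; this row omits it. -/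
theorem result {X S : Scheme.{u}} (f : X ⟶ S) :
    (MoreMor.IsFormallyEtaleHom f ↔ FormallyUnramified f ∧ OmegaSh.IsUnivThickening f (𝟙 X) f) ∧
    (∀ {X' : Scheme.{u}} (i : X ⟶ X') (h' : X' ⟶ S) [QuasiCompact i], FormallyUnramified f →
      OmegaSh.IsUnivThickening f i h' → (MoreMor.IsFormallyEtaleHom f ↔ IsZero (Omega.conormal i))) := by
  refine ⟨⟨fun hf => ⟨formallyUnramified_of_isFormallyEtaleHom hf,
    isUnivThickening_id_of_isFormallyEtaleHom hf⟩, fun h => isFormallyEtaleHom_of_isUnivThickening h.2⟩,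
    @fun X' i h' _ _ hu => ⟨fun hf => ?_, fun hz => ?_⟩⟩
  · haveI := isIso_of_isUnivThickening hu (isUnivThickening_id_of_isFormallyEtaleHom hf)
    exact isZero_conormal_of_isIso i
  · haveI := isIso_of_isZero_conormal i hu.1 hz
    exact isFormallyEtaleHom_of_isUnivThickening hu

end Groth.Agent.S9750
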