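import Groth.Statements.S9756
import Groth.Agent.RegSeqSlice.Scheme
import Groth.Agent.Depth.Basic
import Groth.Agent.FlatLocus.FibreStalk

set_option autoImplicit false
universe u
open FlatMor

namespace Groth.Agent.S9756

open AlgebraicGeometry CategoryTheory Limits in
/-- Let f : X ⟶ S be locally of finite presentation and flat at a point x, and assume the local ring of
the fibre X_{f x} at x has depth at least 1. Then there are an affine open U ∋ x and a
nonzerodivisor h' of Γ(X, U) vanishing at x such that the closed subscheme V(h') of U, an effective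
Cartier divisor through x, is flat and locally of finite presentation over S. The published
statement concludes that V(h') ⟶ S is of finite presentation; this row concludes only that it is
flat and locally of finite presentation, which is what the published argument (slicing by a lift of
a fibrewise nonzerodivisor) yields, and which is equivalent when S is quasi-separated, V(h') being
affine. -/
theorem result {X S : Scheme.{u}} (f : X ⟶ S) [LocallyOfFinitePresentation f] (x : X)
    (hflat : (f.stalkMap x).hom.Flat)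
    (hdepth : 1 ≤ LocCoh.depth ↑((f.fiber (f x)).presheaf.stalk (f.asFiber x)) ↑((f.fiber (f x)).presheaf.stalk (f.asFiber x))) :
    ∃ (U : X.Opens) (hU : IsAffineOpen U) (hx : x ∈ U) (h' : Γ(X, U)), h' ∈ nonZeroDivisors Γ(X, U) ∧
      X.presheaf.germ U x hx h' ∈ IsLocalRing.maximalIdeal ↑(X.presheaf.stalk x) ∧
      Flat (Spec.map (CommRingCat.ofHom (Ideal.Quotient.mk (Ideal.span {h'}))) ≫ hU.fromSpec ≫ f) ∧
      LocallyOfFinitePresentation (Spec.map (CommRingCat.ofHom (Ideal.Quotient.mk (Ideal.span {h'}))) ≫ hU.fromSpec ≫ f) := by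
  haveI : LocallyOfFiniteType (f.fiberToSpecResidueField (f x)) := MorphismProperty.pullback_snd _ _ inferInstance
  haveI : IsLocallyNoetherian (f.fiber (f x)) := LocallyOfFiniteType.isLocallyNoetherian (f.fiberToSpecResidueField (f x))
  have hgen : ∃ h : X.presheaf.stalk x, h ∈ IsLocalRing.maximalIdeal (X.presheaf.stalk x) ∧
      IsSMulRegular (↑(X.presheaf.stalk x) ⧸ Ideal.map (f.stalkMap x).hom (IsLocalRing.maximalIdeal ↑(S.presheaf.stalk (f x))))
        (Ideal.Quotient.mk (Ideal.map (f.stalkMap x).hom (IsLocalRing.maximalIdeal ↑(S.presheaf.stalk (f x)))) h) := by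
    suffices H : ∃ h : X.presheaf.stalk (f.fiberι (f x) (f.asFiber x)), h ∈ IsLocalRing.maximalIdeal _ ∧
        IsSMulRegular (↑(X.presheaf.stalk (f.fiberι (f x) (f.asFiber x))) ⧸ Ideal.map (f.stalkMap (f.fiberι (f x) (f.asFiber x))).hom
          (IsLocalRing.maximalIdeal ↑(S.presheaf.stalk (f (f.fiberι (f x) (f.asFiber x))))))
          (Ideal.Quotient.mk (Ideal.map (f.stalkMap (f.fiberι (f x) (f.asFiber x))).hom (IsLocalRing.maximalIdeal ↑(S.presheaf.stalk (f (f.fiberι (f x) (f.asFiber x)))))) h) by
      have key : ∀ x' : X, x' = x → (∃ h : X.presheaf.stalk x', h ∈ IsLocalRing.maximalIdeal _ ∧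
        IsSMulRegular (↑(X.presheaf.stalk x') ⧸ Ideal.map (f.stalkMap x').hom (IsLocalRing.maximalIdeal ↑(S.presheaf.stalk (f x'))))
          (Ideal.Quotient.mk (Ideal.map (f.stalkMap x').hom (IsLocalRing.maximalIdeal ↑(S.presheaf.stalk (f x')))) h)) → ∃ h : X.presheaf.stalk x, h ∈ IsLocalRing.maximalIdeal _ ∧
        IsSMulRegular (↑(X.presheaf.stalk x) ⧸ Ideal.map (f.stalkMap x).hom (IsLocalRing.maximalIdeal ↑(S.presheaf.stalk (f x))))
          (Ideal.Quotient.mk (Ideal.map (f.stalkMap x).hom (IsLocalRing.maximalIdeal ↑(S.presheaf.stalk (f x)))) h) := by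
        rintro x' rfl h; exact h
      exact key _ (f.fiberι_asFiber x) H
    have hI : IsLocalRing.maximalIdeal ↑((f.fiber (f x)).presheaf.stalk (f.asFiber x)) • (⊤ : Submodule ↑((f.fiber (f x)).presheaf.stalk (f.asFiber x)) ↑((f.fiber (f x)).presheaf.stalk (f.asFiber x))) ≠ ⊤ := by
      rw [smul_eq_mul, Ideal.mul_top]; exact (IsLocalRing.maximalIdeal.isMaximal _).ne_top
    obtain ⟨rs, hl, hm, hw⟩ := (Groth.Agent.Depth.le_idealDepth_iff hI 1).1 (by exact_mod_cast hdepth)
    obtain ⟨r, rfl⟩ := List.length_eq_one_iff.1 hl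
    have hs := Groth.Agent.FlatLocus.fiberι_stalkMap_surjective f (f x) (f.asFiber x)
    obtain ⟨h, rfl⟩ := hs r
    refine ⟨h, (IsLocalRing.mem_maximalIdeal _).2 fun hu => (IsLocalRing.mem_maximalIdeal _).1 (hm _ (List.mem_singleton_self _)) (hu.map _), ?_⟩
    let e := (Ideal.quotEquivOfEq (Groth.Agent.FlatLocus.ker_fiberι_stalkMap f (f x) (f.asFiber x)).symm).trans
      (RingHom.quotientKerEquivOfSurjective hs)
    intro a c hac
    refine e.injective ((RingTheory.Sequence.isWeaklyRegular_singleton_iff _ _).1 hw ?_)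
    simp only [smul_eq_mul] at hac ⊢
    have h2 := congrArg e hac
    rw [map_mul, map_mul] at h2
    exact h2
  obtain ⟨h, hm, hr⟩ := hgen
  obtain ⟨U, hU, hx, b, hb, hwr, -, -, h1, h2, -⟩ := Groth.Agent.RegSeqSlice.exists_regular_slice f x hflat (fun _ : Fin 1 => h) (fun _ => hm) (by
    simp only [List.ofFn_succ, List.ofFn_zero]
    rw [RingTheory.Sequence.isWeaklyRegular_singleton_iff]
    exact hr)
  have hI : Ideal.ofList (List.ofFn b) = Ideal.span {b 0} := by
    simp [List.ofFn_succ, Ideal.ofList]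
  rw [hI] at h1 h2
  refine ⟨U, hU, hx, b 0, ?_, by rw [hb]; exact hm, h1, h2⟩
  simp only [List.ofFn_succ, List.ofFn_zero, RingTheory.Sequence.isWeaklyRegular_singleton_iff] at hwr
  exact mem_nonZeroDivisors_iff_right.2 fun z hz => hwr (by simp only [smul_eq_mul, mul_zero]; rw [mul_comm, hz])

end Groth.Agent.S9756
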