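import Groth.Statements.S9757
import Groth.Agent.CMFlatLib.Locus

set_option autoImplicit false
universe u
open FlatMor

namespace Groth.Agent.S9757

open AlgebraicGeometry CategoryTheory Limits in
/-- Suppose the morphism f : X ⟶ S is flat and locally of finite presentation. Then X contains open
subsets U_d, indexed by d ∈ ℕ, such that for every s ∈ S the union of all U_d intersects the fibre
X_s in a dense subset of X_s, and each U_d ⟶ S is of relative dimension d. Because U_d is open in X,
this is the same as requiring that at every point x of U_d the fibre of f containing x has local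
dimension d at x; that pointwise form is the one this row uses. -/
theorem result {X S : Scheme.{u}} (f : X ⟶ S) [Flat f] [LocallyOfFinitePresentation f] :
    ∃ U : ℕ → X.Opens, (∀ s : S, Dense ((f.fiberι s) ⁻¹' ((⨆ d, U d : X.Opens) : Set ↑X))) ∧
      ∀ (d : ℕ) (x : ↑X), x ∈ U d → FlatMor.fibreDimAt f x = d := by
  classical
  have hopen : ∀ d : ℕ, IsOpen {x : X | MoreMor.IsCMAt f x ∧ FlatMor.fibreDimAt f x = d} := fun d =>
    isOpen_iff_forall_mem_open.2 fun x hx => by
      obtain ⟨V, hxV, hV⟩ := CMFlatLib.exists_nhd_isCMAt f x d hx.1 hx.2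
      exact ⟨V, fun y hy => hV y hy, V.isOpen, hxV⟩
  refine ⟨fun d => ⟨_, hopen d⟩, fun s => (CMFlatLib.dense_isCMAt f s).mono fun z hz => ?_, fun d x hx => hx.2⟩
  obtain ⟨n, hn⟩ := CMFlatLib.exists_nat_fibreDimAt f (f.fiberι s z)
  exact TopologicalSpace.Opens.mem_iSup.2 ⟨n, hz, hn⟩

end Groth.Agent.S9757
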