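import Groth.Statements.S9762
import Groth.Agent.EtaleSplit.SplitClosed
-- import your own Groth.Agent.* helpers here

set_option autoImplicit false
set_option backward.isDefEq.respectTransparency false
universe u
open FlatMor

namespace Groth.Agent.S9762

open AlgebraicGeometry CategoryTheory Limits in
/-- For f : X ⟶ S separated and locally of finite type, and a point s of S such that only finitely many
points of the fibre over s are isolated, some elementary étale neighbourhood (U, u) of (S, s) admits
an open and closed V ⊆ U ×_S X, finite over U, such that no point of the fibre over u lying outside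
V is isolated in that fibre. The published statement also asserts that the complement of V has empty
fibre over u when the fibre over s is finite; this row omits that clause. -/
theorem result {X S : Scheme.{u}} (f : X ⟶ S) [LocallyOfFiniteType f] [IsSeparated f] (s : S)
    (hfin : {x : ↑(f.fiber s) | IsOpen ({x} : Set ↑(f.fiber s))}.Finite) :
    ∃ (U : Scheme.{u}) (g : U ⟶ S) (u : U), Hens2.IsEtaleNbhd g u s ∧
      ∃ V : (pullback f g).Opens, IsClopen (V : Set ↑(pullback f g)) ∧ IsFinite (V.ι ≫ pullback.snd f g) ∧
        ∀ w : ↑((pullback.snd f g).fiber u), (pullback.snd f g).fiberι u w ∉ V →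
          ¬ IsOpen ({w} : Set ↑((pullback.snd f g).fiber u)) := by
  let I := {x : ↑(f.fiber s) | IsOpen ({x} : Set ↑(f.fiber s))}
  haveI : Finite I := hfin
  let e := Finite.equivFin I
  let x : Fin (Nat.card I) → X := fun i => f.fiberι s (e.symm i).1
  obtain ⟨U, g, u, hnb, V, v, hcl, hVf, hv⟩ := Groth.Agent.EtaleSplit.exists_clopen_finite f s x
    (fun i => (Set.ext_iff.1 (f.range_fiberι s) _).1 ⟨_, rfl⟩)
    (fun i => (Groth.Agent.EtaleSplit.isOpen_singleton_iff_quasiFiniteAt f s _).1 (e.symm i).2)
  refine ⟨U, g, u, hnb, V, hcl, hVf, fun w hw hopen => hw ?_⟩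
  obtain ⟨hget, hbase, hbij⟩ := hnb
  subst hbase
  have H := isPullback_fiberToSpecResidueField_of_isPullback (IsPullback.of_hasPullback f g) u
  haveI : IsIso (g.residueFieldMap u) := (ConcreteCategory.isIso_iff_bijective _).mpr hbij
  let μ : (pullback.snd f g).fiber u ⟶ f.fiber (g u) := pullback.map (pullback.snd f g) (U.fromSpecResidueField u)
    f (S.fromSpecResidueField (g u)) (pullback.fst f g) (Spec.map (g.residueFieldMap u)) g
    pullback.condition.symm (by simp)
  haveI : IsIso μ := H.isIso_fst_of_isIso
  have hμ : f.fiberι (g u) (μ w) = pullback.fst f g ((pullback.snd f g).fiberι u w) :=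
    congrArg (fun t : (pullback.snd f g).fiber u ⟶ X => t w) (pullback.lift_fst _ _ _)
  have hI : μ w ∈ I := by
    show IsOpen ({μ w} : Set ↑(f.fiber (g u)))
    rw [← Set.image_singleton]
    exact μ.homeomorph.isOpenMap _ hopen
  obtain ⟨i, hi⟩ : ∃ i, e.symm i = ⟨μ w, hI⟩ := ⟨e ⟨μ w, hI⟩, e.symm_apply_apply _⟩
  obtain ⟨hvV, -, -, -, huniq⟩ := hv i
  rw [huniq _ ((Set.ext_iff.1 ((pullback.snd f g).range_fiberι u) _).1 ⟨w, rfl⟩) (by
    rw [← hμ]
    show _ = f.fiberι (g u) (e.symm i).1
    rw [hi])]
  exact hvV

end Groth.Agent.S9762
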