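import Groth.Statements.S9769
import Groth.Agent.PullbackMod.FibreLocus

set_option autoImplicit false
set_option linter.style.haveILetI false
universe u
open FlatMor

namespace Groth.Agent.S9769

open AlgebraicGeometry CategoryTheory Limits in
/-- Let f : X ⟶ S be locally of finite presentation and F a finitely presented O_X-module which is flat
over S. Then the formation of the locus of points of X near which F is free (equivalently, for
finitely presented F, where the stalk of F is a free module) commutes with arbitrary base change:
for a cartesian square with g' : X' ⟶ X over S' ⟶ S, the free locus of (g')^*F is the preimage of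
that of F. The published statement also asserts that this locus is open; this row states only that
its formation commutes with base change. -/
theorem result {X S X' S' : Scheme.{u}} (f : X ⟶ S) [LocallyOfFinitePresentation f]
    (F : X.Modules) (hF : CohB1.IsFP F) (hfl : FlatMod.IsFlatOver f F)
    (g : S' ⟶ S) (f' : X' ⟶ S') (g' : X' ⟶ X) (hc : IsPullback g' f' f g) :
    {x' : ↑X' | Module.Free ↑(X'.presheaf.stalk x') ↑(((Scheme.Modules.pullback g').obj F).presheaf.stalk x')} =
      g' ⁻¹' {x : ↑X | Module.Free ↑(X.presheaf.stalk x) ↑(F.presheaf.stalk x)} := by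
  haveI : Coh.IsQCoh F := by
    obtain ⟨σ, -⟩ := hF.exists_quasicoherentData
    exact { nonempty_quasicoherentData := ⟨σ⟩ }
  ext x'
  constructor
  · intro h
    haveI : LocallyOfFinitePresentation (𝟙 X ≫ f) := by rw [Category.id_comp]; infer_instance
    have h1 : FlatMod.IsFlatOverAt (𝟙 X ≫ f) F (g' x') := by rw [Category.id_comp]; exact hfl _
    have hX : IsPullback g' (𝟙 X' ≫ f') (𝟙 X ≫ f) g := by
      rw [Category.id_comp, Category.id_comp]; exact hc
    have h2 : FlatMod.IsFlatOverAt (𝟙 X') ((Scheme.Modules.pullback g').obj F) x' :=
      (PullbackMod.isFlatOverAt_id_iff _ _).mpr (by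
        haveI : Module.Free ↑(X'.presheaf.stalk x')
          ↑(((Scheme.Modules.pullback g').obj F).presheaf.stalk x') := h
        exact Module.Flat.of_free)
    have h3 : FlatMod.IsFlatAt F (g' x') := (PullbackMod.isFlatOverAt_id_iff _ _).mp
      (PullbackMod.isFlatOverAt_of_baseChange_of_flat (𝟙 X) f F hF hc hX (by simp) x' h1 h2)
    haveI := Groth.Agent.FlatLocus.finite_stalk F hF (g' x')
    haveI : Module.Flat ↑(X.presheaf.stalk (g' x')) ↑(F.presheaf.stalk (g' x')) := h3
    exact Module.free_of_flat_of_isLocalRing
  · intro h
    letI := (g'.stalkMap x').hom.toAlgebra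
    obtain ⟨φ, -⟩ := PullbackMod.exists_pullback_stalk_equiv g' F x'
    haveI : Module.Free ↑(X.presheaf.stalk (g' x')) ↑(F.presheaf.stalk (g' x')) := h
    exact Module.Free.of_equiv φ

end Groth.Agent.S9769
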