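import Groth.Statements.S9770
import Groth.Agent.NilFlatLib.Descend
import Groth.Agent.AffLim.DescendQF
-- import your own Groth.Agent.* helpers here

set_option autoImplicit false
universe u
open CategoryTheory AlgebraicGeometry
open FlatMor

namespace Groth.Agent.S9770

open CategoryTheory.Limits

/-- Let S = lim S_i be a cofiltered limit of schemes with affine transition morphisms, i₀ an index with
S_{i₀} quasi-compact and quasi-separated, and f₀ : X₀ ⟶ Y₀ a morphism of schemes over S_{i₀} with X₀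
and Y₀ quasi-compact and quasi-separated and f₀ locally of finite presentation. Write f : X ⟶ Y for
the pullback of f₀ along S ⟶ S_{i₀} (all base changes given by pullback squares). Assuming f is
universally open and locally quasi-finite (with locally of finite type, as the book's notion
includes), there is a stage S_i over S_{i₀} where the pulled-back morphism f_i : X_i ⟶ Y_i already
has both properties. -/
theorem result {I : Type u} [SmallCategory I] [IsCofiltered I]
    (D : I ⥤ Scheme.{u}) (c : Limits.Cone D) (hc : Limits.IsLimit c)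
    [∀ (i j : I) (φ : i ⟶ j), IsAffineHom (D.map φ)] (i₀ : I) [CompactSpace (D.obj i₀)] [QuasiSeparatedSpace (D.obj i₀)]
    {X₀ Y₀ : Scheme.{u}} (f₀ : X₀ ⟶ Y₀) (g₀ : Y₀ ⟶ D.obj i₀) [CompactSpace X₀] [QuasiSeparatedSpace X₀]
    [CompactSpace Y₀] [QuasiSeparatedSpace Y₀] [LocallyOfFinitePresentation f₀]
    {X Y : Scheme.{u}} (f : X ⟶ Y) (g : Y ⟶ c.pt) (qY : Y ⟶ Y₀) (qX : X ⟶ X₀)
    (hY : IsPullback qY g g₀ (c.π.app i₀)) (hX : IsPullback qX f f₀ qY)
    [LocallyQuasiFinite f] [LocallyOfFiniteType f] [UniversallyOpen f] :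
    ∃ (i : I) (φ : i ⟶ i₀) (Xi Yi : Scheme.{u}) (fi : Xi ⟶ Yi) (gi : Yi ⟶ D.obj i) (pY : Yi ⟶ Y₀) (pX : Xi ⟶ X₀),
      IsPullback pY gi g₀ (D.map φ) ∧ IsPullback pX fi f₀ pY ∧ LocallyQuasiFinite fi ∧ LocallyOfFiniteType fi ∧ UniversallyOpen fi := by
  haveI : QuasiCompact f₀ := quasiCompact_of_compactSpace f₀
  haveI : QuasiSeparated f₀ := inferInstance
  have h1 : UniversallyOpen (pullback.snd f₀ qY) :=
    (MorphismProperty.cancel_left_of_respectsIso (P := @UniversallyOpen) hX.isoPullback.hom _).1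
      (by rw [hX.isoPullback_hom_snd]; infer_instance)
  obtain ⟨u, hu⟩ := Groth.Agent.NilFlatLib.exists_stage_of_limit_universallyOpen D c hc i₀ f₀ g₀
    (Groth.Agent.NilFlatLib.universallyOpen_of_map f₀ _ qY hY.isoPullback.inv hY.isoPullback_inv_fst h1)
  obtain ⟨l, hl⟩ := Groth.Agent.AffLim.exists_locallyQuasiFinite_baseChange D c hc i₀ f₀ g₀ hY hX
  let k : Over i₀ := IsCofiltered.min u l
  have map_to : ∀ (o : Over i₀) (a : k ⟶ o),
      ∃ m : pullback g₀ (D.map k.hom) ⟶ pullback g₀ (D.map o.hom),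
        m ≫ pullback.fst g₀ (D.map o.hom) = pullback.fst g₀ (D.map k.hom) := fun o a =>
    ⟨(Groth.Agent.AffLim.baseChange D i₀ g₀).map a, (pullback.lift_fst _ _ _).trans (Category.comp_id _)⟩
  obtain ⟨mu, hmu⟩ := map_to u (IsCofiltered.minToLeft u l)
  obtain ⟨ml, hml⟩ := map_to l (IsCofiltered.minToRight u l)
  haveI hko : UniversallyOpen (pullback.snd f₀ (pullback.fst g₀ (D.map k.hom))) :=
    Groth.Agent.NilFlatLib.universallyOpen_of_map f₀ _ _ mu hmu hu
  have hq : LocallyQuasiFinite (pullback.snd f₀ (pullback.fst g₀ (D.map l.hom))) := by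
    have e := (Groth.Agent.AffLim.isPullback_baseChangeMap D i₀ f₀ g₀ l).isoPullback_inv_snd
    haveI := hl
    exact e ▸ MorphismProperty.RespectsIso.precomp @LocallyQuasiFinite _ _ hl
  haveI hkq : LocallyQuasiFinite (pullback.snd f₀ (pullback.fst g₀ (D.map k.hom))) :=
    MorphismProperty.of_isPullback (P := @LocallyQuasiFinite) (Groth.Agent.NilFlatLib.isPullback_bcMap f₀ ml hml) hq
  exact ⟨k.left, k.hom, _, _, _, _, _, _, IsPullback.of_hasPullback g₀ (D.map k.hom),
    IsPullback.of_hasPullback f₀ (pullback.fst g₀ (D.map k.hom)), hkq, inferInstance, hko⟩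

end Groth.Agent.S9770
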