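import Groth.Statements.S9773
import Groth.Agent.CILib.KoszulScheme
-- import your own Groth.Agent.* helpers here

set_option autoImplicit false
universe u
open FlatMor

namespace Groth.Agent.S9773

open AlgebraicGeometry CategoryTheory Limits in
/-- A regular immersion of schemes, and likewise a Koszul-regular immersion, is a local complete
intersection morphism (Koszul at every point). -/
theorem result {Z X : Scheme.{u}} (i : Z ⟶ X) (k : RegImm.Kind)
    (hk : k = RegImm.Kind.regular ∨ k = RegImm.Kind.koszul) (hi : RegImm.IsRegularImmersion k i) (z : Z) :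
    Synt.IsKoszulAt i z := by
  rcases hk with rfl | rfl
  · refine Groth.Agent.CILib.isKoszulAt_of_lciMorP i (Groth.Agent.CILib.lciMorP_of_isRegularImmersion i ⟨hi.1, fun w => ?_⟩) z
    obtain ⟨U, h1, h2, rs, hrs, hker⟩ := hi.2 w
    exact ⟨U, h1, h2, rs, Groth.Agent.CILib.isKoszulRegularSeq_of_isWeaklyRegular rs hrs.toIsWeaklyRegular, hker⟩
  · exact Groth.Agent.CILib.isKoszulAt_of_lciMorP i (Groth.Agent.CILib.lciMorP_of_isRegularImmersion i hi) z

end Groth.Agent.S9773
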