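import Groth.Statements.S9775
-- import your own Groth.Agent.* helpers here
import Groth.Agent.CancelLib.Mor
import Groth.Agent.PerfMorLib.Regular

set_option autoImplicit false
universe u
open FlatMor

namespace Groth.Agent.S9775

open AlgebraicGeometry CategoryTheory Limits in
/-- Let S be a locally Noetherian scheme, g : Y ⟶ S locally of finite type with Y regular (all local
rings regular), f : X ⟶ Y a morphism, and assume the composite f ≫ g is Koszul at every point of X
(a local complete intersection morphism). Then f is Koszul at every point of X, and g is Koszul at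
the point f x for each x ∈ X. -/
theorem result {X Y S : Scheme.{u}} (f : X ⟶ Y) (g : Y ⟶ S) [IsLocallyNoetherian S] [LocallyOfFiniteType g]
    (hY : Models.IsRegularScheme Y) (h : ∀ x : X, Synt.IsKoszulAt (f ≫ g) x) :
    (∀ x : X, Synt.IsKoszulAt f x) ∧ ∀ x : X, Synt.IsKoszulAt g (f x) := by
  haveI : IsLocallyNoetherian Y := LocallyOfFiniteType.isLocallyNoetherian g
  have hfg := CILib.lciMorP_of_forall_isKoszulAt _ h
  haveI : LocallyOfFiniteType (f ≫ g) := by
    rw [HasRingHomProperty.iff_appLE (P := @LocallyOfFiniteType)]
    exact fun W U e => ((CILib.lciMorP_iff _).1 hfg U W e).1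
  haveI : LocallyOfFiniteType f := locallyOfFiniteType_of_comp f g
  exact CancelLib.koszul_cancel f g (PerfMorLib.isPerfectMor_of_regular f hY) h

end Groth.Agent.S9775
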