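import Groth.Statements.S9776
import Mathlib
import Groth.Agent.OmegaUnivLib.Compat

set_option autoImplicit false
universe u
open OmegaSh

namespace Groth.Agent.S9776

open CategoryTheory CategoryTheory.Limits AlgebraicGeometry

theorem isBaseChange_map_of_etale (A A' B B' : Type u) [CommRing A] [CommRing A'] [CommRing B] [CommRing B']
    [Algebra A A'] [Algebra A B] [Algebra A B'] [Algebra B B'] [Algebra A' B']
    [IsScalarTower A B B'] [IsScalarTower A A' B'] [SMulCommClass A' B B']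
    [Algebra.FormallyEtale B B'] [Algebra.FormallyUnramified A A'] :
    IsBaseChange B' (KaehlerDifferential.map A A' B B') := by
  let q : Ω[B'⁄A] →ₗ[B'] Ω[B'⁄A'] := KaehlerDifferential.map A A' B' B'
  have hq : Function.Bijective q := by
    refine ⟨(injective_iff_map_eq_zero q).mpr fun x hx => ?_, KaehlerDifferential.map_surjective A A' B'⟩
    obtain ⟨y, rfl⟩ := (KaehlerDifferential.exact_mapBaseChange_map A A' B' x).mp hx
    rw [Subsingleton.elim y 0, map_zero]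
  let E := (KaehlerDifferential.tensorKaehlerEquivOfFormallyEtale A B B').trans (LinearEquiv.ofBijective q hq)
  refine IsBaseChange.of_equiv E fun x => ?_
  have hx : x ∈ Submodule.span B (Set.range (KaehlerDifferential.D A B)) := by
    rw [KaehlerDifferential.span_range_derivation]; trivial
  induction hx using Submodule.span_induction with
  | mem y hy =>
    obtain ⟨b, rfl⟩ := hy
    show q (KaehlerDifferential.tensorKaehlerEquivOfFormallyEtale A B B' _) = _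
    rw [KaehlerDifferential.tensorKaehlerEquivOfFormallyEtale_apply, KaehlerDifferential.mapBaseChange_tmul,
      one_smul, KaehlerDifferential.map_D, KaehlerDifferential.map_D]
    rw [KaehlerDifferential.map_D, Algebra.algebraMap_self_apply]
  | zero => simp only [TensorProduct.tmul_zero, map_zero]
  | add y z _ _ hy hz => simp only [TensorProduct.tmul_add, map_add, hy, hz]
  | smul b y _ hy =>
    rw [TensorProduct.tmul_smul, ← algebraMap_smul B' b (1 ⊗ₜ[B] y), map_smul, hy, algebraMap_smul, map_smul]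


open AlgebraicGeometry CategoryTheory Limits in
/-- Consider a commutative square of schemes with vertical maps p₁ : X₁ ⟶ S₁, p₂ : X₂ ⟶ S₂ and
horizontal maps f : X₂ ⟶ X₁, g : S₂ ⟶ S₁, where f and g are étale. Let d₁ : O_{X₁} → Ω₁ and d₂ :
O_{X₂} → Ω₂ be universal derivations over S₁ and S₂ (sheaves of differentials) and c : f^*Ω₁ ⟶ Ω₂
the O_{X₂}-linear map compatible with d₁ and d₂ (the canonical map c_f). Then c is an isomorphism. -/
theorem result {X₁ S₁ X₂ S₂ : Scheme.{u}} (p₁ : X₁ ⟶ S₁) (p₂ : X₂ ⟶ S₂) (f : X₂ ⟶ X₁) (g : S₂ ⟶ S₁)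
    [Etale f] [Etale g] (hsq : f ≫ p₁ = p₂ ≫ g)
    (Ω₁ : X₁.Modules) (d₁ : OmegaSh.Der p₁ Ω₁) (hd₁ : OmegaSh.IsUniversal d₁)
    (Ω₂ : X₂.Modules) (d₂ : OmegaSh.Der p₂ Ω₂) (hd₂ : OmegaSh.IsUniversal d₂)
    (c : (Scheme.Modules.pullback f).obj Ω₁ ⟶ Ω₂) (hc : OmegaSh.IsDiffCompat f d₁ d₂ c) : IsIso c := by
  haveI := Groth.Agent.OmegaUnivLib.isQCoh_of_universal hd₁
  haveI := Groth.Agent.OmegaUnivLib.isQCoh_of_universal hd₂
  haveI := Groth.Agent.PullbackMod.isQCoh_pullback f Ω₁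
  refine Groth.Agent.OmegaUnivLib.isIso_of_bijective_cover c fun x => ?_
  obtain ⟨_, ⟨V₁, hV₁, rfl⟩, hxV₁, -⟩ :=
    S₁.isBasis_affineOpens.exists_subset_of_mem_open (Set.mem_univ (g (p₂ x))) isOpen_univ
  obtain ⟨_, ⟨V₂, hV₂, rfl⟩, hxV₂, hV⟩ :=
    S₂.isBasis_affineOpens.exists_subset_of_mem_open (a := p₂ x) hxV₁ (g ⁻¹ᵁ V₁).2
  have hx₁ : f x ∈ p₁ ⁻¹ᵁ V₁ := by
    show p₁ (f x) ∈ V₁
    rw [← Scheme.Hom.comp_apply, hsq, Scheme.Hom.comp_apply]
    exact hxV₁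
  obtain ⟨_, ⟨W₁, hW₁, rfl⟩, hxW₁, hW⟩ :=
    X₁.isBasis_affineOpens.exists_subset_of_mem_open (a := f x) hx₁ (p₁ ⁻¹ᵁ V₁).2
  obtain ⟨_, ⟨W₂, hW₂, rfl⟩, hxW₂, hW'⟩ :=
    X₂.isBasis_affineOpens.exists_subset_of_mem_open (a := x)
      (show x ∈ f ⁻¹ᵁ W₁ ⊓ p₂ ⁻¹ᵁ V₂ from ⟨hxW₁, hxV₂⟩) (f ⁻¹ᵁ W₁ ⊓ p₂ ⁻¹ᵁ V₂).2
  refine ⟨W₂, hW₂, hxW₂, Groth.Agent.OmegaUnivLib.bijective_of_compat hsq hd₁ hd₂ c hc hV₁ hW₁ hV₂ hW₂
    hW hV (fun y hy => (hW' hy).1) (fun y hy => (hW' hy).2) ?_⟩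
  let A := Γ(S₁, V₁)
  let B := Γ(X₁, W₁)
  let A' := Γ(S₂, V₂)
  let B' := Γ(X₂, W₂)
  have eW : W₂ ≤ f ⁻¹ᵁ W₁ := fun y hy => (hW' hy).1
  have eV : W₂ ≤ p₂ ⁻¹ᵁ V₂ := fun y hy => (hW' hy).2
  letI : Algebra A B := (p₁.appLE V₁ W₁ hW).hom.toAlgebra
  letI : Algebra A A' := (g.appLE V₁ V₂ hV).hom.toAlgebra
  letI : Algebra B B' := (f.appLE W₁ W₂ eW).hom.toAlgebra
  letI : Algebra A' B' := (p₂.appLE V₂ W₂ eV).hom.toAlgebra
  letI : Algebra A B' := ((f.appLE W₁ W₂ eW).hom.comp (p₁.appLE V₁ W₁ hW).hom).toAlgebra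
  haveI : IsScalarTower A B B' := .of_algebraMap_eq fun _ => rfl
  haveI : IsScalarTower A A' B' := .of_algebraMap_eq' (by
      show ((p₁.appLE V₁ W₁ hW) ≫ f.appLE W₁ W₂ eW).hom = ((g.appLE V₁ V₂ hV) ≫ p₂.appLE V₂ W₂ eV).hom
      simp only [Scheme.Hom.appLE_comp_appLE, hsq])
  haveI : SMulCommClass A' B B' := ⟨fun a b c => by simp only [Algebra.smul_def]; ring⟩
  haveI : Algebra.Etale B B' := f.etale_appLE hW₁ hW₂ eW
  haveI : Algebra.Etale A A' := g.etale_appLE hV₁ hV₂ hV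
  exact isBaseChange_map_of_etale A A' B B'


end Groth.Agent.S9776
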