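import Groth.Statements.S9778
import Groth.Agent.EtaleSplit.Nbhd

set_option autoImplicit false
universe u
open FlatMor

namespace Groth.Agent.S9778

open AlgebraicGeometry CategoryTheory Limits in
/-- Let f : X ⟶ S be separated and locally of finite type, s a point of S and x_1, …, x_n pairwise
distinct points of X over s at which f is quasi-finite (isolated points of the fibre). Then there
are an étale morphism g : U ⟶ S with a point u over s and finitely many pairwise disjoint open and
closed subschemes V_{i,j} of X_U = X ×_S U, each finite over U and containing exactly one point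
v_{i,j} over u, with v_{i,j} mapping to x_i and κ(v_{i,j}) purely inseparable over κ(u), such that
every point of X_U over u mapping to some x_i lies in one of the V_{i,j} (so the open and closed
complement W of their union has no point over u mapping to any x_i). -/
theorem result {X S : Scheme.{u}} (f : X ⟶ S) [LocallyOfFiniteType f] [IsSeparated f] (s : S)
    {ι : Type} [Finite ι] (x : ι → ↑X) (hinj : Function.Injective x) (hs : ∀ i, f (x i) = s) (hx : ∀ i, f.QuasiFiniteAt (x i)) :
    ∃ (U : Scheme.{u}) (g : U ⟶ S) (u : U), Etale g ∧ g u = s ∧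
      ∃ (J : ι → Type) (_ : ∀ i, Finite (J i)) (V : ∀ i, J i → (pullback f g).Opens) (v : ∀ i, J i → ↑(pullback f g)),
        (∀ i j, IsClopen ((V i j : Set ↑(pullback f g)))) ∧
        (∀ i j i' j', ((V i j : Set ↑(pullback f g)) ∩ (V i' j')).Nonempty → i = i' ∧ HEq j j') ∧
        (∀ i j, v i j ∈ V i j ∧ IsFinite ((V i j).ι ≫ pullback.snd f g) ∧ pullback.snd f g (v i j) = u ∧
          (∀ w : ↑(pullback f g), w ∈ V i j → pullback.snd f g w = u → w = v i j) ∧
          (letI := ((pullback.snd f g).residueFieldMap (v i j)).hom.toAlgebra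
           IsPurelyInseparable ↑(U.residueField (pullback.snd f g (v i j))) ↑((pullback f g).residueField (v i j))) ∧
          pullback.fst f g (v i j) = x i) ∧
        (∀ (w : ↑(pullback f g)) (i : ι), pullback.snd f g w = u → pullback.fst f g w = x i → ∃ j, w ∈ V i j) := by
  let q := Groth.Agent.EtaleSplit.geomPt s
  have hq : Groth.Agent.EtaleSplit.pt q = s := Groth.Agent.EtaleSplit.pt_geomPt s
  obtain ⟨J, _, p, hpinj, hpx, hall⟩ := Groth.Agent.EtaleSplit.exists_enum f q x hinj
    (fun i => (hs i).trans hq.symm) hx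
  obtain ⟨T, g, qT, hqT, V, hg, hcl, hdis, hV⟩ := Groth.Agent.EtaleSplit.exists_split_separated f q p hpinj
    (fun a => by rw [hpx]; exact hx a.1)
  haveI := fun a => (hV a).1
  have hf := fun a => Groth.Agent.EtaleSplit.split_point_facts f g q qT hqT (p a) (V a) (hV a).2.1 (hV a).2.2
  refine ⟨T, g, Groth.Agent.EtaleSplit.pt qT, hg, ?_, J, inferInstance, fun i j => V ⟨i, j⟩,
    fun i j => Groth.Agent.EtaleSplit.pt (pullback.lift (p ⟨i, j⟩).1 qT ((p ⟨i, j⟩).2.trans hqT.symm)),
    fun i j => ⟨hcl ⟨i, j⟩, (V ⟨i, j⟩).2⟩, ?_,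
    fun i j => ⟨(hV ⟨i, j⟩).2.1, (hV ⟨i, j⟩).1, (hf ⟨i, j⟩).1, (hf ⟨i, j⟩).2.2.1,
      (hf ⟨i, j⟩).2.2.2.2, (hf ⟨i, j⟩).2.1.trans (hpx _)⟩, ?_⟩
  · rw [← Groth.Agent.EtaleSplit.pt_comp, hqT, hq]
  · intro i j i' j' h
    refine Sigma.ext_iff.mp (?_ : (⟨i, j⟩ : Σ i, J i) = ⟨i', j'⟩)
    by_contra hne
    obtain ⟨z, hz, hz'⟩ := h
    exact Set.disjoint_left.mp (hdis _ _ hne) hz hz'
  · intro w i hw hwx
    obtain ⟨r, hr, hwr⟩ := Groth.Agent.EtaleSplit.split_cover f g q qT hqT w hw (by rw [hwx]; exact hx i)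
    obtain ⟨j, hj⟩ := hall r i (hr.trans hwx)
    subst hj
    exact ⟨j, hwr ▸ (hV ⟨i, j⟩).2.1⟩

end Groth.Agent.S9778
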