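import Groth.Statements.S9788
import Groth.Agent.StratDescLib.Main

set_option autoImplicit false
set_option linter.style.haveILetI false
set_option backward.isDefEq.respectTransparency false
universe u
attribute [local instance] HasDerivedCategory.standard
open FlatMor

namespace Groth.Agent.S9788

open AlgebraicGeometry CategoryTheory Limits in
/-- Let f : X ⟶ S be surjective, locally of finite presentation, quasi-compact and quasi-separated, and
let M ∈ D(O_S) have quasi-coherent cohomology sheaves vanishing in all positive degrees. If Lf^*M is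
isomorphic in D(O_X) to a flat O_X-module concentrated in degree zero, then M is isomorphic in
D(O_S) to a flat O_S-module concentrated in degree zero. The published statement is an equivalence
of these two conditions, with the converse left unproved there; this row states only the implication
from the pullback to M. The existence of the derived pullback Lf^* is carried as a hypothesis. -/
theorem result {X S : Scheme.{u}} (f : X ⟶ S) [Surjective f]
    [LocallyOfFinitePresentation f] [QuasiCompact f] [QuasiSeparated f] [DCoh.HasLpull f]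
    (M : DCoh.D S) (hM : DCoh.IsQCohD M) (hpos : ∀ i : ℤ, 0 < i → IsZero (DCoh.HD M i))
    (h2 : ∃ F : X.Modules, FlatMod.IsFlat F ∧ Nonempty ((DCoh.Lpull f).obj M ≅ DCoh.inD X F)) :
    ∃ G : S.Modules, FlatMod.IsFlat G ∧ Nonempty (M ≅ DCoh.inD S G) := by
  obtain ⟨F, hF, ⟨e⟩⟩ := h2
  have hloc := StratDesc.amp_of_lpull f M hM hpos
    (StratDesc.hasFlatAmplitudeIn_congr e.symm (StratDesc.hasFlatAmplitudeIn_inD hF))
  have hloc' : ∀ s : S, ∃ (U : Scheme.{u}) (j : U ⟶ S) (_ : IsOpenImmersion j) (y : U), j y = s ∧
      ∃ F' : U.Modules, FlatMod.IsFlat F' ∧ Nonempty ((DCoh.restrictD j).obj M ≅ DCoh.inD U F') := fun s => by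
    obtain ⟨U, j, hj, y, hy, h⟩ := hloc s
    exact ⟨U, j, hj, y, hy, StratDesc.exists_flat_of_amp h⟩
  have hz : ∀ i : ℤ, i ≠ 0 → IsZero (DCoh.HD M i) := fun i hi => DCohLib.isZero_of_local fun s => by
    obtain ⟨U, j, hj, y, hy, F', -, ⟨e'⟩⟩ := hloc' s
    exact ⟨U, j, hj, y, hy, ((DCohLib.isZero_HD_inD F' hi).of_iso
      ((DerivedCategory.homologyFunctor U.Modules i).mapIso e')).of_iso (TildeD.restrictHDIso j i M).symm⟩
  haveI : DerivedCategory.IsGE M 0 := (DerivedCategory.isGE_iff _ _).2 fun i hi => hz i (by omega)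
  haveI : DerivedCategory.IsLE M 0 := (DerivedCategory.isLE_iff _ _).2 fun i hi => hz i (by omega)
  obtain ⟨G, ⟨eG⟩⟩ := DerivedCategory.exists_iso_singleFunctor_obj_of_isGE_of_isLE M 0
  haveI : Coh.IsQCoh G := (SheafOfModules.isQuasicoherent S.ringCatSheaf).prop_of_iso
    ((DerivedCategory.homologyFunctor S.Modules 0).mapIso eG ≪≫
      (DerivedCategory.singleFunctorCompHomologyFunctorIso S.Modules 0).app G) (hM 0)
  refine ⟨G, fun s => ?_, ⟨eG⟩⟩
  obtain ⟨U, j, hj, y, rfl, F', hF', ⟨e'⟩⟩ := hloc' s
  refine TildePerf.isFlatAt_of_restrict j G y (DCohLib.isFlat_congr ?_ hF')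
  exact ((DerivedCategory.singleFunctorCompHomologyFunctorIso U.Modules 0).app F').symm ≪≫
    (DerivedCategory.homologyFunctor U.Modules 0).mapIso e'.symm ≪≫ TildeD.restrictHDIso j 0 M ≪≫
    (Scheme.Modules.restrictFunctor j).mapIso ((DerivedCategory.homologyFunctor S.Modules 0).mapIso eG ≪≫
      (DerivedCategory.singleFunctorCompHomologyFunctorIso S.Modules 0).app G)

end Groth.Agent.S9788
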