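import Groth.Statements.S9790
import Groth.Agent.RelAssLib.Dim
import Groth.Agent.FlatDim.Trdeg
-- import your own Groth.Agent.* helpers here

set_option autoImplicit false
set_option backward.isDefEq.respectTransparency false
universe u
open FlatMor

namespace Groth.Agent.S9790

open AlgebraicGeometry CategoryTheory Limits in
/-- Let f : X ⟶ S be locally of finite type, F a quasi-coherent O_X-module of finite type and y a point
of the relative assassin of F over S. Let Y ⊆ X be the closure of y with its reduced induced
(integral) closed subscheme structure. Suppose F is S-flat at every point of Y that is a generic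
point of an irreducible component of its fibre over S (e.g. F flat over S everywhere). Then Y ⟶ S
has constant fibre dimension: there is d ≥ 0 with dim_x(Y_{f x}) = d for every point x of Y, i.e. Y
has relative dimension d over the closure of f y. The published statement also contains a part (1),
that such generic points are again relative associated points of F; this row states only part (2),
the relative-dimension clause. -/
theorem result {X S : Scheme.{u}} (f : X ⟶ S) [LocallyOfFiniteType f] (F : X.Modules) [Coh.IsQCoh F]
    (hF : CohB1.IsFT F) (y : X) (hy : y ∈ MoreMor.relAss f F)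
    (hflat : ∀ x : ↑(Scheme.IdealSheafData.vanishingIdeal (TopologicalSpace.Closeds.closure {y})).subscheme,
      (∃ Z ∈ irreducibleComponents ↥(((Scheme.IdealSheafData.vanishingIdeal (TopologicalSpace.Closeds.closure {y})).subschemeι ≫ f).fiber (f ((Scheme.IdealSheafData.vanishingIdeal (TopologicalSpace.Closeds.closure {y})).subschemeι x))),
        IsGenericPoint (((Scheme.IdealSheafData.vanishingIdeal (TopologicalSpace.Closeds.closure {y})).subschemeι ≫ f).asFiber x) Z) →
      FlatMod.IsFlatOverAt f F ((Scheme.IdealSheafData.vanishingIdeal (TopologicalSpace.Closeds.closure {y})).subschemeι x)) :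
    ∃ d : ℕ, ∀ x : ↑(Scheme.IdealSheafData.vanishingIdeal (TopologicalSpace.Closeds.closure {y})).subscheme, FlatMor.fibreDimAt ((Scheme.IdealSheafData.vanishingIdeal (TopologicalSpace.Closeds.closure {y})).subschemeι ≫ f) x = d := by
  let I := Scheme.IdealSheafData.vanishingIdeal (TopologicalSpace.Closeds.closure {y})
  let ι := I.subschemeι
  let g := ι ≫ f
  have hrange : Set.range ι = closure ({y} : Set ↑X) := by
    rw [Scheme.IdealSheafData.range_subschemeι, Scheme.IdealSheafData.coe_support_vanishingIdeal]
    rfl
  refine ⟨Groth.Agent.OpenDim.trd f y, fun x => ?_⟩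
  obtain ⟨ζ, hfζ, -, hmax, hdim⟩ := Groth.Agent.OpenDim.exists_maxInFibre_fibreDimAt g x
  rw [hdim]
  have hy' : y ⤳ ι ζ := specializes_iff_mem_closure.2 (hrange ▸ ⟨ζ, rfl⟩)
  have hmax' : ∀ z : X, y ⤳ z → f z = f (ι ζ) → z ⤳ ι ζ → z = ι ζ := fun z hyz hfz hzx => by
    obtain ⟨w, rfl⟩ : z ∈ Set.range ι := hrange ▸ specializes_iff_mem_closure.1 hyz
    exact congrArg ι (hmax w hfz (ι.isEmbedding.isInducing.specializes_iff.1 hzx))
  have hfl : FlatMod.IsFlatOverAt f F (ι ζ) := by
    refine hflat ζ ⟨closure {g.asFiber ζ}, ⟨isIrreducible_singleton.closure, fun Z hZ hle => ?_⟩, rfl⟩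
    obtain ⟨w, hw⟩ := QuasiSober.sober hZ.closure isClosed_closure
    have hwsp : w ⤳ g.asFiber ζ := hw.specializes (subset_closure (hle (subset_closure rfl)))
    have hgw : g (g.fiberι _ w) = g ζ := by
      have : g.fiberι (g ζ) w ∈ Set.range (g.fiberι (g ζ)) := ⟨w, rfl⟩
      rw [g.range_fiberι] at this
      exact this
    have h1 : g.fiberι (g ζ) w ⤳ ζ := by
      have := hwsp.map (g.fiberι (g ζ)).continuous
      rwa [g.fiberι_asFiber] at this
    have h2 : w = g.asFiber ζ := (g.fiberι (g ζ)).isEmbedding.injective (by rw [g.fiberι_asFiber]; exact hmax _ hgw h1)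
    rw [← h2, hw.def]
    exact subset_closure
  have key := Groth.Agent.RelAssLib.trd_eq_of_maximal f F hF hy hy' hmax' hfl
  have h3 : Groth.Agent.OpenDim.trd g ζ = Groth.Agent.OpenDim.trd f (ι ζ) := by
    have := Groth.Agent.FlatDim.resTrdegAt_comp ι f ζ
    rw [Groth.Agent.FlatDim.resTrdegAt_preimmersion ι ζ, add_zero, Groth.Agent.OpenDim.resTrdegAt_eq_trd,
      Groth.Agent.OpenDim.resTrdegAt_eq_trd] at this
    exact_mod_cast this
  rw [h3, key]

end Groth.Agent.S9790
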