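import Groth.Statements.S9791
import Groth.Agent.SmoothNormLib.Basic
import Groth.Agent.S9690

set_option autoImplicit false
universe u
open CategoryTheory CategoryTheory.Limits AlgebraicGeometry
open FlatMor

namespace Groth.Agent.S9791

/-- In the case of integral schemes: let f : X ⟶ Y be a smooth morphism with X and Y integral, and let
X^ν ⟶ X and Y^ν ⟶ Y be the normalizations (in the function fields). Then X^ν is isomorphic over X to
the fibre product X ×_Y Y^ν, and such an isomorphism is unique. (The published statement requires
only that each quasi-compact open subset of Y meet finitely many irreducible components of Y, and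
also derives this for X; this row assumes X and Y integral, the case in which the normalization used
here is defined. The quasi-compactness and quasi-separatedness binders on Spec K(X) → X and Spec
K(Y) → Y always hold and are needed only to form the normalization.) -/
theorem result {X Y : Scheme.{u}} (f : X ⟶ Y) [Smooth f] [IsIntegral X] [IsIntegral Y]
    [QuasiCompact (X.fromSpecStalk (genericPoint X))] [QuasiSeparated (X.fromSpecStalk (genericPoint X))]
    [QuasiCompact (Y.fromSpecStalk (genericPoint Y))] [QuasiSeparated (Y.fromSpecStalk (genericPoint Y))] :
    ∃! e : Curv2.normalization X ≅ pullback f (Curv2.normalizationι Y),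
      e.hom ≫ pullback.fst f (Curv2.normalizationι Y) = Curv2.normalizationι X := by
  obtain ⟨e₀, he₀⟩ := SmoothNormLib.main f
  refine ⟨e₀.symm, (e₀.inv_comp_eq).2 he₀.symm, fun e he => ?_⟩
  obtain ⟨_, hnorm, hpre, -⟩ := NormUPLib.generic_facts (X := X)
  have hdom : ∀ z : Curv2.normalization X, closure {z} ∈ irreducibleComponents ↥(Curv2.normalization X) →
      (Curv2.normalizationι X).base z = genericPoint ↥X := by
    intro z hz
    rw [irreducibleComponents_eq_singleton, Set.mem_singleton_iff] at hz
    have hg : z = genericPoint ↥(Curv2.normalization X) := IsGenericPoint.eq hz (genericPoint_spec _)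
    have : z ∈ (Curv2.normalizationι X).base ⁻¹' {genericPoint ↥X} := by rw [hpre]; exact hg
    exact this
  obtain ⟨h, -, huniq⟩ := S9690.result X (Curv2.normalizationι X) hnorm hdom
  have h1 : e.hom ≫ e₀.hom = 𝟙 _ := (huniq _ (by beta_reduce at he ⊢; rw [Category.assoc, he₀, he])).trans (huniq _ (Category.id_comp _)).symm
  exact Iso.ext (((Iso.eq_comp_inv e₀).2 h1).trans (Category.id_comp _))

end Groth.Agent.S9791
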