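import Groth.Statements.S9798
import Mathlib

set_option autoImplicit false
universe u
open CategoryTheory AlgebraicGeometry TopologicalSpace
open Props

namespace Groth.Agent.S9798

/-- A point of a locally Noetherian scheme has local dimension zero exactly when it is isolated. -/
theorem result (X : Scheme.{u}) [IsLocallyNoetherian X] (x : X) :
    FlatMor.localDim X x = 0 ↔ IsOpen ({x} : Set X) := by
  haveI : ∀ U : X.Opens, IsLocallyNoetherian (U : Scheme) := fun U => inferInstance
  have hne : Nonempty {U : TopologicalSpace.Opens X // x ∈ U} := ⟨⟨⊤, trivial⟩⟩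
  have hlow : 0 ≤ FlatMor.localDim X x := le_iInf fun U => by
    haveI : Nonempty ↥(U.1 : Set X) := ⟨⟨x, U.2⟩⟩
    haveI : Nonempty (TopologicalSpace.IrreducibleCloseds ↥(U.1 : Set X)) :=
      ⟨⟨closure {⟨x, U.2⟩}, isIrreducible_singleton.closure, isClosed_closure⟩⟩
    exact Order.krullDim_nonneg
  constructor
  · intro h
    obtain ⟨U, hU⟩ : ∃ U : {U : TopologicalSpace.Opens X // x ∈ U}, topologicalKrullDim (U.1 : Set X) ≤ 0 := by
      obtain ⟨U, hU⟩ := (wellFounded_lt (α := WithBot ℕ∞)).has_min
        (Set.range fun U : {U : TopologicalSpace.Opens X // x ∈ U} => topologicalKrullDim (U.1 : Set X)) (Set.range_nonempty _)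
      obtain ⟨V, rfl⟩ := hU.1
      refine ⟨V, ?_⟩
      rw [← h]
      exact le_iInf fun W => not_lt.mp (hU.2 _ ⟨W, rfl⟩)
    haveI : IsLocallyArtinian (Scheme.Opens.toScheme (X := X) U.1) := IsLocallyArtinian.of_topologicalKrullDim_le_zero hU
    haveI : DiscreteTopology ↥(Scheme.Opens.toScheme (X := X) U.1) := IsLocallyArtinian.discreteTopology
    have h1 : IsOpen ({⟨x, U.2⟩} : Set ↥(U.1 : Set X)) := isOpen_discrete (α := ↥(Scheme.Opens.toScheme (X := X) U.1)) _
    simpa using U.1.isOpen.isOpenMap_subtype_val _ h1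
  · intro h
    refine le_antisymm (iInf_le_of_le ⟨⟨{x}, h⟩, rfl⟩ ?_) hlow
    haveI : DiscreteTopology ↥({x} : Set X) := inferInstance
    exact topologicalKrullDim_zero_of_discreteTopology _

end Groth.Agent.S9798
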