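import Groth.Statements.S9802
import Groth.Agent.N2Lib.Basic
import Groth.Agent.NagataLib.FiniteType
import Groth.Agent.CurveLib.Components

set_option autoImplicit false
universe u
set_option backward.isDefEq.respectTransparency false
open CategoryTheory AlgebraicGeometry TopologicalSpace
open Props

namespace Groth.Agent.S9802

/-- A locally Noetherian scheme is Nagata (every affine open has a Nagata coordinate ring) if and only
if every integral closed subscheme is Japanese (every nonempty affine open of it has an N-2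
coordinate ring). -/
theorem result (X : Scheme.{u})
    [IsLocallyNoetherian X] :
    (∀ U : X.Opens, IsAffineOpen U → CAlg.IsNagata Γ(X, U)) ↔
      ∀ (Z : Scheme.{u}) (i : Z ⟶ X) [IsClosedImmersion i] [IsIntegral Z]
        (V : Z.Opens) [Nonempty V], IsAffineOpen V → CAlg.IsN2 Γ(Z, V) := by
  constructor
  · intro hX Z i _ _ V _ hV
    haveI : IsDomain Γ(Z, V) := inferInstance
    have key : ∀ v : V, ∃ g : Γ(Z, V), v.1 ∈ Z.basicOpen g ∧ CAlg.IsNagata Γ(Z, Z.basicOpen g) := fun v => by
      obtain ⟨U, hU, hvU, -⟩ := exists_isAffineOpen_mem_and_subset (X := X) (U := ⊤) (x := i v.1) trivial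
      obtain ⟨g, hg, hvg⟩ := hV.exists_basicOpen_le (V := i ⁻¹ᵁ U) (x := ⟨v.1, hvU⟩) v.2
      refine ⟨g, hvg, ?_⟩
      letI := (i.appLE U (Z.basicOpen g) hg).hom.toAlgebra
      haveI : Algebra.FiniteType Γ(X, U) Γ(Z, Z.basicOpen g) :=
        LocallyOfFiniteType.finiteType_appLE i hU (hV.basicOpen g) hg
      exact NagataLib.isNagata_of_finiteType (hX U hU)
    choose g hg hN using key
    have hspan : Ideal.span (Set.range g) = ⊤ := by
      rw [← IsAffineOpen.iSup_basicOpen_eq_self_iff hV]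
      refine le_antisymm (iSup_le fun f => Z.basicOpen_le _) fun x hx =>
        TopologicalSpace.Opens.mem_iSup.2 ⟨⟨g ⟨x, hx⟩, _, rfl⟩, hg ⟨x, hx⟩⟩
    obtain ⟨s, hs, hs'⟩ := Submodule.mem_span_finite_of_mem_span
      (show (1 : Γ(Z, V)) ∈ Ideal.span (Set.range g) from hspan ▸ trivial)
    have hs'' : Ideal.span (Set.range fun f : s => (f : Γ(Z, V))) = ⊤ := by
      rw [Ideal.eq_top_iff_one]; simpa using hs'
    haveI : ∀ f : s, Nonempty (Z.basicOpen (f : Γ(Z, V))) := fun f => by
      obtain ⟨v, hv⟩ := hs f.2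
      exact ⟨⟨v.1, hv ▸ hg v⟩⟩
    haveI : ∀ f : s, IsLocalization.Away (f : Γ(Z, V)) Γ(Z, Z.basicOpen (f : Γ(Z, V))) := fun f =>
      hV.isLocalization_basicOpen _
    refine N2Lib.isN2_of_span (fun f : s => (f : Γ(Z, V))) hs'' (fun f => Γ(Z, Z.basicOpen (f : Γ(Z, V)))) fun f => ?_
    obtain ⟨v, hv⟩ := hs f.2
    have hN' : CAlg.IsNagata Γ(Z, Z.basicOpen (f : Γ(Z, V))) := hv ▸ hN v
    exact NagataCompleteLib.isN2_of_ringEquiv (RingEquiv.quotientBot _) (hN'.2 ⊥)
  · intro hX U hU
    refine ⟨IsLocallyNoetherian.component_noetherian ⟨U, hU⟩, fun p _ => ?_⟩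
    let x : X := hU.fromSpec ⟨p, inferInstance⟩
    let C : TopologicalSpace.Closeds X := ⟨closure {x}, isClosed_closure⟩
    let I := Scheme.IdealSheafData.vanishingIdeal C
    haveI : IsIntegral I.subscheme := CurveLib.isIntegral_vanishingIdeal isClosed_closure isIrreducible_singleton.closure
    have hxU : x ∈ U := by
      rw [← SetLike.mem_coe, ← hU.range_fromSpec]
      exact Set.mem_range_self _
    have hI : I.ideal ⟨U, hU⟩ = p := by
      rw [Scheme.IdealSheafData.vanishingIdeal_ideal]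
      show PrimeSpectrum.vanishingIdeal (hU.fromSpec ⁻¹' closure {x}) = p
      rw [hU.fromSpec.isOpenEmbedding.isOpenMap.preimage_closure_eq_closure_preimage hU.fromSpec.continuous,
        show (hU.fromSpec ⁻¹' {x}) = {(⟨p, inferInstance⟩ : PrimeSpectrum Γ(X, U))} from
          hU.fromSpec.isOpenEmbedding.injective.preimage_image (s := {_}) ▸ by rw [Set.image_singleton]]
      rw [PrimeSpectrum.vanishingIdeal_closure, PrimeSpectrum.vanishingIdeal_singleton]
    haveI : Nonempty (I.subschemeι ⁻¹ᵁ U : I.subscheme.Opens) := by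
      obtain ⟨z, hz⟩ : x ∈ Set.range I.subschemeι := by
        rw [I.range_subschemeι]
        exact subset_closure rfl
      exact ⟨⟨z, show I.subschemeι z ∈ U from hz ▸ hxU⟩⟩
    exact NagataCompleteLib.isN2_of_ringEquiv
      ((I.subschemeObjIso ⟨U, hU⟩).commRingCatIsoToRingEquiv.trans (Ideal.quotEquivOfEq hI))
      (hX I.subscheme I.subschemeι (I.subschemeι ⁻¹ᵁ U) (hU.preimage I.subschemeι))

end Groth.Agent.S9802
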