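import Groth.Statements.S9804


set_option autoImplicit false
universe u
open CategoryTheory AlgebraicGeometry TopologicalSpace
open Props

namespace Groth.Agent.S9804

/-- For quasi-affine schemes U and V and an open immersion j : U → V, the scheme U is the fibre product
of the composite U → V → Spec Γ(V, O_V) and the morphism Spec Γ(U, O_U) → Spec Γ(V, O_V) induced by
restriction of sections along j: the square whose sides are the identity of U, the canonical
morphism U → Spec Γ(U, O_U), that composite and that induced morphism is cartesian. -/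
theorem result {U V : Scheme.{u}} (j : U ⟶ V)
    [IsOpenImmersion j] [U.IsQuasiAffine] [V.IsQuasiAffine] :
    IsPullback (𝟙 U) U.toSpecΓ (j ≫ V.toSpecΓ) (Spec.map j.appTop) := by
  refine IsOpenImmersion.isPullback (𝟙 U) U.toSpecΓ (j ≫ V.toSpecΓ) (Spec.map j.appTop)
    (by rw [Category.id_comp]; exact (Scheme.toSpecΓ_naturality j).symm) ?_
  apply le_antisymm
  · intro w hw
    obtain ⟨_, ⟨_, ⟨g, rfl⟩, rfl⟩, hwg, hgW⟩ := (PrimeSpectrum.isBasis_basic_opens
      (R := Γ(V, ⊤))).exists_subset_of_mem_open hw (j ≫ V.toSpecΓ).opensRange.2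
    have haff : IsAffineOpen (U.basicOpen (j.appTop g)) := by
      rw [← Scheme.preimage_basicOpen_top, ← Scheme.toSpecΓ_preimage_basicOpen, ← Scheme.Hom.comp_preimage,
        ← Scheme.Hom.isAffineOpen_iff_of_isOpenImmersion (j ≫ V.toSpecΓ)]
      convert! IsAffineOpen.Spec_basicOpen g
      exact SetLike.coe_injective (Set.image_preimage_eq_of_subset hgW)
    have := isLocalization_basicOpen_of_qcqs (X := U) isCompact_univ isQuasiSeparated_univ (j.appTop g)
    have hw2 : w ∈ PrimeSpectrum.basicOpen (j.appTop g) := hwg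
    have hr := PrimeSpectrum.localization_away_comap_range Γ(U, U.basicOpen (j.appTop g)) (j.appTop g)
    obtain ⟨q, hq⟩ := hr.ge hw2
    refine ⟨(U.basicOpen (j.appTop g)).ι (haff.isoSpec.inv q), ?_⟩
    rw [← Scheme.Hom.comp_apply, ← Scheme.Opens.toSpecΓ_SpecMap_presheaf_map_top, Scheme.Hom.comp_apply,
      ← IsAffineOpen.isoSpec_hom haff, ← Scheme.Hom.comp_apply haff.isoSpec.inv, Iso.inv_hom_id]
    exact hq
  · rintro _ ⟨u, rfl⟩
    exact ⟨u, by rw [← Scheme.Hom.comp_apply, ← Scheme.toSpecΓ_naturality]⟩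

end Groth.Agent.S9804
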