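import Groth.Statements.S9806
import Groth.Agent.PullbackMod.LocFree
import Groth.Agent.PullbackMod.OpenLocus

set_option autoImplicit false
universe u
open CategoryTheory AlgebraicGeometry TopologicalSpace
open Props

namespace Groth.Agent.S9806

/-- A quasi-coherent module on a scheme is of finite presentation with all stalks free over the local
rings if and only if it is finite locally free. -/
theorem result (X : Scheme.{u}) (M : X.Modules) (hM : Coh.IsQCoh M) :
    (CohB1.IsFP M ∧ ∀ x : X, Module.Free (X.presheaf.stalk x) (M.presheaf.stalk x)) ↔
      FlatMod.IsFinLocFree M := by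
  constructor
  · rintro ⟨hfp, hfree⟩
    exact (PullbackMod.isFinLocFree_iff M).2 ⟨hM, hfp, fun x => haveI := hfree x; (inferInstance : Module.Flat _ _)⟩
  · intro h
    obtain ⟨-, hfp, hflat⟩ := (PullbackMod.isFinLocFree_iff M).1 h
    refine ⟨hfp, fun x => ?_⟩
    haveI := hflat x
    haveI : Module.Flat (X.presheaf.stalk x) (M.presheaf.stalk x) := hflat x
    haveI : Coh.IsQCoh M := hM
    haveI := PullbackMod.finitePresentation_stalk_of_isFP (M := M) hfp x
    exact Module.free_of_flat_of_isLocalRing

end Groth.Agent.S9806
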