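import Groth.Statements.S9807
import Groth.Agent.S5090
import Groth.Agent.RegLocLib.LocClosedPoint
import Groth.Agent.RegLocal.Consequences

set_option autoImplicit false
universe u
open CategoryTheory AlgebraicGeometry TopologicalSpace
open Props

namespace Groth.Agent.S9807

/-- A locally Noetherian scheme is regular (all local rings regular) as soon as its local rings at
closed points are regular, and conversely. -/
theorem result (X : Scheme.{u}) [IsLocallyNoetherian X] :
    (∀ x : X, IsRegularLocalRing (X.presheaf.stalk x)) ↔
      ∀ x : X, IsClosed ({x} : Set X) → IsRegularLocalRing (X.presheaf.stalk x) := by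
  refine ⟨fun h x _ => h x, fun h x => ?_⟩
  obtain ⟨z, hz, hzc⟩ := RegLocLib.exists_closed_point (Z := closure ({x} : Set X)) isClosed_closure ⟨x, subset_closure rfl⟩
  have hsp : x ⤳ z := specializes_iff_mem_closure.2 hz
  have := h z hzc
  letI := (X.presheaf.stalkSpecializes hsp).hom.toAlgebra
  have := Groth.Agent.S5090.isLocalization_stalkSpecializes hsp
  have := RegLocal.isRegularLocalRing_localization (X.presheaf.stalk z)
    ((IsLocalRing.maximalIdeal (X.presheaf.stalk x)).comap (X.presheaf.stalkSpecializes hsp).hom)
  exact IsRegularLocalRing.of_ringEquiv (IsLocalization.algEquiv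
    ((IsLocalRing.maximalIdeal (X.presheaf.stalk x)).comap (X.presheaf.stalkSpecializes hsp).hom).primeCompl
    (Localization.AtPrime ((IsLocalRing.maximalIdeal (X.presheaf.stalk x)).comap (X.presheaf.stalkSpecializes hsp).hom))
    (X.presheaf.stalk x)).toRingEquiv

end Groth.Agent.S9807
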