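import Groth.Statements.S9809
import Groth.Agent.S2135
import Groth.Agent.S0539
import Groth.Agent.S0540
import Groth.Agent.S2312
import Groth.Agent.S5090
import Groth.Agent.GeomFacLib.Loc
import Groth.Agent.SteinConn.Unibranch
import Groth.Agent.Henselization.Properties

set_option backward.isDefEq.respectTransparency false
set_option linter.style.haveILetI false

set_option autoImplicit false
universe u
open CategoryTheory AlgebraicGeometry TopologicalSpace
open Props

namespace Groth.Agent.S9809

open IsLocalRing AlgebraicGeometry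

/-- A ring with a faithfully flat algebra having one minimal prime has one minimal prime. -/
theorem hasUnique_of_faithfullyFlat (B T : Type u) [CommRing B] [CommRing T] [Algebra B T]
    [Module.FaithfullyFlat B T] (h : CAlgX.HasUniqueMinimalPrime T) : CAlgX.HasUniqueMinimalPrime B := by
  obtain ⟨P, hP, huniq⟩ := h
  have key : ∀ Q ∈ minimalPrimes B, Q = P.comap (algebraMap B T) := fun Q hQ => by
    haveI : Q.IsPrime := hQ.1.1
    haveI : P.IsPrime := hP.1.1
    obtain ⟨⟨R, hR⟩, hRQ⟩ := PrimeSpectrum.comap_surjective_of_faithfullyFlat (A := B) (B := T) ⟨Q, ‹_›⟩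
    have hRQ' : R.comap (algebraMap B T) = Q := congrArg PrimeSpectrum.asIdeal hRQ
    haveI := hR
    obtain ⟨P', hP', hle⟩ := Ideal.exists_minimalPrimes_le (bot_le : (⊥ : Ideal T) ≤ R)
    have hP'' : P' = P := huniq P' hP'
    subst hP''
    have h1 : P'.comap (algebraMap B T) ≤ Q := hRQ' ▸ Ideal.comap_mono hle
    exact le_antisymm (hQ.2 ⟨inferInstance, bot_le⟩ h1) h1
  haveI : Nontrivial T := ⟨⟨0, 1, fun h => hP.1.1.ne_top (P.eq_top_iff_one.2 (h ▸ P.zero_mem))⟩⟩
  haveI : Nontrivial B := (algebraMap B T).domain_nontrivial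
  obtain ⟨m, hm⟩ := Ideal.exists_maximal B
  haveI := hm.isPrime
  obtain ⟨Q, hQ, -⟩ := Ideal.exists_minimalPrimes_le (bot_le : (⊥ : Ideal B) ≤ m)
  exact ⟨Q, hQ, fun Q' hQ' => (key Q' hQ').trans (key Q hQ).symm⟩

variable (R : Type u) [CommRing R] [IsLocalRing R]

/-- Zero-dimensional local rings are geometrically unibranch. -/
theorem geomUnibranch_of_subsingleton [Subsingleton (PrimeSpectrum R)] : CAlg2.IsGeomUnibranch R := by
  let S := Groth.Agent.Henselization.StrictHenselizationRing R
  rw [Groth.Agent.S2135.result (Ash := S)]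
  have hall : ∀ Q : Ideal S, Q.IsPrime → Q = maximalIdeal S := fun Q hQ => by
    refine le_antisymm (le_maximalIdeal hQ.ne_top) ?_
    rw [← Groth.Agent.Henselization.map_maximalIdeal]
    refine Ideal.map_le_iff_le_comap.2 (le_of_eq ?_)
    exact congrArg PrimeSpectrum.asIdeal (Subsingleton.elim (⟨maximalIdeal R, inferInstance⟩ : PrimeSpectrum R)
      ⟨Q.comap (algebraMap R S), inferInstance⟩)
  obtain ⟨Q, hQ, -⟩ := Ideal.exists_minimalPrimes_le (bot_le : (⊥ : Ideal S) ≤ maximalIdeal S)
  exact ⟨Q, hQ, fun Q' hQ' => (hall Q' hQ'.1.1).trans (hall Q hQ.1.1).symm⟩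

variable [IsNoetherianRing R] (S : Type u) [CommRing S] [IsLocalRing S]
  [Algebra R S] [IsLocalHom (algebraMap R S)] [Hensel.IsStrictHenselization R S]

/-- The local rings of the strict henselization over a geometrically unibranch point have one minimal prime. -/
theorem hasUnique_localization (q : Ideal S) [q.IsPrime]
    (h : CAlg2.IsGeomUnibranch (Localization.AtPrime (q.comap (algebraMap R S)))) :
    CAlgX.HasUniqueMinimalPrime (Localization.AtPrime q) := by
  let p := q.comap (algebraMap R S)
  haveI : q.LiesOver p := ⟨rfl⟩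
  let A := Localization.AtPrime p
  let B := Localization.AtPrime q
  let T := Groth.Agent.Henselization.StrictHenselizationRing B
  let φ : A →+* B := Localization.localRingHom p q (algebraMap R S) rfl
  letI : Algebra A T := ((algebraMap B T).comp φ).toAlgebra
  haveI : IsLocalHom φ := Localization.isLocalHom_localRingHom p q (algebraMap R S) rfl
  haveI : IsLocalHom (algebraMap A T) := RingHom.isLocalHom_comp (algebraMap B T) φ
  haveI := Groth.Agent.GeomFacLib.isStrictHenselization_localization (R := R) (S := S) q p T (RingHom.ext fun r => by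
    show algebraMap B T (φ (algebraMap R A r)) = algebraMap B T (algebraMap S B (algebraMap R S r))
    exact congrArg (algebraMap B T) (Localization.localRingHom_to_map p q (algebraMap R S) rfl r))
  haveI := Groth.Agent.S0539.result B T
  exact hasUnique_of_faithfullyFlat B T ((Groth.Agent.S2135.result (A := A) (Ash := T)).1 h)

omit [IsNoetherianRing R] in
theorem mapMax : (maximalIdeal R).map (algebraMap R S) = maximalIdeal S := by
  obtain ⟨e⟩ := Groth.Agent.Henselization.exists_algEquiv_of_isStrictHenselization R S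
  exact Groth.Agent.Henselization.map_maximalIdeal_of_equiv e

/-- One minimal prime gives a connected punctured spectrum, when nonempty. -/
theorem connected_punctured_of_unique [Nontrivial (PrimeSpectrum R)] (hS : CAlgX.HasUniqueMinimalPrime S) :
    ConnectedSpace ↥({closedPoint S}ᶜ : Set (PrimeSpectrum S)) := by
  haveI := Groth.Agent.S0539.result R S
  obtain ⟨P, hP, huniq⟩ := hS
  haveI : P.IsPrime := hP.1.1
  let g : PrimeSpectrum S := ⟨P, inferInstance⟩
  have hg : ∀ z : PrimeSpectrum S, g ⤳ z := fun z => by
    obtain ⟨P', hP', hle⟩ := Ideal.exists_minimalPrimes_le (bot_le : (⊥ : Ideal S) ≤ z.asIdeal)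
    exact (PrimeSpectrum.le_iff_specializes g z).1 ((huniq P' hP').symm.le.trans hle)
  have hgm : g ∈ ({closedPoint S}ᶜ : Set (PrimeSpectrum S)) := by
    intro hc
    have hgm' : P = maximalIdeal S := congrArg PrimeSpectrum.asIdeal hc
    have hsub : ∀ z : PrimeSpectrum S, z = closedPoint S := fun z => by
      refine PrimeSpectrum.ext (le_antisymm (le_maximalIdeal z.2.ne_top) ?_)
      show maximalIdeal S ≤ z.asIdeal
      rw [← hgm']
      exact (PrimeSpectrum.le_iff_specializes g z).2 (hg z)
    haveI : Subsingleton (PrimeSpectrum R) :=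
      haveI : Subsingleton (PrimeSpectrum S) := ⟨fun a b => (hsub a).trans (hsub b).symm⟩
      (PrimeSpectrum.comap_surjective_of_faithfullyFlat (A := R) (B := S)).subsingleton
    exact not_subsingleton (PrimeSpectrum R) inferInstance
  refine isConnected_iff_connectedSpace.1 ⟨⟨g, hgm⟩, ?_⟩
  exact isPreconnected_singleton.subset_closure (Set.singleton_subset_iff.2 hgm) (fun z _ => (hg z).mem_closure)

/-- Connected punctured spectrum and unibranch generalizations give one minimal prime. -/
theorem unique_of_connected (hconn : ConnectedSpace ↥({closedPoint S}ᶜ : Set (PrimeSpectrum S)))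
    (h : ∀ (p : Ideal R) [p.IsPrime], p ≠ maximalIdeal R → CAlg2.IsGeomUnibranch (Localization.AtPrime p)) :
    CAlgX.HasUniqueMinimalPrime S := by
  haveI := Groth.Agent.S0539.result R S
  haveI : IsNoetherianRing S := (Groth.Agent.S0540.result R S).1 inferInstance
  obtain ⟨P₀, hP₀, -⟩ := Ideal.exists_minimalPrimes_le (bot_le : (⊥ : Ideal S) ≤ maximalIdeal S)
  refine ⟨P₀, hP₀, fun P₁ hP₁ => ?_⟩
  by_contra hne
  haveI : P₀.IsPrime := hP₀.1.1
  haveI : P₁.IsPrime := hP₁.1.1
  set F : Set (PrimeSpectrum S) := ⋃ P ∈ minimalPrimes S \ {P₀}, PrimeSpectrum.zeroLocus (P : Set S) with hF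
  have hFc : IsClosed F := Set.Finite.isClosed_biUnion ((minimalPrimes.finite_of_isNoetherianRing S).sdiff)
    fun P _ => PrimeSpectrum.isClosed_zeroLocus _
  have hU : ∀ P ∈ minimalPrimes S, ∀ P' ∈ minimalPrimes S, P ≠ P' →
      ∀ (hp : P.IsPrime), (⟨P, hp⟩ : PrimeSpectrum S) ∈ ({closedPoint S}ᶜ : Set (PrimeSpectrum S)) := by
    intro P hP P' hP' hPP hp hc
    have e : P = maximalIdeal S := congrArg PrimeSpectrum.asIdeal hc
    exact hPP (le_antisymm (hP.2 hP'.1 (e ▸ le_maximalIdeal hP'.1.1.ne_top)) (e ▸ le_maximalIdeal hP'.1.1.ne_top))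
  obtain ⟨z, hzU, hz0, hzF⟩ := isPreconnected_closed_iff.1 (isConnected_iff_connectedSpace.2 hconn).2
    (PrimeSpectrum.zeroLocus (P₀ : Set S)) F (PrimeSpectrum.isClosed_zeroLocus _) hFc
    (fun z _ => by
      obtain ⟨P, hP, hle⟩ := Ideal.exists_minimalPrimes_le (bot_le : (⊥ : Ideal S) ≤ z.asIdeal)
      by_cases e : P = P₀
      · exact Or.inl (e ▸ hle)
      · exact Or.inr (Set.mem_biUnion (show P ∈ minimalPrimes S \ {P₀} from ⟨hP, e⟩) hle))
    ⟨⟨P₀, inferInstance⟩, hU P₀ hP₀ P₁ hP₁ (Ne.symm hne) _, le_refl (P₀ : Set S)⟩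
    ⟨⟨P₁, inferInstance⟩, hU P₁ hP₁ P₀ hP₀ hne _,
      Set.mem_biUnion (show P₁ ∈ minimalPrimes S \ {P₀} from ⟨hP₁, hne⟩) (le_refl (P₁ : Set S))⟩
  obtain ⟨P, ⟨hP, hPne⟩, hPz⟩ := Set.mem_iUnion₂.1 hzF
  haveI : P.IsPrime := hP.1.1
  let q := z.asIdeal
  have hpne : q.comap (algebraMap R S) ≠ maximalIdeal R := by
    intro he
    refine hzU (PrimeSpectrum.ext ?_)
    show q = maximalIdeal S
    refine le_antisymm (le_maximalIdeal z.2.ne_top) ?_
    rw [← mapMax R S]
    exact Ideal.map_le_iff_le_comap.2 he.ge
  obtain ⟨Q, -, huniq⟩ := hasUnique_localization R S q (h _ hpne)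
  have hmem : ∀ P' ∈ minimalPrimes S, P' ≤ q →
      (P'.map (algebraMap S (Localization.AtPrime q))).comap (algebraMap S (Localization.AtPrime q)) = P' ∧
        P'.map (algebraMap S (Localization.AtPrime q)) = Q := by
    intro P' hP' hle
    haveI : P'.IsPrime := hP'.1.1
    have hdisj : Disjoint (q.primeCompl : Set S) P' := Set.disjoint_left.2 fun a ha ha' => ha (hle ha')
    have e := IsLocalization.under_map_of_isPrime_disjoint q.primeCompl (Localization.AtPrime q) hP'.1.1 hdisj
    refine ⟨e, huniq _ ?_⟩
    have e2 := IsLocalization.minimalPrimes_map q.primeCompl (Localization.AtPrime q) (⊥ : Ideal S)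
    rw [Ideal.map_bot] at e2
    show P'.map (algebraMap S (Localization.AtPrime q)) ∈ (⊥ : Ideal (Localization.AtPrime q)).minimalPrimes
    rw [e2, Set.mem_preimage, e]
    exact hP'
  obtain ⟨e₀, f₀⟩ := hmem P₀ hP₀ hz0
  obtain ⟨e₁, f₁⟩ := hmem P hP hPz
  exact hPne (by rw [Set.mem_singleton_iff, ← e₁, f₁, ← f₀, e₀])

/-- A Noetherian scheme is geometrically unibranch (all local rings geometrically unibranch) if and only
if at every point which is not the generic point of an irreducible component, the punctured spectrum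
of a strict henselization of the local ring is connected. -/
theorem result
    (X : Scheme.{u}) [IsNoetherian X] :
    (∀ x : X, CAlg2.IsGeomUnibranch (X.presheaf.stalk x)) ↔
      ∀ (x : X), closure ({x} : Set X) ∉ irreducibleComponents X →
        ∀ (Ash : Type u) [CommRing Ash] [IsLocalRing Ash] [Algebra (X.presheaf.stalk x) Ash]
          [IsLocalHom (algebraMap (X.presheaf.stalk x) Ash)]
          [Hensel.IsStrictHenselization (X.presheaf.stalk x) Ash],
          ConnectedSpace ↥({IsLocalRing.closedPoint Ash}ᶜ : Set (PrimeSpectrum Ash)) := by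
  classical
  constructor
  · intro hX x hx Ash _ _ _ _ _
    rw [Groth.Agent.S2312.result] at hx
    haveI : Nontrivial (PrimeSpectrum (X.presheaf.stalk x)) := not_subsingleton_iff_nontrivial.1 hx
    exact connected_punctured_of_unique (X.presheaf.stalk x) Ash (Groth.Agent.S2135.result.1 (hX x))
  · intro hX x
    suffices key : ∀ (n : ℕ) (p : PrimeSpectrum (X.presheaf.stalk x)), p.asIdeal.height ≤ n →
        CAlg2.IsGeomUnibranch (Localization.AtPrime p.asIdeal) by
      obtain ⟨n, hn⟩ := ENat.ne_top_iff_exists.1 (Ideal.height_ne_top (maximalIdeal.isMaximal (X.presheaf.stalk x)).ne_top)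
      have h := key n (closedPoint _) hn.ge
      exact Groth.Agent.SteinConn.isGeomUnibranch_of_ringEquiv (R := Localization.AtPrime (closedPoint (X.presheaf.stalk x)).asIdeal)
        (haveI : IsLocalization (closedPoint (X.presheaf.stalk x)).asIdeal.primeCompl (X.presheaf.stalk x) :=
          IsLocalization.self fun a ha => IsLocalRing.notMem_maximalIdeal.1 ha
         (IsLocalization.algEquiv (closedPoint (X.presheaf.stalk x)).asIdeal.primeCompl _ (X.presheaf.stalk x)).toRingEquiv) h
    intro n
    induction n using Nat.strong_induction_on with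
    | _ n ih =>
      intro p hp
      let y := X.fromSpecStalk x p
      have hy : y ⤳ x := by
        have h := ((PrimeSpectrum.le_iff_specializes p (closedPoint _)).1 (le_maximalIdeal p.2.ne_top)).map
          (X.fromSpecStalk x).continuous
        rwa [Scheme.fromSpecStalk_closedPoint] at h
      letI := (X.presheaf.stalkSpecializes hy).hom.toAlgebra
      haveI hloc := Groth.Agent.S5090.isLocalization_stalkSpecializes hy
      have hcomap : (maximalIdeal (X.presheaf.stalk y)).comap (X.presheaf.stalkSpecializes hy).hom = p.asIdeal := by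
        refine congrArg PrimeSpectrum.asIdeal (a₂ := p) (a₁ := Spec.map (X.presheaf.stalkSpecializes hy) (closedPoint _)) ?_
        apply (X.fromSpecStalk x).isEmbedding.injective
        rw [← Scheme.Hom.comp_apply, Scheme.SpecMap_stalkSpecializes_fromSpecStalk, Scheme.fromSpecStalk_closedPoint]
      haveI : IsLocalization p.asIdeal.primeCompl (X.presheaf.stalk y) := by
        have h2 : p.asIdeal.primeCompl =
            ((maximalIdeal (X.presheaf.stalk y)).comap (X.presheaf.stalkSpecializes hy).hom).primeCompl :=
          Submonoid.ext fun a => not_congr (by rw [hcomap])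
        rw [h2]
        exact hloc
      let e : X.presheaf.stalk y ≃+* Localization.AtPrime p.asIdeal :=
        (IsLocalization.algEquiv p.asIdeal.primeCompl _ _).toRingEquiv
      refine Groth.Agent.SteinConn.isGeomUnibranch_of_ringEquiv e ?_
      by_cases hs : Subsingleton (PrimeSpectrum (X.presheaf.stalk y))
      · exact geomUnibranch_of_subsingleton _
      let T := Groth.Agent.Henselization.StrictHenselizationRing (X.presheaf.stalk y)
      have hconn := hX y (by rw [Groth.Agent.S2312.result]; exact hs) T
      refine Groth.Agent.S2135.result.2 (unique_of_connected (X.presheaf.stalk y) T hconn fun q _ hq => ?_)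
      let q' := q.comap (X.presheaf.stalkSpecializes hy).hom
      have hlt : q' < p.asIdeal := by
        rw [← hcomap]
        refine lt_of_le_of_ne (Ideal.comap_mono (le_maximalIdeal (Ideal.IsPrime.ne_top inferInstance))) fun he => hq ?_
        rw [← IsLocalization.map_under p.asIdeal.primeCompl (X.presheaf.stalk y) q,
          ← IsLocalization.map_under p.asIdeal.primeCompl (X.presheaf.stalk y) (maximalIdeal _)]
        exact congrArg (Ideal.map _) he
      have hh := Ideal.height_strict_mono_of_isPrime hlt
      obtain ⟨m, hm⟩ := ENat.ne_top_iff_exists.1 (ne_top_of_lt hh)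
      have hmn : m < n := by
        have := hh.trans_le hp
        rw [← hm] at this
        exact_mod_cast this
      have h := ih m hmn ⟨q', inferInstance⟩ hm.ge
      haveI := IsLocalization.isLocalization_isLocalization_atPrime_isLocalization p.asIdeal.primeCompl
        (Localization.AtPrime q) q
      exact Groth.Agent.SteinConn.isGeomUnibranch_of_ringEquiv
        (IsLocalization.algEquiv q'.primeCompl (Localization.AtPrime q') (Localization.AtPrime q)).toRingEquiv h

end Groth.Agent.S9809
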