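import Groth.Statements.S9817
import Groth.Agent.ProjTwistLib.Ample
-- import your own Groth.Agent.* helpers here

set_option autoImplicit false
universe u
open CategoryTheory CategoryTheory.Limits AlgebraicGeometry TopologicalSpace
open Props

namespace Groth.Agent.S9817

/-- For a quasi-compact scheme X admitting an open immersion j into Proj of a graded ring, some positive
twist O(d) pulls back along j to an ample invertible module on X. -/
theorem result {R A : Type u} [CommRing R] [CommRing A]
    [Algebra R A] (𝒜 : ℕ → Submodule R A) [GradedAlgebra 𝒜] (X : Scheme.{u}) [CompactSpace X]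
    (j : X ⟶ Proj 𝒜) [IsOpenImmersion j] :
    ∃ d : ℕ, 0 < d ∧ CohB1.IsAmple ((Scheme.Modules.pullback j).obj (Twist.twist 𝒜 (d : ℤ))) := by
  obtain ⟨d, hd, h⟩ := Groth.Agent.ProjTwistLib.exists_period_hasUnit (isCompact_range j.continuous)
  refine ⟨d, hd, Groth.Agent.ProjTwistLib.isAmple_pullback_twist j hd fun x hx => ?_⟩
  obtain ⟨a, ha⟩ := h x hx
  exact Groth.Agent.ProjTwistLib.hasUnit_of_mem a ha

end Groth.Agent.S9817
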