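import Groth.Statements.S9818
import Groth.Agent.FPApproxLib.Step
import Groth.Agent.ZClosLib.Exact
import Groth.Agent.QCohLib.Push

set_option backward.isDefEq.respectTransparency false
set_option linter.style.haveILetI false

set_option autoImplicit false
universe u
open CategoryTheory CategoryTheory.Limits AlgebraicGeometry TopologicalSpace Opposite
open Props

namespace Groth.Agent.S9818

/-- For an open subscheme U of a scheme X with quasi-compact inclusion, a quasi-coherent module G on U
with a map to the restriction of a quasi-coherent module F on X extends to a quasi-coherent module H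
on X with a map to F restricting to the given one. Taking F = 0, every quasi-coherent module on U
extends to a quasi-coherent module on X. -/
theorem result {X : Scheme.{u}} (U : X.Opens) [QuasiCompact U.ι]
    (F : X.Modules) [Coh.IsQCoh F] (G : (U : Scheme.{u}).Modules) [Coh.IsQCoh G] (φ : G ⟶ F.restrict U.ι) :
    ∃ (H : X.Modules) (ψ : H ⟶ F) (e : H.restrict U.ι ≅ G), Coh.IsQCoh H ∧
      e.hom ≫ φ = (Scheme.Modules.restrictFunctor U.ι).map ψ := by
  let ρ := Scheme.Modules.restrictFunctor U.ι
  let adj := Scheme.Modules.restrictAdjunction U.ι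
  let η : F ⟶ (Scheme.Modules.pushforward U.ι).obj (F.restrict U.ι) := adj.unit.app F
  let h := (Scheme.Modules.pushforward U.ι).map φ
  haveI : PreservesFiniteLimits ρ := _root_.ZClosLib.preservesFiniteLimits_restrict U
  haveI hε : IsIso adj.counit := inferInstanceAs (IsIso (Scheme.Modules.restrictAdjunction U.ι).counit)
  have hη : IsIso (ρ.map η) := by
    haveI : IsIso (ρ.map η ≫ adj.counit.app (ρ.obj F)) := by
      rw [adj.left_triangle_components F]
      exact IsIso.id _
    exact IsIso.of_isIso_comp_right (ρ.map η) (adj.counit.app (ρ.obj F))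
  have hp := (IsPullback.of_hasPullback η h).map ρ
  haveI := hp.isIso_snd_of_isIso
  let eG := (asIso adj.counit).app G
  refine ⟨Limits.pullback η h, pullback.fst η h, asIso (ρ.map (pullback.snd η h)) ≪≫ eG,
    FPApproxLib.isQCoh_pullback' η h inferInstance (QCohLib.isQCoh_pushforward _ U.ι)
      (QCohLib.isQCoh_pushforward _ U.ι), ?_⟩
  show (ρ.map (pullback.snd η h) ≫ adj.counit.app G) ≫ φ = ρ.map (pullback.fst η h)
  rw [Category.assoc, ← adj.counit_naturality φ, ← Category.assoc]
  show (ρ.map (pullback.snd η h) ≫ ρ.map h) ≫ adj.counit.app (ρ.obj F) = ρ.map (pullback.fst η h)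
  rw [← hp.w, Category.assoc]
  exact (congrArg (ρ.map (pullback.fst η h) ≫ ·) (adj.left_triangle_components F)).trans (Category.comp_id _)

end Groth.Agent.S9818
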