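import Groth.Statements.S9820
import Groth.Agent.LimHom.Quot

set_option autoImplicit false
universe u
open CategoryTheory CategoryTheory.Limits AlgebraicGeometry TopologicalSpace Opposite
open Props

namespace Groth.Agent.S9820

open Limits TopologicalSpace Opposite

set_option backward.isDefEq.respectTransparency false
set_option linter.style.haveILetI false


theorem fp_of_restrict {X : Scheme.{u}} (M : X.Modules) (U : X.Opens) (W : (U : Scheme.{u}).Opens)
    (h : Module.FinitePresentation Γ((U : Scheme.{u}), W) Γ(M.restrict U.ι, W)) :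
    Module.FinitePresentation Γ(X, U.ι ''ᵁ W) Γ(M, U.ι ''ᵁ W) := by
  let inst₀ : Module Γ(X, U.ι ''ᵁ W) Γ(M, U.ι ''ᵁ W) := inferInstance
  let inst₁ : Module Γ(X, U.ι ''ᵁ W) Γ(M, U.ι ''ᵁ W) :=
    (inferInstance : Module Γ((U : Scheme.{u}), W) Γ(M.restrict U.ι, W))
  have key : inst₁ = inst₀ := @Module.ext' _ _ _ _ inst₁ inst₀ fun r x => by
    refine (ConcreteCategory.congr_hom (Scheme.Modules.smul_restrictAppIso_hom U.ι M W r) x).trans ?_
    rw [Scheme.Opens.ι_appIso]
    rfl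
  have h' : @Module.FinitePresentation Γ(X, U.ι ''ᵁ W) Γ(M, U.ι ''ᵁ W) _ _ inst₁ := h
  exact Eq.mp (congrArg (fun i => @Module.FinitePresentation Γ(X, U.ι ''ᵁ W) Γ(M, U.ι ''ᵁ W) _ _ i) key) h'

/-- On a quasi-compact quasi-separated scheme, a quasi-coherent module of finite type which is of finite
presentation over a quasi-compact open U is the quotient of a module of finite presentation by a
surjection which is an isomorphism over U. -/
theorem result {X : Scheme.{u}} [CompactSpace X]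
    [QuasiSeparatedSpace X] (F : X.Modules) [Coh.IsQCoh F] (hF : CohB1.IsFT F) (U : X.Opens)
    (hU : IsCompact (U : Set X)) (hFU : CohB1.IsFP (F.restrict U.ι)) :
    ∃ (G : X.Modules) (φ : G ⟶ F), CohB1.IsFP G ∧ Epi φ ∧
      IsIso ((Scheme.Modules.restrictFunctor U.ι).map φ) := by
  classical
  obtain ⟨P, π, hP, hPfp, hπ⟩ := FPApproxLib.exists_fp_epi F hF
  haveI := hP
  haveI := hπ
  haveI hK : Coh.IsQCoh (kernel π) := (QCohLib.isQCoh_image π inferInstance inferInstance).1
  haveI hFq : Coh.IsQCoh (F.restrict U.ι) := inferInstance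
  -- sections of the kernel over affine opens inside `U` are finitely generated
  have hfg : ∀ T : X.affineOpens, T.1 ≤ U → Module.Finite Γ(X, T.1) Γ(kernel π, T.1) := by
    intro T hTU
    have hT' : IsAffineOpen (U.ι ⁻¹ᵁ T.1) := by
      rw [← U.ι.isAffineOpen_iff_of_isOpenImmersion]
      rw [Scheme.Hom.image_preimage_eq_opensRange_inf, Scheme.Opens.opensRange_ι, inf_eq_right.mpr hTU]
      exact T.2
    have heq : U.ι ''ᵁ (U.ι ⁻¹ᵁ T.1) = T.1 := by
      rw [Scheme.Hom.image_preimage_eq_opensRange_inf, Scheme.Opens.opensRange_ι, inf_eq_right.mpr hTU]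
    haveI := fp_of_restrict F U (U.ι ⁻¹ᵁ T.1) (QCohLib.finitePresentation_sections (F.restrict U.ι) hFU hT')
    haveI := FPApproxLib.fp_of_eq F heq inferInstance
    haveI := QCohLib.finite_sections P (ExactConstrLib.isFT_of_isFP hPfp) T.2
    let p := FlatLocus.appL π T.1
    have hp : Function.Surjective p :=
      ProjBundleLib.surjective_app_of_epi inferInstance inferInstance π T.2
    haveI : Module.Finite Γ(X, T.1) (LinearMap.ker p) :=
      Module.Finite.iff_fg.mpr (Module.FinitePresentation.fg_ker p hp)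
    let i := FlatLocus.appL (kernel.ι π) T.1
    have hi : Function.Injective i := RelTildeLib.app_injective_of_mono (kernel.ι π) _
    have hr : LinearMap.range i = LinearMap.ker p := by
      apply le_antisymm
      · rintro _ ⟨m, rfl⟩
        show (kernel.ι π ≫ π).app T.1 m = 0
        rw [kernel.condition]
        rfl
      · intro n hn
        exact QCohLib.kernel_app_exact π _ n hn
    exact Module.Finite.equiv ((LinearEquiv.ofEq _ _ hr).symm ≪≫ₗ (LinearEquiv.ofInjective i hi).symm)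
  obtain ⟨t, ht⟩ := hU.elim_finite_subcover
    (fun T : {T : X.affineOpens // T.1 ≤ U} => ((T.1 : X.Opens) : Set X)) (fun T => T.1.1.isOpen)
    fun y hy => by
      obtain ⟨_, ⟨W, hW, rfl⟩, hyW, hWU⟩ := X.isBasis_affineOpens.exists_subset_of_mem_open hy U.2
      exact Set.mem_iUnion.mpr ⟨⟨⟨W, hW⟩, hWU⟩, hyW⟩
  choose S hS using fun T : {T : X.affineOpens // T.1 ≤ U} =>
    ((hfg T.1 T.2).fg_top : (⊤ : Submodule Γ(X, T.1.1) Γ(kernel π, T.1.1)).FG)
  obtain ⟨H, ψ, hH, hHfp, hit⟩ := FPApproxLib.exists_fp_through (kernel π)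
    (ι := Σ T : t, {s // s ∈ S T.1}) (fun k => k.1.1.1.1) (fun k => k.1.1.1.2) (fun k => k.2.1)
  haveI := hH
  let ρ := Scheme.Modules.restrictFunctor U.ι
  haveI : Epi (ρ.map ψ) := by
    refine ⟨fun {Z} g₁ g₂ e => FPApproxLib.hom_ext_opens g₁ g₂ t (fun T => U.ι ⁻¹ᵁ T.1.1.1) (fun T => ?_)
      (eq_top_iff.mpr fun x _ => ?_) fun T x => ?_⟩
    · rw [← U.ι.isAffineOpen_iff_of_isOpenImmersion, Scheme.Hom.image_preimage_eq_opensRange_inf,
        Scheme.Opens.opensRange_ι, inf_eq_right.mpr T.1.2]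
      exact T.1.1.2
    · obtain ⟨T, hT, hx⟩ := Set.mem_iUnion₂.mp (ht x.2)
      exact Opens.mem_iSup.mpr ⟨⟨T, hT⟩, hx⟩
    have heq : U.ι ''ᵁ (U.ι ⁻¹ᵁ T.1.1.1) = T.1.1.1 := by
      rw [Scheme.Hom.image_preimage_eq_opensRange_inf, Scheme.Opens.opensRange_ι, inf_eq_right.mpr T.1.2]
    suffices hsur : ∀ y : Γ(kernel π, U.ι ''ᵁ (U.ι ⁻¹ᵁ T.1.1.1)),
        ∃ z, ψ.app (U.ι ''ᵁ (U.ι ⁻¹ᵁ T.1.1.1)) z = y by
      obtain ⟨z, rfl⟩ := hsur x
      exact congrArg (fun χ : ρ.obj H ⟶ Z => χ.app (U.ι ⁻¹ᵁ T.1.1.1) z) e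
    intro y
    revert y
    rw [heq]
    intro y
    have hy : y ∈ Submodule.span Γ(X, T.1.1.1) (S T.1 : Set Γ(kernel π, T.1.1.1)) :=
      hS T.1 ▸ Submodule.mem_top
    have hle : Submodule.span Γ(X, T.1.1.1) (S T.1 : Set Γ(kernel π, T.1.1.1)) ≤
        LinearMap.range (FlatLocus.appL ψ T.1.1.1) :=
      Submodule.span_le.mpr fun s hs => hit ⟨T, s, hs⟩
    exact hle hy
  haveI := (Scheme.Modules.restrictAdjunction U.ι).isLeftAdjoint
  have w : (ψ ≫ kernel.ι π) ≫ π = 0 := by rw [Category.assoc, kernel.condition, comp_zero]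
  refine ⟨cokernel (ψ ≫ kernel.ι π), cokernel.desc _ π w,
    DCohLib.isFP_cokernel _ inferInstance inferInstance (ExactConstrLib.isFT_of_isFP hHfp) hPfp,
    epi_of_epi_fac (cokernel.π_desc _ π w), ?_⟩
  let φ := cokernel.desc (ψ ≫ kernel.ι π) π w
  have hφ : ρ.map (cokernel.π (ψ ≫ kernel.ι π)) ≫ ρ.map φ = ρ.map π := by
    rw [← Functor.map_comp, cokernel.π_desc]
  have h1 : IsColimit (CokernelCofork.ofπ (f := ρ.map (kernel.ι π)) (ρ.map π)
      (by rw [← Functor.map_comp, kernel.condition, Functor.map_zero])) :=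
    CokernelCofork.mapIsColimit _ (Abelian.epiIsCokernelOfKernel (KernelFork.ofι (kernel.ι π) (kernel.condition π))
      (kernelIsKernel π)) ρ
  have h2 := isCokernelEpiComp h1 (ρ.map ψ) (h := ρ.map (ψ ≫ kernel.ι π)) (ρ.map_comp _ _)
  have h3 := CokernelCofork.mapIsColimit _ (cokernelIsCokernel (ψ ≫ kernel.ι π)) ρ
  have : ρ.map φ = (IsColimit.coconePointUniqueUpToIso h3 h2).hom := by
    apply Cofork.IsColimit.hom_ext h3
    exact hφ.trans (h3.comp_coconePointUniqueUpToIso_hom h2 WalkingParallelPair.one).symm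
  show IsIso (ρ.map φ)
  rw [this]
  infer_instance

end Groth.Agent.S9820
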