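import Groth.Statements.S9822
import Mathlib.AlgebraicGeometry.Limits

set_option autoImplicit false
universe u
open CategoryTheory CategoryTheory.Limits AlgebraicGeometry TopologicalSpace Opposite
open Props

namespace Groth.Agent.S9822

/-- A scheme is irreducible if and only if it is nonempty and every nonempty affine open subset is
irreducible. -/
theorem result (X : Scheme.{u}) :
    IrreducibleSpace X ↔ Nonempty X ∧ ∀ U : X.Opens, IsAffineOpen U → (U : Set X).Nonempty → IsIrreducible (U : Set X) := by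
  constructor
  · intro h
    exact ⟨h.toNonempty, fun U _ hne => ⟨hne,
      (PreirreducibleSpace.isPreirreducible_univ (X := X)).open_subset U.isOpen (Set.subset_univ _)⟩⟩
  · rintro ⟨hne, h⟩
    haveI := hne
    haveI : PreirreducibleSpace X := ⟨by
      rintro u v hu hv ⟨x, -, hx⟩ ⟨y, -, hy⟩
      obtain ⟨_, ⟨U, hU, rfl⟩, hxU, hUu⟩ := X.isBasis_affineOpens.exists_subset_of_mem_open hx hu
      obtain ⟨_, ⟨V, hV, rfl⟩, hyV, hVv⟩ := X.isBasis_affineOpens.exists_subset_of_mem_open hy hv
      by_contra hc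
      have hd : Disjoint U V := by
        rw [disjoint_iff]
        refine Opens.ext (Set.eq_empty_iff_forall_notMem.mpr fun z hz => hc ⟨z, trivial, hUu hz.1, hVv hz.2⟩)
      obtain ⟨z, -, hzU, hzV⟩ := (h _ (hU.sup_of_disjoint hV hd) ⟨x, Or.inl hxU⟩).2 (U : Set X) (V : Set X)
        U.isOpen V.isOpen ⟨x, Or.inl hxU, hxU⟩ ⟨y, Or.inr hyV, hyV⟩
      exact hc ⟨z, trivial, hUu hzU, hVv hzV⟩⟩
    exact ⟨hne⟩

end Groth.Agent.S9822
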