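import Groth.Statements.S9823
import Groth.Agent.FTIdealLib.Basic

set_option autoImplicit false
universe u
open CategoryTheory CategoryTheory.Limits AlgebraicGeometry TopologicalSpace Opposite
open Props

namespace Groth.Agent.S9823

/-- In a quasi-compact quasi-separated scheme, an open subset is quasi-compact exactly when its
complement is the support of some quasi-coherent ideal sheaf of finite type. -/
theorem result (X : Scheme.{u}) [CompactSpace X] [QuasiSeparatedSpace X]
    (U : X.Opens) :
    IsCompact (U : Set X) ↔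
      ∃ I : X.IdealSheafData, (∀ V : X.affineOpens, (I.ideal V).FG) ∧ (I.support : Set X) = (U : Set X)ᶜ := by
  classical
  constructor
  · intro hU
    let Z : Closeds X := ⟨(U : Set X)ᶜ, U.isOpen.isClosed_compl⟩
    let I := Scheme.IdealSheafData.vanishingIdeal Z
    let κ := {J : X.IdealSheafData // J ≤ I ∧ ∀ V, (J.ideal V).FG}
    have hIs : (I.support : Set X) = (U : Set X)ᶜ := by
      rw [Scheme.IdealSheafData.coe_support_vanishingIdeal]
      rfl
    have hne : Nonempty κ := ⟨⟨⊥, bot_le, fun V => by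
      rw [Scheme.IdealSheafData.ideal_bot]; exact Submodule.fg_bot⟩⟩
    have hcov : (U : Set X) ⊆ ⋃ J : κ, (J.1.support : Set X)ᶜ := fun x hx => by
      rw [Set.mem_iUnion]
      by_contra hc
      push Not at hc
      obtain ⟨_, ⟨V, hV, rfl⟩, hxV, -⟩ :=
        X.isBasis_affineOpens.exists_subset_of_mem_open (Set.mem_univ x) isOpen_univ
      have hxI : x ∈ I.support := by
        rw [Scheme.IdealSheafData.mem_support_iff_of_mem (U := ⟨V, hV⟩) hxV, Scheme.mem_zeroLocus_iff]
        intro a ha
        obtain ⟨J, hJ, hfg, haJ⟩ := FTIdealLib.exists_ft_le_mem I ⟨V, hV⟩ ha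
        have := not_not.mp (hc ⟨J, hJ, hfg⟩)
        rw [SetLike.mem_coe, Scheme.IdealSheafData.mem_support_iff_of_mem (U := ⟨V, hV⟩) hxV,
          Scheme.mem_zeroLocus_iff] at this
        exact this a haJ
      exact (hIs.subset hxI) hx
    have hdir : Directed (· ⊆ ·) fun J : κ => (J.1.support : Set X)ᶜ := fun a b =>
      ⟨⟨a.1 ⊔ b.1, sup_le a.2.1 b.2.1, fun V => by
          rw [Scheme.IdealSheafData.ideal_sup, Pi.sup_apply]
          exact Submodule.FG.sup (a.2.2 V) (b.2.2 V)⟩,
        Set.compl_subset_compl.mpr (Scheme.IdealSheafData.support_antitone le_sup_left),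
        Set.compl_subset_compl.mpr (Scheme.IdealSheafData.support_antitone le_sup_right)⟩
    obtain ⟨J, hJ⟩ := hU.elim_directed_cover _ (fun J : κ => J.1.support.isClosed.isOpen_compl) hcov hdir
    refine ⟨J.1, J.2.2, Set.Subset.antisymm ?_ ?_⟩
    · exact fun x hx hxU => hJ hxU hx
    · exact hIs.ge.trans (Scheme.IdealSheafData.support_antitone J.2.1)
  · rintro ⟨I, hfg, hI⟩
    have hU : (U : Set X) = (I.support : Set X)ᶜ := by rw [hI, compl_compl]
    obtain ⟨s, hs⟩ := isCompact_univ.elim_finite_subcover (fun V : X.affineOpens => ((V : X.Opens) : Set X))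
      (fun V => V.1.isOpen) fun x _ => by
        obtain ⟨_, ⟨V, hV, rfl⟩, hxV, -⟩ :=
          X.isBasis_affineOpens.exists_subset_of_mem_open (Set.mem_univ x) isOpen_univ
        exact Set.mem_iUnion.mpr ⟨⟨V, hV⟩, hxV⟩
    have hcap : ∀ V : X.affineOpens, IsCompact ((U : Set X) ∩ (V : X.Opens)) := fun V => by
      obtain ⟨t, ht⟩ := hfg V
      have : (U : Set X) ∩ (V : X.Opens) = ⋃ a ∈ t, (X.basicOpen a : Set X) := by
        ext x
        simp only [Set.mem_inter_iff, Set.mem_iUnion₂]
        constructor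
        · rintro ⟨hxU, hxV⟩
          by_contra hc
          push Not at hc
          refine hU.subset hxU ?_
          rw [SetLike.mem_coe, Scheme.IdealSheafData.mem_support_iff_of_mem (U := V) hxV, ← ht,
            show X.zeroLocus (Ideal.span (t : Set Γ(X, V.1)) : Set Γ(X, V.1)) = X.zeroLocus (t : Set Γ(X, V.1)) from
              X.zeroLocus_span _, Scheme.mem_zeroLocus_iff]
          exact fun a ha => hc a (Finset.mem_coe.mp ha)
        · rintro ⟨a, ha, hxa⟩
          have hxV : x ∈ (V : X.Opens) := X.basicOpen_le a hxa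
          refine ⟨hU.symm.subset fun hx => ?_, hxV⟩
          rw [SetLike.mem_coe, Scheme.IdealSheafData.mem_support_iff_of_mem (U := V) hxV,
            Scheme.mem_zeroLocus_iff] at hx
          exact hx a (ht ▸ Ideal.subset_span (Finset.mem_coe.mpr ha)) hxa
      rw [this]
      exact t.isCompact_biUnion fun a _ => (V.2.basicOpen a).isCompact
    have : (U : Set X) = ⋃ V ∈ s, ((U : Set X) ∩ (V : X.Opens)) := by
      ext x
      simp only [Set.mem_iUnion₂, Set.mem_inter_iff]
      refine ⟨fun hx => ?_, fun ⟨_, _, hx, _⟩ => hx⟩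
      obtain ⟨V, hV, hxV⟩ := Set.mem_iUnion₂.mp (hs (Set.mem_univ x))
      exact ⟨V, hV, hx, hxV⟩
    rw [this]
    exact s.isCompact_biUnion fun V _ => hcap V

end Groth.Agent.S9823
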