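import Groth.Statements.S9825
import Groth.Agent.PullbackMod.FibreRank

set_option autoImplicit false
set_option linter.style.haveILetI false
set_option backward.isDefEq.respectTransparency false
universe u
open CategoryTheory CategoryTheory.Limits AlgebraicGeometry TopologicalSpace Opposite
open Props

namespace Groth.Agent.S9825

/-- A quasi-coherent module on a scheme is finite locally free if and only if it is of finite type with
free stalks and locally constant fibre rank. -/
theorem result (X : Scheme.{u}) (M : X.Modules) [Coh.IsQCoh M] :
    FlatMod.IsFinLocFree M ↔ CohB1.IsFT M ∧ (∀ x : X, Module.Free (X.presheaf.stalk x) (M.presheaf.stalk x)) ∧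
      IsLocallyConstant (fun x : X => Module.finrank (IsLocalRing.ResidueField (X.presheaf.stalk x))
          (TensorProduct (X.presheaf.stalk x) (IsLocalRing.ResidueField (X.presheaf.stalk x)) (M.presheaf.stalk x))) := by
  refine ⟨fun h => ⟨?_, fun x => ?_, PullbackMod.isFinLocFree_isLocallyConstant M h⟩,
    fun h => PullbackMod.isFinLocFree_of_fibreRank_of_free M h.1 h.2.1 h.2.2⟩
  · haveI := (PullbackMod.isQCoh_and_isFP_of_isFinLocFree M h).2
    exact inferInstance
  · obtain ⟨U, n, hxU, ⟨i⟩⟩ := h x
    obtain ⟨e⟩ := PullbackMod.freeAt_of_restrict_iso M i hxU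
    exact Module.Free.of_equiv e.symm

end Groth.Agent.S9825
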