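import Groth.Statements.S9828
import Groth.Agent.FPApproxLib.Colim

set_option autoImplicit false
universe u
open CategoryTheory CategoryTheory.Limits AlgebraicGeometry TopologicalSpace Opposite
open Props

namespace Groth.Agent.S9828

/-- On a quasi-compact quasi-separated scheme, a quasi-coherent module of finite type is a directed
colimit of modules of finite presentation with surjective transition maps. -/
theorem result {X : Scheme.{u}} [CompactSpace X]
    [QuasiSeparatedSpace X] (F : X.Modules) [Coh.IsQCoh F] (hF : CohB1.IsFT F) :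
    ∃ (J : Type u) (_ : PartialOrder J) (_ : IsDirected J (· ≤ ·)) (_ : Nonempty J) (D : J ⥤ X.Modules)
      (ι : D ⟶ (Functor.const J).obj F), Nonempty (IsColimit (Cocone.mk F ι)) ∧
      (∀ j, CohB1.IsFP (D.obj j)) ∧ ∀ (j j' : J) (h : j ⟶ j'), Epi (D.map h) := by
  obtain ⟨P, π, hP, hfp, hπ⟩ := FPApproxLib.exists_fp_epi F hF
  haveI := hP
  haveI := hπ
  haveI hk : Coh.IsQCoh (Limits.kernel π) := (QCohLib.isQCoh_image π hP ‹Coh.IsQCoh F›).1
  refine ⟨FPApproxLib.Idx π, inferInstance, FPApproxLib.isDirected π,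
    ⟨⟨fun _ => ⊥, ProjBundleLib.good_bot ⊤⟩⟩, FPApproxLib.diag π, FPApproxLib.cocone π,
    FPApproxLib.isColimit π, FPApproxLib.isFP_obj π hfp, fun i j h => ?_⟩
  haveI : Epi (Limits.cokernel.π (FPApproxLib.rel π i) ≫ (FPApproxLib.diag π).map h) := by
    show Epi (Limits.cokernel.π (FPApproxLib.rel π i) ≫ Limits.cokernel.desc _ _ _)
    rw [Limits.cokernel.π_desc]
    exact inferInstanceAs (Epi (Limits.cokernel.π (FPApproxLib.rel π j)))
  exact epi_of_epi (Limits.cokernel.π (FPApproxLib.rel π i)) _

end Groth.Agent.S9828
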