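import Groth.Statements.S9829
import Groth.Agent.RegLocal.Consequences

set_option autoImplicit false
universe u
open CAlg

namespace Groth.Agent.S9829

/-- A regular local ring is an integrally closed domain. Hence a scheme all of whose local rings are
regular is normal. -/
theorem result (A : Type u) [CommRing A] [IsRegularLocalRing A] :
    IsIntegrallyClosed A := by
  suffices ∀ (n : ℕ) (R : Type u) [CommRing R] [IsRegularLocalRing R],
      ringKrullDim R ≤ n → IsIntegrallyClosed R by
    obtain ⟨d, hd⟩ := Groth.Agent.RegLocal.exists_nat_ringKrullDim A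
    exact this d A hd.le
  intro n
  induction n using Nat.strong_induction_on with
  | _ n ih =>
  intro R _ _ hn
  haveI := Groth.Agent.RegLocal.isDomain R
  obtain ⟨d, hd⟩ := Groth.Agent.RegLocal.exists_nat_ringKrullDim R
  obtain ⟨g, hg⟩ := Groth.Agent.RegLocal.exists_generators R
  by_cases hm : IsLocalRing.maximalIdeal R = ⊥
  · have := (IsLocalRing.isField_iff_maximalIdeal_eq).mpr hm
    letI := this.toField
    infer_instance
  obtain ⟨x, hxm, hx2⟩ : ∃ x ∈ IsLocalRing.maximalIdeal R, x ∉ (IsLocalRing.maximalIdeal R) ^ 2 := by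
    by_contra hc
    push Not at hc
    refine hm (Submodule.eq_bot_of_le_smul_of_le_jacobson_bot (IsLocalRing.maximalIdeal R) _
      (IsNoetherian.noetherian _) ?_ (IsLocalRing.jacobson_eq_maximalIdeal ⊥ bot_ne_top).ge)
    rw [smul_eq_mul, ← pow_two]
    exact hc
  obtain ⟨_, hreg⟩ : ∃ _ : IsLocalRing (R ⧸ Ideal.span {x}), IsRegularLocalRing (R ⧸ Ideal.span {x}) := by
    obtain ⟨h1, -⟩ := Groth.Agent.RegLocal.quot_singleton R hd hxm hx2
    exact ⟨inferInstance, h1⟩
  haveI := Groth.Agent.RegLocal.isDomain (R ⧸ Ideal.span {x})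
  have hP : (Ideal.span {x}).IsPrime := (Ideal.Quotient.isDomain_iff_prime _).mp inferInstance
  have hx0 : x ≠ 0 := fun h => hx2 (h ▸ Submodule.zero_mem _)
  refine (isIntegrallyClosed_iff (FractionRing R)).mpr fun {z} hz => ?_
  let D : Ideal R :=
    { carrier := {a | ∃ r, algebraMap R (FractionRing R) r = algebraMap R _ a * z}
      add_mem' := fun {a b} ⟨r, hr⟩ ⟨s, hs⟩ => ⟨r + s, by rw [map_add, hr, hs, map_add, add_mul]⟩
      zero_mem' := ⟨0, by simp⟩
      smul_mem' := fun c a ⟨r, hr⟩ => ⟨c * r, by rw [map_mul, hr, smul_eq_mul, map_mul, mul_assoc]⟩ }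
  have hxD : x ∈ D.radical := by
    rw [Ideal.radical_eq_sInf, Ideal.mem_sInf]
    rintro (q : Ideal R) ⟨hDq, hq⟩
    by_contra hxq
    haveI := hq
    let L := Localization.AtPrime q
    haveI := Groth.Agent.RegLocal.isRegularLocalRing_localization R q
    have hlt : ringKrullDim L < ringKrullDim R := by
      rw [IsLocalization.AtPrime.ringKrullDim_eq_height q L, ← IsLocalRing.maximalIdeal_height_eq_ringKrullDim]
      exact WithBot.coe_lt_coe.mpr (Ideal.height_strict_mono_of_isPrime
        (lt_of_le_of_ne (IsLocalRing.le_maximalIdeal hq.ne_top) (fun h => hxq (h ▸ hxm))))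
    obtain ⟨e, he⟩ := Groth.Agent.RegLocal.exists_nat_ringKrullDim L
    have hen : e < n := by
      have := hlt.trans_le hn
      rw [he] at this
      exact_mod_cast this
    haveI := ih e hen L he.le
    have hunit : ∀ s : q.primeCompl, IsUnit (Algebra.ofId R (FractionRing R) s) := fun s =>
      isUnit_iff_ne_zero.mpr fun h0 => s.2 (by
        rw [IsFractionRing.injective R (FractionRing R) (h0.trans (map_zero _).symm)]; exact q.zero_mem)
    let φ : L →ₐ[R] FractionRing R := IsLocalization.liftAlgHom (f := Algebra.ofId R (FractionRing R)) hunit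
    letI : Algebra L (FractionRing R) := φ.toRingHom.toAlgebra
    haveI : IsScalarTower R L (FractionRing R) := IsScalarTower.of_algebraMap_eq fun r => (φ.commutes r).symm
    haveI : IsFractionRing L (FractionRing R) :=
      IsFractionRing.isFractionRing_of_isDomain_of_isLocalization q.primeCompl L (FractionRing R)
    obtain ⟨l, hl⟩ := (isIntegrallyClosed_iff (FractionRing R)).mp ‹IsIntegrallyClosed L› (hz.tower_top (A := L))
    obtain ⟨⟨r, s⟩, rfl⟩ := IsLocalization.mk'_surjective q.primeCompl l
    refine s.2 (hDq ⟨r, ?_⟩)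
    rw [← hl, IsScalarTower.algebraMap_apply R L (FractionRing R), IsScalarTower.algebraMap_apply R L (FractionRing R) (s : R),
      ← map_mul, mul_comm, IsLocalization.mk'_spec]
  obtain ⟨N, r, hr⟩ := hxD
  induction N generalizing r with
  | zero => exact ⟨r, by simpa using hr⟩
  | succ N ihN =>
    obtain ⟨p, hp, hev⟩ := hz
    set φ := algebraMap R (FractionRing R)
    have hq' : (p.scaleRoots (x ^ (N + 1))).IsRoot r := by
      refine IsFractionRing.injective R (FractionRing R) ?_
      rw [map_zero, ← Polynomial.eval₂_at_apply]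
      have := Polynomial.scaleRoots_eval₂_eq_zero φ (s := x ^ (N + 1)) hev
      rwa [← hr] at this
    have hdvd : x ∣ r := by
      rw [Polynomial.IsRoot, Polynomial.eval_eq_sum_range, Finset.sum_range_succ, Polynomial.natDegree_scaleRoots] at hq'
      have h1 : (p.scaleRoots (x ^ (N + 1))).coeff p.natDegree * r ^ p.natDegree ∈ Ideal.span {x} := by
        rw [show (p.scaleRoots (x ^ (N + 1))).coeff p.natDegree * r ^ p.natDegree =
          -(∑ i ∈ Finset.range p.natDegree, (p.scaleRoots (x ^ (N + 1))).coeff i * r ^ i) from eq_neg_of_add_eq_zero_right hq']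
        refine neg_mem (Ideal.sum_mem _ fun i hi => ?_)
        rw [Polynomial.coeff_scaleRoots]
        refine Ideal.mem_span_singleton.mpr (Dvd.dvd.mul_right (Dvd.dvd.mul_left ?_ _) _)
        rw [← pow_mul]
        exact dvd_pow_self x (Nat.mul_ne_zero (Nat.succ_ne_zero N) (by have := Finset.mem_range.mp hi; omega))
      rw [Polynomial.coeff_scaleRoots_natDegree, hp.leadingCoeff, one_mul] at h1
      exact Ideal.mem_span_singleton.mp (hP.mem_of_pow_mem _ h1)
    obtain ⟨r', rfl⟩ := hdvd
    refine ihN r' (mul_left_cancel₀ (fun h0 => hx0 (IsFractionRing.injective R (FractionRing R) (h0.trans (map_zero φ).symm))) (?_ : φ x * _ = φ x * _))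
    rw [← map_mul, hr, ← mul_assoc, ← map_mul, pow_succ']

end Groth.Agent.S9829
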