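import Groth.Statements.S9835
import Groth.Agent.N2Lib.Basic

set_option autoImplicit false
universe u
open CategoryTheory AlgebraicGeometry TopologicalSpace
open Props

namespace Groth.Agent.S9835

/-- If an integral scheme has an affine open covering by spectra of Japanese (N-2) domains, then the
coordinate ring of every nonempty affine open is a Japanese domain. -/
theorem result (X : Scheme.{u}) [IsIntegral X] {ι : Type u}
    (U : ι → X.Opens) [∀ i, Nonempty (U i)] (hU : iSup U = ⊤) (haff : ∀ i, IsAffineOpen (U i))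
    (hJ : ∀ i, CAlg.IsN2 Γ(X, U i)) (V : X.Opens) [Nonempty V] (hV : IsAffineOpen V) :
    CAlg.IsN2 Γ(X, V) := by
  refine of_affine_open_cover (P := fun W : X.affineOpens => ∀ _ : Nonempty (W : X.Opens), CAlg.IsN2 Γ(X, W))
    (fun i => ⟨U i, haff i⟩) hU ⟨V, hV⟩ ?_ ?_ (fun i _ => hJ i) ‹_›
  · intro W f hW hne
    haveI : Nonempty (X.basicOpen f) := hne
    haveI : Nonempty (W : X.Opens) := hne.map fun x => ⟨x.1, X.basicOpen_le f x.2⟩
    haveI := W.2.isLocalization_basicOpen f
    exact Groth.Agent.N2Lib.isN2_localization (Submonoid.powers f) Γ(X, X.basicOpen f) (hW ‹_›)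
  · intro W s hs h hne
    let ι := {f : s // (f : Γ(X, W)) ≠ 0}
    have hι : Ideal.span (Set.range fun f : ι => ((f.1 : s) : Γ(X, W))) = ⊤ := by
      refine eq_top_iff.2 (hs ▸ Ideal.span_le.2 fun x hx => ?_)
      by_cases h0 : x = 0
      · rw [h0]; exact zero_mem _
      · exact Ideal.subset_span ⟨⟨⟨x, hx⟩, h0⟩, rfl⟩
    haveI hb : ∀ f : ι, Nonempty (X.basicOpen ((f.1 : s) : Γ(X, W))) := fun f => by
      rw [← not_isEmpty_iff]
      intro he
      refine f.2 ((basicOpen_eq_bot_iff _).1 ?_)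
      exact eq_bot_iff.2 fun x hx => he.elim ⟨x, hx⟩
    haveI : ∀ f : ι, IsLocalization.Away ((f.1 : s) : Γ(X, W)) Γ(X, X.basicOpen ((f.1 : s) : Γ(X, W))) :=
      fun f => W.2.isLocalization_basicOpen _
    exact Groth.Agent.N2Lib.isN2_of_span _ hι (fun f : ι => Γ(X, X.basicOpen ((f.1 : s) : Γ(X, W))))
      fun f => h f.1 (hb f)

end Groth.Agent.S9835
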