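import Groth.Statements.S9836
import Groth.Agent.InfLiftLib.Torsor
import Groth.Agent.DefExtLib.OmegaExt
import Groth.Agent.TwistShriek.ClosedTensor
import Groth.Agent.FinLocFreeLib.PushFP
import Groth.Agent.FlatStage.Smooth

set_option autoImplicit false
set_option backward.isDefEq.respectTransparency false
set_option backward.isDefEq.respectTransparency.types false
universe u
open CategoryTheory CategoryTheory.Limits AlgebraicGeometry
open Props

namespace Groth.Agent.S9836

/-- For a closed immersion i : Z → X with ideal sheaf of finite type and a quasi-coherent O_X-module F,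
the subsheaf of sections of F annihilated by the ideal, namely i_* Hom(O_Z, F) for the right adjoint
Hom(O_Z, -) of i_*, is a quasi-coherent O_X-module. -/
theorem result {Z X : Scheme.{u}} (i : Z ⟶ X)
    [IsClosedImmersion i] [LocallyOfFinitePresentation i] [Dual3.HasHomO i] (F : X.Modules) [Coh.IsQCoh F] :
    Coh.IsQCoh ((Scheme.Modules.pushforward i).obj ((Dual3.homO i).obj F)) := by
  let O := Coh.structureModule Z
  haveI : Coh.IsQCoh O := CohBase.isQCoh_structureModule
  let P := (Scheme.Modules.pushforward i).obj O
  haveI : Coh.IsQCoh P := QCohLib.isQCoh_pushforward O i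
  have hP : CohB1.IsFP P := (FinLocFreeLib.isFP_push_iff i O).1 (FlatStage.isFP_structureModule Z)
  haveI : DCoh.HasSheafHom P := DefExtLib.hasSheafHom P
  let adj : (DCoh.tensorBi (X := X)).obj P ⊣ Dual3.homO i ⋙ Scheme.Modules.pushforward i :=
    ((Scheme.Modules.pullbackPushforwardAdjunction i).comp (Dual3.homOAdj i)).ofNatIsoLeft
      ((TwistShriek.closedTensorIso i).symm ≪≫ ModTensor.tensorSymm X.sheaf P)
  let e := ((DCoh.sheafHomAdj P).rightAdjointUniq adj).app F
  obtain ⟨e'⟩ := InfLiftLib.nonempty_homSh_iso P F
  exact (SheafOfModules.isQuasicoherent X.ringCatSheaf).prop_of_iso (e'.symm ≪≫ e)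
    (HomLib.isQCoh_homSh_of_isFP (M := P) (N := F) hP inferInstance)

end Groth.Agent.S9836
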