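import Groth.Statements.S9838
import Groth.Agent.QCohLib.FiniteType
import Groth.Agent.QCohLib.Push

set_option backward.isDefEq.respectTransparency false
set_option autoImplicit false
open CategoryTheory CategoryTheory.Limits AlgebraicGeometry Opposite
universe u
open Desc

namespace Groth.Agent.S9838

/-- Let f : X ⟶ Y be a finite morphism of schemes and F a quasi-coherent O_X-module. The pushforward
f_*F is of finite type as an O_Y-module exactly when F itself is of finite type as an O_X-module. -/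
theorem result {X Y : Scheme.{u}} (f : X ⟶ Y) [IsFinite f]
    (F : X.Modules) [F.IsQuasicoherent] :
    SheafOfModules.IsFiniteType (R := X.ringCatSheaf) F ↔
      SheafOfModules.IsFiniteType (R := Y.ringCatSheaf) ((Scheme.Modules.pushforward f).obj F) := by
  haveI : Coh.IsQCoh F := ‹F.IsQuasicoherent›
  haveI : Coh.IsQCoh ((Scheme.Modules.pushforward f).obj F) := Groth.Agent.QCohLib.isQCoh_pushforward (M := F) f
  have hfin : ∀ V : Y.affineOpens, (f.app V.1).hom.Finite := fun V => f.finite_app V.1 V.2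
  constructor
  · intro h
    refine Groth.Agent.QCohLib.isFiniteType_of_finite _ (fun V : Y.affineOpens => (V : Y.Opens))
      (fun V => V.2) (iSup_affineOpens_eq_top Y) fun V => ?_
    letI := (f.app V.1).hom.toAlgebra
    letI : Module Γ(Y, V.1) Γ(F, f ⁻¹ᵁ V.1) := Module.compHom _ (f.app V.1).hom
    haveI : IsScalarTower Γ(Y, V.1) Γ(X, f ⁻¹ᵁ V.1) Γ(F, f ⁻¹ᵁ V.1) := .of_algebraMap_smul fun _ _ => rfl
    haveI : Module.Finite Γ(Y, V.1) Γ(X, f ⁻¹ᵁ V.1) := hfin V
    haveI := Groth.Agent.QCohLib.finite_sections F h (V.2.preimage f)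
    exact (Module.Finite.trans Γ(X, f ⁻¹ᵁ V.1) Γ(F, f ⁻¹ᵁ V.1) : Module.Finite Γ(Y, V.1) Γ(F, f ⁻¹ᵁ V.1))
  · intro h
    refine Groth.Agent.QCohLib.isFiniteType_of_finite F (fun V : Y.affineOpens => f ⁻¹ᵁ (V : Y.Opens))
      (fun V => V.2.preimage f)
      (by rw [← Scheme.Hom.preimage_iSup, iSup_affineOpens_eq_top, Scheme.Hom.preimage_top]) fun V => ?_
    letI := (f.app V.1).hom.toAlgebra
    letI : Module Γ(Y, V.1) Γ(F, f ⁻¹ᵁ V.1) := Module.compHom _ (f.app V.1).hom
    haveI : IsScalarTower Γ(Y, V.1) Γ(X, f ⁻¹ᵁ V.1) Γ(F, f ⁻¹ᵁ V.1) := .of_algebraMap_smul fun _ _ => rfl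
    haveI : Module.Finite Γ(Y, V.1) Γ(F, f ⁻¹ᵁ V.1) := Groth.Agent.QCohLib.finite_sections _ h V.2
    exact Module.Finite.of_restrictScalars_finite Γ(Y, V.1) Γ(X, f ⁻¹ᵁ V.1) Γ(F, f ⁻¹ᵁ V.1)

end Groth.Agent.S9838
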