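import Groth.Statements.S9839
import Groth.Agent.FpqcTopLib.Basic

set_option autoImplicit false
open CategoryTheory CategoryTheory.Limits AlgebraicGeometry Opposite
universe u
open Desc

namespace Groth.Agent.S9839

/-- Let f i : T i ⟶ T be an fpqc covering family of a scheme T (a family in the fpqc precoverage) and W
i ⊆ T i open subsets such that for all i, j the inverse images of W i and W j under the two
projections of T i ×_T T j coincide. Then there is a unique open subset W ⊆ T with (f i)⁻¹(W) = W i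
for every i. -/
theorem result {ι : Type u} {T : Scheme.{u}} {Ti : ι → Scheme.{u}}
    (f : ∀ i, Ti i ⟶ T) (hf : Presieve.ofArrows Ti f ∈ Scheme.fpqcPrecoverage T)
    (W : ∀ i, (Ti i).Opens)
    (hW : ∀ i j, (pullback.fst (f i) (f j)) ⁻¹ᵁ (W i) = (pullback.snd (f i) (f j)) ⁻¹ᵁ (W j)) :
    ∃! V : T.Opens, ∀ i, (f i) ⁻¹ᵁ V = W i := by
  let E : PreZeroHypercover.{u} T := ⟨ι, Ti, f⟩
  haveI : QuasiCompactCover E := Scheme.presieve₀_mem_qcPrecoverage_iff.mp hf.1
  have hm := (Scheme.ofArrows_mem_precoverage_iff (P := @Flat)).mp hf.2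
  haveI : ∀ i, Flat (E.f i) := hm.2
  have hsat : ∀ i j (x : Ti i) (y : Ti j), f i x = f j y → x ∈ W i → y ∈ W j := fun i j x y e hx => by
    obtain ⟨z, hz1, hz2⟩ := Scheme.Pullback.exists_preimage_pullback x y e
    have : z ∈ pullback.fst (f i) (f j) ⁻¹ᵁ W i := by show pullback.fst (f i) (f j) z ∈ W i; rw [hz1]; exact hx
    rw [hW i j] at this
    exact hz2 ▸ this
  let s : Set T := ⋃ i, f i '' (W i : Set (Ti i))
  have hpre : ∀ j, f j ⁻¹' s = (W j : Set (Ti j)) := fun j => by
    ext y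
    simp only [Set.mem_preimage, s, Set.mem_iUnion, Set.mem_image, SetLike.mem_coe]
    exact ⟨fun ⟨i, x, hx, e⟩ => hsat i j x y e hx, fun hy => ⟨j, y, hy, rfl⟩⟩
  have hopen : IsOpen s := FpqcTopLib.isOpen_of_preimage E fun j => by
    show IsOpen (f j ⁻¹' s)
    rw [hpre]
    exact (W j).2
  refine ⟨⟨s, hopen⟩, fun j => TopologicalSpace.Opens.ext (hpre j), fun V hV => ?_⟩
  ext y
  obtain ⟨i, x, rfl⟩ := hm.1 y
  show f i x ∈ V ↔ f i x ∈ s
  rw [← Set.mem_preimage (f := f i) (s := s), hpre, ← hV i]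
  rfl

end Groth.Agent.S9839
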