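import Groth.Statements.S9842
import Mathlib

set_option autoImplicit false
open CategoryTheory CategoryTheory.Limits AlgebraicGeometry Opposite
universe u
open Desc

namespace Groth.Agent.S9842

/-- Let E/k be a field extension, Y a scheme over k and f : X ⟶ Y a morphism. Writing Y_E = Y ×_k Spec
E, the morphism f is dominant if and only if its base change X ×_Y Y_E ⟶ Y_E is dominant. -/
theorem result {k E : Type u} [Field k] [Field E] [Algebra k E]
    {X Y : Scheme.{u}} (f : X ⟶ Y) (q : Y ⟶ Spec (.of k)) :
    IsDominant f ↔
      IsDominant (pullback.snd f (pullback.fst q (Spec.map (CommRingCat.ofHom (algebraMap k E))))) := by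
  let p := pullback.fst q (Spec.map (CommRingCat.ofHom (algebraMap k E)))
  haveI : Surjective (Spec.map (CommRingCat.ofHom (algebraMap k E))) :=
    ⟨fun x => ⟨(⟨⊥, Ideal.isPrime_bot⟩ : PrimeSpectrum E), Subsingleton.elim (α := PrimeSpectrum k) _ _⟩⟩
  haveI : Subsingleton (Spec (CommRingCat.of k)) := inferInstanceAs (Subsingleton (PrimeSpectrum k))
  haveI : Surjective p := MorphismProperty.pullback_fst _ _ inferInstance
  haveI : UniversallyOpen p := MorphismProperty.pullback_fst _ _ inferInstance
  rw [isDominant_iff, isDominant_iff, DenseRange, DenseRange, Scheme.Pullback.range_snd,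
    dense_iff_closure_eq, dense_iff_closure_eq,
    ← p.isOpenMap.preimage_closure_eq_closure_preimage p.continuous]
  refine ⟨fun h => by rw [h, Set.preimage_univ], fun h => ?_⟩
  refine Set.eq_univ_of_forall fun y => ?_
  obtain ⟨z, rfl⟩ := p.surjective y
  exact h.superset (Set.mem_univ z)

end Groth.Agent.S9842
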