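import Groth.Statements.S9850
-- import your own Groth.Agent.* helpers here
import Groth.Agent.CIFlatLib.Basic
import Groth.Agent.CILib.RegularImmersionFibre
import Groth.Agent.FpqcDesc.Stalk
import Groth.Agent.S0114

set_option backward.isDefEq.respectTransparency false

set_option autoImplicit false
open CategoryTheory CategoryTheory.Limits AlgebraicGeometry Opposite
universe u
open Desc

namespace Groth.Agent.S9850

open IsLocalRing

theorem isNoetherianRing_fiberStalk {Y S : Scheme.{u}} (q : Y ⟶ S) [LocallyOfFiniteType q] (y : Y) :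
    IsNoetherianRing (CInt.fiberStalk q y) := by
  haveI : LocallyOfFiniteType (q.fiberToSpecResidueField (q.base y)) :=
    MorphismProperty.pullback_snd q _ inferInstance
  haveI : IsLocallyNoetherian (q.fiber (q.base y)) :=
    LocallyOfFiniteType.isLocallyNoetherian (q.fiberToSpecResidueField (q.base y))
  infer_instance

theorem quot_core (A₀ B₀ : Type u) [CommRing A₀] [CommRing B₀] [IsLocalRing A₀] [IsLocalRing B₀] [Algebra A₀ B₀]
    [IsLocalHom (algebraMap A₀ B₀)] [Module.Flat A₀ B₀] (I : Ideal A₀) (hI : I ≤ maximalIdeal A₀)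
    [IsNoetherianRing (A₀ ⧸ I)] [IsNoetherianRing (B₀ ⧸ I.map (algebraMap A₀ B₀))]
    [IsLocalRing (A₀ ⧸ I)] [IsLocalRing (B₀ ⧸ I.map (algebraMap A₀ B₀))]
    [IsLocalRing (B₀ ⧸ (maximalIdeal A₀).map (algebraMap A₀ B₀))] :
    Pi1.IsCompleteIntersection (B₀ ⧸ I.map (algebraMap A₀ B₀)) ↔ Pi1.IsCompleteIntersection (A₀ ⧸ I) ∧
      Pi1.IsCompleteIntersection (B₀ ⧸ (maximalIdeal A₀).map (algebraMap A₀ B₀)) := by
  let A := A₀ ⧸ I
  let B := B₀ ⧸ I.map (algebraMap A₀ B₀)
  haveI : Module.Flat A B := RingHom.flat_algebraMap_iff.1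
    ((FlatLocus.quotLift_flat_iff (A := A₀) (B := B₀) (C := B) I (Ideal.Quotient.mk _) Ideal.Quotient.mk_surjective
      Ideal.mk_ker (algebraMap A B) rfl).2 inferInstance)
  have hmA : maximalIdeal A = (maximalIdeal A₀).map (Ideal.Quotient.mk I) :=
    (IsLocalRing.map_maximalIdeal_of_surjective _ Ideal.Quotient.mk_surjective).symm
  have hmB : maximalIdeal B = (maximalIdeal B₀).map (Ideal.Quotient.mk (I.map (algebraMap A₀ B₀))) :=
    (IsLocalRing.map_maximalIdeal_of_surjective _ Ideal.Quotient.mk_surjective).symm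
  have hm : (maximalIdeal A).map (algebraMap A B) = ((maximalIdeal A₀).map (algebraMap A₀ B₀)).map
      (Ideal.Quotient.mk (I.map (algebraMap A₀ B₀))) := by
    rw [hmA, Ideal.map_map, Ideal.map_map]
    rfl
  haveI : IsLocalHom (algebraMap A B) := ((local_hom_TFAE (algebraMap A B)).out 0 2).mpr (by
    rw [hm, hmB]
    exact Ideal.map_mono (IsLocalRing.map_maximalIdeal_le _))
  let e : (B ⧸ (maximalIdeal A).map (algebraMap A B)) ≃+* B₀ ⧸ (maximalIdeal A₀).map (algebraMap A₀ B₀) :=
    (Ideal.quotEquivOfEq hm).trans (DoubleQuot.quotQuotEquivQuotOfLE (Ideal.map_mono hI))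
  haveI := e.symm.isLocalRing
  rw [← CIFlatLib.isCI_congr e]
  exact CIFlatLib.isCI_iff_of_flat A B

theorem fibre_core {X Y S : Scheme.{u}} (f : X ⟶ Y) (q : Y ⟶ S) [Flat f] [LocallyOfFiniteType f]
    [LocallyOfFiniteType q] (x : X) :
    Pi1.IsCompleteIntersection (CInt.fiberStalk (f ≫ q) x) ↔
      Pi1.IsCompleteIntersection (CInt.fiberStalk q (f x)) ∧ Pi1.IsCompleteIntersection (CInt.fiberStalk f x) := by
  obtain ⟨eA⟩ := CILib.nonempty_fiberStalk_quot_equiv q (f x)
  obtain ⟨eB⟩ := CILib.nonempty_fiberStalk_quot_equiv (f ≫ q) x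
  obtain ⟨eC⟩ := CILib.nonempty_fiberStalk_quot_equiv f x
  haveI := isNoetherianRing_fiberStalk q (f x)
  haveI := isNoetherianRing_fiberStalk (f ≫ q) x
  letI : Algebra (Y.presheaf.stalk (f x)) (X.presheaf.stalk x) := (f.stalkMap x).hom.toAlgebra
  haveI : IsLocalHom (algebraMap (Y.presheaf.stalk (f x)) (X.presheaf.stalk x)) :=
    inferInstanceAs (IsLocalHom (f.stalkMap x).hom)
  haveI : Module.Flat (Y.presheaf.stalk (f x)) (X.presheaf.stalk x) := Flat.stalkMap f x
  let I := (maximalIdeal (S.presheaf.stalk (q (f x)))).map (q.stalkMap (f x)).hom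
  have hJ : (maximalIdeal (S.presheaf.stalk ((f ≫ q) x))).map ((f ≫ q).stalkMap x).hom =
      I.map (algebraMap (Y.presheaf.stalk (f x)) (X.presheaf.stalk x)) := by
    rw [Ideal.map_map, Scheme.Hom.stalkMap_comp]
    rfl
  let A := Y.presheaf.stalk (f x) ⧸ I
  let B := X.presheaf.stalk x ⧸ I.map (algebraMap (Y.presheaf.stalk (f x)) (X.presheaf.stalk x))
  let eB' : B ≃+* CInt.fiberStalk (f ≫ q) x := (Ideal.quotEquivOfEq hJ.symm).trans eB
  haveI : IsLocalRing A := eA.symm.isLocalRing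
  haveI : IsLocalRing B := eB'.symm.isLocalRing
  haveI : IsNoetherianRing A := isNoetherianRing_of_ringEquiv _ eA.symm
  haveI : IsNoetherianRing B := isNoetherianRing_of_ringEquiv _ eB'.symm
  have hI : I ≤ maximalIdeal _ := le_maximalIdeal fun h => by
    haveI : Subsingleton A := Ideal.Quotient.subsingleton_iff.2 h
    exact not_subsingleton A inferInstance
  haveI : IsLocalRing (X.presheaf.stalk x ⧸ (maximalIdeal (Y.presheaf.stalk (f x))).map
      (algebraMap (Y.presheaf.stalk (f x)) (X.presheaf.stalk x))) := eC.symm.isLocalRing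
  rw [← CIFlatLib.isCI_congr eB', ← CIFlatLib.isCI_congr eA, ← CIFlatLib.isCI_congr eC]
  exact quot_core (Y.presheaf.stalk (f x)) (X.presheaf.stalk x) I hI

/-- Let f : X ⟶ Y be surjective, flat and locally of finite presentation and q : Y ⟶ S a morphism such
that f ≫ q is syntomic. Then q is syntomic, and so is f. -/
theorem result {X Y S : Scheme.{u}} (f : X ⟶ Y) (q : Y ⟶ S)
    [Surjective f] [Flat f] [LocallyOfFinitePresentation f] (h : Synt.IsSyntomicMor (f ≫ q)) :
    Synt.IsSyntomicMor q ∧ Synt.IsSyntomicMor f := by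
  haveI : LocallyOfFinitePresentation (f ≫ q) := ((CILib.isCIMorphism_iff_isSyntomicMor _).2 h).2.1
  haveI : Flat (f ≫ q) := ((CILib.isCIMorphism_iff_isSyntomicMor _).2 h).1
  haveI : Flat q := FlatDescStalk.flat_of_comp f q
  haveI : LocallyOfFinitePresentation q := S0114.result f q
  have hc := fun x => (fibre_core f q x).1 (((CILib.isCIMorphism_iff_isSyntomicMor _).2 h).2.2 x)
  refine ⟨(CILib.isCIMorphism_iff_isSyntomicMor q).1 ⟨inferInstance, inferInstance, fun y => ?_⟩,
    (CILib.isCIMorphism_iff_isSyntomicMor f).1 ⟨inferInstance, inferInstance, fun x => (hc x).2⟩⟩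
  obtain ⟨x, rfl⟩ := f.surjective y
  exact (hc x).1

end Groth.Agent.S9850
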