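import Groth.Statements.S9851
import Groth.Agent.SchDescZarLib.Equiv

set_option autoImplicit false
open CategoryTheory CategoryTheory.Limits AlgebraicGeometry Opposite
universe u
open Desc

namespace Groth.Agent.S9851

/-- Let f i : X i ⟶ S be a family of morphisms of schemes and X = ∐ X i with its morphism to S. The
canonical functor from descent data for schemes relative to X ⟶ S to descent data relative to the
family, which pulls a datum back along the coprojections X i ⟶ X, is an equivalence of categories.
(The published statement names the quasi-inverse functor, sending a family (V i, φ ij) to (∐ V i, ∐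
φ ij); asserting that the canonical pullback functor is an equivalence is the same result.) -/
theorem result {ι : Type u} {S : Scheme.{u}} {X : ι → Scheme.{u}} (f : ∀ i, X i ⟶ S) :
    (Desc.SchDDFam.ofSchDD (Sigma.desc f) ⋙
      Desc.pullDDFam (f := fun _ : PUnit.{u + 1} => Sigma.desc f) (f' := f) (α := fun _ => PUnit.unit)
        (p := 𝟙 S) (p' := fun i => Sigma.ι X i)
        (fun i => (Sigma.ι_desc f i).trans (Category.comp_id (f i)).symm)).IsEquivalence := by
  have hcov : ∀ j : PUnit.{u + 1}, Presieve.ofArrows (fun k : Groth.Agent.SchDescZarLib.Over' (fun _ : ι => PUnit.unit.{u + 1}) j => X k.1)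
      (Groth.Agent.SchDescZarLib.gOver (V := fun _ : PUnit.{u + 1} => ∐ X) (fun _ : ι => PUnit.unit.{u + 1}) (fun i => Sigma.ι X i) j) ∈
      Scheme.zariskiPrecoverage ((fun _ : PUnit.{u + 1} => ∐ X) j) := by
    intro j
    obtain ⟨⟩ := j
    refine Scheme.presieve₀_mem_precoverage_iff (P := @IsOpenImmersion)
      (E := ({ I₀ := _, X := _, f := _ } : PreZeroHypercover.{u} (∐ X))) |>.mpr ⟨fun x => ?_, fun k => ?_⟩
    · obtain ⟨⟨i, y⟩, rfl⟩ := (sigmaMk X).surjective x
      refine ⟨⟨i, rfl⟩, y, ?_⟩
      show (Groth.Agent.SchDescZarLib.gOver (V := fun _ : PUnit.{u + 1} => ∐ X) _ _ _ ⟨i, rfl⟩) y = _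
      rw [Groth.Agent.SchDescZarLib.gOver_rfl, sigmaMk_mk]
    · obtain ⟨i, hi⟩ := k
      show IsOpenImmersion (Groth.Agent.SchDescZarLib.gOver (V := fun _ : PUnit.{u + 1} => ∐ X) _ _ _ ⟨i, rfl⟩)
      rw [Groth.Agent.SchDescZarLib.gOver_rfl]
      infer_instance
  haveI := Groth.Agent.SchDescZarLib.pull_isEquivalence f (fun _ : PUnit.{u + 1} => Sigma.desc f)
    (fun _ : ι => PUnit.unit.{u + 1}) (fun i => Sigma.ι X i)
    (fun i => (Sigma.ι_desc f i).trans (Category.comp_id (f i)).symm) hcov
  haveI : (Desc.SchDDFam.ofSchDD (Sigma.desc f)).IsEquivalence :=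
    (Desc.SchDDFam.oneEquiv (Sigma.desc f)).symm.isEquivalence_functor
  infer_instance

end Groth.Agent.S9851
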