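import Groth.Statements.S9852
import Mathlib

set_option autoImplicit false
open CategoryTheory CategoryTheory.Limits AlgebraicGeometry Opposite
universe u
open Desc

namespace Groth.Agent.S9852

/-- Let g : X ⟶ X' be a morphism of schemes over S, with structure morphisms a : X ⟶ S and a' : X' ⟶ S,
and assume a is surjective and flat. Then the pullback functor along g, from descent data for
schemes relative to X' ⟶ S to descent data relative to X ⟶ S, is faithful. (Descent data relative to
a single morphism are written as descent data relative to the corresponding one-member family.) -/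
theorem result {X X' S : Scheme.{u}} (a : X ⟶ S) (a' : X' ⟶ S) (g : X ⟶ X')
    (h : g ≫ a' = a) [Surjective a] [Flat a] :
    (Desc.pullDDFam (f := fun _ : PUnit.{u + 1} => a') (f' := fun _ : PUnit.{u + 1} => a) (α := fun j => j)
        (p := 𝟙 S) (p' := fun _ => g) (fun _ => (h).trans (Category.comp_id a).symm)).Faithful := by
  refine ⟨fun {D D'} {α β} he => ?_⟩
  apply Desc.SchDDFam.hom_ext
  funext j
  apply Over.OverMorphism.ext
  let q := (D.obj j).hom ≫ a'
  let T := Limits.pullback q a
  let r : T ⟶ (D.obj j).left := Limits.pullback.fst q a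
  let y : T ⟶ X := Limits.pullback.snd q a
  haveI : Flat r := MorphismProperty.pullback_fst _ _ ‹_›
  haveI : Surjective r := MorphismProperty.pullback_fst _ _ ‹_›
  haveI := Flat.epi_of_flat_of_surjective r
  rw [← cancel_epi r]
  let x₀ : T ⟶ X' := r ≫ (D.obj j).hom
  let x₁ : T ⟶ X' := y ≫ g
  have hx : x₀ ≫ a' = x₁ ≫ a' := by
    simp only [x₀, x₁, Category.assoc, h]
    exact Limits.pullback.condition
  let v : Desc.Lifts (D.obj j) x₀ := ⟨r, rfl⟩
  let v₁ := D.φ (i := j) (j := j) x₀ x₁ hx v
  let z : T ⟶ Limits.pullback (D.obj j).hom g := Limits.pullback.lift v₁.1 y v₁.2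
  have h2 : v₁.1 ≫ (α.hom j).left = v₁.1 ≫ (β.hom j).left := by
    have hj := congrArg (fun c => z ≫ ((Desc.SchDDFam.Hom.hom c j).left) ≫ Limits.pullback.fst (D'.obj j).hom g) he
    have e : ∀ c : D ⟶ D', z ≫ Limits.pullback.map (D.obj j).hom g (D'.obj j).hom g (c.hom j).left (𝟙 _) (𝟙 _)
        (by simp [Over.w]) (by simp) ≫ Limits.pullback.fst (D'.obj j).hom g = v₁.1 ≫ (c.hom j).left := fun c => by
      rw [Limits.pullback.lift_fst]
      exact (Category.assoc _ _ _).symm.trans (congrArg (· ≫ (c.hom j).left) (Limits.pullback.lift_fst _ _ _))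
    exact (e α).symm.trans (hj.trans (e β))
  have h3 : D'.φ (i := j) (j := j) x₀ x₁ hx (α.push v) = D'.φ (i := j) (j := j) x₀ x₁ hx (β.push v) :=
    Subtype.ext ((α.comm x₀ x₁ hx v _ rfl).trans (h2.trans (β.comm x₀ x₁ hx v _ rfl).symm))
  exact congrArg Subtype.val ((D'.φ x₀ x₁ hx).injective h3)

end Groth.Agent.S9852
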