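import Groth.Statements.S9857
import Groth.Agent.LocDimBC.Comp

set_option backward.isDefEq.respectTransparency false
set_option autoImplicit false
open CategoryTheory CategoryTheory.Limits AlgebraicGeometry Opposite
universe u
open Desc

namespace Groth.Agent.S9857

/-- The property of a morphism being locally of finite type with relative dimension d may be checked
fpqc locally on the target; the descent direction for the dimension condition, stated for a single
flat surjective quasi-compact base change g : Y' ⟶ Y of a morphism f : X ⟶ Y locally of finite type
and a cartesian square with base change f' : X' ⟶ Y': if every irreducible component of every fibre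
of f' has dimension d, then every irreducible component of every fibre of f has dimension d. (Local
finite type itself descends along g by a separate result; stability under base change is the other
direction.) -/
theorem result {X Y X' Y' : Scheme.{u}} (f : X ⟶ Y) [LocallyOfFiniteType f] (g : Y' ⟶ Y)
    [Flat g] [Surjective g] [QuasiCompact g] (g' : X' ⟶ X) (f' : X' ⟶ Y') (hsq : IsPullback g' f' f g)
    (d : ℕ) (h : Cyc.HasRelDim f' d) : Cyc.HasRelDim f d := by
  intro y T hT
  obtain ⟨y', rfl⟩ := g.surjective y
  haveI : LocallyOfFiniteType (f.fiberToSpecResidueField (g y')) := MorphismProperty.pullback_snd _ _ ‹_›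
  have sq := isPullback_fiberToSpecResidueField_of_isPullback hsq y'
  haveI : LocallyOfFiniteType (f'.fiberToSpecResidueField y') := MorphismProperty.of_isPullback sq ‹_›
  haveI : IsIntegral (Spec (CommRingCat.of (Y.residueField (g y')))) := inferInstance
  set m := _
  have sq' : IsPullback m _ _ _ := sq
  haveI : Flat m := MorphismProperty.of_isPullback sq'.flip
    (inferInstance : Flat (Spec.map (g.residueFieldMap y')))
  obtain ⟨z, rfl, hz⟩ := Groth.Agent.DimFormulaLib.exists_generic_of_mem_irreducibleComponents hT
  haveI : Surjective (Spec.map (g.residueFieldMap y')) := ⟨fun p => ⟨IsLocalRing.closedPoint _, Subsingleton.elim _ _⟩⟩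
  haveI : Surjective m := MorphismProperty.of_isPullback sq'.flip inferInstance
  obtain ⟨z'', hz''⟩ := m.surjective z
  obtain ⟨η, hη⟩ := QuasiSober.sober (isIrreducible_irreducibleComponent (x := z''))
    (isClosed_irreducibleComponent (x := z''))
  have hηT : irreducibleComponent z'' ∈ irreducibleComponents _ := irreducibleComponent_mem_irreducibleComponents z''
  obtain ⟨w, hw, hwmax⟩ := Groth.Agent.DimFormulaLib.exists_generic_of_mem_irreducibleComponents hηT
  have hwz : m w = z := hz _ (by
    rw [← hz'']
    exact (specializes_iff_mem_closure.2 (hw.symm ▸ mem_irreducibleComponent)).map m.continuous)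
  have hd := h y' _ (Groth.Agent.DimFormulaLib.closure_mem_irreducibleComponents hwmax)
  rw [Groth.Agent.LocDimBC.dim_component (f'.fiberToSpecResidueField y') w hwmax] at hd
  replace hd := (Groth.Agent.LocDimBC.localDim_fieldExtension sq' w).symm.trans hd
  rw [hwz] at hd
  rw [Groth.Agent.LocDimBC.dim_component (f.fiberToSpecResidueField (g y')) z hz]
  exact hd

end Groth.Agent.S9857
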