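import Groth.Statements.S9859
import Mathlib
import Groth.Agent.LargestOpenLib.Basic

set_option backward.isDefEq.respectTransparency false
set_option autoImplicit false
open CategoryTheory CategoryTheory.Limits AlgebraicGeometry Opposite
universe u
open Desc

namespace Groth.Agent.S9859

/-- Case τ = fppf: let P be a property of morphisms of schemes which is fppf local on the base and f : X
⟶ Y a morphism. There is a largest open W of Y such that the restriction of f over W has P;
moreover, first, if g : Y' ⟶ Y is flat and locally of finite presentation and the base change of f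
to Y' has P, then the image of g lies in W; and second, for such g the largest open of Y' over which
the base change of f has P is exactly g⁻¹(W). -/
theorem result (P : MorphismProperty Scheme.{u})
    [MorphismProperty.IsLocalAtTarget P Scheme.fppfPrecoverage] {X Y : Scheme.{u}} (f : X ⟶ Y) :
    ∃ W : Y.Opens, P (f ∣_ W) ∧ (∀ W₀ : Y.Opens, P (f ∣_ W₀) → W₀ ≤ W) ∧
      (∀ (Y' : Scheme.{u}) (g : Y' ⟶ Y), Flat g → LocallyOfFinitePresentation g →
        P (pullback.snd f g) → Set.range g.base ⊆ (W : Set Y)) ∧
      (∀ (Y' : Scheme.{u}) (g : Y' ⟶ Y), Flat g → LocallyOfFinitePresentation g →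
        ∀ W' : Y'.Opens, P (pullback.snd f g ∣_ W') → (∀ W₀ : Y'.Opens, P (pullback.snd f g ∣_ W₀) → W₀ ≤ W') →
          W' = g ⁻¹ᵁ W) := by
  haveI : P.IsLocalAtTarget (Scheme.precoverage (@Flat ⊓ @LocallyOfFinitePresentation : MorphismProperty Scheme.{u})) := by assumption
  have hQ : ∀ {A B : Scheme.{u}} (j : A ⟶ B) [IsOpenImmersion j], (@Flat ⊓ @LocallyOfFinitePresentation : MorphismProperty Scheme.{u}) j :=
    fun j _ => ⟨inferInstanceAs (Flat j), inferInstanceAs (LocallyOfFinitePresentation j)⟩
  have hopen : ∀ {A B : Scheme.{u}} (g : A ⟶ B), (@Flat ⊓ @LocallyOfFinitePresentation : MorphismProperty Scheme.{u}) g → IsOpenMap g :=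
    fun g hg => haveI : Flat g := hg.1; haveI : LocallyOfFinitePresentation g := hg.2; g.isOpenMap
  obtain ⟨W, hW, hmax⟩ := Groth.Agent.LargestOpenLib.exists_largest_target (Q := (@Flat ⊓ @LocallyOfFinitePresentation : MorphismProperty Scheme.{u})) P hQ f
  exact ⟨W, hW, hmax,
    fun Y' g h1 h2 hP => Groth.Agent.LargestOpenLib.range_subset_target (Q := (@Flat ⊓ @LocallyOfFinitePresentation : MorphismProperty Scheme.{u})) P hQ hopen f W hmax g ⟨h1, h2⟩ hP,
    fun Y' g h1 h2 W' hW' hW'max => Groth.Agent.LargestOpenLib.largest_target_pullback (Q := (@Flat ⊓ @LocallyOfFinitePresentation : MorphismProperty Scheme.{u})) P hQ hopen f W hW hmax g ⟨h1, h2⟩ W' hW' hW'max⟩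

end Groth.Agent.S9859
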