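import Groth.Statements.S9860
import Mathlib

set_option backward.isDefEq.respectTransparency false
set_option autoImplicit false
open CategoryTheory CategoryTheory.Limits AlgebraicGeometry Opposite
universe u
open Desc

namespace Groth.Agent.S9860

/-- Consider morphisms of schemes f i : X i ⟶ X indexed by i. Suppose that, whenever Y is an affine
scheme and g : Y ⟶ X is a morphism, the sieve on Y obtained by pulling back along g (generated by
the base changes X i ×_X Y ⟶ Y) is effective epimorphic. Then the pulled-back sieve along every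
morphism Y ⟶ X of schemes is effective epimorphic; in other words, within schemes the family forms a
universal effective epimorphism. -/
theorem result {ι : Type u} {X : Scheme.{u}} {Xi : ι → Scheme.{u}} (f : ∀ i, Xi i ⟶ X)
    (h : ∀ (Y : Scheme.{u}) (g : Y ⟶ X), IsAffine Y → ((Sieve.ofArrows Xi f).pullback g).EffectiveEpimorphic)
    {Y : Scheme.{u}} (g : Y ⟶ X) : ((Sieve.ofArrows Xi f).pullback g).EffectiveEpimorphic := by
  rw [Sieve.EffectiveEpimorphic.iff_forall_isSheafFor_yoneda]
  intro T
  let S : ∀ {W : Scheme.{u}}, (W ⟶ X) → Sieve W := fun g => (Sieve.ofArrows Xi f).pullback g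
  have haff : ∀ {W : Scheme.{u}} (g : W ⟶ X), IsAffine W → (S g).arrows.IsSheafFor (yoneda.obj T) :=
    fun {W} g hW => (Sieve.EffectiveEpimorphic.iff_forall_isSheafFor_yoneda _).1 (h W g hW) T
  have hsep : ∀ {W : Scheme.{u}} (g : W ⟶ X) (a b : W ⟶ T),
      (∀ ⦃V : Scheme.{u}⦄ (k : V ⟶ W), (S g).arrows k → k ≫ a = k ≫ b) → a = b := by
    intro W g a b hab
    refine W.affineCover.hom_ext _ _ fun i => ?_
    refine (haff (W.affineCover.f i ≫ g) inferInstance).isSeparatedFor.ext fun V k hk => ?_
    show k ≫ W.affineCover.f i ≫ a = k ≫ W.affineCover.f i ≫ b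
    rw [← Category.assoc, ← Category.assoc]
    refine hab _ ?_
    simpa [S, Category.assoc] using hk
  intro x hx
  have mem : ∀ (i : Y.affineCover.I₀) ⦃V : Scheme.{u}⦄ (k : V ⟶ Y.affineCover.X i),
      (S (Y.affineCover.f i ≫ g)).arrows k → (S g).arrows (k ≫ Y.affineCover.f i) := fun i V k hk => by
    simpa [S, Category.assoc] using hk
  let xi : ∀ i, Presieve.FamilyOfElements (yoneda.obj T) (S (Y.affineCover.f i ≫ g)).arrows :=
    fun i V k hk => x (k ≫ Y.affineCover.f i) (mem i k hk)
  have hxi : ∀ i, (xi i).Compatible := fun i V₁ V₂ Z g₁ g₂ k₁ k₂ h₁ h₂ e =>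
    hx g₁ g₂ (mem i k₁ h₁) (mem i k₂ h₂) (by rw [reassoc_of% e])
  have hxc : ∀ {V W : Scheme.{u}} (q : V ⟶ W) (k : W ⟶ Y) (hk : (S g).arrows k) (m : V ⟶ Y)
      (hm : (S g).arrows m), q ≫ k = m → q ≫ (show W ⟶ T from x k hk) = (show V ⟶ T from x m hm) := by
    intro V W q k hk m hm e
    have := hx q (𝟙 V) hk hm (by simpa using e)
    simp only [yoneda, Quiver.Hom.unop_op] at this
    simpa using this
  let t : ∀ i, Y.affineCover.X i ⟶ T := fun i =>
    (haff (Y.affineCover.f i ≫ g) inferInstance).amalgamate (xi i) (hxi i)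
  have ht : ∀ i ⦃V : Scheme.{u}⦄ (k : V ⟶ Y.affineCover.X i) (hk : (S (Y.affineCover.f i ≫ g)).arrows k),
      k ≫ t i = x (k ≫ Y.affineCover.f i) (mem i k hk) := fun i V k hk =>
    (haff (Y.affineCover.f i ≫ g) inferInstance).valid_glue (hxi i) k hk
  have hcompat : ∀ i j, pullback.fst (Y.affineCover.f i) (Y.affineCover.f j) ≫ t i =
      pullback.snd (Y.affineCover.f i) (Y.affineCover.f j) ≫ t j := by
    intro i j
    refine hsep (pullback.fst (Y.affineCover.f i) (Y.affineCover.f j) ≫ Y.affineCover.f i ≫ g) _ _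
      fun V k hk => ?_
    have h1 : (S (Y.affineCover.f i ≫ g)).arrows (k ≫ pullback.fst (Y.affineCover.f i) (Y.affineCover.f j)) := by
      simpa [S, Category.assoc] using hk
    have h2 : (S (Y.affineCover.f j ≫ g)).arrows (k ≫ pullback.snd (Y.affineCover.f i) (Y.affineCover.f j)) := by
      simpa [S, Category.assoc, ← pullback.condition_assoc] using hk
    rw [← Category.assoc, ← Category.assoc, ht i _ h1, ht j _ h2]
    congr 1
    rw [Category.assoc, Category.assoc, pullback.condition]
  refine ⟨Y.affineCover.glueMorphisms t hcompat, fun W k hk => ?_, fun b hb => ?_⟩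
  · show k ≫ Y.affineCover.glueMorphisms t hcompat = x k hk
    refine Scheme.Cover.hom_ext (Y.affineCover.pullback₁ k) _ _ fun i => ?_
    have h1 : (S g).arrows (pullback.fst k (Y.affineCover.f i) ≫ k) := (S g).downward_closed hk _
    have h2 : (S (Y.affineCover.f i ≫ g)).arrows (pullback.snd k (Y.affineCover.f i)) := by
      have := h1
      rw [pullback.condition] at this
      simpa [S, Category.assoc] using this
    show pullback.fst k (Y.affineCover.f i) ≫ k ≫ _ = pullback.fst k (Y.affineCover.f i) ≫ _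
    rw [pullback.condition_assoc, Scheme.Cover.ι_glueMorphisms, ht i _ h2]
    exact (hxc _ k hk _ _ pullback.condition).symm
  · refine Y.affineCover.hom_ext _ _ fun i => ?_
    rw [Scheme.Cover.ι_glueMorphisms]
    refine (haff (Y.affineCover.f i ≫ g) inferInstance).isSeparatedFor.ext fun V k hk => ?_
    show k ≫ Y.affineCover.f i ≫ b = k ≫ t i
    rw [ht i k hk, ← Category.assoc]
    exact hb _ (mem i k hk)

end Groth.Agent.S9860
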