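import Groth.Statements.S9861
import Groth.Agent.LocSplitLib.Basic
import Groth.Agent.SchDesc.Family
import Groth.Agent.PullbackMod.Descent
import Groth.Agent.PullbackMod.OpenLocus
import Groth.Agent.DCohMore.DescFPPF
import Groth.Agent.DegDevLib.Det
import Groth.Agent.CurveLib.TensorDeg

set_option autoImplicit false
set_option backward.isDefEq.respectTransparency false
set_option maxHeartbeats 1000000
set_option linter.style.haveILetI false
open CategoryTheory CategoryTheory.Limits AlgebraicGeometry Opposite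
universe u
open Desc

namespace Groth.Agent.S9861

open AlgebraicGeometry CategoryTheory CategoryTheory.Limits TopologicalSpace
open Groth.Agent.PullbackMod Groth.Agent.DCohLib Groth.Agent.AmpleLib Groth.Agent.CurveLib Groth.Agent.DegDevLib
open scoped TensorProduct

noncomputable section

/-- Generators over a base change bound the number of generators over a local ring. -/
theorem exists_span_le {R O M : Type u} [CommRing R] [IsLocalRing R] [CommRing O] [IsLocalRing O] [Algebra R O]
    [IsLocalHom (algebraMap R O)] [AddCommGroup M] [Module R M] [Module.Finite R M] {n : ℕ}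
    (p : (Fin n → O) →ₗ[O] O ⊗[R] M) (hp : Function.Surjective p) :
    ∃ (m : ℕ) (v : Fin m → M), m ≤ n ∧ Submodule.span R (Set.range v) = ⊤ := by
  let κ := IsLocalRing.ResidueField R
  let k' := IsLocalRing.ResidueField O
  have h1 : Module.finrank k' (k' ⊗[R] M) ≤ n := by
    let q : k' ⊗[O] (Fin n → O) →ₗ[k'] k' ⊗[R] M :=
      (TensorProduct.AlgebraTensorModule.cancelBaseChange R O k' k' M).toLinearMap ∘ₗ p.baseChange k'
    have hb : Function.Surjective (p.baseChange k') := by
      rw [LinearMap.baseChange_eq_ltensor]; exact LinearMap.lTensor_surjective k' hp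
    have hq : Function.Surjective q := by
      simp only [q, LinearMap.coe_comp, LinearEquiv.coe_coe]
      exact (LinearEquiv.surjective _).comp hb
    refine (q.finrank_le_finrank_of_surjective hq).trans (le_of_eq ?_)
    rw [Module.finrank_baseChange, Module.finrank_pi, Fintype.card_fin]
  have h2 : Module.finrank κ (κ ⊗[R] M) ≤ n := by
    rw [← Module.finrank_baseChange (R := k') (S := κ),
      (TensorProduct.AlgebraTensorModule.cancelBaseChange R κ k' k' M).finrank_eq]
    exact h1
  let b := Module.finBasis κ (κ ⊗[R] M)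
  obtain ⟨v, hv⟩ := (TensorProduct.mk_surjective R M κ Ideal.Quotient.mk_surjective).comp_left b
  exact ⟨_, v, h2, IsLocalRing.span_eq_top_of_tmul_eq_basis (R := R) v b (congr_fun hv)⟩

/-- Stalk generators give generators near the point. -/
theorem exists_nhd_epi {X : Scheme.{u}} {F : X.Modules} [Coh.IsQCoh F] (hFT : CohB1.IsFT F) (x : X) {n : ℕ}
    (g : Fin n → F.presheaf.stalk x) (hg : Submodule.span (X.presheaf.stalk x) (Set.range g) = ⊤) :
    ∃ (W : Scheme.{u}) (j : W ⟶ X) (_ : IsOpenImmersion j) (y : W)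
      (p : FlatMod.freeMod W n ⟶ (Scheme.Modules.restrictFunctor j).obj F), j y = x ∧ Epi p := by
  classical
  choose W hxW t ht using fun i : Fin n => TopCat.Presheaf.exists_germ_eq F.presheaf (g i)
  let W₁ : X.Opens := ⟨⋂ i, (W i : Set X), isOpen_iInter_of_finite fun i => (W i).2⟩
  have hxW₁ : x ∈ W₁ := Set.mem_iInter.2 hxW
  let R := Scheme.Modules.restrictFunctor W₁.ι
  let z : ↑W₁ := ⟨x, hxW₁⟩
  have hle' : ∀ i, W₁.ι ''ᵁ ⊤ ≤ W i := fun i => by
    rw [Scheme.Opens.ι_image_top]; exact fun y hy => Set.mem_iInter.1 hy i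
  let σ : FlatMod.freeMod (↑W₁) n ⟶ R.obj F :=
    Sigma.desc fun i => DCohLib.secHom (R.obj F) (F.presheaf.map (homOfLE (hle' i)).op (t i))
  let e : (R.obj F).presheaf.stalk z ≃+ F.presheaf.stalk (W₁.ι z) :=
    ((Scheme.Modules.restrictStalkNatIso W₁.ι z).app F).addCommGroupIsoToAddEquiv
  let ρ := (asIso (W₁.ι.stalkMap z)).commRingCatIsoToRingEquiv
  have he : ∀ c m, e (c • m) = ρ.symm c • e m := restrictStalk_smul W₁.ι F z
  let g' : Fin n → F.presheaf.stalk (W₁.ι z) := g
  let ε : Fin n → (FlatMod.freeMod (↑W₁) n).presheaf.stalk z := fun i =>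
    (FlatMod.freeMod (↑W₁) n).presheaf.germ ⊤ z (Opens.mem_top z)
      (sec (Sigma.ι (fun _ : Fin n => Coh.structureModule (↑W₁ : Scheme.{u})) i))
  have hε : ∀ i, e (stalkLin σ z (ε i)) = g' i := by
    intro i
    have h1 : stalkLin σ z (ε i) = (R.obj F).presheaf.germ ⊤ z (Opens.mem_top z)
        (F.presheaf.map (homOfLE (hle' i)).op (t i)) := by
      refine (stalkLin_germ σ z (Opens.mem_top z) _).trans (congrArg _ ?_)
      show (Sigma.ι (fun _ : Fin n => Coh.structureModule (↑W₁ : Scheme.{u})) i ≫ σ).app ⊤ (1 : Γ((↑W₁ : Scheme.{u}), ⊤)) = _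
      rw [Sigma.ι_desc]
      exact sec_secHom (L := R.obj F) _
    rw [h1]
    refine (ConcreteCategory.congr_hom (Scheme.Modules.germ_restrictStalkNatIso_hom_app W₁.ι z F (Opens.mem_top z)) _).trans ?_
    show F.presheaf.germ (W₁.ι ''ᵁ ⊤) x _ (F.presheaf.map (homOfLE (hle' i)).op (t i)) = _
    rw [TopCat.Presheaf.germ_res_apply, ht]
  have hsurj : Function.Surjective (stalkLin σ z) := by
    intro q
    obtain ⟨c, hc⟩ := (Submodule.mem_span_range_iff_exists_fun (X.presheaf.stalk (W₁.ι z))).1
      (show e q ∈ Submodule.span (X.presheaf.stalk (W₁.ι z)) (Set.range g') from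
        (show Submodule.span (X.presheaf.stalk (W₁.ι z)) (Set.range g') = ⊤ from hg) ▸ Submodule.mem_top)
    refine ⟨∑ i, ρ (c i) • ε i, e.injective ?_⟩
    rw [map_sum, map_sum, ← hc]
    exact Finset.sum_congr rfl fun i _ => by rw [map_smul, he, hε, RingEquiv.symm_apply_apply]
  haveI := (isQCoh_and_isFP_of_isFinLocFree _ (isFinLocFree_freeMod (Y := (↑W₁ : Scheme.{u})) n)).1
  haveI : Coh.IsQCoh (R.obj F) := inferInstance
  have hFT' : CohB1.IsFT (R.obj F) := DCohMore.isFT_restrictFunctor W₁.ι hFT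
  let W₂ : (↑W₁ : Scheme.{u}).Opens := ⟨_, isOpen_stalk_surjective σ hFT'⟩
  let R₂ := Scheme.Modules.restrictFunctor W₂.ι
  haveI : Epi (R₂.map σ) := (epi_iff_stalk _).2 fun w => by
    have hb : Function.Surjective (stalkLin σ (W₂.ι w)) := w.2
    have hnat := (Scheme.Modules.restrictStalkNatIso W₂.ι w).hom.naturality σ
    have h1 : Function.Bijective ⇑(ConcreteCategory.hom ((Scheme.Modules.restrictStalkNatIso W₂.ι w).hom.app (R.obj F))) :=
      ConcreteCategory.bijective_of_isIso _
    have h2 : Function.Bijective ⇑(ConcreteCategory.hom ((Scheme.Modules.restrictStalkNatIso W₂.ι w).hom.app (FlatMod.freeMod (↑W₁) n))) :=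
      ConcreteCategory.bijective_of_isIso _
    refine (Function.Surjective.of_comp_iff' h1 _).1 ?_
    have : (⇑(ConcreteCategory.hom ((Scheme.Modules.restrictStalkNatIso W₂.ι w).hom.app (R.obj F))) ∘ ⇑(stalkLin (R₂.map σ) w)) =
        ⇑(stalkLin σ (W₂.ι w)) ∘ ⇑(ConcreteCategory.hom ((Scheme.Modules.restrictStalkNatIso W₂.ι w).hom.app (FlatMod.freeMod (↑W₁) n))) :=
      funext fun m => ConcreteCategory.congr_hom hnat m
    rw [this]
    exact hb.comp h2.2
  refine ⟨↑W₂, W₂.ι ≫ W₁.ι, inferInstance, ⟨z, hsurj⟩,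
    (restrictFreeMod W₂.ι n).inv ≫ R₂.map σ ≫ ((Scheme.Modules.restrictFunctorComp W₂.ι W₁.ι).app F).inv,
    rfl, inferInstance⟩

/-- Let F be a quasi-coherent O_X-module, r a natural number and f i : X i ⟶ X an fpqc covering family
such that every pullback (f i)^* F is locally generated by at most r sections. Then F is locally
generated by at most r sections. ('Locally generated by at most r sections' is written as: there are
local generators data for the module, indexed in the universe of the scheme, all of whose generating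
families are indexed by finite types of cardinality at most r.) -/
theorem result {ι : Type u} {X : Scheme.{u}} {Xi : ι → Scheme.{u}} (f : ∀ i, Xi i ⟶ X)
    (hf : Presieve.ofArrows Xi f ∈ Scheme.fpqcPrecoverage X) (F : X.Modules) [F.IsQuasicoherent] (r : ℕ)
    (h : ∀ i, ∃ σ : SheafOfModules.LocalGeneratorsData.{u} (R := (Xi i).ringCatSheaf) ((Scheme.Modules.pullback (f i)).obj F),
      ∀ k, Finite (σ.generators k).I ∧ Nat.card (σ.generators k).I ≤ r) :
    ∃ σ : SheafOfModules.LocalGeneratorsData.{u} (R := X.ringCatSheaf) F,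
      ∀ k, Finite (σ.generators k).I ∧ Nat.card (σ.generators k).I ≤ r := by
  classical
  let g : (∐ Xi) ⟶ X := Sigma.desc f
  haveI hq := Groth.Agent.SchDesc.isFpqc_sigmaDesc hf
  haveI : Coh.IsQCoh F := ‹_›
  haveI : QuasiCompactCover (PreZeroHypercover.singleton.{0} g) := Groth.Agent.SchDesc.IsFpqc.qcc
  have hl : ∀ W : X.Opens, IsAffineOpen W → HasAffineLift g W := fun W hW => by
    obtain ⟨n, a, V, hV, heq⟩ :=
      QuasiCompactCover.exists_isAffineOpen_of_isCompact (PreZeroHypercover.singleton.{0} g) hW.isCompact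
    refine ⟨n, V, hV, fun i x hx => ?_, fun x hx => ?_⟩
    · exact heq.le (Set.mem_iUnion.2 ⟨i, x, hx, rfl⟩)
    · obtain ⟨i, x', hx', h'⟩ := Set.mem_iUnion.1 (heq.ge hx)
      exact ⟨i, x', hx', h'⟩
  have hFTi : ∀ i, CohB1.IsFT ((Scheme.Modules.pullback (f i)).obj F) := fun i => by
    obtain ⟨σ, hσ⟩ := h i
    haveI : ∀ k, (σ.generators k).IsFiniteType := fun k => @SheafOfModules.GeneratingSections.IsFiniteType.mk _ _ _ _ _ _ _ (σ.generators k) (hσ k).1
    refine @SheafOfModules.IsFiniteType.mk _ _ _ _ _ _ ((Scheme.Modules.pullback (f i)).obj F) ?_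
    exact ⟨σ, { isFiniteType := this }⟩
  have hcomp : ∀ i, ((Scheme.Modules.restrictFunctor (Sigma.ι Xi i)).obj ((Scheme.Modules.pullback g).obj F)) ≅
      (Scheme.Modules.pullback (f i)).obj F := fun i =>
    (Scheme.Modules.restrictFunctorIsoPullback (Sigma.ι Xi i)).app _ ≪≫
      (Scheme.Modules.pullbackComp (Sigma.ι Xi i) g).app F ≪≫
        (Scheme.Modules.pullbackCongr (Sigma.ι_desc f i)).app F
  have hFTg : CohB1.IsFT ((Scheme.Modules.pullback g).obj F) := by
    refine isFT_of_local_epi fun y => ?_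
    obtain ⟨i, x', rfl⟩ : ∃ i x', Sigma.ι Xi i x' = y := (sigmaOpenCover Xi).exists_eq y
    obtain ⟨V, n, p, hx, hp⟩ := exists_free_epi (hFTi i) x'
    haveI := hp
    exact ⟨↑V, V.ι ≫ Sigma.ι Xi i, inferInstance, ⟨x', hx⟩, n,
      p ≫ (Scheme.Modules.restrictFunctor V.ι).map (hcomp i).inv ≫
        ((Scheme.Modules.restrictFunctorComp V.ι (Sigma.ι Xi i)).app _).inv, rfl, inferInstance⟩
  have hFT : CohB1.IsFT F := isFiniteType_descent g F hl hFTg
  -- few generators for every stalk
  have hgen : ∀ x : X, ∃ (m : ℕ) (v : Fin m → F.presheaf.stalk x), m ≤ r ∧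
      Submodule.span (X.presheaf.stalk x) (Set.range v) = ⊤ := by
    intro x
    obtain ⟨y, hy⟩ := g.surjective x
    obtain ⟨i, x', rfl⟩ : ∃ i x', Sigma.ι Xi i x' = y := (sigmaOpenCover Xi).exists_eq y
    obtain ⟨σ, hσ⟩ := h i
    have hcov : ⨆ k, σ.X k = ⊤ := by
      have := σ.coversTop
      rwa [Opens.coversTop_iff, IsOpenCover] at this
    obtain ⟨k, hk⟩ := Opens.mem_iSup.mp (hcov.ge (trivial : x' ∈ (⊤ : (Xi i).Opens)))
    let M := (Scheme.Modules.pullback (f i)).obj F
    let U : (Xi i).Opens := σ.X k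
    let e := Scheme.Modules.overEquiv U
    let η : e.functor.obj (SheafOfModules.unit ((Xi i).ringCatSheaf.over U)) ≅
        SheafOfModules.unit (U : Scheme.{u}).ringCatSheaf :=
      (Scheme.Modules.overFunctorEquiv U).app (SheafOfModules.unit (Xi i).ringCatSheaf) ≪≫
        Scheme.Modules.restrictUnitIso U.ι
    let G : SheafOfModules.GeneratingSections (R := (U : Scheme.{u}).ringCatSheaf) (M.restrict U.ι) :=
      ((σ.generators k).map e.functor η.symm).ofEpi ((Scheme.Modules.overFunctorEquiv U).app M).hom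
    haveI : Finite G.I := (hσ k).1
    let n := Nat.card (σ.generators k).I
    let p₀ : FlatMod.freeMod (↑U) n ⟶ (Scheme.Modules.restrictFunctor U.ι).obj M :=
      (freeIsoFreeMod (U : Scheme.{u}) (Finite.equivFin G.I)).inv ≫ G.π
    haveI : Epi p₀ := epi_comp' inferInstance G.epi
    let k' := U.ι ≫ f i
    let p : FlatMod.freeMod (↑U) n ⟶ (Scheme.Modules.pullback k').obj F :=
      p₀ ≫ ((Scheme.Modules.restrictFunctorIsoPullback U.ι).app M).hom ≫
        ((Scheme.Modules.pullbackComp U.ι (f i)).app F).hom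
    haveI : Epi p := inferInstance
    let u : ↑U := ⟨x', hk⟩
    have hx : k' u = x := by
      rw [← hy, ← Scheme.Hom.comp_apply, Sigma.ι_desc]
      rfl
    subst hx
    letI := (k'.stalkMap u).hom.toAlgebra
    haveI : IsLocalHom (algebraMap (X.presheaf.stalk (k' u)) ((↑U : Scheme.{u}).presheaf.stalk u)) :=
      inferInstanceAs (IsLocalHom (k'.stalkMap u).hom)
    haveI := finite_stalk_of_isFT (M := F) hFT (k' u)
    obtain ⟨φ, -⟩ := exists_pullback_stalk_equiv k' F u
    obtain ⟨l⟩ := freeAt_of_isFinLocFreeOfRank (isFinLocFreeOfRank_freeMod (X := (↑U : Scheme.{u})) n) u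
    obtain ⟨m, v, hm, hv⟩ := exists_span_le (φ.symm.toLinearMap ∘ₗ stalkLin p u ∘ₗ l.symm.toLinearMap)
      (φ.symm.surjective.comp (((epi_iff_stalk p).1 inferInstance u).comp l.symm.surjective))
    exact ⟨m, v, hm.trans (hσ k).2, hv⟩
  have hG : ∀ x : X, ∃ V : X.Opens, x ∈ V ∧
      ∃ G : (SheafOfModules.over (R := X.ringCatSheaf) F V).GeneratingSections,
        Finite G.I ∧ Nat.card G.I ≤ r := by
    intro x
    obtain ⟨n, v, hn, hv⟩ := hgen x
    obtain ⟨W, j, hj, y, p, rfl, hp⟩ := exists_nhd_epi hFT x v hv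
    let V := j.opensRange
    let q : SheafOfModules.free (R := (V : Scheme.{u}).ringCatSheaf) (ULift.{u} (Fin n)) ⟶ F.restrict V.ι :=
      (freeIsoFreeMod (V : Scheme.{u}) Equiv.ulift).hom ≫ (restrictFreeMod j.isoOpensRange.inv n).inv ≫
        (Scheme.Modules.restrictFunctor j.isoOpensRange.inv).map p ≫
          ((Scheme.Modules.restrictFunctorCongr j.isoOpensRange_inv_comp.symm ≪≫
            Scheme.Modules.restrictFunctorComp j.isoOpensRange.inv j).app F).inv
    haveI : Epi ((Scheme.Modules.restrictFunctor j.isoOpensRange.inv).map p) := inferInstance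
    haveI : Epi q := inferInstance
    let G : SheafOfModules.GeneratingSections (R := (V : Scheme.{u}).ringCatSheaf) (F.restrict V.ι) :=
      { I := ULift.{u} (Fin n)
        s := SheafOfModules.freeHomEquiv _ q
        epi := by rw [Equiv.symm_apply_apply]; infer_instance }
    let e := Scheme.Modules.overEquiv V
    let η : e.functor.obj (SheafOfModules.unit (X.ringCatSheaf.over V)) ≅
        SheafOfModules.unit (V : Scheme.{u}).ringCatSheaf :=
      (Scheme.Modules.overFunctorEquiv V).app (SheafOfModules.unit X.ringCatSheaf) ≪≫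
        Scheme.Modules.restrictUnitIso V.ι
    refine ⟨V, ⟨y, rfl⟩, (G.map e.inverse (e.unitIso.app _ ≪≫ e.inverse.mapIso η)).ofEpi
      (e.inverse.mapIso ((Scheme.Modules.overFunctorEquiv V).app F).symm ≪≫
        (e.unitIso.app _).symm).hom, inferInstanceAs (Finite (ULift.{u} (Fin n))), ?_⟩
    show Nat.card (ULift.{u} (Fin n)) ≤ r
    rw [Nat.card_eq_of_equiv_fin Equiv.ulift]
    exact hn
  choose V hV G hG using hG
  exact ⟨{ I := ↥X
           X := V
           coversTop := by
             rw [Opens.coversTop_iff, IsOpenCover]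
             exact eq_top_iff.mpr fun x _ => Opens.mem_iSup.mpr ⟨x, hV x⟩
           generators := G }, hG⟩

end

end Groth.Agent.S9861
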