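import Groth.Statements.S9867
import Groth.Agent.FpqcDesc.Basic
import Groth.Agent.FpqcDesc.Stalk

set_option autoImplicit false
open CategoryTheory CategoryTheory.Limits AlgebraicGeometry Opposite
universe u
open Desc

namespace Groth.Agent.S9867

/-- Being finite locally free (finite, flat and locally of finite presentation), and being finite
locally free of a given degree d, are fpqc local on the base; the descent directions, stated as
descent along surjective flat quasi-compact morphisms: if the base change of f along such a morphism
is finite locally free then so is f, and if moreover that base change has constant rank d (Mathlib's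
rank function of a finite flat morphism) then f has constant rank d. (With Zariski-locality on the
target these give the statements for arbitrary fpqc coverings; stability under base change is the
other direction.) -/
theorem result :
    MorphismProperty.DescendsAlong (fun _ _ f => Mor2.IsFinLocFree f : MorphismProperty Scheme.{u})
      (@Surjective ⊓ @Flat ⊓ @QuasiCompact : MorphismProperty Scheme.{u}) ∧
    ∀ d : ℕ, MorphismProperty.DescendsAlong (fun _ _ f => Mor2.IsFinLocFreeOfDeg d f : MorphismProperty Scheme.{u})
      (@Surjective ⊓ @Flat ⊓ @QuasiCompact : MorphismProperty Scheme.{u}) := by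
  have hflat : MorphismProperty.DescendsAlong @Flat (@Surjective ⊓ @Flat ⊓ @QuasiCompact : MorphismProperty Scheme.{u}) := by
    refine ⟨fun {A X Y Z fst snd f g} sq hf h => ?_⟩
    haveI : Surjective f := hf.1.1
    haveI : Flat f := hf.1.2
    haveI : Flat fst := h
    haveI : Surjective snd := MorphismProperty.of_isPullback (P := @Surjective) sq ‹Surjective f›
    haveI : Flat snd := MorphismProperty.of_isPullback (P := @Flat) sq ‹Flat f›
    haveI : Flat (snd ≫ g) := by rw [← sq.w]; infer_instance
    exact FlatDescStalk.flat_of_comp snd g
  haveI := FpqcDesc.isFinite_descends.{u}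
  have key : ∀ {A X Y Z : Scheme.{u}} {fst : A ⟶ X} {snd : A ⟶ Y} {f : X ⟶ Z} {g : Y ⟶ Z},
      IsPullback fst snd f g → (@Surjective ⊓ @Flat ⊓ @QuasiCompact : MorphismProperty Scheme.{u}) f →
      Mor2.IsFinLocFree fst → Mor2.IsFinLocFree g := fun sq hf h =>
    ⟨MorphismProperty.of_isPullback_of_descendsAlong (P := @IsFinite) sq hf h.1,
      MorphismProperty.of_isPullback_of_descendsAlong (P := @Flat) sq hf h.2.1,
      MorphismProperty.of_isPullback_of_descendsAlong (P := @LocallyOfFinitePresentation) sq hf h.2.2⟩
  refine ⟨⟨fun sq hf h => key sq hf h⟩, fun d => ⟨fun {A X Y Z fst snd f g} sq hf h => ?_⟩⟩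
  refine ⟨key sq hf h.1, fun y => ?_⟩
  haveI : Surjective f := hf.1.1
  obtain ⟨x, rfl⟩ := f.surjective y
  haveI := (key sq hf h.1).1
  haveI := (key sq hf h.1).2.1
  rw [← Scheme.Hom.finrank_of_isPullback snd fst g f sq.flip]
  exact h.2 x

end Groth.Agent.S9867
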