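import Groth.Statements.S9870
import Groth.Agent.DecSec.OpenSubQuot
import Groth.Agent.ASp.Sheaf
-- import your own Groth.Agent.* helpers here

set_option autoImplicit false
set_option backward.isDefEq.respectTransparency false
universe u
open CategoryTheory CategoryTheory.Limits AlgebraicGeometry
open AlgSp

namespace Groth.Agent.S9870

/-- Let `s, t : R ⟶ U` be a pre-relation on a scheme `U` over `S` which is an equivalence relation (on
`T`-points, for every scheme `T` over `S`), with `s` and `t` surjective, flat and locally of finite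
presentation, and let `g : U' ⟶ U` be flat and locally of finite presentation. Let `s', t' : R' ⟶
U'` be the restriction of the pre-relation to `U'`, i.e. `R'` with `(t', s')` and `R' ⟶ R` is the
fibre product of `U' ×_S U'` and `R` over `U ×_S U`. Then the map of fppf quotient sheaves `U'/R' ⟶
U/R` induced by `g` (the unique map under the quotient maps compatible with `h_g`) is representable
and an open immersion. -/
theorem result (S : Scheme.{u}) {R U R' U' : Over S} (s t : R ⟶ U)
    (g : U' ⟶ U) (s' t' : R' ⟶ U') (r : R' ⟶ R)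
    (hsq : IsPullback (prod.lift t' s') r (prod.map g g) (prod.lift t s))
    (hR : AlgSp.IsEqvRel s t)
    [Surjective s.left] [Flat s.left] [LocallyOfFinitePresentation s.left]
    [Surjective t.left] [Flat t.left] [LocallyOfFinitePresentation t.left]
    [Flat g.left] [LocallyOfFinitePresentation g.left]
    (φ : QuotSh.quot Scheme.fppfPrecoverage s' t' ⟶ QuotSh.quot Scheme.fppfPrecoverage s t)
    (hφ : QuotSh.quotπ Scheme.fppfPrecoverage s' t' ≫ φ = QuotSh.repMap Scheme.fppfPrecoverage g ≫ QuotSh.quotπ Scheme.fppfPrecoverage s t) :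
    AlgSp.RepWith @IsOpenImmersion φ := by
  have hP := (IsPullback.of_hasPullback g t).map (Over.forget S)
  let x₀ : pullback g t ⟶ U' := pullback.fst g t
  let ρ₀ : pullback g t ⟶ R := pullback.snd g t
  change IsPullback x₀.left ρ₀.left g.left t.left at hP
  haveI : Flat ρ₀.left := MorphismProperty.of_isPullback (P := @Flat) hP inferInstance
  haveI : LocallyOfFinitePresentation ρ₀.left :=
    MorphismProperty.of_isPullback (P := @LocallyOfFinitePresentation) hP inferInstance
  haveI : Flat (ρ₀.left ≫ s.left) := inferInstance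
  haveI : LocallyOfFinitePresentation (ρ₀.left ≫ s.left) := inferInstance
  let W : U.left.Opens := ⟨Set.range (ρ₀.left ≫ s.left), (ρ₀.left ≫ s.left).isOpenMap.isOpen_range⟩
  let l : (pullback g t).left ⟶ (W : Scheme.{u}) := IsOpenImmersion.lift W.ι (ρ₀.left ≫ s.left)
    (by rw [Scheme.Opens.range_ι]; exact subset_rfl)
  have hl : l ≫ W.ι = ρ₀.left ≫ s.left := IsOpenImmersion.lift_fac _ _ _
  let H : pullback g t ⟶ Over.mk (W.ι ≫ U.hom) := Over.homMk l (by
    change l ≫ W.ι ≫ U.hom = _
    rw [reassoc_of% hl, Over.w s, Over.w ρ₀])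
  haveI : Surjective H.left := ⟨fun w => by
    obtain ⟨p, hp⟩ := w.2
    refine ⟨p, W.ι.injective ?_⟩
    change W.ι (l p) = _
    rw [← Scheme.Hom.comp_apply, hl]
    exact hp⟩
  haveI : Flat H.left := MorphismProperty.of_postcomp (W := @Flat) (W' := @IsOpenImmersion) l W.ι
    inferInstance (hl ▸ inferInstance)
  haveI : LocallyOfFinitePresentation H.left := MorphismProperty.of_postcomp (W := @LocallyOfFinitePresentation)
    (W' := @IsOpenImmersion) l W.ι inferInstance (hl ▸ inferInstance)
  exact DecSec.repWith_openImmersion_quot s t hR.equivalence g s' t' r hsq x₀ ρ₀ hP W rfl H hl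
    (ASp.isLocallySurjective_of_repWith ((AlgSp.repWith_yon_map_iff _ H).2 ‹_›)
      ((AlgSp.repWith_yon_map_iff _ H).2 ‹_›) ((AlgSp.repWith_yon_map_iff _ H).2 ‹_›)) φ hφ

end Groth.Agent.S9870
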