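import Groth.Statements.S9871
import Groth.Agent.ASp.EqvQuot
set_option backward.isDefEq.respectTransparency.types false

set_option autoImplicit false
universe u
open CategoryTheory CategoryTheory.Limits AlgebraicGeometry
open AlgSp

namespace Groth.Agent.S9871

open Groth.Agent.ASp Opposite

/-- Let `s, t : R ⟶ U` be an etale equivalence relation on a scheme `U` over `S` and let `g : U' ⟶ U` be
an etale morphism over `S`. Let `s', t' : R' ⟶ U'` be the restriction to `U'`: `R'`, with `(t', s')`
and `R' ⟶ R`, is the fibre product of `U' ×_S U'` and `R` over `U ×_S U`. Then `s', t'` is again an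
etale equivalence relation. -/
theorem result (S : Scheme.{u}) {R U R' U' : Over S} (s t : R ⟶ U)
    (g : U' ⟶ U) (s' t' : R' ⟶ U') (r : R' ⟶ R)
    (hsq : IsPullback (prod.lift t' s') r (prod.map g g) (prod.lift t s))
    (h : AlgSp.IsEtaleEqvRel s t) [Etale g.left] :
    AlgSp.IsEtaleEqvRel s' t' := by
  have := h.etale_left
  have := h.etale_right
  have e1 : t' ≫ g = r ≫ t := by
    have := congrArg (· ≫ prod.fst) hsq.w
    simpa only [Category.assoc, prod.map_fst, prod.lift_fst, prod.lift_fst_assoc] using this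
  have e2 : s' ≫ g = r ≫ s := by
    have := congrArg (· ≫ prod.snd) hsq.w
    simpa only [Category.assoc, prod.map_snd, prod.lift_snd, prod.lift_snd_assoc] using this
  have hex : ∀ {T : Over S} (a b : T ⟶ U') (q : T ⟶ R), q ≫ t = a ≫ g → q ≫ s = b ≫ g →
      ∃ l : T ⟶ R', l ≫ t' = a ∧ l ≫ s' = b ∧ l ≫ r = q := fun a b q h1 h2 => by
    have hw : prod.lift a b ≫ prod.map g g = q ≫ prod.lift t s := by
      apply prod.hom_ext
      · simp only [Category.assoc, prod.map_fst, prod.lift_fst, prod.lift_fst_assoc, h1]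
      · simp only [Category.assoc, prod.map_snd, prod.lift_snd, prod.lift_snd_assoc, h2]
    refine ⟨hsq.lift (prod.lift a b) q hw, ?_, ?_, hsq.lift_snd _ _ _⟩
    · simpa only [Category.assoc, prod.lift_fst] using congrArg (· ≫ prod.fst) (hsq.lift_fst (prod.lift a b) q hw)
    · simpa only [Category.assoc, prod.lift_snd] using congrArg (· ≫ prod.snd) (hsq.lift_fst (prod.lift a b) q hw)
  have hext : ∀ {T : Over S} (a b : T ⟶ R'), a ≫ t' = b ≫ t' → a ≫ s' = b ≫ s' → a ≫ r = b ≫ r → a = b :=
    fun a b h1 h2 h3 => hsq.hom_ext (prod.hom_ext (by simpa only [Category.assoc, prod.lift_fst] using h1)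
      (by simpa only [Category.assoc, prod.lift_snd] using h2)) h3
  have hrel : IsEqvRel s' t' := by
    refine ⟨fun T a b h1 h2 => hext a b h1 h2 (h.injective T _ _ ?_ ?_), fun T => ⟨fun a => ?_, ?_, ?_⟩⟩
    · simp only [Category.assoc, ← e1]; rw [reassoc_of% h1]
    · simp only [Category.assoc, ← e2]; rw [reassoc_of% h2]
    · obtain ⟨q, hq1, hq2⟩ := (h.equivalence T).refl (a ≫ g)
      obtain ⟨l, hl1, hl2, -⟩ := hex a a q hq1 hq2
      exact ⟨l, hl1, hl2⟩
    · rintro a b ⟨l, rfl, rfl⟩
      obtain ⟨q, hq1, hq2⟩ := (h.equivalence T).symm (x := (l ≫ t') ≫ g) (y := (l ≫ s') ≫ g)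
        ⟨l ≫ r, by simp only [Category.assoc, e1], by simp only [Category.assoc, e2]⟩
      obtain ⟨l', hl1, hl2, -⟩ := hex (l ≫ s') (l ≫ t') q hq1 hq2
      exact ⟨l', hl1, hl2⟩
    · rintro a b c ⟨l, rfl, rfl⟩ ⟨m, hm1, rfl⟩
      obtain ⟨q, hq1, hq2⟩ := (h.equivalence T).trans (x := (l ≫ t') ≫ g) (y := (l ≫ s') ≫ g) (z := (m ≫ s') ≫ g)
        ⟨l ≫ r, by simp only [Category.assoc, e1], by simp only [Category.assoc, e2]⟩
        ⟨m ≫ r, by rw [← hm1]; simp only [Category.assoc, e1], by simp only [Category.assoc, e2]⟩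
      obtain ⟨l', hl1, hl2, -⟩ := hex (l ≫ t') (m ≫ s') q hq1 hq2
      exact ⟨l', hl1, hl2⟩
  have key : ∀ (u v : R ⟶ U) (u' v' : R' ⟶ U'), Etale v.left → (eu : u' ≫ g = r ≫ u) → (ev : v' ≫ g = r ≫ v) →
      (∀ {T : Over S} (a b : T ⟶ U') (q : T ⟶ R), q ≫ u = a ≫ g → q ≫ v = b ≫ g →
        ∃ l : T ⟶ R', l ≫ u' = a ∧ l ≫ v' = b ∧ l ≫ r = q) →
      (∀ {T : Over S} (a b : T ⟶ R'), a ≫ u' = b ≫ u' → a ≫ v' = b ≫ v' → a ≫ r = b ≫ r → a = b) →
      Etale v'.left := by
    intro u v u' v' hv eu ev hex hext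
    let α : R' ⟶ pullback g v := pullback.lift v' r ev
    have hk : ∀ k : PullbackCone g (pullback.snd g v ≫ u), ∃ l, l ≫ u' = k.fst ∧
        l ≫ v' = k.snd ≫ pullback.fst g v ∧ l ≫ r = k.snd ≫ pullback.snd g v := fun k =>
      hex _ _ _ (by rw [Category.assoc, ← k.condition]) (by simp only [Category.assoc, pullback.condition])
    have sq : IsPullback u' α g (pullback.snd g v ≫ u) := by
      refine IsPullback.of_isLimit' ⟨by simp only [α, eu, pullback.lift_snd_assoc]⟩ (PullbackCone.IsLimit.mk _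
        (fun k => (hk k).choose)
        (fun k => ?_) (fun k => ?_) (fun k m h1 h2 => ?_))
      · exact (hk k).choose_spec.1
      · apply pullback.hom_ext
        · simp only [α, Category.assoc, pullback.lift_fst]
          exact (hk k).choose_spec.2.1
        · simp only [α, Category.assoc, pullback.lift_snd]
          exact (hk k).choose_spec.2.2
      · refine hext _ _ ?_ ?_ ?_
        · exact h1.trans (hk k).choose_spec.1.symm
        · refine Eq.trans ?_ (hk k).choose_spec.2.1.symm
          rw [← h2]; simp only [α, Category.assoc, pullback.lift_fst]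
        · refine Eq.trans ?_ (hk k).choose_spec.2.2.symm
          rw [← h2]; simp only [α, Category.assoc, pullback.lift_snd]
    have : Etale α.left := MorphismProperty.of_isPullback (isPullback_left sq) ‹Etale g.left›
    have : Etale (pullback.fst g v).left :=
      MorphismProperty.of_isPullback (isPullback_left (IsPullback.of_hasPullback g v)).flip hv
    rw [show v' = α ≫ pullback.fst g v from (pullback.lift_fst _ _ _).symm, Over.comp_left]
    infer_instance
  exact ⟨hrel, key t s t' s' ‹_› e1 e2 hex hext,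
    key s t s' t' ‹_› e2 e1 (fun a b q h1 h2 => by
      obtain ⟨l, l1, l2, l3⟩ := hex b a q h2 h1
      exact ⟨l, l2, l1, l3⟩) (fun a b h1 h2 h3 => hext a b h2 h1 h3)⟩

end Groth.Agent.S9871
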