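import Groth.Statements.S9872
import Groth.Agent.ASp.EqvQuot
set_option backward.isDefEq.respectTransparency.types false

set_option autoImplicit false
universe u
open CategoryTheory CategoryTheory.Limits AlgebraicGeometry
open AlgSp

namespace Groth.Agent.S9872

open Groth.Agent.ASp Opposite

/-- Let `F` be an algebraic space over `S`, `p : h_U ⟶ F` representable etale and representable
surjective with `U` a scheme over `S`, and let `s, t : R ⟶ U` over `S` be such that `h_R`, with
`h_t` and `h_s`, is the fibre product `h_U ×_F h_U`. Then `s, t` is an etale equivalence relation on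
`U` over `S`, and `p` exhibits `F` as the coequalizer of `h_t, h_s : h_R ⟶ h_U` in fppf sheaves of
sets over `S`. -/
theorem result (S : Scheme.{u}) (F : AlgSp.Sp S) (hF : AlgSp.IsAlgSpace F)
    {R U : Over S} (p : (AlgSp.yon S).obj U ⟶ F) (he : AlgSp.RepWith @Etale p)
    (hs : AlgSp.RepWith @Surjective p) (s t : R ⟶ U)
    (sq : IsPullback ((AlgSp.yon S).map t) ((AlgSp.yon S).map s) p p) :
    AlgSp.IsEtaleEqvRel s t ∧ Nonempty (IsColimit (Cofork.ofπ p sq.w)) := by
  have hiff : ∀ {T : Over S} (a b : T ⟶ U), (∃ q : T ⟶ R, q ≫ t = a ∧ q ≫ s = b) ↔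
      (yon S).map a ≫ p = (yon S).map b ≫ p := fun a b => by
    constructor
    · rintro ⟨q, rfl, rfl⟩
      simp only [Functor.map_comp, Category.assoc, sq.w]
    · intro e
      obtain ⟨q, hq⟩ := (yon S).map_surjective (sq.lift _ _ e)
      exact ⟨q, (yon S).map_injective (by rw [Functor.map_comp, hq, sq.lift_fst]),
        (yon S).map_injective (by rw [Functor.map_comp, hq, sq.lift_snd])⟩
  refine ⟨⟨⟨fun T a b h1 h2 => ?_, fun T => ?_⟩, he.2 _ _ _ sq, he.2 _ _ _ sq.flip⟩, ?_⟩
  · refine (yon S).map_injective (sq.hom_ext ?_ ?_)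
    · rw [← Functor.map_comp, ← Functor.map_comp, h1]
    · rw [← Functor.map_comp, ← Functor.map_comp, h2]
  · exact ⟨fun a => (hiff a a).2 rfl, fun h => (hiff _ _).2 ((hiff _ _).1 h).symm,
      fun h h' => (hiff _ _).2 (((hiff _ _).1 h).trans ((hiff _ _).1 h'))⟩
  · have : Sheaf.IsLocallySurjective p := isLocallySurjective_of_repWith
      (repWith_mono (fun _ _ g (hg : Etale g) => inferInstanceAs (Flat g)) he)
      (repWith_mono (fun _ _ g (hg : Etale g) => inferInstanceAs (LocallyOfFinitePresentation g)) he) hs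
    have : Epi p := inferInstance
    refine ⟨Cofork.IsColimit.mk' _ fun c => ?_⟩
    have hd := exists_desc_of_epi p sq c.π c.condition
    refine ⟨hd.choose, hd.choose_spec, fun {m} hm => ?_⟩
    exact (cancel_epi p).1 (hm.trans hd.choose_spec.symm)

end Groth.Agent.S9872
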