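import Groth.Statements.S9875
import Groth.Agent.ASp.Morph
set_option backward.isDefEq.respectTransparency.types false

set_option autoImplicit false
universe u
open CategoryTheory CategoryTheory.Limits AlgebraicGeometry
open AlgSp

namespace Groth.Agent.S9875

open Groth.Agent.ASp

/-- The category of algebraic spaces over `S` has fibre products, and the inclusion functor into fppf
sheaves of sets over `S` preserves them (the fibre product of sheaves of two algebraic spaces over a
third is an algebraic space and is their fibre product as algebraic spaces). -/
theorem result (S : Scheme.{u}) :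
    HasPullbacks (AlgSp.Space S) ∧
      PreservesLimitsOfShape WalkingCospan (ObjectProperty.ι (AlgSp.IsAlgSpace (S := S))) := by
  haveI : ObjectProperty.IsClosedUnderLimitsOfShape (AlgSp.IsAlgSpace (S := S)) WalkingCospan := by
    refine ObjectProperty.IsClosedUnderLimitsOfShape.mk' ?_
    rintro _ ⟨F, hF⟩
    exact (isAlgSpace_pullback (hF WalkingCospan.one).diag (hF WalkingCospan.left)
      (hF WalkingCospan.right) (F.map WalkingCospan.Hom.inl) (F.map WalkingCospan.Hom.inr)).of_iso
      (HasLimit.isoOfNatIso (diagramIsoCospan F)).symm
  haveI : CreatesLimitsOfShape WalkingCospan (ObjectProperty.ι (AlgSp.IsAlgSpace (S := S))) := inferInstance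
  exact ⟨hasLimitsOfShape_of_hasLimitsOfShape_createsLimitsOfShape (ObjectProperty.ι _),
    inferInstance⟩

end Groth.Agent.S9875
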