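import Groth.Statements.S9879
import Groth.Agent.ASp.Coprod

set_option autoImplicit false
set_option backward.isDefEq.respectTransparency false
set_option backward.isDefEq.respectTransparency.types false
universe u
open CategoryTheory CategoryTheory.Limits AlgebraicGeometry
open AlgSp

namespace Groth.Agent.S9879

/-- Let `U` be a scheme over `S` and `F_i` a family of fppf sheaves of sets over `S` whose coproduct in
sheaves is isomorphic to `h_U`. Then each `F_i` is representable by a scheme `V_i` over `S` such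
that `V_i ⟶ U` (the morphism inducing `h_{V_i} ≅ F_i ⟶ ∐ F_i ≅ h_U`) is an open and closed
immersion, and `U` is the coproduct of the `V_i` in schemes. -/
theorem result (S : Scheme.{u}) (U : Over S) {ι : Type u}
    (F : ι → AlgSp.Sp S) (c : Cofan F) (hc : IsColimit c) (e : c.pt ≅ (AlgSp.yon S).obj U) :
    ∃ (V : ι → Over S) (g : ∀ i, V i ⟶ U) (ei : ∀ i, (AlgSp.yon S).obj (V i) ≅ F i),
      (∀ i, IsOpenImmersion (g i).left ∧ IsClosedImmersion (g i).left) ∧
      (∀ i, (ei i).hom ≫ c.inj i ≫ e.hom = (AlgSp.yon S).map (g i)) ∧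
      Nonempty (IsColimit (Cofan.mk U.left (fun i => (g i).left))) := by
  have hr : ∀ i, RepWith (@IsOpenImmersion ⊓ @IsClosedImmersion) (c.inj i ≫ e.hom) := fun i =>
    MorphismProperty.RespectsIso.postcomp _ _ _ (ASp.repWith_inj c hc i)
  have hV : ∀ i, ∃ (V : Over S) (g : V ⟶ U) (a : (yon S).obj V ⟶ F i),
      IsPullback a ((yon S).map g) (c.inj i ≫ e.hom) (𝟙 _) := fun i =>
    ⟨_, _, _, (hr i).1.isPullback (𝟙 _)⟩
  choose V g a hg using hV
  haveI : ∀ i, IsIso (a i) := fun i => (hg i).isIso_fst_of_isIso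
  have hg' : ∀ i, a i ≫ c.inj i ≫ e.hom = (yon S).map (g i) := fun i => by simpa using (hg i).w
  refine ⟨V, g, fun i => asIso (a i), fun i => (hr i).2 _ _ _ (hg i), hg', ?_⟩
  let α : Discrete.functor F ≅ Discrete.functor V ⋙ yon S :=
    Discrete.natIso fun i => (asIso (a i.as)).symm
  have h : IsColimit ((yon S).mapCocone (Cofan.mk U g)) :=
    (IsColimit.equivOfNatIsoOfIso α c ((yon S).mapCocone (Cofan.mk U g)) (Cocone.ext e fun ⟨i⟩ => by
        simp [α, ← hg' i]; rfl)).toFun hc
  exact ⟨isColimitCofanMkObjOfIsColimit (Over.forget S) _ g (isColimitOfReflects (yon S) h)⟩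

end Groth.Agent.S9879
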