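import Groth.Statements.S9880
import Groth.Agent.ASp.Coprod
import Groth.Agent.ASp.Morph
set_option backward.isDefEq.respectTransparency false
set_option backward.isDefEq.respectTransparency.types false

set_option autoImplicit false
universe u
open CategoryTheory CategoryTheory.Limits AlgebraicGeometry
open AlgSp

namespace Groth.Agent.S9880

/-- Let `F_i` be a family of fppf sheaves of sets over `S` whose coproduct `∐ F_i` in sheaves (any
colimit cofan) is an algebraic space over `S`. Then each `F_i` is an algebraic space over `S`. -/
theorem result (S : Scheme.{u}) {ι : Type u} (F : ι → AlgSp.Sp S) (c : Cofan F)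
    (hc : IsColimit c) (h : AlgSp.IsAlgSpace c.pt) (i : ι) : AlgSp.IsAlgSpace (F i) := by
  open Groth.Agent.ASp in
  have hj := repWith_inj c hc i
  haveI : Mono (c.inj i) := mono_of_repWith (P := @IsOpenImmersion ⊓ @IsClosedImmersion)
    (fun g hg => haveI : IsOpenImmersion g := hg.1; inferInstance) hj
  have hd : AlgSp.Representable (Limits.diag (F i)) := by
    refine MorphismProperty.of_isPullback (P := (AlgSp.yon S).relativelyRepresentable) ?_ h.diag
      (g' := Limits.diag (F i)) (f' := c.inj i) (f := prod.map (c.inj i) (c.inj i))
    refine IsPullback.of_isLimit' ⟨by apply prod.hom_ext <;> simp⟩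
      (PullbackCone.IsLimit.mk _ (fun s => s.snd ≫ prod.fst) (fun s => ?_) (fun s => ?_)
        (fun s m h1 h2 => by rw [← h2]; simp))
    · have e := congrArg (· ≫ prod.fst) s.condition
      simpa using e.symm
    · have e1 := congrArg (· ≫ prod.fst) s.condition
      have e2 := congrArg (· ≫ prod.snd) s.condition
      simp at e1 e2
      apply prod.hom_ext
      · simp
      · rw [← cancel_mono (c.inj i)]
        simp [← e1, ← e2]
  obtain ⟨U, p, hpe, hps⟩ := h.atlas
  exact ⟨hd, hj.1.pullback p, hj.1.fst p, repWith_of_isPullback (hj.1.isPullback p).flip hpe,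
    repWith_of_isPullback (hj.1.isPullback p).flip hps⟩

end Groth.Agent.S9880
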