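import Groth.Statements.S9882
import Groth.Agent.ASp.Quot
import Groth.Agent.ASp.MonoScheme
set_option backward.isDefEq.respectTransparency.types false

set_option autoImplicit false
universe u
open CategoryTheory CategoryTheory.Limits AlgebraicGeometry
open AlgSp

namespace Groth.Agent.S9882

open Groth.Agent.ASp Opposite

/-- Let `X` be an algebraic space over `S` with diagonal `Δ : X ⟶ X × X` (representable by schemes).
Then, in the representable sense, `Δ` is locally of finite type, a monomorphism, separated, and
locally quasi-finite. (Mathlib's locally quasi-finite class has no finite-type clause; together with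
the first conjunct this is the usual notion.) -/
theorem result (S : Scheme.{u}) (X : AlgSp.Space S) :
    AlgSp.RepWith @LocallyOfFiniteType (Limits.diag X.obj) ∧
      AlgSp.RepWith (MorphismProperty.monomorphisms Scheme.{u}) (Limits.diag X.obj) ∧
      AlgSp.RepWith @IsSeparated (Limits.diag X.obj) ∧
      AlgSp.RepWith @LocallyQuasiFinite (Limits.diag X.obj) := by
  have hl := repWith_diag_locallyOfFiniteType X.2
  have hm : ∀ ⦃T V : Over S⦄ (g : (yon S).obj T ⟶ X.obj ⨯ X.obj) (fst : (yon S).obj V ⟶ X.obj) (snd : V ⟶ T),
      IsPullback fst ((yon S).map snd) (Limits.diag X.obj) g → Mono snd.left := fun T V g fst snd sq => by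
    have : Mono ((yon S).map snd) := ⟨fun a b hab => sq.hom_ext ((cancel_mono (Limits.diag X.obj)).1 (by
      rw [Category.assoc, Category.assoc, sq.w, reassoc_of% hab])) hab⟩
    have : Mono snd := (yon S).mono_of_mono_map this
    exact Over.mono_left_of_mono snd
  refine ⟨hl, ⟨hl.1, fun T V g fst snd sq => hm g fst snd sq⟩, ⟨hl.1, fun T V g fst snd sq => ?_⟩,
    ⟨hl.1, fun T V g fst snd sq => ?_⟩⟩
  · have := hm g fst snd sq
    exact (inferInstance : IsSeparated snd.left)
  · have := hm g fst snd sq
    have : LocallyOfFiniteType snd.left := hl.2 g fst snd sq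
    exact locallyQuasiFinite_of_mono snd.left

end Groth.Agent.S9882
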