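import Groth.Statements.S9884
import Groth.Agent.ASp.Sheaf
import Groth.Agent.ASp.Basic
set_option backward.isDefEq.respectTransparency false
set_option backward.isDefEq.respectTransparency.types false

set_option autoImplicit false
universe u
open CategoryTheory CategoryTheory.Limits AlgebraicGeometry
open AlgSp

namespace Groth.Agent.S9884

/-- Let `a : F ⟶ G` be a map of fppf sheaves of sets over `S` which is representable by schemes, `b : H
⟶ G` a surjective map of sheaves, and `a' : H ×_G F ⟶ H` the base change of `a` along `b` (a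
pullback square in sheaves). Let `P` be a property of morphisms of schemes stable under base change
and fppf local on the base. If `a'` has `P` in the representable sense, then so does `a`. (The
published statement is for presheaves, with `b` inducing a surjection of fppf sheafifications; this
row is the case of sheaves.) -/
theorem result (S : Scheme.{u}) (F G H : AlgSp.Sp S) (a : F ⟶ G)
    (ha : AlgSp.Representable a) (b : H ⟶ G) [Sheaf.IsLocallySurjective b] (Q : AlgSp.Sp S) (b' : Q ⟶ F)
    (a' : Q ⟶ H) (sq : IsPullback b' a' a b) (P : MorphismProperty Scheme.{u}) [P.IsStableUnderBaseChange]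
    [P.IsLocalAtTarget Scheme.fppfPrecoverage] (h : AlgSp.RepWith P a') : AlgSp.RepWith P a := by
  open Groth.Agent.ASp AlgSp Opposite in
  refine ⟨ha, fun {T W} ξ fst w sqW => ?_⟩
  have : (min (α := MorphismProperty Scheme.{u}) @Flat @LocallyOfFinitePresentation).ContainsIdentities :=
    ⟨fun X => ⟨(inferInstance : Flat (𝟙 X)), (inferInstance : LocallyOfFinitePresentation (𝟙 X))⟩⟩
  have : Scheme.fppfPrecoverage.{u}.HasIsos := inferInstanceAs
    ((Scheme.precoverage (min (α := MorphismProperty Scheme.{u}) @Flat @LocallyOfFinitePresentation)).HasIsos)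
  have : Scheme.fppfPrecoverage.{u}.HasPullbacks := inferInstanceAs
    ((Scheme.precoverage (min (α := MorphismProperty Scheme.{u}) @Flat @LocallyOfFinitePresentation)).HasPullbacks)
  have hR := Presheaf.imageSieve_mem (J S) b.hom (U := op T) ((J S).uliftYonedaEquiv.{u+1} ξ)
  rw [GrothendieckTopology.mem_over_iff, Precoverage.mem_toGrothendieck_iff_of_isStableUnderComposition] at hR
  obtain ⟨R₀, hR₀, hle⟩ := hR
  refine MorphismProperty.IsLocalAtTarget.of_forall_pullbackSnd (K := Scheme.fppfPrecoverage) hR₀ fun {U k} _ hk => ?_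
  let k' : Over.mk (k ≫ T.hom) ⟶ T := Over.homMk k rfl
  obtain ⟨x, hx⟩ : ∃ x : (yon S).obj (Over.mk (k ≫ T.hom)) ⟶ H, x ≫ b = (yon S).map k' ≫ ξ := by
    obtain ⟨Z, a₁, b₁, ha₁, hb₁⟩ := hle _ _ hk
    obtain ⟨z, hz⟩ := ha₁
    obtain ⟨z, rfl⟩ := (J S).uliftYonedaEquiv.{u+1}.surjective z
    let b' : Over.mk (k ≫ T.hom) ⟶ Z := Over.homMk b₁ (by
      change b₁ ≫ Z.hom = k ≫ T.hom
      rw [← Over.w a₁]
      exact (Category.assoc _ _ _).symm.trans (congrArg (· ≫ T.hom) hb₁.symm))
    refine ⟨(yon S).map b' ≫ z, ?_⟩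
    have e : z ≫ b = (yon S).map a₁ ≫ ξ := (J S).uliftYonedaEquiv.{u+1}.injective
      (Eq.trans hz (GrothendieckTopology.uliftYonedaEquiv_naturality.{u+1} (J S) ξ a₁))
    rw [Category.assoc, e, ← Category.assoc, ← (yon S).map_comp]
    exact congrArg (fun φ => (yon S).map φ ≫ ξ) (Over.OverMorphism.ext hb₁.symm)
  let W' : Over S := Over.mk (pullback.fst w.left k ≫ W.hom)
  let w' : W' ⟶ Over.mk (k ≫ T.hom) := Over.homMk (pullback.snd w.left k) (by
    change pullback.snd w.left k ≫ k ≫ T.hom = pullback.fst w.left k ≫ W.hom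
    rw [← pullback.condition_assoc, Over.w])
  let l : W' ⟶ W := Over.homMk (pullback.fst w.left k) rfl
  have hlw : l ≫ w = w' ≫ k' := Over.OverMorphism.ext pullback.condition
  have sq1 : IsPullback ((yon S).map l) ((yon S).map w') ((yon S).map w) ((yon S).map k') :=
    isPullback_yon_map (IsPullback.of_map (Over.forget S) hlw (IsPullback.of_hasPullback w.left k))
  have big : IsPullback ((yon S).map l ≫ fst) ((yon S).map w') a (x ≫ b) := by
    rw [hx]; exact sq1.paste_horiz sqW
  refine h.2 x (sq.lift ((yon S).map l ≫ fst) ((yon S).map w' ≫ x) (by rw [big.w, Category.assoc])) w'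
    (IsPullback.of_right ?_ (sq.lift_snd _ _ _) sq)
  rw [sq.lift_fst]
  exact big

end Groth.Agent.S9884
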