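import Groth.Statements.S9883
import Groth.Agent.S9884
import Groth.Agent.ASp.Sheaf
import Groth.Agent.ASp.LocP
set_option backward.isDefEq.respectTransparency false
set_option backward.isDefEq.respectTransparency.types false

set_option autoImplicit false
universe u
open CategoryTheory CategoryTheory.Limits AlgebraicGeometry
open AlgSp

namespace Groth.Agent.S9883

/-- Let `f : Y ⟶ X` be a morphism of algebraic spaces over `S` which is representable by schemes, let `q
: h_U ⟶ X` be representable etale and surjective with `U` a scheme over `S`, and let `h_V ⟶ Y`, `g :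
V ⟶ U` be a base change of `f` along `q`. Let `P` be a property of morphisms of schemes which is
stable under base change and fppf local on the base. Then `f` has `P` (in the representable sense)
if and only if `g` has `P`. -/
theorem result (S : Scheme.{u}) (X Y : AlgSp.Space S) (f : Y.obj ⟶ X.obj)
    (hf : AlgSp.Representable f) {U V : Over S} (q : (AlgSp.yon S).obj U ⟶ X.obj)
    (hqe : AlgSp.RepWith @Etale q) (hqs : AlgSp.RepWith @Surjective q)
    (fst : (AlgSp.yon S).obj V ⟶ Y.obj) (g : V ⟶ U) (sq : IsPullback fst ((AlgSp.yon S).map g) f q)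
    (P : MorphismProperty Scheme.{u}) [P.IsStableUnderBaseChange] [P.IsLocalAtTarget Scheme.fppfPrecoverage] :
    AlgSp.RepWith P f ↔ P g.left := by
  refine ⟨fun h => h.2 q fst g sq, fun h => ?_⟩
  haveI : CategoryTheory.Sheaf.IsLocallySurjective q := Groth.Agent.ASp.isLocallySurjective_of_repWith
    (Groth.Agent.ASp.repWith_mono (fun _ _ g (hg : Etale g) => inferInstanceAs (Flat g)) hqe)
    (Groth.Agent.ASp.repWith_mono (fun _ _ g (hg : Etale g) => inferInstanceAs (LocallyOfFinitePresentation g)) hqe) hqs
  exact Groth.Agent.S9884.result S Y.obj X.obj _ f hf q _ fst _ sq P (Groth.Agent.ASp.repWith_yon_map h)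

end Groth.Agent.S9883
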