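import Groth.Statements.S9886
import Groth.Agent.ASp.Quot
import Groth.Agent.ASp.MonoScheme
set_option backward.isDefEq.respectTransparency.types false

set_option autoImplicit false
universe u
open CategoryTheory CategoryTheory.Limits AlgebraicGeometry
open AlgSp

namespace Groth.Agent.S9886

open Groth.Agent.ASp Opposite

/-- Let `F` be an fppf sheaf of sets over `S` and `P` a property of morphisms of schemes stable under
base change. Assume that for all schemes `U`, `V` over `S` and all `a : h_U ⟶ F`, `b : h_V ⟶ F` the
fibre product `h_U ×_F h_V` is represented by some scheme `W` over `S` with its projections induced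
by morphisms `W ⟶ U`, `W ⟶ V`, and that for every such represented fibre product the morphism `W ⟶ U
×_S V` has `P`. Then the diagonal `F ⟶ F × F` is representable by schemes and has `P`. (The
published statement is for a presheaf of sets `F` and a property `P` that is also fppf local on the
base; this row takes `F` an fppf sheaf and `P` only stable under base change.) -/
theorem result (S : Scheme.{u}) (F : AlgSp.Sp S) (P : MorphismProperty Scheme.{u})
    [P.IsStableUnderBaseChange]
    (h₁ : ∀ ⦃U V : Over S⦄ (a : (AlgSp.yon S).obj U ⟶ F) (b : (AlgSp.yon S).obj V ⟶ F),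
      ∃ (W : Over S) (fst : W ⟶ U) (snd : W ⟶ V), IsPullback ((AlgSp.yon S).map fst) ((AlgSp.yon S).map snd) a b)
    (h₂ : ∀ ⦃U V W : Over S⦄ (a : (AlgSp.yon S).obj U ⟶ F) (b : (AlgSp.yon S).obj V ⟶ F) (fst : W ⟶ U)
      (snd : W ⟶ V), IsPullback ((AlgSp.yon S).map fst) ((AlgSp.yon S).map snd) a b → P (prod.lift fst snd).left) :
    AlgSp.RepWith P (Limits.diag F) := by
  refine ⟨Functor.relativelyRepresentable.diag_of_map_from_obj fun U a V b => ?_, fun T V ξ fst snd sq => ?_⟩
  · obtain ⟨W, f, s, h⟩ := h₁ a b
    exact ⟨W, s, (yon S).map f, h⟩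
  · change P snd.left
    obtain ⟨W, p, q, hW⟩ := h₁ (ξ ≫ prod.fst) (ξ ≫ prod.snd)
    have e1 : fst = (yon S).map snd ≫ ξ ≫ prod.fst := by
      simpa only [Category.assoc, prod.lift_fst, Category.comp_id] using congrArg (· ≫ prod.fst) sq.w
    have e2 : fst = (yon S).map snd ≫ ξ ≫ prod.snd := by
      simpa only [Category.assoc, prod.lift_snd, Category.comp_id] using congrArg (· ≫ prod.snd) sq.w
    obtain ⟨l, hl⟩ := (yon S).map_surjective (hW.lift ((yon S).map snd) ((yon S).map snd) (e1.symm.trans e2))
    have hl1 : l ≫ p = snd := (yon S).map_injective (by rw [Functor.map_comp, hl, hW.lift_fst])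
    have hl2 : l ≫ q = snd := (yon S).map_injective (by rw [Functor.map_comp, hl, hW.lift_snd])
    have hm : Mono ((yon S).map snd) := ⟨fun a b hab => sq.hom_ext ((cancel_mono (Limits.diag F)).1 (by
      rw [Category.assoc, Category.assoc, sq.w, reassoc_of% hab])) hab⟩
    have hWm : ∀ {Z : Over S} (u v : Z ⟶ W), u ≫ p = v ≫ p → u ≫ q = v ≫ q → u = v := fun u v h h' =>
      (yon S).map_injective (hW.hom_ext (by rw [← Functor.map_comp, ← Functor.map_comp, h])
        (by rw [← Functor.map_comp, ← Functor.map_comp, h']))
    have : Mono snd := (yon S).mono_of_mono_map hm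
    have hc : ∀ k : PullbackCone (prod.lift p q) (Limits.diag T), k.fst ≫ p = k.snd ∧ k.fst ≫ q = k.snd := fun k => by
      constructor
      · simpa only [Category.assoc, prod.lift_fst, Category.comp_id] using congrArg (· ≫ prod.fst) k.condition
      · simpa only [Category.assoc, prod.lift_snd, Category.comp_id] using congrArg (· ≫ prod.snd) k.condition
    have hkey : ∀ k : PullbackCone (prod.lift p q) (Limits.diag T), ∃ m : k.pt ⟶ V, m ≫ snd = k.snd := fun k => by
      obtain ⟨m, hm⟩ := (yon S).map_surjective (sq.lift ((yon S).map k.snd ≫ ξ ≫ prod.fst) ((yon S).map k.snd) (by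
        apply prod.hom_ext
        · simp only [Category.assoc, prod.lift_fst, Category.comp_id]
        · simp only [Category.assoc, prod.lift_snd, Category.comp_id]
          have e := congrArg ((yon S).map k.fst ≫ ·) hW.w
          simp only [← Category.assoc, ← Functor.map_comp, (hc k).1, (hc k).2] at e
          simpa only [Category.assoc] using e))
      exact ⟨m, (yon S).map_injective (by rw [Functor.map_comp, hm, sq.lift_snd])⟩
    choose m hm' using hkey
    have sq' : IsPullback l snd (prod.lift p q) (Limits.diag T) := by
      refine IsPullback.of_isLimit' ⟨?_⟩ (PullbackCone.IsLimit.mk _ m (fun k => ?_) hm' (fun k n h1 h2 => ?_))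
      · apply prod.hom_ext
        · simp only [Category.assoc, prod.lift_fst, Category.comp_id, hl1]
        · simp only [Category.assoc, prod.lift_snd, Category.comp_id, hl2]
      · exact hWm _ _ (by rw [Category.assoc, hl1, hm', (hc k).1]) (by rw [Category.assoc, hl2, hm', (hc k).2])
      · exact (cancel_mono snd).1 (h2.trans (hm' k).symm)
    exact MorphismProperty.of_isPullback (isPullback_left sq') (h₂ _ _ p q hW)

end Groth.Agent.S9886
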