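import Groth.Statements.S9894
import Groth.Agent.AffDescShf.Effective
import Groth.Agent.S9884
import Groth.Agent.ASp.PShf
-- import your own Groth.Agent.* helpers here

set_option autoImplicit false
set_option backward.isDefEq.respectTransparency false
set_option backward.isDefEq.respectTransparency.types false
universe u
open CategoryTheory CategoryTheory.Limits AlgebraicGeometry
open AlgSp

namespace Groth.Agent.S9894

/-- Let `P` be a property of morphisms of schemes which is stable under base change, fppf local on the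
base, and such that morphisms of type `P` satisfy descent: for every surjective, flat, locally
finitely presented `p : X' ⟶ S'` every descent datum relative to `p` whose scheme has structure
morphism in `P` is effective (descent is asked along single fppf covers, the case the argument
uses). Let `F` be an algebraic space over `S`, `G` an fppf sheaf of sets with a map `f : G ⟶ F`, and
`q : h_U ⟶ F` representable etale and surjective such that the base change of `f` along `q` is
represented by a scheme `V` over `S` with `g : V ⟶ U` having `P`. Then `G` is an algebraic space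
over `S` and `f` is representable by schemes with property `P`. -/
theorem result (S : Scheme.{u}) (P : MorphismProperty Scheme.{u})
    [P.IsStableUnderBaseChange] [P.IsLocalAtTarget Scheme.fppfPrecoverage]
    (hdesc : ∀ ⦃X' S' : Scheme.{u}⦄ (p : X' ⟶ S'), Surjective p → Flat p → LocallyOfFinitePresentation p →
      ∀ D : Desc.SchDD p, P D.obj.hom → (Desc.toDD p).essImage D)
    (F : AlgSp.Space S) (G : AlgSp.Sp S) (f : G ⟶ F.obj) {U V : Over S} (q : (AlgSp.yon S).obj U ⟶ F.obj)
    (hqe : AlgSp.RepWith @Etale q) (hqs : AlgSp.RepWith @Surjective q) (fst : (AlgSp.yon S).obj V ⟶ G)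
    (g : V ⟶ U) (sq : IsPullback fst ((AlgSp.yon S).map g) f q) (hP : P g.left) :
    AlgSp.IsAlgSpace G ∧ AlgSp.RepWith P f := by
  have hrep : AlgSp.Representable f := by
    intro T ξ
    obtain ⟨T₁, u', c, hc⟩ : ∃ (T₁ : Over S) (u' : (AlgSp.yon S).obj T₁ ⟶ (AlgSp.yon S).obj U) (c : T₁ ⟶ T),
        IsPullback u' ((AlgSp.yon S).map c) q ξ := ⟨_, _, _, hqe.1.isPullback ξ⟩
    obtain ⟨u, rfl⟩ := (AlgSp.yon S).map_surjective u'
    haveI : Etale c.left := hqe.2 ξ _ c hc
    haveI : Surjective c.left := hqs.2 ξ _ c hc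
    let V₁ : Over S := Over.mk (pullback.fst g.left u.left ≫ V.hom)
    let l : V₁ ⟶ V := Over.homMk (pullback.fst _ _) rfl
    let a : V₁ ⟶ T₁ := Over.homMk (pullback.snd _ _) (by
      change pullback.snd g.left u.left ≫ T₁.hom = pullback.fst g.left u.left ≫ V.hom
      rw [← Over.w u, ← pullback.condition_assoc, Over.w g])
    have hpb : IsPullback l a g u :=
      IsPullback.of_map (Over.forget S) (Over.OverMorphism.ext pullback.condition) (IsPullback.of_hasPullback g.left u.left)
    obtain ⟨G₁, pr₁, pr₂, hG₁⟩ : ∃ (G₁ : AlgSp.Sp S) (pr₁ : G₁ ⟶ G) (pr₂ : G₁ ⟶ (AlgSp.yon S).obj T),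
        IsPullback pr₁ pr₂ f ξ := ⟨_, _, _, IsPullback.of_hasPullback f ξ⟩
    have hw : ((AlgSp.yon S).map l ≫ fst) ≫ f = (AlgSp.yon S).map (a ≫ c) ≫ ξ := by
      rw [Category.assoc, sq.w, ← Functor.map_comp_assoc, hpb.w, Functor.map_comp_assoc, hc.w,
        Functor.map_comp_assoc]
    have hPa : P a.left := MorphismProperty.pullback_snd _ _ hP
    obtain ⟨X, e, b, hb⟩ := Groth.Agent.AffDescShf.exists_scheme_of_cover c P
      (fun D hD => hdesc c.left inferInstance inferInstance inferInstance D hD) pr₂ a hPa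
      (hG₁.lift ((AlgSp.yon S).map l ≫ fst) ((AlgSp.yon S).map (a ≫ c)) hw) (hG₁.lift_snd _ _ _) (fun W ζ x hζ => by
        have h1 : (ζ ≫ pr₁) ≫ f = ((AlgSp.yon S).map (x ≫ u)) ≫ q := by
          rw [Category.assoc, hG₁.w, reassoc_of% hζ, Functor.map_comp, Functor.map_comp, Category.assoc,
            Category.assoc, hc.w]
        obtain ⟨v₀, hv₀⟩ := (AlgSp.yon S).map_surjective (sq.lift (ζ ≫ pr₁) _ h1)
        have hv₀g : v₀ ≫ g = x ≫ u := (AlgSp.yon S).map_injective (by
          rw [Functor.map_comp, hv₀, sq.lift_snd])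
        refine ⟨hpb.lift v₀ x hv₀g, ⟨?_, hpb.lift_snd _ _ _⟩, fun v hv => ?_⟩
        · apply hG₁.hom_ext
          · rw [Category.assoc, hG₁.lift_fst, ← Functor.map_comp_assoc, hpb.lift_fst, hv₀, sq.lift_fst]
          · rw [Category.assoc, hG₁.lift_snd, ← Functor.map_comp, ← Category.assoc, hpb.lift_snd, hζ]
        · apply hpb.hom_ext
          · rw [hpb.lift_fst]
            apply (AlgSp.yon S).map_injective
            rw [hv₀]
            apply sq.hom_ext
            · rw [sq.lift_fst, ← hv.1, Category.assoc, hG₁.lift_fst, Functor.map_comp_assoc]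
            · rw [sq.lift_snd, ← Functor.map_comp, Category.assoc, hpb.w, ← Category.assoc, hv.2]
          · rw [hpb.lift_snd, hv.2])
    exact ⟨X, b, e.hom ≫ pr₁, hG₁.of_iso e.symm (Iso.refl _) (Iso.refl _) (Iso.refl _)
      (by simp) (by simp [← hb]) (by simp) (by simp)⟩
  haveI : Sheaf.IsLocallySurjective q := Groth.Agent.ASp.isLocallySurjective_of_repWith
    (Groth.Agent.ASp.repWith_mono (fun _ _ k (hk : Etale k) => (inferInstance : Flat k)) hqe)
    (Groth.Agent.ASp.repWith_mono (fun _ _ k (hk : Etale k) => (inferInstance : LocallyOfFinitePresentation k)) hqe) hqs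
  refine ⟨?_, Groth.Agent.S9884.result S G F.obj ((AlgSp.yon S).obj U) f hrep q ((AlgSp.yon S).obj V) fst _ sq P
    ((AlgSp.repWith_yon_map_iff P g).2 hP)⟩
  have hrel : (AlgSp.pyon S).relativelyRepresentable f.hom := by
    intro T ξ
    obtain ⟨X, b, x, hx⟩ := hrep (ObjectProperty.homMk ξ : (AlgSp.yon S).obj T ⟶ F.obj)
    exact ⟨X, b, x.hom, hx.map (sheafToPresheaf (AlgSp.J S) (Type (u + 1)))⟩
  exact (AlgSp.isAlgSpaceP_obj_iff G).1 (Groth.Agent.ASp.isAlgSpaceP_of_repBySp
    (Groth.Agent.ASp.repBySp_of_relativelyRepresentable hrel) ((AlgSp.isAlgSpaceP_obj_iff F.obj).2 F.property))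

end Groth.Agent.S9894
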