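import Groth.Statements.S9895
import Groth.Agent.ASp.FreeAct
import Groth.Agent.ASp.EqvQuot
import Groth.Agent.ASp.ValSeparable

set_option autoImplicit false
set_option backward.isDefEq.respectTransparency false
set_option backward.isDefEq.respectTransparency.types false
universe u
open CategoryTheory CategoryTheory.Limits AlgebraicGeometry
open AlgSp

namespace Groth.Agent.S9895

open Groth.Agent

variable {S : Scheme.{u}}

@[implicit_reducible] noncomputable def uniqueSpec {k : Type u} [Field k] (f : Spec (CommRingCat.of k) ⟶ S) :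
    Unique ↥(Over.mk f).left :=
  inferInstanceAs (Unique (PrimeSpectrum k))

theorem exists_inj_factor {U : Over S} {G : Type u} (c : Cofan (fun _ : G => U)) (hc : IsColimit c)
    {T : Over S} [Unique T.left] (r : T ⟶ c.pt) : ∃ (g : G) (y : T ⟶ U), r = y ≫ c.inj g := by
  have hcS : IsColimit (Cofan.mk c.pt.left fun g => (c.inj g).left) :=
    isColimitCofanMkObjOfIsColimit (Over.forget S) _ _
      (hc.ofIsoColimit (Cocone.ext (Iso.refl c.pt) (fun j => by simp [Cofan.inj])))
  let e : ∐ (fun _ : G => U.left) ≅ c.pt.left :=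
    IsColimit.coconePointUniqueUpToIso (coproductIsCoproduct _) hcS
  have he : ∀ g, Limits.Sigma.ι (fun _ : G => U.left) g ≫ e.hom = (c.inj g).left := fun g =>
    IsColimit.comp_coconePointUniqueUpToIso_hom (coproductIsCoproduct _) hcS ⟨g⟩
  obtain ⟨g, u, hu⟩ := (sigmaOpenCover fun _ : G => U.left).exists_eq (e.inv (r.left default))
  haveI : IsOpenImmersion (c.inj g).left := by
    rw [← he g]
    haveI : IsOpenImmersion (Limits.Sigma.ι (fun _ : G => U.left) g) := (sigmaOpenCover _).map_prop g
    infer_instance
  have hr : Set.range r.left ⊆ Set.range (c.inj g).left := by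
    rintro _ ⟨z, rfl⟩
    rw [Subsingleton.elim z default]
    refine ⟨u, ?_⟩
    rw [← he g, Scheme.Hom.comp_apply, show Limits.Sigma.ι (fun _ : G => U.left) g u = e.inv (r.left default) from hu]
    exact e.schemeIsoToHomeo.apply_symm_apply _
  refine ⟨g, Over.homMk (IsOpenImmersion.lift (c.inj g).left r.left hr) ?_,
    Over.OverMorphism.ext (IsOpenImmersion.lift_fac _ _ _).symm⟩
  show _ ≫ U.hom = T.hom
  rw [← Over.w (c.inj g), IsOpenImmersion.lift_fac_assoc, Over.w]

theorem exists_act {U : Over S} {G : Type u} [Group G] {ρ : G →* Aut U}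
    (c : Cofan (fun _ : G => U)) (hc : IsColimit c) {s t : c.pt ⟶ U}
    (hs : ∀ g, c.inj g ≫ s = 𝟙 U) (ht : ∀ g, c.inj g ≫ t = (ρ g).hom) {F : Sp S}
    {p : (yon S).obj U ⟶ F} (hR : IsPullback ((yon S).map t) ((yon S).map s) p p)
    {T : Over S} [Unique T.left] (a b : T ⟶ U) (h : (yon S).map a ≫ p = (yon S).map b ≫ p) :
    ∃ g : G, a = b ≫ (ρ g).hom := by
  obtain ⟨r, hr⟩ := (yon S).map_surjective (hR.lift _ _ h)
  have h1 : r ≫ t = a := (yon S).map_injective (by rw [Functor.map_comp, hr, hR.lift_fst])
  have h2 : r ≫ s = b := (yon S).map_injective (by rw [Functor.map_comp, hr, hR.lift_snd])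
  obtain ⟨g, y, rfl⟩ := exists_inj_factor c hc r
  refine ⟨g, ?_⟩
  rw [Category.assoc, hs, Category.comp_id] at h2
  rw [← h1, Category.assoc, ht, h2]

/-- Let a group `G` act freely (no non-identity element fixes a point together with its residue field)
by `S`-automorphisms on a scheme `U` over `S`, let `s, t : R = ∐_{g ∈ G} U ⟶ U` be the identity and
the action, and let `ξ : h_{Spec k} ⟶ U/R` be a morphism from the spectrum of a field `k` over `S`
to the quotient sheaf. Then one can find a finite Galois extension `k'/k` together with a finite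
subgroup `H ⊆ G`, a group isomorphism `e : H ≅ Gal(k'/k)` and a morphism `x' : Spec k' ⟶ U` over `S`
which is `H`-equivariant (with `h ∈ H` acting on `Spec k'` through `Spec` of `(e h)⁻¹`) and whose
composite with `U ⟶ U/R` is the restriction of `ξ` to `Spec k'`. (The published statement also
asserts that such data determine a morphism from `Spec k` to the quotient; this row states only the
direction above.) -/
theorem result (S : Scheme.{u}) (U : Over S) (G : Type u) [Group G]
    (ρ : G →* Aut U)
    (hfree : ∀ (g : G) (x : U.left), g ≠ 1 →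
      U.left.fromSpecResidueField x ≫ (ρ g).hom.left ≠ U.left.fromSpecResidueField x)
    (c : Cofan (fun _ : G => U)) (hc : IsColimit c) (s t : c.pt ⟶ U)
    (hs : ∀ g, c.inj g ≫ s = 𝟙 U) (ht : ∀ g, c.inj g ≫ t = (ρ g).hom)
    (k : Type u) [Field k] (σ : Spec (CommRingCat.of k) ⟶ S)
    (ξ : (AlgSp.yon S).obj (Over.mk σ) ⟶ QuotSh.quot Scheme.fppfPrecoverage s t) :
    ∃ (k' : Type u) (_ : Field k') (_ : Algebra k k') (_ : FiniteDimensional k k') (_ : IsGalois k k')
      (H : Subgroup G) (_ : Finite H) (e : H ≃* (k' ≃ₐ[k] k'))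
      (x' : Over.mk (Spec.map (CommRingCat.ofHom (algebraMap k k')) ≫ σ) ⟶ U),
      (∀ h : H, Spec.map (CommRingCat.ofHom (e h).symm.toRingEquiv.toRingHom) ≫ x'.left =
        x'.left ≫ (ρ (h : G)).hom.left) ∧
      (AlgSp.yon S).map x' ≫ (QuotSh.repIsoUliftYoneda Scheme.fppfPrecoverage U).inv ≫ QuotSh.quotπ Scheme.fppfPrecoverage s t =
        (AlgSp.yon S).map (Over.homMk (Spec.map (CommRingCat.ofHom (algebraMap k k'))) :
          Over.mk (Spec.map (CommRingCat.ofHom (algebraMap k k')) ≫ σ) ⟶ Over.mk σ) ≫ ξ := by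
  have hE := ASp.isEtaleEqvRel_of_free ρ hfree c hc s t hs ht
  have hpr := ASp.isPresentation_quot hE
  set p : (yon S).obj U ⟶ QuotSh.quot Scheme.fppfPrecoverage s t :=
    (QuotSh.repIsoUliftYoneda Scheme.fppfPrecoverage U).inv ≫ QuotSh.quotπ Scheme.fppfPrecoverage s t with hp
  have hR : IsPullback ((yon S).map t) ((yon S).map s) p p := ASp.isPullback_quot hE.toIsEqvRel
  have hρp : ∀ g, (yon S).map (ρ g).hom ≫ p = p := fun g => by
    rw [← ht g, Functor.map_comp, Category.assoc, hR.w, ← Functor.map_comp_assoc, hs,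
      CategoryTheory.Functor.map_id, Category.id_comp]
  let P := hpr.etale.1.pullback ξ
  let q : P ⟶ Over.mk σ := hpr.etale.1.snd ξ
  have sq := hpr.etale.1.isPullback ξ
  obtain ⟨f, hf⟩ := (yon S).map_surjective (hpr.etale.1.fst ξ)
  rw [← hf] at sq
  haveI hq : Etale q.left := hpr.etale.2 _ _ _ sq
  haveI hqs : Surjective q.left := hpr.surjective.2 _ _ _ sq
  obtain ⟨z, -⟩ := hqs.surj (show ↥(Over.mk σ).left from IsLocalRing.closedPoint k)
  let q' : P.left ⟶ Spec (CommRingCat.of k) := q.left
  haveI : Etale q' := hq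
  have hfs := ASp.finite_separable_of_etale q' z
  letI algk : Algebra k (P.left.residueField z) :=
    (Spec.preimage (P.left.fromSpecResidueField z ≫ q')).hom.toAlgebra
  haveI : FiniteDimensional k (P.left.residueField z) := hfs.1
  haveI : Algebra.IsSeparable k (P.left.residueField z) := hfs.2
  have halg : Spec.map (CommRingCat.ofHom (algebraMap k (P.left.residueField z))) =
      P.left.fromSpecResidueField z ≫ q' := Spec.map_preimage _
  let Y : Over S := Over.mk (Spec.map (CommRingCat.ofHom (algebraMap k (P.left.residueField z))) ≫ σ)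
  let π : Y ⟶ Over.mk σ := Over.homMk (Spec.map (CommRingCat.ofHom (algebraMap k (P.left.residueField z))))
  let w : Y ⟶ P := Over.homMk (P.left.fromSpecResidueField z) (by
    show _ ≫ P.hom = Spec.map _ ≫ σ
    rw [halg, Category.assoc]
    exact congrArg (P.left.fromSpecResidueField z ≫ ·) (Over.w q).symm)
  have hwq : w ≫ q = π := Over.OverMorphism.ext halg.symm
  haveI : Mono w := (Over.forget S).mono_of_mono_map
    (inferInstanceAs (Mono (P.left.fromSpecResidueField z)))
  let x' : Y ⟶ U := w ≫ f
  have hx' : (yon S).map x' ≫ p = (yon S).map π ≫ ξ := by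
    rw [← hwq, Functor.map_comp, Functor.map_comp, Category.assoc, Category.assoc, sq.w]
  have hext : ∀ {T : Over S} (a b : T ⟶ P), a ≫ f = b ≫ f → a ≫ q = b ≫ q → a = b := fun a b h1 h2 =>
    (yon S).map_injective (sq.hom_ext
      (by rw [← Functor.map_comp, ← Functor.map_comp, h1])
      (by rw [← Functor.map_comp, ← Functor.map_comp, h2]))
  haveI : Unique ↥Y.left := uniqueSpec _
  -- automorphisms of the residue field
  let aσ : (P.left.residueField z ≃ₐ[k] P.left.residueField z) → (Y ⟶ Y) := fun τ =>
    Over.homMk (Spec.map (CommRingCat.ofHom τ.symm.toRingEquiv.toRingHom)) (by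
      show Spec.map _ ≫ Spec.map _ ≫ σ = Spec.map _ ≫ σ
      rw [← Spec.map_comp_assoc]
      congr 2
      exact CommRingCat.hom_ext (RingHom.ext fun a => τ.symm.commutes a))
  have hπ : ∀ τ, aσ τ ≫ π = π := fun τ => Over.OverMorphism.ext (by
    show Spec.map _ ≫ Spec.map _ = Spec.map _
    rw [← Spec.map_comp]
    congr 1
    exact CommRingCat.hom_ext (RingHom.ext fun a => τ.symm.commutes a))
  have hlift : ∀ τ, ∃ g : G, aσ τ ≫ x' = x' ≫ (ρ g).hom := fun τ =>
    exists_act c hc hs ht hR _ _ (by
      rw [Functor.map_comp, Category.assoc, hx', ← Functor.map_comp_assoc, hπ])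
  choose φ hφ using hlift
  have huniq : ∀ g g', x' ≫ (ρ g).hom = x' ≫ (ρ g').hom → g = g' := fun g g' h =>
    ASp.eq_of_comp_eq_of_free hfree x' h default
  have hmul : ∀ τ τ', φ (τ * τ') = φ τ * φ τ' := fun τ τ' => huniq _ _ (by
    rw [← hφ]
    have e : aσ (τ * τ') = aσ τ' ≫ aσ τ := Over.OverMorphism.ext (by
      show Spec.map _ = Spec.map _ ≫ Spec.map _
      rw [← Spec.map_comp]
      congr 1)
    rw [e, Category.assoc, hφ, reassoc_of% hφ τ', map_mul]
    rfl)
  let Φ : (P.left.residueField z ≃ₐ[k] P.left.residueField z) →* G := MonoidHom.mk' φ hmul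
  have hinj : Function.Injective Φ := fun τ τ' h => by
    have h1 : (aσ τ ≫ w) ≫ f = (aσ τ' ≫ w) ≫ f := by
      rw [Category.assoc, Category.assoc]
      show aσ τ ≫ x' = aσ τ' ≫ x'
      rw [hφ, hφ]
      exact congrArg (fun g => x' ≫ (ρ g).hom) h
    have h2 : (aσ τ ≫ w) ≫ q = (aσ τ' ≫ w) ≫ q := by
      rw [Category.assoc, Category.assoc, hwq, hπ, hπ]
    have h3 : aσ τ = aσ τ' := (cancel_mono w).1 (hext _ _ h1 h2)
    have h4 : τ.symm = τ'.symm :=
      AlgEquiv.ext fun a => RingHom.congr_fun (congrArg CommRingCat.Hom.hom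
        (Spec.map_injective (congrArg (·.left) h3))) a
    exact AlgEquiv.symm_bijective.injective h4
  -- the extension is Galois
  let Ω := AlgebraicClosure k
  have hnormal : ∀ a b : P.left.residueField z →ₐ[k] Ω,
      ∃ θ : P.left.residueField z ≃ₐ[k] P.left.residueField z, a = b.comp θ.toAlgHom := by
    intro a b
    let T : Over S := Over.mk (Spec.map (CommRingCat.ofHom (algebraMap k Ω)) ≫ σ)
    haveI : Unique ↥T.left := uniqueSpec _
    let ea : (P.left.residueField z →ₐ[k] Ω) → (T ⟶ Y) := fun d =>
      Over.homMk (Spec.map (CommRingCat.ofHom d.toRingHom)) (by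
        show Spec.map _ ≫ Spec.map _ ≫ σ = Spec.map _ ≫ σ
        rw [← Spec.map_comp_assoc]
        congr 2
        exact CommRingCat.hom_ext (RingHom.ext fun a => d.commutes a))
    have hea : ∀ d d', ea d ≫ π = ea d' ≫ π := fun d d' => Over.OverMorphism.ext (by
      show Spec.map _ ≫ Spec.map _ = Spec.map _ ≫ Spec.map _
      rw [← Spec.map_comp, ← Spec.map_comp]
      congr 1
      exact CommRingCat.hom_ext (RingHom.ext fun a => (d.commutes a).trans (d'.commutes a).symm))
    obtain ⟨g, hg⟩ := exists_act c hc hs ht hR (ea a ≫ x') (ea b ≫ x') (by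
      rw [Functor.map_comp (yon S) (ea a) x', Functor.map_comp (yon S) (ea b) x', Category.assoc, Category.assoc, hx', ← Functor.map_comp_assoc,
        ← Functor.map_comp_assoc, hea a b])
    obtain ⟨act, hact⟩ := (yon S).map_surjective (sq.lift ((yon S).map (f ≫ (ρ g).hom)) ((yon S).map q) (by
      rw [Functor.map_comp, Category.assoc, hρp, sq.w]))
    have ha1 : act ≫ f = f ≫ (ρ g).hom := (yon S).map_injective (by rw [Functor.map_comp, hact, sq.lift_fst])
    have ha2 : act ≫ q = q := (yon S).map_injective (by rw [Functor.map_comp, hact, sq.lift_snd])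
    have hab : ea a ≫ w = ea b ≫ w ≫ act := hext _ _
      (by simp only [Category.assoc, ha1]; exact hg.trans (by simp only [x', Category.assoc]))
      (by simp only [Category.assoc, ha2, hwq]; exact hea a b)
    have hz : act.left z = z := by
      have := congrArg (fun m : T ⟶ P => m.left default) hab
      simp only [Over.comp_left, Scheme.Hom.comp_apply] at this
      rw [show w.left ((ea a).left default) = z from Scheme.fromSpecResidueField_apply _ _,
        show w.left ((ea b).left default) = z from Scheme.fromSpecResidueField_apply _ _] at this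
      exact this.symm
    obtain ⟨m, hm⟩ : ∃ m : Spec (P.left.residueField z) ⟶ Spec (P.left.residueField z),
        m ≫ P.left.fromSpecResidueField z = w.left ≫ act.left := by
      have key : ∀ y, y = z → ∀ m : Spec (P.left.residueField z) ⟶ Spec (P.left.residueField y),
          ∃ m' : Spec (P.left.residueField z) ⟶ Spec (P.left.residueField z),
            m' ≫ P.left.fromSpecResidueField z = m ≫ P.left.fromSpecResidueField y := by
        rintro _ rfl m
        exact ⟨m, rfl⟩
      obtain ⟨m', hm'⟩ := key (act.left z) hz (Spec.map (act.left.residueFieldMap z))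
      exact ⟨m', hm'.trans (Scheme.Hom.SpecMap_residueFieldMap_fromSpecResidueField _ _)⟩
    have hm2 : m ≫ Spec.map (CommRingCat.ofHom (algebraMap k (P.left.residueField z))) =
        Spec.map (CommRingCat.ofHom (algebraMap k (P.left.residueField z))) := by
      rw [halg, reassoc_of% hm]
      exact congrArg (P.left.fromSpecResidueField z ≫ ·) (congrArg (·.left) ha2)
    let θ : P.left.residueField z →ₐ[k] P.left.residueField z :=
      { (Spec.preimage m).hom with
        commutes' := fun a => by
          have := congrArg Spec.preimage hm2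
          rw [Spec.preimage_comp, Spec.preimage_map] at this
          exact RingHom.congr_fun (congrArg CommRingCat.Hom.hom this) a }
    refine ⟨AlgEquiv.ofBijective θ θ.bijective, ?_⟩
    have h5 : (ea a).left = ((ea b).left ≫ m) := by
      rw [← cancel_mono (P.left.fromSpecResidueField z), Category.assoc, hm]
      exact congrArg (·.left) hab
    refine AlgHom.ext fun y => ?_
    have := congrArg Spec.preimage h5
    rw [Spec.preimage_comp] at this
    simp only [ea, Over.homMk_left, Spec.preimage_map] at this
    exact RingHom.congr_fun (congrArg CommRingCat.Hom.hom this) y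
  haveI : IsGalois k (P.left.residueField z) := by
    refine IsGalois.of_card_aut_eq_finrank _ _ ?_
    let b : P.left.residueField z →ₐ[k] Ω := IsAlgClosed.lift
    rw [← AlgHom.card k (P.left.residueField z) Ω, ← Nat.card_eq_fintype_card]
    refine Nat.card_eq_of_bijective (fun θ => b.comp θ.toAlgHom) ⟨fun θ θ' h => ?_, fun a => ?_⟩
    · exact AlgEquiv.ext fun y => b.toRingHom.injective (AlgHom.congr_fun h y)
    · obtain ⟨θ, hθ⟩ := hnormal a b
      exact ⟨θ, hθ.symm⟩
  refine ⟨P.left.residueField z, inferInstance, algk, inferInstance, inferInstance, Φ.range,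
    Finite.of_surjective _ Φ.rangeRestrict_surjective, (MonoidHom.ofInjective hinj).symm, x', fun h => ?_, hx'⟩
  obtain ⟨τ, rfl⟩ := (MonoidHom.ofInjective hinj).surjective h
  rw [MulEquiv.symm_apply_apply]
  exact congrArg (·.left) (hφ τ)

end Groth.Agent.S9895
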