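import Groth.Statements.S9897
import Groth.Agent.ASp.SliceSpace
-- import your own Groth.Agent.* helpers here

set_option autoImplicit false
set_option backward.isDefEq.respectTransparency false
universe u
open CategoryTheory CategoryTheory.Limits AlgebraicGeometry
open AlgSp

namespace Groth.Agent.S9897
open Groth.Agent.ASp Groth.Agent.ASp.Slice

/-- Let `g : S ⟶ S'` be a morphism of schemes and `j⁻¹` the restriction functor from fppf sheaves of
sets on schemes over `S'` to fppf sheaves of sets on schemes over `S` (along `Over.map g`). Then for
a scheme `X'` over `S'`, `j⁻¹ h_{X'}` is representable by `X' ×_{S'} S` viewed over `S` through the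
second projection (stated as existence of a representation by that scheme), and for an algebraic
space `F'` over `S'`, `j⁻¹ F'` is an algebraic space over `S`. (The clause about presentations is
not included.) -/
theorem result {S S' : Scheme.{u}} (g : S ⟶ S') :
    (∀ X' : Over S', Nonempty (((Scheme.fppfTopology.overMapPullback (Type (u + 1)) g).obj ((AlgSp.yon S').obj X')).obj.RepresentableBy
      (Over.mk (pullback.snd X'.hom g)))) ∧
      (∀ F' : AlgSp.Space S', AlgSp.IsAlgSpace ((Scheme.fppfTopology.overMapPullback (Type (u + 1)) g).obj F'.obj)) := by
  refine ⟨fun X' => ⟨?_⟩, fun F' => ?_⟩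
  · exact
      { homEquiv := fun {Y} =>
          { toFun := fun m => ULift.up (Over.homMk (m.left ≫ pullback.fst X'.hom g) (by
              change (m.left ≫ _) ≫ X'.hom = Y.hom ≫ g
              rw [Category.assoc, pullback.condition, ← Category.assoc]
              exact congrArg (· ≫ g) (Over.w m)))
            invFun := fun x => Over.homMk (pullback.lift x.down.left Y.hom (Over.w x.down)) (pullback.lift_snd _ _ _)
            left_inv := fun m => by
              apply Over.OverMorphism.ext
              apply pullback.hom_ext
              · exact pullback.lift_fst _ _ _
              · exact (pullback.lift_snd _ _ _).trans (Over.w m).symm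
            right_inv := fun x => congrArg ULift.up (Over.OverMorphism.ext (pullback.lift_fst _ _ _)) }
        homEquiv_comp := fun f m => congrArg ULift.up (Over.OverMorphism.ext (Category.assoc _ _ _)) }
  · exact (isAlgSpace_res_iff g F'.obj).2 (isAlgSpace_prod (IsAlgSpace.yon_obj _) F'.property)

end Groth.Agent.S9897
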