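import Groth.Statements.S9898
import Groth.Agent.ASp.SliceSpace
-- import your own Groth.Agent.* helpers here

set_option autoImplicit false
set_option backward.isDefEq.respectTransparency false
universe u
open CategoryTheory CategoryTheory.Limits AlgebraicGeometry
open AlgSp

namespace Groth.Agent.S9898
open Groth.Agent.ASp Groth.Agent.ASp.Slice

/-- Let `g : S ⟶ S'` be a morphism of schemes and `j_!` the left adjoint of the restriction functor from
fppf sheaves of sets on schemes over `S'` to those on schemes over `S`. Then there is an equivalence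
between the category of algebraic spaces over `S` and the category of pairs (an algebraic space `F'`
over `S'`, a morphism `F' ⟶ h_S` of algebraic spaces over `S'`), i.e. the over category of `h_S` in
algebraic spaces over `S'`, sending `F` to `j_! F`: the equivalence composed with the forgetful
functor to sheaves over `S'` is isomorphic to `j_!` on underlying sheaves. (Only this compatibility
is pinned; the structure maps `j_! F ⟶ h_S` are not.) -/
theorem result {S S' : Scheme.{u}} (g : S ⟶ S') :
    ∃ E : AlgSp.Space S ≌ Over ((AlgSp.ofScheme S').obj (Over.mk g)),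
      Nonempty (E.functor ⋙ Over.forget _ ⋙ ObjectProperty.ι (AlgSp.IsAlgSpace (S := S')) ≅
        ObjectProperty.ι (AlgSp.IsAlgSpace (S := S)) ⋙ ((Over.map g).sheafPullback (Type (u + 1)) (AlgSp.J S) (AlgSp.J S'))) := by
  let i := Adjunction.leftAdjointUniq ((Over.map g).sheafAdjunctionContinuous (Type (u + 1)) (AlgSp.J S) (AlgSp.J S'))
    (adj g)
  let Fn : AlgSp.Space S ⥤ Over ((AlgSp.ofScheme S').obj (Over.mk g)) :=
    { obj := fun F => Over.mk (Y := (⟨(extS g).obj F.obj, (isAlgSpace_ext_iff (g := g)).2 F.property⟩ : AlgSp.Space S'))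
        (ObjectProperty.homMk (base g F.obj))
      map := fun φ => Over.homMk (ObjectProperty.homMk ((extS g).map φ.hom))
        (by ext : 1; exact map_base g φ.hom)
      map_id := fun F => by ext : 2; exact (extS g).map_id F.obj
      map_comp := fun φ ψ => by ext : 2; exact (extS g).map_comp φ.hom ψ.hom }
  haveI : Fn.Faithful := ⟨fun {F G} a b h => ObjectProperty.hom_ext _
    ((extS g).map_injective (congrArg (fun m => m.left.hom) h))⟩
  haveI : Fn.Full := ⟨fun {F G} φ => ⟨ObjectProperty.homMk (preimg g φ.left.hom
      (congrArg (fun m => m.hom) (Over.w φ))), by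
    ext : 2
    exact map_preimg g φ.left.hom (congrArg (fun m => m.hom) (Over.w φ))⟩⟩
  haveI : Fn.EssSurj := ⟨fun Q => by
    let e := (toOver g).objObjPreimageIso (Over.mk Q.hom.hom)
    have hG : AlgSp.IsAlgSpace ((toOver g).objPreimage (Over.mk Q.hom.hom)) :=
      (isAlgSpace_ext_iff (g := g)).1 (Q.left.property.of_iso ((Over.forget _).mapIso e).symm)
    exact ⟨⟨_, hG⟩, ⟨Over.isoMk (ObjectProperty.isoMk _ ((Over.forget _).mapIso e))
      (ObjectProperty.hom_ext _ (Over.w e.hom))⟩⟩⟩
  haveI : Fn.IsEquivalence := {}
  exact ⟨Fn.asEquivalence, ⟨NatIso.ofComponents (fun F => (i.app F.obj).symm) fun φ => i.inv.naturality φ.hom⟩⟩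

end Groth.Agent.S9898
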