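import Groth.Statements.S9900
import Groth.Agent.S9882
import Groth.Agent.ASp.Basic
set_option backward.isDefEq.respectTransparency false
set_option backward.isDefEq.respectTransparency.types false

set_option autoImplicit false
universe u
open CategoryTheory CategoryTheory.Limits AlgebraicGeometry
open AlgSp

namespace Groth.Agent.S9900

/-- For a morphism of algebraic spaces the relative diagonal is representable by schemes, locally of
finite type, a monomorphism, separated and locally quasi-finite (each in the representable sense). -/
theorem result {S : Scheme.{u}} {X Y : AlgSp.Space S} (f : X ⟶ Y) :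
    AlgSp.Representable (pullback.diagonal f.hom) ∧
    AlgSp.RepWith @LocallyOfFiniteType (pullback.diagonal f.hom) ∧
    AlgSp.RepWith (MorphismProperty.monomorphisms Scheme.{u}) (pullback.diagonal f.hom) ∧
    AlgSp.RepWith @IsSeparated (pullback.diagonal f.hom) ∧
    AlgSp.RepWith (@LocallyQuasiFinite ⊓ @LocallyOfFiniteType) (pullback.diagonal f.hom) := by
  obtain ⟨h1, h2, h3, h4⟩ := S9882.result S X
  let m := prod.lift (pullback.fst f.hom f.hom) (pullback.snd f.hom f.hom)
  haveI : Mono m := ⟨fun a b hab => pullback.hom_ext
    (by simpa [m] using congrArg (· ≫ prod.fst) hab) (by simpa [m] using congrArg (· ≫ prod.snd) hab)⟩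
  have e : pullback.diagonal f.hom ≫ m = Limits.diag X.obj := by
    apply prod.hom_ext <;> simp [m]
  have sq : IsPullback (𝟙 X.obj) (pullback.diagonal f.hom) (Limits.diag X.obj) m :=
    ⟨⟨by rw [Category.id_comp, e]⟩, ⟨PullbackCone.IsLimit.mk _ (fun c => c.fst) (fun c => by simp)
      (fun c => (cancel_mono m).1 (by rw [Category.assoc, e]; exact c.condition)) (fun c l hl _ => by simpa using hl)⟩⟩
  exact ⟨(ASp.repWith_of_isPullback sq h1).1, ASp.repWith_of_isPullback sq h1, ASp.repWith_of_isPullback sq h2,
    ASp.repWith_of_isPullback sq h3, ASp.repWith_inf (ASp.repWith_of_isPullback sq h4) (ASp.repWith_of_isPullback sq h1)⟩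

end Groth.Agent.S9900
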