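import Groth.Statements.S9901
import Groth.Agent.ASp.SepDiag
-- import your own Groth.Agent.* helpers here

set_option autoImplicit false
set_option backward.isDefEq.respectTransparency false
universe u
open CategoryTheory CategoryTheory.Limits AlgebraicGeometry
open AlgSp

namespace Groth.Agent.S9901

/-- For f : X -> Z, g : Y -> Z and h : Z -> T, the canonical map X x_Z Y -> X x_T Y is representable by
schemes and, in the representable sense, a separated monomorphism that is locally of finite type and
locally quasi-finite; it is a closed immersion when h is separated and quasi-compact when h is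
quasi-separated. (The published lemma also shows that the map is an immersion when h is locally
separated; this row omits that clause.) -/
theorem result {S : Scheme.{u}} {X Y Z T : AlgSp.Space S} (f : X ⟶ Z) (g : Y ⟶ Z)
    (h : Z ⟶ T) :
    AlgSp.Representable (pullback.mapDesc f.hom g.hom h.hom) ∧
    AlgSp.RepWith @LocallyOfFiniteType (pullback.mapDesc f.hom g.hom h.hom) ∧
    AlgSp.RepWith (@LocallyQuasiFinite ⊓ @LocallyOfFiniteType) (pullback.mapDesc f.hom g.hom h.hom) ∧
    AlgSp.RepWith @IsSeparated (pullback.mapDesc f.hom g.hom h.hom) ∧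
    AlgSp.RepWith (MorphismProperty.monomorphisms Scheme.{u}) (pullback.mapDesc f.hom g.hom h.hom) ∧
    (AlgSp.IsSeparatedMor h.hom → AlgSp.RepWith @IsClosedImmersion (pullback.mapDesc f.hom g.hom h.hom)) ∧
    (AlgSp.IsQuasiSeparatedMor h.hom → AlgSp.RepWith @QuasiCompact (pullback.mapDesc f.hom g.hom h.hom)) := by
  have hZ := Z.property
  have sq : IsPullback _ (pullback.mapDesc f.hom g.hom h.hom) (pullback.diagonal h.hom) _ :=
    pullback_map_diagonal_isPullback f.hom g.hom h.hom
  have hr := Groth.Agent.ASp.representable_diagonal hZ.diag h.hom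
  have hft := Groth.Agent.ASp.repWith_diagonal_locallyOfFiniteType hZ h.hom
  have hmono : AlgSp.RepWith (MorphismProperty.monomorphisms Scheme.{u}) (pullback.diagonal h.hom) := by
    refine ⟨hr, fun U V a fst snd sq => ?_⟩
    haveI : Mono ((AlgSp.yon S).map snd) :=
      MorphismProperty.of_isPullback (P := MorphismProperty.monomorphisms (AlgSp.Sp S)) sq
        (inferInstance : Mono (pullback.diagonal h.hom))
    haveI : Mono snd := (AlgSp.yon S).mono_of_mono_map inferInstance
    exact (Over.forget S).map_mono snd
  refine ⟨Groth.Agent.ASp.representable_of_isPullback sq hr, Groth.Agent.ASp.repWith_of_isPullback sq hft,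
    Groth.Agent.ASp.repWith_of_isPullback sq ⟨hr, fun U V a fst snd sq' => ?_⟩,
    Groth.Agent.ASp.repWith_of_isPullback sq ⟨hr, fun U V a fst snd sq' => ?_⟩,
    Groth.Agent.ASp.repWith_of_isPullback sq hmono,
    fun hs => Groth.Agent.ASp.repWith_of_isPullback sq hs, fun hs => Groth.Agent.ASp.repWith_of_isPullback sq hs⟩
  · haveI h1 : LocallyOfFiniteType ((Over.forget S).map snd) := hft.2 a fst snd sq'
    haveI h2 : Mono ((Over.forget S).map snd) := hmono.2 a fst snd sq'
    exact ⟨Groth.Agent.ASp.locallyQuasiFinite_of_mono ((Over.forget S).map snd), h1⟩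
  · haveI h2 : Mono ((Over.forget S).map snd) := hmono.2 a fst snd sq'
    exact (inferInstance : IsSeparated ((Over.forget S).map snd))

end Groth.Agent.S9901
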