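import Groth.Statements.S9902
import Groth.Agent.ASp.SepDiag
import Groth.Agent.ASp.MonoLQF
set_option backward.isDefEq.respectTransparency false
set_option backward.isDefEq.respectTransparency.types false

set_option autoImplicit false
universe u
open CategoryTheory CategoryTheory.Limits AlgebraicGeometry
open AlgSp

namespace Groth.Agent.S9902

/-- Let s be a section of a morphism f : X -> T of algebraic spaces. Then s is representable by schemes
and, in the representable sense, a separated monomorphism that is locally of finite type and locally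
quasi-finite; when f is separated s is a closed immersion, and when f is quasi-separated s is
quasi-compact. (The published lemma also shows that s is an immersion when f is locally separated;
this row omits that clause.) -/
theorem result {S : Scheme.{u}} {X T : AlgSp.Space S} (f : X ⟶ T) (s : T ⟶ X)
    (hs : s ≫ f = 𝟙 T) :
    AlgSp.Representable s.hom ∧
    AlgSp.RepWith @LocallyOfFiniteType s.hom ∧
    AlgSp.RepWith (@LocallyQuasiFinite ⊓ @LocallyOfFiniteType) s.hom ∧
    AlgSp.RepWith @IsSeparated s.hom ∧
    AlgSp.RepWith (MorphismProperty.monomorphisms Scheme.{u}) s.hom ∧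
    (AlgSp.IsSeparatedMor f.hom → AlgSp.RepWith @IsClosedImmersion s.hom) ∧
    (AlgSp.IsQuasiSeparatedMor f.hom → AlgSp.RepWith @QuasiCompact s.hom) := by
  have hs' : s.hom ≫ f.hom = 𝟙 T.obj := congrArg (·.hom) hs
  open Groth.Agent.ASp in
  have h : AlgSp.RepWith @LocallyOfFiniteType s.hom :=
    graph_fac (q := f.hom) hs' (repWith_of_isIso (P := @LocallyOfFiniteType) (𝟙 T.obj))
      (repWith_diagonal_locallyOfFiniteType X.property f.hom)
  haveI : IsSplitMono s.hom := IsSplitMono.mk' ⟨f.hom, hs'⟩
  have hm' : ∀ {U V : Over S} (g : (AlgSp.yon S).obj U ⟶ X.obj) (fst : (AlgSp.yon S).obj V ⟶ T.obj) (snd : V ⟶ U),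
      IsPullback fst ((AlgSp.yon S).map snd) s.hom g → Mono snd.left := fun {U V} g fst snd sq => by
    haveI : Mono ((AlgSp.yon S).map snd) :=
      MorphismProperty.of_isPullback (P := MorphismProperty.monomorphisms (AlgSp.Sp S)) sq
        (inferInstanceAs (Mono s.hom))
    haveI : Mono snd := (AlgSp.yon S).mono_of_mono_map inferInstance
    exact (inferInstanceAs (Mono ((Over.forget S).map snd)) : Mono snd.left)
  open Groth.Agent.ASp in
  exact ⟨h.1, h, ⟨h.1, fun {U V} g fst snd sq => by
      haveI := hm' g fst snd sq
      exact ⟨inferInstanceAs (LocallyQuasiFinite snd.left), h.2 g fst snd sq⟩⟩,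
    ⟨h.1, fun {U V} g fst snd sq => by
      haveI := hm' g fst snd sq
      show IsSeparated snd.left
      infer_instance⟩, ⟨h.1, fun {U V} g fst snd sq => hm' g fst snd sq⟩,
    fun hf => graph_fac (q := f.hom) hs' (repWith_of_isIso (P := @IsClosedImmersion) (𝟙 T.obj)) hf,
    fun hf => graph_fac (q := f.hom) hs' (repWith_of_isIso (P := @QuasiCompact) (𝟙 T.obj)) hf⟩

end Groth.Agent.S9902
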