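import Groth.Statements.S9903
import Groth.Agent.ASp.TopFpqc
import Groth.Agent.ASp.Univ
import Groth.Agent.ASp.Diag
import Groth.Agent.ASp.Morph
set_option backward.isDefEq.respectTransparency false
set_option backward.isDefEq.respectTransparency.types false

set_option autoImplicit false
universe u
open CategoryTheory CategoryTheory.Limits AlgebraicGeometry
open AlgSp

namespace Groth.Agent.S9903

open Groth.Agent.ASp

/-- (1) ⇔ (3): a morphism of algebraic spaces is separated (resp. quasi-separated) if and only if its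
base change to every affine scheme over the target is. -/
theorem result {S : Scheme.{u}} {X Y : AlgSp.Space S} (f : X ⟶ Y) :
    (AlgSp.IsSeparatedMor f.hom ↔
      ∀ (Z : Over S), IsAffine Z.left → ∀ (g : (AlgSp.yon S).obj Z ⟶ Y.obj) (P : AlgSp.Sp S)
        (fst : P ⟶ X.obj) (snd : P ⟶ (AlgSp.yon S).obj Z), IsPullback fst snd f.hom g →
        AlgSp.IsSeparatedMor snd) ∧
    (AlgSp.IsQuasiSeparatedMor f.hom ↔
      ∀ (Z : Over S), IsAffine Z.left → ∀ (g : (AlgSp.yon S).obj Z ⟶ Y.obj) (P : AlgSp.Sp S)
        (fst : P ⟶ X.obj) (snd : P ⟶ (AlgSp.yon S).obj Z), IsPullback fst snd f.hom g →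
        AlgSp.IsQuasiSeparatedMor snd) := by
  have := Groth.Agent.FpqcDesc.isClosedImmersion_descends.{u}
  obtain ⟨A, a, hae, has⟩ := Y.property.atlas
  let Z : A.left.affineOpens → Over S := fun W => Over.mk (W.1.ι ≫ A.hom)
  let g : ∀ W, (yon S).obj (Z W) ⟶ Y.obj := fun W => (yon S).map (Over.homMk W.1.ι rfl : Z W ⟶ A) ≫ a
  have hge : ∀ W, RepWith @Etale (g W) := fun W =>
    repWith_comp (repWith_yon_map (inferInstanceAs (Etale W.1.ι))) hae
  have hτ : IsFpqcCover (fun W => (yon S).obj (Z W)) g := by
    refine isFpqcCover_of_fppf Y.property (fun W => IsAlgSpace.yon_obj _)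
      (fun W => locP_of_repWith (repWith_mono (fun _ _ k (hk : Etale k) => (inferInstance : Flat k)) (hge W)))
      (fun W => locP_of_repWith (repWith_mono
        (fun _ _ k (hk : Etale k) => (inferInstance : LocallyOfFinitePresentation k)) (hge W))) fun y => ?_
    obtain ⟨t, rfl⟩ := surjective_ofPt has y
    obtain ⟨W, hW, htW, -⟩ := exists_isAffineOpen_mem_and_subset (x := t) (U := (⊤ : A.left.Opens)) (by simp)
    refine ⟨⟨W, hW⟩, Points.ofPt (𝟙 _) (⟨t, htW⟩ : W.toScheme), ?_⟩
    rw [Points.map_ofPt, Category.id_comp, ofPt_yon_map_comp]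
    rfl
  have sq := fun W => IsPullback.of_hasPullback f.hom (g W)
  constructor
  · refine ⟨fun h T _ k P fst snd sqP => ?_, fun h => ?_⟩
    · obtain ⟨s, h1, -⟩ := isPullback_diagonal_baseChange sqP
      exact repWith_of_isPullback h1 h
    · exact repWith_diagonal_of_fpqc (p := fun W => pullback.snd f.hom (g W)) (q := fun W => pullback.fst f.hom (g W))
        X.property Y.property (fun W => IsAlgSpace.yon_obj _) sq hτ
        fun W => h (Z W) W.2 (g W) _ _ _ (sq W)
  · refine ⟨fun h T _ k P fst snd sqP => ?_, fun h => ?_⟩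
    · obtain ⟨s, h1, -⟩ := isPullback_diagonal_baseChange sqP
      exact repWith_of_isPullback h1 h
    · choose s h1 h2 using fun W => isPullback_diagonal_baseChange (sq W)
      refine (repWith_quasiCompact_iff (representable_diagonal X.property.diag f.hom)).2 ?_
      exact isQuasiCompactMor_of_fpqc X.property (isAlgSpace_pullback Y.property.diag X.property X.property f.hom f.hom)
        h1 (isFpqcCover_baseChange Y.property (isAlgSpace_pullback Y.property.diag X.property X.property f.hom f.hom)
          (fun W => IsAlgSpace.yon_obj (Z W)) (fun W => (h2 W).flip) hτ)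
        fun W => isQuasiCompactMor_of_repWith (h (Z W) W.2 (g W) _ _ _ (sq W))

end Groth.Agent.S9903
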