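import Groth.Statements.S9911
import Groth.Agent.ASp.BaseDesc
import Groth.Agent.ASp.Univ
import Mathlib.AlgebraicGeometry.Morphisms.UniversallyOpen
set_option backward.isDefEq.respectTransparency false
set_option backward.isDefEq.respectTransparency.types false

set_option autoImplicit false
universe u
open CategoryTheory CategoryTheory.Limits AlgebraicGeometry
open AlgSp

namespace Groth.Agent.S9911

/-- A morphism from an algebraic space to the spectrum of a field is universally open. -/
theorem result {S : Scheme.{u}} (X : AlgSp.Space S) {k : Type u} [Field k]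
    (str : Spec (CommRingCat.of k) ⟶ S) (p : X ⟶ (AlgSp.ofScheme S).obj (Over.mk str)) :
    AlgSp.IsUnivOpenMor p.hom := by
  open Groth.Agent.ASp AlgSp in
  refine univSp_of_affine (fun _ _ _ _ _ gz snd c r hτ sq h => isOpenMap_of_fpqc hτ sq h) p ?_
  intro Z _ g P fst snd sq
  obtain ⟨U, a, hae, has⟩ := X.property.atlas
  let b : pullback a fst ⟶ P := pullback.snd a fst
  obtain ⟨s, hs⟩ := (yon S).map_surjective (a ≫ p.hom)
  obtain ⟨t, ht⟩ := (yon S).map_surjective g
  have sqo : IsPullback (pullback.fst a fst) (b ≫ snd) ((yon S).map s) ((yon S).map t) := by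
    rw [hs, ht]
    exact (IsPullback.of_hasPullback a fst).paste_vert sq
  have hk : RepWith @UniversallyOpen ((yon S).map s) := by
    have : UniversallyOpen s.left := by
      have h : ∀ (f : U.left ⟶ Spec (CommRingCat.of k)), UniversallyOpen f := fun f => inferInstance
      exact h s.left
    exact repWith_yon_map this
  have ho : IsOpenMap (Points.map (b ≫ snd)) :=
    isOpenMap_map_of_repWith (fun g (hg : UniversallyOpen g) => g.isOpenMap) (repWith_of_isPullback sqo hk)
  have hb : Function.Surjective (Points.map b) :=
    surjective_map_of_repWith (repWith_of_isPullback (IsPullback.of_hasPullback a fst) has)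
  intro W hW
  have := ho _ (hW.preimage (Points.continuous_map b))
  rwa [show Points.map (b ≫ snd) = Points.map snd ∘ Points.map b from funext (Points.map_comp _ _),
    Set.image_comp, Set.image_preimage_eq _ hb] at this

end Groth.Agent.S9911
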