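import Groth.Statements.S9913
import Groth.Agent.ASp.Graph
import Groth.Agent.ASp.Sub
import Groth.Agent.ASp.TopFpqc
import Groth.Agent.ASp.Univ
import Groth.Agent.FpqcDesc.Basic
set_option backward.isDefEq.respectTransparency.types false

set_option autoImplicit false
universe u
open CategoryTheory CategoryTheory.Limits AlgebraicGeometry
open AlgSp

namespace Groth.Agent.S9913

open Groth.Agent.ASp Opposite

/-- For a quasi-compact morphism of algebraic spaces, the induced map on points pulls quasi-compact
opens back to quasi-compact subsets. -/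
theorem result {S : Scheme.{u}} {X Y : AlgSp.Space S} (f : X ⟶ Y)
    (hf : AlgSp.IsQuasiCompactMor f.hom) (V : Set (AlgSp.Points Y.obj)) (hV : IsOpen V) (hVc : IsCompact V) :
    IsCompact (AlgSp.Points.map f.hom ⁻¹' V) := by
  have hj := repWith_subι Y.obj V hV
  have hs := isAlgSpace_subSp Y.2 hV
  have hji : RepWith @IsImmersion (subι Y.obj V) :=
    repWith_mono (fun _ _ g (hg : IsOpenImmersion g) => (inferInstance : IsImmersion g)) hj
  have : CompactSpace (Points (subSp Y.obj V)) := by
    rw [← isCompact_univ_iff, (isEmbedding_of_immersion Y.2 hji).1.isCompact_iff, Set.image_univ, range_map_subι]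
    exact hVc
  obtain ⟨P, a, b, hP⟩ : ∃ (P : Sp S) (a : P ⟶ X.obj) (b : P ⟶ subSp Y.obj V), IsPullback a b f.hom (subι Y.obj V) :=
    ⟨_, _, _, IsPullback.of_hasPullback _ _⟩
  have := compactSpace_of_isQuasiCompactSp (hf hs (isQuasiCompactSp_of_compactSpace hs) _ a b hP)
  have e : Points.map f.hom ⁻¹' V = Set.range (Points.map a) := by
    conv_lhs => rw [← range_map_subι Y.obj V, ← Set.image_univ, preimage_image_of_isPullback hP.flip]
    rw [Set.preimage_univ, Set.image_univ]
  rw [e]
  exact isCompact_range (Points.continuous_map a)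

end Groth.Agent.S9913
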