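import Groth.Statements.S9915
import Groth.Agent.ASp.Morph
set_option backward.isDefEq.respectTransparency.types false

set_option autoImplicit false
universe u
open CategoryTheory CategoryTheory.Limits AlgebraicGeometry
open AlgSp

namespace Groth.Agent.S9915

open Groth.Agent.ASp

/-- In a commutative triangle of algebraic spaces with f : X -> Y surjective, if X -> Z is quasi-compact
then Y -> Z is quasi-compact. -/
theorem result {S : Scheme.{u}} {X Y Z : AlgSp.Space S} (f : X ⟶ Y)
    (p : X ⟶ Z) (q : Y ⟶ Z) (comm : f ≫ q = p) (hf : AlgSp.IsSurjectiveMor f.hom)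
    (hp : AlgSp.IsQuasiCompactMor p.hom) : AlgSp.IsQuasiCompactMor q.hom := by
  intro T T' hT hTqc g fst snd sq
  have hT' : AlgSp.IsAlgSpace T' := isAlgSpace_of_isPullback Z.property.diag Y.property hT sq
  obtain ⟨P, c, d, sqX⟩ : ∃ (P : AlgSp.Sp S) (c : P ⟶ X.obj) (d : P ⟶ T'),
      IsPullback c d f.hom fst := ⟨_, _, _, IsPullback.of_hasPullback _ _⟩
  have sqP : IsPullback c (d ≫ snd) p.hom g := by
    rw [← comm]; exact sqX.paste_vert sq
  have := compactSpace_of_isQuasiCompactSp (hp hT hTqc g c (d ≫ snd) sqP)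
  have : CompactSpace (AlgSp.Points T') :=
    (surjective_map_of_isPullback sqX hf).compactSpace (AlgSp.Points.continuous_map d)
  exact isQuasiCompactSp_of_compactSpace hT'

end Groth.Agent.S9915
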