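import Groth.Statements.S9917
import Groth.Agent.ASp.Graph
import Groth.Agent.ASp.Sub
import Groth.Agent.ASp.TopFpqc
import Groth.Agent.ASp.Univ
import Groth.Agent.FpqcDesc.Basic
set_option backward.isDefEq.respectTransparency.types false

set_option autoImplicit false
universe u
open CategoryTheory CategoryTheory.Limits AlgebraicGeometry
open AlgSp

namespace Groth.Agent.S9917

open Groth.Agent.ASp Opposite

/-- (1) ⇔ (3): a morphism of algebraic spaces is quasi-compact if and only if its base change to every
affine scheme over the target is a quasi-compact algebraic space. -/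
theorem result {S : Scheme.{u}} {X Y : AlgSp.Space S} (f : X ⟶ Y) :
    AlgSp.IsQuasiCompactMor f.hom ↔
      ∀ (Z : Over S), IsAffine Z.left → ∀ (g : (AlgSp.yon S).obj Z ⟶ Y.obj) (P : AlgSp.Sp S)
        (fst : P ⟶ X.obj) (snd : P ⟶ (AlgSp.yon S).obj Z), IsPullback fst snd f.hom g →
        AlgSp.IsQuasiCompactSp P := by
  refine ⟨fun h Z hZ g P fst snd sq => ?_, fun h Z Z' hZ hZc g fst snd sq => ?_⟩
  · have := hZ
    exact h (IsAlgSpace.yon_obj Z) isQuasiCompactSp_yon g fst snd sq
  · have := compactSpace_of_isQuasiCompactSp hZc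
    obtain ⟨A, q, hA, hqe, hqs⟩ := exists_affine_chart hZ
    obtain ⟨P, a, b, hP⟩ : ∃ (P : Sp S) (a : P ⟶ Z') (b : P ⟶ (yon S).obj A), IsPullback a b snd q :=
      ⟨_, _, _, IsPullback.of_hasPullback _ _⟩
    have := compactSpace_of_isQuasiCompactSp (h A hA (q ≫ g) P (a ≫ fst) b (hP.paste_horiz sq))
    have hs : Function.Surjective (Points.map a) := surjective_map_of_repWith (repWith_of_isPullback hP.flip hqs)
    have : CompactSpace (Points Z') := hs.compactSpace (Points.continuous_map a)
    exact isQuasiCompactSp_of_compactSpace (isAlgSpace_of_isPullback Y.2.diag X.2 hZ sq)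

end Groth.Agent.S9917
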