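import Groth.Statements.S9916
import Groth.Agent.S9917
import Groth.Agent.ASp.Morph
import Groth.Agent.ASp.TopFpqc
set_option backward.isDefEq.respectTransparency false
set_option backward.isDefEq.respectTransparency.types false

set_option autoImplicit false
universe u
open CategoryTheory CategoryTheory.Limits AlgebraicGeometry
open AlgSp

namespace Groth.Agent.S9916

/-- Quasi-compactness of a morphism of algebraic spaces descends along a universally open surjective
base change. -/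
theorem result {S : Scheme.{u}} {X Y Y' X' : AlgSp.Space S}
    (f : X ⟶ Y) (g : Y' ⟶ Y) (fst : X' ⟶ X) (f' : X' ⟶ Y') (sq : IsPullback fst.hom f'.hom f.hom g.hom)
    (hg : AlgSp.IsUnivOpenMor g.hom) (hgs : AlgSp.IsSurjectiveMor g.hom) (hf' : AlgSp.IsQuasiCompactMor f'.hom) :
    AlgSp.IsQuasiCompactMor f.hom := by
  refine (S9917.result f).2 fun Z hZ g₀ P a b sqP => ?_
  haveI := hZ
  haveI : CompactSpace ↥Z.left := inferInstance
  obtain ⟨Z₁, c, d, sqZ⟩ : ∃ (Z₁ : AlgSp.Sp S) (c : Z₁ ⟶ (AlgSp.yon S).obj Z) (d : Z₁ ⟶ Y'.obj),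
      IsPullback c d g₀ g.hom := ⟨_, _, _, IsPullback.of_hasPullback _ _⟩
  have hZ₁ : AlgSp.IsAlgSpace Z₁ :=
    ASp.isAlgSpace_of_isPullback Y.property.diag (AlgSp.IsAlgSpace.yon_obj Z) Y'.property sqZ
  have hop : IsOpenMap (AlgSp.Points.map c) := hg (AlgSp.IsAlgSpace.yon_obj Z) g₀ d c sqZ.flip
  obtain ⟨V, p, hpe, hps⟩ := hZ₁.atlas
  obtain ⟨v, hv⟩ := (AlgSp.yon S).map_surjective (p ≫ c)
  have hcs : Function.Surjective (AlgSp.Points.map c) := ASp.surjective_map_of_isPullback sqZ.flip hgs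
  have hvo : IsOpenMap (AlgSp.Points.map ((AlgSp.yon S).map v)) := by
    rw [hv, show AlgSp.Points.map (p ≫ c) = AlgSp.Points.map c ∘ AlgSp.Points.map p from
      funext (AlgSp.Points.map_comp p c)]
    exact hop.comp (ASp.isOpenMap_map_of_etale hpe)
  haveI : CompactSpace (AlgSp.Points ((AlgSp.yon S).obj Z)) :=
    (AlgSp.Points.schemeHomeo Z).compactSpace
  let A : V.left.affineOpens → Over S := fun W => Over.mk (W.1.ι ≫ V.hom)
  let w : ∀ W, A W ⟶ V := fun W => Over.homMk W.1.ι rfl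
  have hcov : ∀ z, ∃ W, z ∈ Set.range (AlgSp.Points.map ((AlgSp.yon S).map (w W) ≫ (AlgSp.yon S).map v)) := by
    intro z
    obtain ⟨z₁, rfl⟩ := hcs z
    obtain ⟨t, rfl⟩ := ASp.surjective_ofPt hps z₁
    obtain ⟨W, hW, ht, -⟩ := exists_isAffineOpen_mem_and_subset (x := t) (U := (⊤ : V.left.Opens)) (by simp)
    refine ⟨⟨W, hW⟩, AlgSp.Points.ofPt (𝟙 _) (⟨t, ht⟩ : W.toScheme), ?_⟩
    rw [hv, AlgSp.Points.map_ofPt, Category.id_comp, AlgSp.Points.map_ofPt]
    exact ASp.ofPt_yon_map_comp (w ⟨W, hW⟩) (p ≫ c) _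
  have hopen : ∀ W, IsOpen (Set.range (AlgSp.Points.map ((AlgSp.yon S).map (w W) ≫ (AlgSp.yon S).map v))) := by
    intro W
    rw [show AlgSp.Points.map ((AlgSp.yon S).map (w W) ≫ (AlgSp.yon S).map v) =
      AlgSp.Points.map ((AlgSp.yon S).map v) ∘ AlgSp.Points.map ((AlgSp.yon S).map (w W)) from
      funext (AlgSp.Points.map_comp _ _), Set.range_comp]
    refine hvo _ (ASp.isOpenMap_map_of_etale (ASp.repWith_yon_map (P := @Etale) (g := w W)
      (inferInstanceAs (Etale W.1.ι)))).isOpen_range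
  obtain ⟨t, ht⟩ := isCompact_univ.elim_finite_subcover _ hopen
    (fun z _ => Set.mem_iUnion.2 (hcov z))
  have hPsp : AlgSp.IsAlgSpace P :=
    ASp.isAlgSpace_of_isPullback Y.property.diag X.property (AlgSp.IsAlgSpace.yon_obj Z) sqP
  let m : ∀ W, (AlgSp.yon S).obj (A W) ⟶ (AlgSp.yon S).obj Z := fun W =>
    (AlgSp.yon S).map (w W) ≫ (AlgSp.yon S).map v
  have hK : ∀ W, IsCompact (Set.range (AlgSp.Points.map (pullback.fst b (m W)))) := by
    intro W
    haveI : IsAffine (A W).left := W.2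
    have sq1 := IsPullback.of_hasPullback b (m W)
    have sq2 : IsPullback (pullback.fst b (m W) ≫ a) (pullback.snd b (m W)) f.hom (m W ≫ g₀) :=
      sq1.paste_horiz sqP
    have e : m W ≫ g₀ = ((AlgSp.yon S).map (w W) ≫ p ≫ d) ≫ g.hom := by
      simp only [m, hv, Category.assoc, ← sqZ.w]
    rw [e] at sq2
    obtain ⟨lf, hlf1, hlf2⟩ : ∃ l : pullback b (m W) ⟶ X'.obj, l ≫ fst.hom = pullback.fst b (m W) ≫ a ∧
        l ≫ f'.hom = pullback.snd b (m W) ≫ ((AlgSp.yon S).map (w W) ≫ p ≫ d) :=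
      ⟨sq.lift _ _ (by rw [Category.assoc, ← Category.assoc, sq2.w]; simp only [Category.assoc]), sq.lift_fst _ _ _, sq.lift_snd _ _ _⟩
    have sq3 : IsPullback lf (pullback.snd b (m W)) f'.hom ((AlgSp.yon S).map (w W) ≫ p ≫ d) :=
      IsPullback.of_right (by rw [hlf1]; exact sq2) hlf2 sq
    haveI := ASp.compactSpace_of_isQuasiCompactSp
      (hf' (AlgSp.IsAlgSpace.yon_obj (A W)) ASp.isQuasiCompactSp_yon _ lf _ sq3)
    exact isCompact_range (AlgSp.Points.continuous_map _)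
  haveI : CompactSpace (AlgSp.Points P) := by
    refine ⟨?_⟩
    have hu : (Set.univ : Set (AlgSp.Points P)) = ⋃ W ∈ t, Set.range (AlgSp.Points.map (pullback.fst b (m W))) := by
      refine (Set.eq_univ_of_forall fun x => ?_).symm
      obtain ⟨W, hW, y, hy⟩ := Set.mem_iUnion₂.1 (ht (Set.mem_univ (AlgSp.Points.map b x)))
      obtain ⟨r, hr, -⟩ := ASp.points_exists_of_isPullback (IsPullback.of_hasPullback b (m W)) x y hy.symm
      exact Set.mem_iUnion₂.2 ⟨W, hW, r, hr⟩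
    rw [hu]
    exact t.isCompact_biUnion fun W _ => hK W
  exact ASp.isQuasiCompactSp_of_compactSpace hPsp

end Groth.Agent.S9916
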