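import Groth.Statements.S9918
import Groth.Agent.ASp.Univ
import Groth.Agent.ASp.OpenImm
import Groth.Agent.FpqcDesc.Basic
import Groth.Prelude.Def_SGA1
import Groth.Prelude.Def_Flat

set_option backward.isDefEq.respectTransparency.types false

set_option autoImplicit false
universe u
open CategoryTheory CategoryTheory.Limits AlgebraicGeometry
open AlgSp

namespace Groth.Agent.S9918

open Groth.Agent.ASp Opposite TopologicalSpace

/-- (5) ⇒ (1): quasi-compactness of a morphism of algebraic spaces descends along a surjective etale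
base change of algebraic spaces. -/
theorem result {S : Scheme.{u}} {X Y Y' X' : AlgSp.Space S}
    (f : X ⟶ Y) (g : Y' ⟶ Y) (fst : X' ⟶ X) (f' : X' ⟶ Y') (sq : IsPullback fst.hom f'.hom f.hom g.hom)
    (hg : AlgSp.IsEtaleMor g.hom) (hgs : AlgSp.IsSurjectiveMor g.hom) (hf' : AlgSp.IsQuasiCompactMor f'.hom) :
    AlgSp.IsQuasiCompactMor f.hom := by
  have hl := (isEtaleMor_iff_locP Y.property).1 hg
  exact isQuasiCompactMor_of_fpqc (ι := PUnit.{u+1}) X.property Y.property (fun _ => sq)
    (isFpqcCover_of_fppf Y.property (fun _ => Y'.property)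
      (fun _ U V a b k ha hb e => IsEtLocal.etale_le _ (hl a b k ha hb e))
      (fun _ U V a b k ha hb e => IsEtLocal.etale_le _ (hl a b k ha hb e))
      (fun y => ⟨PUnit.unit, hgs y⟩)) (fun _ => hf')

end Groth.Agent.S9918
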