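import Groth.Statements.S9919
import Groth.Agent.ASp.Morph
set_option backward.isDefEq.respectTransparency false
set_option backward.isDefEq.respectTransparency.types false

set_option autoImplicit false
universe u
open CategoryTheory CategoryTheory.Limits AlgebraicGeometry
open AlgSp

namespace Groth.Agent.S9919

/-- For morphisms f : X -> Y and g : Y -> Z of algebraic spaces, quasi-compactness of the composite
together with quasi-separatedness of g forces f to be quasi-compact. -/
theorem result {S : Scheme.{u}} {X Y Z : AlgSp.Space S} (f : X ⟶ Y)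
    (g : Y ⟶ Z) (hgf : AlgSp.IsQuasiCompactMor (f ≫ g).hom) (hg : AlgSp.IsQuasiSeparatedMor g.hom) :
    AlgSp.IsQuasiCompactMor f.hom := by
  open Groth.Agent.ASp AlgSp in
  have hgf' : IsQuasiCompactMor (f.hom ≫ g.hom) := hgf
  let Γ : X.obj ⟶ pullback (f.hom ≫ g.hom) g.hom := pullback.lift (𝟙 _) f.hom (Category.id_comp _)
  have hΓ : RepWith @QuasiCompact Γ := by
    let m : pullback (f.hom ≫ g.hom) g.hom ⟶ pullback g.hom g.hom :=
      pullback.lift (pullback.fst _ _ ≫ f.hom) (pullback.snd _ _) (by rw [Category.assoc, pullback.condition])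
    have sq : IsPullback f.hom Γ (pullback.diagonal g.hom) m := by
      refine IsPullback.of_iso_pullback ⟨?_⟩
        ⟨pullback.lift f.hom Γ ?_, pullback.snd _ _ ≫ pullback.fst _ _, ?_, ?_⟩ ?_ ?_
      · ext <;> simp [Γ, m]
      · ext <;> simp [Γ, m]
      · ext <;> simp [Γ]
      · have e₁ : pullback.fst (pullback.diagonal g.hom) m =
            (pullback.snd (pullback.diagonal g.hom) m ≫ pullback.fst _ _) ≫ f.hom := by
          simpa [m] using congrArg (· ≫ pullback.fst _ _) (pullback.condition (f := pullback.diagonal g.hom) (g := m))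
        have e₂ : pullback.fst (pullback.diagonal g.hom) m =
            pullback.snd (pullback.diagonal g.hom) m ≫ pullback.snd _ _ := by
          simpa [m] using congrArg (· ≫ pullback.snd _ _) (pullback.condition (f := pullback.diagonal g.hom) (g := m))
        refine pullback.hom_ext ?_ (pullback.hom_ext ?_ ?_)
        · rw [Category.assoc, pullback.lift_fst, Category.id_comp, ← e₁]
        · simp [Γ]
        · simp only [Γ, Category.assoc, pullback.lift_snd, pullback.lift_snd_assoc, Category.id_comp]
          rw [← Category.assoc]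
          exact e₁.symm.trans e₂
      · simp
      · simp
    exact repWith_of_isPullback sq hg
  have hsnd : IsQuasiCompactMor (pullback.snd (f.hom ≫ g.hom) g.hom) := fun Z Z' hZ hZq k a b sq =>
    hgf' hZ hZq (k ≫ g.hom) (a ≫ pullback.fst _ _) b (sq.paste_horiz (IsPullback.of_hasPullback _ _))
  have Z₀ : Representable (Limits.diag Z.obj) := Z.property.diag
  intro Z Z' hZ hZq k a b sq
  let Q := pullback (pullback.snd (f.hom ≫ g.hom) g.hom) k
  have hQ : IsQuasiCompactSp Q := hsnd hZ hZq k _ _ (IsPullback.of_hasPullback _ _)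
  have hΔ : Representable (Limits.diag Y.obj) := Y.property.diag
  have hQa : IsAlgSpace Q := isAlgSpace_pullback hΔ (isAlgSpace_pullback Z₀ X.property Y.property _ _) hZ _ _
  let l : Z' ⟶ Q := pullback.lift (a ≫ Γ) b (by simp [Γ, sq.w])
  have sq' : IsPullback a l Γ (pullback.fst (pullback.snd (f.hom ≫ g.hom) g.hom) k) :=
    IsPullback.of_bot (by simpa [l, Γ] using sq) (by simp [l]) (IsPullback.of_hasPullback _ _)
  exact isQuasiCompactMor_of_repWith hΓ hQa hQ _ a l sq'

end Groth.Agent.S9919
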