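import Groth.Statements.S9929
import Groth.Agent.ASp.FieldMono
set_option backward.isDefEq.respectTransparency false
set_option backward.isDefEq.respectTransparency.types false

set_option autoImplicit false
universe u
open CategoryTheory CategoryTheory.Limits AlgebraicGeometry
open AlgSp

namespace Groth.Agent.S9929

/-- A monomorphism from an algebraic space to the spectrum of a field is either the empty space or an
isomorphism. -/
theorem result {S : Scheme.{u}} {k : Type u} [Field k] (str : Spec (CommRingCat.of k) ⟶ S)
    (Z : AlgSp.Space S) (f : Z ⟶ (AlgSp.ofScheme S).obj (Over.mk str)) [Mono f.hom] :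
    IsEmpty (AlgSp.Points Z.obj) ∨ IsIso f := by
  open Groth.Agent.ASp AlgSp in
  rcases isEmpty_or_nonempty (Points Z.obj) with h | h
  · exact Or.inl h
  obtain ⟨x⟩ := h
  induction x using Points.ind with | h p =>
  let x : (yon S).obj p.pt ⟶ Z.obj := (J S).uliftYonedaEquiv.{u+1}.symm p.val
  obtain ⟨r, hr⟩ := (yon S).map_surjective (x ≫ f.hom)
  haveI : IsIso f.hom := isIso_of_mono_field (K := k) (Ω := p.K) Z.property f.hom r x hr.symm
  haveI : IsIso ((ObjectProperty.ι _).map f) := ‹IsIso f.hom›
  exact Or.inr (isIso_of_reflects_iso f (ObjectProperty.ι _))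

end Groth.Agent.S9929
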