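import Groth.Statements.S9930
import Groth.Agent.ASp.Univ
import Groth.Agent.ASp.OpenImm
import Groth.Agent.FpqcDesc.Basic
import Groth.Prelude.Def_SGA1
import Groth.Prelude.Def_Flat

set_option backward.isDefEq.respectTransparency.types false

set_option autoImplicit false
universe u
open CategoryTheory CategoryTheory.Limits AlgebraicGeometry
open AlgSp

namespace Groth.Agent.S9930

open Groth.Agent.ASp Opposite TopologicalSpace

/-- For a morphism of algebraic spaces representable by schemes, representable universal submersiveness
is equivalent to |Z x_Y X| -> |Z| being a quotient map after every base change along a morphism of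
algebraic spaces. -/
theorem result {S : Scheme.{u}} {X Y : AlgSp.Space S} (f : X ⟶ Y)
    (hf : AlgSp.Representable f.hom) :
    AlgSp.RepWith SGA1.UnivSubmersive f.hom ↔ AlgSp.IsUnivSubmersiveMor f.hom := by
  refine ⟨fun h Z Z' _ g fst snd sq => isQuotientMap_map_of_repWith
    (fun g hg => MorphismProperty.universally_le _ g hg) (repWith_of_isPullback sq h), fun h => ⟨hf, ?_⟩⟩
  intro U V g fst snd sq
  refine universally_snd sq fun T W g' fst' snd' sq' => ?_
  change Topology.IsQuotientMap (fun t => snd'.left t)
  rw [map_yon_map_eq']
  exact (Points.schemeHomeo T).symm.isQuotientMap.comp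
    (Topology.IsQuotientMap.comp (h (IsAlgSpace.yon_obj T) g' fst' _ sq') (Points.schemeHomeo W).isQuotientMap)

end Groth.Agent.S9930
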