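import Groth.Statements.S9933
import Groth.Agent.ASp.SepDiag
import Groth.Agent.ASp.MonoLQF
set_option backward.isDefEq.respectTransparency false
set_option backward.isDefEq.respectTransparency.types false

set_option autoImplicit false
universe u
open CategoryTheory CategoryTheory.Limits AlgebraicGeometry
open AlgSp

namespace Groth.Agent.S9933

/-- Permanence for Z -> Y -> X: the five representable finiteness/separation properties of Z -> X pass
to Z -> Y, and a closed immersion Z -> X with Y -> X separated gives a closed immersion Z -> Y. -/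
theorem result {S : Scheme.{u}} {Z Y X : AlgSp.Space S} (a : Z ⟶ Y) (b : Y ⟶ X) :
    ((AlgSp.Representable (a ≫ b).hom ∧ AlgSp.RepWith @LocallyOfFiniteType (a ≫ b).hom ∧
        AlgSp.RepWith (@LocallyQuasiFinite ⊓ @LocallyOfFiniteType) (a ≫ b).hom ∧
        AlgSp.RepWith @IsSeparated (a ≫ b).hom ∧
        AlgSp.RepWith (MorphismProperty.monomorphisms Scheme.{u}) (a ≫ b).hom) →
      (AlgSp.Representable a.hom ∧ AlgSp.RepWith @LocallyOfFiniteType a.hom ∧
        AlgSp.RepWith (@LocallyQuasiFinite ⊓ @LocallyOfFiniteType) a.hom ∧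
        AlgSp.RepWith @IsSeparated a.hom ∧
        AlgSp.RepWith (MorphismProperty.monomorphisms Scheme.{u}) a.hom)) ∧
    (AlgSp.RepWith @IsClosedImmersion (a ≫ b).hom → AlgSp.IsSeparatedMor b.hom →
      AlgSp.RepWith @IsClosedImmersion a.hom) := by
  open Groth.Agent.ASp in
  refine ⟨fun ⟨hr, hft, _, _, hm⟩ => ?_, fun h hsep => graph_fac (q := b.hom) (p := (a ≫ b).hom) rfl h hsep⟩
  open Groth.Agent.ASp in
  have hmab : Mono (a.hom ≫ b.hom) := mono_of_repWith (f := (a ≫ b).hom) (fun g hg => hg) hm
  haveI : Mono a.hom := mono_of_mono a.hom b.hom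
  open Groth.Agent.ASp in
  have h : AlgSp.RepWith @LocallyOfFiniteType a.hom :=
    graph_fac (q := b.hom) (p := (a ≫ b).hom) rfl hft (repWith_diagonal_locallyOfFiniteType Y.property b.hom)
  have hm' : ∀ {U V : Over S} (g : (AlgSp.yon S).obj U ⟶ Y.obj) (fst : (AlgSp.yon S).obj V ⟶ Z.obj) (snd : V ⟶ U),
      IsPullback fst ((AlgSp.yon S).map snd) a.hom g → Mono snd.left := fun {U V} g fst snd sq => by
    haveI : Mono ((AlgSp.yon S).map snd) :=
      MorphismProperty.of_isPullback (P := MorphismProperty.monomorphisms (AlgSp.Sp S)) sq ‹Mono a.hom›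
    haveI : Mono snd := (AlgSp.yon S).mono_of_mono_map inferInstance
    exact (inferInstanceAs (Mono ((Over.forget S).map snd)) : Mono snd.left)
  exact ⟨h.1, h, ⟨h.1, fun {U V} g fst snd sq => by
      haveI := hm' g fst snd sq
      exact ⟨inferInstanceAs (LocallyQuasiFinite snd.left), h.2 g fst snd sq⟩⟩,
    ⟨h.1, fun {U V} g fst snd sq => by
      haveI := hm' g fst snd sq
      show IsSeparated snd.left
      infer_instance⟩, ⟨h.1, fun {U V} g fst snd sq => hm' g fst snd sq⟩⟩

end Groth.Agent.S9933
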