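import Groth.Statements.S9934
import Groth.Agent.ASp.Graph
import Groth.Agent.ASp.OpenImm
set_option backward.isDefEq.respectTransparency.types false

set_option autoImplicit false
universe u
open CategoryTheory CategoryTheory.Limits AlgebraicGeometry
open AlgSp

namespace Groth.Agent.S9934

open Groth.Agent.ASp Opposite

/-- An immersion of algebraic spaces is a closed immersion exactly when its image on points is closed. -/
theorem result {S : Scheme.{u}} {Z X : AlgSp.Space S} (i : Z ⟶ X)
    (hi : AlgSp.RepWith @IsImmersion i.hom) :
    AlgSp.RepWith @IsClosedImmersion i.hom ↔ IsClosed (Set.range (AlgSp.Points.map i.hom)) := by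
  refine ⟨fun h => (isClosedMap_map_of_repWith (P := @IsClosedImmersion)
    (fun g hg => have : IsClosedImmersion g := hg; g.isClosedEmbedding.isClosedMap) h).isClosed_range,
    fun h => ⟨hi.1, fun T V g fst snd sq => ?_⟩⟩
  have : IsImmersion snd.left := hi.2 g fst snd sq
  have e : Set.range snd.left = Points.ofPt g ⁻¹' Set.range (Points.map i.hom) := by
    rw [← Set.image_univ, ← Set.image_univ, preimage_ofPt_image sq, Set.preimage_univ]
  exact IsClosedImmersion.of_isPreimmersion snd.left (e ▸ h.preimage (Points.continuous_ofPt g))

end Groth.Agent.S9934
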