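import Groth.Statements.S9939
import Groth.Agent.ASp.Graph
import Groth.Agent.ASp.Sub
import Groth.Agent.ASp.TopFpqc
import Groth.Agent.ASp.Univ
import Groth.Agent.FpqcDesc.Basic
set_option backward.isDefEq.respectTransparency.types false

set_option autoImplicit false
universe u
open CategoryTheory CategoryTheory.Limits AlgebraicGeometry
open AlgSp

namespace Groth.Agent.S9939

open Groth.Agent.ASp Opposite

/-- For a morphism of algebraic spaces representable by schemes, representable universal injectivity is
equivalent to injectivity on K-valued points for every field K. -/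
theorem result {S : Scheme.{u}} {X Y : AlgSp.Space S} (f : X ⟶ Y)
    (hf : AlgSp.Representable f.hom) :
    AlgSp.RepWith @UniversallyInjective f.hom ↔
      ∀ (K : Type u) [Field K] (str : Spec (CommRingCat.of K) ⟶ S),
        Function.Injective (fun a : (AlgSp.yon S).obj (Over.mk str) ⟶ X.obj => a ≫ f.hom) := by
  constructor
  · intro h K _ str a b e
    have sq := hf.isPullback (a ≫ f.hom)
    have hu : UniversallyInjective (hf.snd (a ≫ f.hom)).left := h.2 _ _ _ sq
    obtain ⟨l, hl⟩ := (yon S).map_surjective (sq.lift a (𝟙 _) (by rw [Category.id_comp]))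
    obtain ⟨l', hl'⟩ := (yon S).map_surjective (sq.lift b (𝟙 _) (by rw [Category.id_comp]; exact e.symm))
    have e1 : l ≫ hf.snd (a ≫ f.hom) = 𝟙 _ := (yon S).map_injective (by rw [Functor.map_comp, hl, sq.lift_snd, CategoryTheory.Functor.map_id])
    have e2 : l' ≫ hf.snd (a ≫ f.hom) = 𝟙 _ := (yon S).map_injective (by rw [Functor.map_comp, hl', sq.lift_snd, CategoryTheory.Functor.map_id])
    have hinj : ∀ (K : Type u) [Field K], Function.Injective
        (fun g : Spec (.of K) ⟶ (hf.pullback (a ≫ f.hom)).left => g ≫ (hf.snd (a ≫ f.hom)).left) :=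
      ((tfae_universallyInjective (hf.snd (a ≫ f.hom)).left).out 0 1).1 hu
    have := @hinj K _ l.left l'.left (congrArg (fun φ => φ.left) (e1.trans e2.symm))
    rw [← sq.lift_fst a (𝟙 _) (by rw [Category.id_comp]), ← sq.lift_fst b (𝟙 _) (by rw [Category.id_comp]; exact e.symm),
      ← hl, ← hl', Over.OverMorphism.ext this]
  · refine fun h => ⟨hf, fun T V g fst snd sq => ?_⟩
    refine ((tfae_universallyInjective snd.left).out 0 1).2 ?_
    intro K _ a b e
    let str : Spec (CommRingCat.of K) ⟶ S := a ≫ V.hom
    let a' : Over.mk str ⟶ V := Over.homMk a rfl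
    let b' : Over.mk str ⟶ V := Over.homMk b (by
      change b ≫ V.hom = a ≫ V.hom
      rw [← Over.w snd, ← Category.assoc, ← Category.assoc]
      exact congrArg (· ≫ T.hom) e.symm)
    have e' : (yon S).map a' ≫ (yon S).map snd = (yon S).map b' ≫ (yon S).map snd := by
      rw [← Functor.map_comp, ← Functor.map_comp]
      exact congrArg _ (Over.OverMorphism.ext e)
    have := sq.hom_ext (h K str (a₁ := (yon S).map a' ≫ fst) (a₂ := (yon S).map b' ≫ fst)
      (by simp only [Category.assoc, sq.w]; rw [← Category.assoc, e', Category.assoc])) e'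
    exact congrArg (fun φ => φ.left) ((yon S).map_injective this)

end Groth.Agent.S9939
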