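import Groth.Statements.S9940
import Groth.Agent.ASp.Graph
import Groth.Agent.ASp.Sub
import Groth.Agent.ASp.TopFpqc
import Groth.Agent.ASp.Univ
import Groth.Agent.FpqcDesc.Basic
set_option backward.isDefEq.respectTransparency.types false

set_option autoImplicit false
universe u
open CategoryTheory CategoryTheory.Limits AlgebraicGeometry
open AlgSp

namespace Groth.Agent.S9940

open Groth.Agent.ASp Opposite

/-- (4) ⇒ (1): universal injectivity of a morphism of algebraic spaces descends along a surjective base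
change from a scheme. -/
theorem result {S : Scheme.{u}} {X Y : AlgSp.Space S} (f : X ⟶ Y)
    (Z : Over S) (g : (AlgSp.yon S).obj Z ⟶ Y.obj) (hg : AlgSp.IsSurjectiveMor g) {P : AlgSp.Sp S}
    (fst : P ⟶ X.obj) (snd : P ⟶ (AlgSp.yon S).obj Z) (sq : IsPullback fst snd f.hom g)
    (h : AlgSp.IsUnivInjectiveMor snd) : AlgSp.IsUnivInjectiveMor f.hom := by
  intro T T' hT k a b sqT
  obtain ⟨W, c, d, hW⟩ : ∃ (W : Sp S) (c : W ⟶ T) (d : W ⟶ (yon S).obj Z), IsPullback c d k g :=
    ⟨_, _, _, IsPullback.of_hasPullback _ _⟩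
  have hWa : IsAlgSpace W := isAlgSpace_of_isPullback Y.2.diag hT (IsAlgSpace.yon_obj Z) hW
  obtain ⟨W', c', b', hW'⟩ : ∃ (W' : Sp S) (c' : W' ⟶ T') (b' : W' ⟶ W), IsPullback c' b' b c :=
    ⟨_, _, _, IsPullback.of_hasPullback _ _⟩
  have hinj : Function.Injective (Points.map b') := by
    refine h hWa d (sq.lift (c' ≫ a) (b' ≫ d) (by rw [Category.assoc, sqT.w, reassoc_of% hW'.w, hW.w, Category.assoc]))
      b' (IsPullback.of_right ?_ (sq.lift_snd _ _ _) sq)
    rw [sq.lift_fst]
    have := hW'.paste_horiz sqT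
    rwa [hW.w] at this
  intro x y e
  obtain ⟨z, hz⟩ := hg (Points.map k (Points.map b x))
  obtain ⟨w, hw, -⟩ := points_exists_of_isPullback hW (Points.map b x) z hz.symm
  obtain ⟨x', hx1, hx2⟩ := points_exists_of_isPullback hW' x w hw.symm
  obtain ⟨y', hy1, hy2⟩ := points_exists_of_isPullback hW' y w (by rw [← e, hw])
  rw [← hx1, ← hy1, hinj (hx2.trans hy2.symm)]

end Groth.Agent.S9940
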