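import Groth.Statements.S9942
import Groth.Agent.ASp.BaseDesc
import Groth.Agent.S10533
import Groth.Agent.ASp.AffMor
set_option backward.isDefEq.respectTransparency false
set_option backward.isDefEq.respectTransparency.types false

set_option autoImplicit false
universe u
open CategoryTheory CategoryTheory.Limits AlgebraicGeometry
open AlgSp

namespace Groth.Agent.S9942

/-- (3) ⇒ (2): if X x_Y V is an affine scheme for every affine scheme V etale over Y, then f : X -> Y is
affine. -/
theorem result {S : Scheme.{u}} {X Y : AlgSp.Space S} (f : X ⟶ Y)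
    (h : ∀ (V : Over S), IsAffine V.left → ∀ (b : (AlgSp.yon S).obj V ⟶ Y.obj), AlgSp.RepWith @Etale b →
      ∀ (P : AlgSp.Sp S) (fst : P ⟶ X.obj) (snd : P ⟶ (AlgSp.yon S).obj V), IsPullback fst snd f.hom b →
      ∃ (W : Over S), IsAffine W.left ∧ Nonempty ((AlgSp.yon S).obj W ≅ P)) :
    AlgSp.IsAffineMor f.hom := by
  refine ASp.of_affine (S10533.result S) f fun V hV b hb P fst snd sq => ?_
  obtain ⟨W, hW, ⟨i⟩⟩ := h V hV b hb P fst snd sq
  obtain ⟨w, hw⟩ := (AlgSp.yon S).map_surjective (i.hom ≫ snd)
  intro Z hZ g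
  obtain ⟨g', rfl⟩ := (AlgSp.yon S).map_surjective g
  have hyC := ASp.isPullback_yon_map (IsPullback.of_hasPullback w g')
  refine ⟨pullback w g', pullback.snd w g', (AlgSp.yon S).map (pullback.fst w g') ≫ i.hom,
    IsPullback.of_iso hyC (Iso.refl _) i (Iso.refl _) (Iso.refl _) (by simp) (by simp) (by simp [hw]) (by simp), ?_⟩
  haveI : IsAffineHom w.left := inferInstance
  haveI : IsAffineHom (pullback.snd w g').left :=
    MorphismProperty.of_isPullback (ASp.isPullback_left (IsPullback.of_hasPullback w g')) ‹IsAffineHom w.left›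
  exact isAffine_of_isAffineHom (pullback.snd w g').left

end Groth.Agent.S9942
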