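import Groth.Statements.S9944
import Groth.Agent.ASp.Graph
import Groth.Agent.ASp.OpenImm
set_option backward.isDefEq.respectTransparency.types false

set_option autoImplicit false
universe u
open CategoryTheory CategoryTheory.Limits AlgebraicGeometry
open AlgSp

namespace Groth.Agent.S9944

open Groth.Agent.ASp Opposite

/-- Let g : X -> Y be a morphism over a base algebraic space B with X affine over B. Then g is affine as
soon as the diagonal of Y over B is affine, and in particular as soon as Y is B-separated. (The
published lemma also has two versions with the absolute diagonal of Y; this row states the versions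
over B.) -/
theorem result {S : Scheme.{u}} {X Y B : AlgSp.Space S} (g : X ⟶ Y) (p : X ⟶ B)
    (q : Y ⟶ B) (comm : g ≫ q = p) (hp : AlgSp.IsAffineMor p.hom) :
    (AlgSp.IsAffineMor (pullback.diagonal q.hom) → AlgSp.IsAffineMor g.hom) ∧
    (AlgSp.IsSeparatedMor q.hom → AlgSp.IsAffineMor g.hom) := by
  have key : RepWith @IsAffineHom (pullback.diagonal q.hom) → IsAffineMor g.hom := fun hd =>
    isAffineMor_of_repWith (P := @IsAffineHom) (fun _ h => h)
      (graph_fac (congrArg (fun φ => φ.hom) comm) (repWith_isAffineHom_of_isAffineMor X.2 B.2 hp) hd)
  exact ⟨fun h => key (repWith_isAffineHom_of_isAffineMor Y.2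
    (isAlgSpace_pullback B.2.diag Y.2 Y.2 q.hom q.hom) h),
    fun h => key (repWith_mono (fun _ _ k hk => by have : IsClosedImmersion k := hk; infer_instance) h)⟩

end Groth.Agent.S9944
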