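import Groth.Statements.S9951
import Groth.Agent.ASp.LocP
import Groth.Agent.ASp.Morph

set_option backward.isDefEq.respectTransparency.types false

set_option autoImplicit false
universe u
open CategoryTheory CategoryTheory.Limits AlgebraicGeometry
open AlgSp

namespace Groth.Agent.S9951

open Groth.Agent.ASp Opposite

/-- The source of a morphism locally of finite type with locally Noetherian target is locally
Noetherian. -/
theorem result {S : Scheme.{u}} {X Y : AlgSp.Space S} (f : X ⟶ Y)
    (hf : AlgSp.LocP @LocallyOfFiniteType f.hom) (hY : AlgSp.IsLocNoethSp Y.obj) : AlgSp.IsLocNoethSp X.obj := by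
  obtain ⟨V, y, hye, hys, hV⟩ := hY
  obtain ⟨U, a, hae, has⟩ := X.property.atlas
  obtain ⟨U₁, p, q, hpe, hps, hq, -⟩ := exists_etale_cover hye hys (a ≫ f.hom)
  have h1 := hf ((yon S).map p ≫ a) y q (repWith_comp (repWith_yon_map hpe) hae) hye
    (by rw [Category.assoc, hq])
  exact ⟨U₁, (yon S).map p ≫ a, repWith_comp (repWith_yon_map hpe) hae,
    repWith_comp (repWith_yon_map hps) has, LocallyOfFiniteType.isLocallyNoetherian q.left⟩

end Groth.Agent.S9951
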