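import Groth.Statements.S9954
import Groth.Agent.Boot.Helpers
import Groth.Agent.ASp.Points
import Groth.Prelude.Def_AlgSpDec
import Groth.Agent.ASp.LocP
import Groth.Agent.ASp.EqvQuot
set_option backward.isDefEq.respectTransparency false
set_option backward.isDefEq.respectTransparency.types false

set_option autoImplicit false
universe u
open CategoryTheory CategoryTheory.Limits AlgebraicGeometry
open AlgSp

namespace Groth.Agent.S9954

open Groth.Agent.ASp

/-- A morphism locally of finite type is surjective if and only if it is surjective on k-valued points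
for every algebraically closed field k over the base. -/
theorem result {S : Scheme.{u}} {X Y : AlgSp.Space S} (f : X ⟶ Y)
    (hf : AlgSp.LocP @LocallyOfFiniteType f.hom) :
    AlgSp.IsSurjectiveMor f.hom ↔
      ∀ (k : Type u) [Field k] [IsAlgClosed k] (str : Spec (CommRingCat.of k) ⟶ S)
        (y : (AlgSp.yon S).obj (Over.mk str) ⟶ Y.obj),
        ∃ x : (AlgSp.yon S).obj (Over.mk str) ⟶ X.obj, x ≫ f.hom = y := by
  refine ⟨fun hs k _ _ str y => ?_, fun H z => ?_⟩
  · obtain ⟨P, fst, snd, sq⟩ : ∃ (P : AlgSp.Sp S) (fst : P ⟶ X.obj)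
        (snd : P ⟶ (AlgSp.yon S).obj (Over.mk str)), IsPullback fst snd f.hom y :=
      ⟨_, _, _, IsPullback.of_hasPullback f.hom y⟩
    have hP : AlgSp.IsAlgSpace P :=
      isAlgSpace_of_isPullback Y.property.diag X.property (AlgSp.IsAlgSpace.yon_obj _) sq
    have hsnd : AlgSp.LocP @LocallyOfFiniteType snd :=
      locP_of_isPullback sq.flip X.property Y.property (AlgSp.IsAlgSpace.yon_obj _) hf
    obtain ⟨W, p, hpe, hps⟩ := hP.atlas
    obtain ⟨w, hw⟩ := (AlgSp.yon S).map_surjective (p ≫ snd)
    haveI : LocallyOfFiniteType w.left :=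
      hsnd p (𝟙 _) w hpe (AlgSp.repWith_id _ _) (by rw [hw, Category.comp_id])
    obtain ⟨x, hx⟩ := hs (AlgSp.Points.ofPt y (IsLocalRing.closedPoint k))
    rw [AlgSp.Points.ofPt_eq_map_ofScheme] at hx
    obtain ⟨z, -, -⟩ := points_exists_of_isPullback sq x _ hx
    obtain ⟨v, -⟩ := surjective_ofPt hps z
    haveI : Nonempty W.left := ⟨v⟩
    obtain ⟨c, hc⟩ := Groth.Agent.Boot.exists_section_of_nonempty w.left
    let c' : Over.mk str ⟶ W := Over.homMk c (by
      rw [← Over.w w, ← Category.assoc, hc]; exact Category.id_comp _)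
    refine ⟨(AlgSp.yon S).map c' ≫ p ≫ fst, ?_⟩
    have e : c' ≫ w = 𝟙 _ := Over.OverMorphism.ext hc
    rw [Category.assoc, Category.assoc, sq.w, ← Category.assoc p, ← hw, ← Functor.map_comp_assoc, e,
      CategoryTheory.Functor.map_id, Category.id_comp]
  · induction z using AlgSp.Points.ind with
    | _ q =>
    let k := AlgebraicClosure q.K
    let c : Over.mk (Spec.map (CommRingCat.ofHom (algebraMap q.K k)) ≫ q.str) ⟶ q.pt :=
      Over.homMk (Spec.map (CommRingCat.ofHom (algebraMap q.K k))) rfl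
    obtain ⟨x, hx⟩ := H k _ ((AlgSp.yon S).map c ≫ q.toHom)
    refine ⟨AlgSp.Points.ofPt x (IsLocalRing.closedPoint k), ?_⟩
    rw [AlgSp.Points.map_ofPt, hx, ofPt_yon_map_comp]
    exact AlgSp.Points.ofPt_toHom q _

end Groth.Agent.S9954
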