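import Groth.Statements.S9958
import Groth.Agent.ASp.Univ
import Groth.Agent.ASp.OpenImm
import Groth.Agent.FpqcDesc.Basic
import Groth.Prelude.Def_SGA1
import Groth.Prelude.Def_Flat

set_option backward.isDefEq.respectTransparency.types false

set_option autoImplicit false
universe u
open CategoryTheory CategoryTheory.Limits AlgebraicGeometry
open AlgSp

namespace Groth.Agent.S9958

open Groth.Agent.ASp Opposite TopologicalSpace

/-- Over a locally Noetherian algebraic space, locally of finite type implies locally of finite
presentation. -/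
theorem result {S : Scheme.{u}} {X Y : AlgSp.Space S} (f : X ⟶ Y)
    (hY : AlgSp.IsLocNoethSp Y.obj) (hf : AlgSp.LocP @LocallyOfFiniteType f.hom) :
    AlgSp.LocP @LocallyOfFinitePresentation f.hom := by
  obtain ⟨V, y, hye, hys, hV⟩ := hY
  obtain ⟨U, a, hae, has⟩ := X.property.atlas
  obtain ⟨U₁, p, q, hpe, hps, hq, -⟩ := exists_etale_cover hye hys (a ≫ f.hom)
  refine locP_of_chart (repWith_comp (repWith_yon_map hpe) hae) (repWith_comp (repWith_yon_map hps) has) hye
    (h := q) (by rw [Category.assoc, hq]) ?_
  exact LocallyOfFinitePresentation.iff_locallyOfFiniteType.2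
    (hf _ y q (repWith_comp (repWith_yon_map hpe) hae) hye (by rw [Category.assoc, hq]))

end Groth.Agent.S9958
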