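import Groth.Statements.S9963
import Groth.Agent.ASp.Univ
import Groth.Agent.ASp.OpenImm
import Groth.Agent.FpqcDesc.Basic
import Groth.Prelude.Def_SGA1
import Groth.Prelude.Def_Flat

set_option backward.isDefEq.respectTransparency.types false

set_option autoImplicit false
universe u
open CategoryTheory CategoryTheory.Limits AlgebraicGeometry
open AlgSp

namespace Groth.Agent.S9963

open Groth.Agent.ASp Opposite TopologicalSpace

/-- A morphism of algebraic spaces that is flat, quasi-compact and surjective is submersive, and
universally submersive. -/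
theorem result {S : Scheme.{u}} {X Y : AlgSp.Space S} (f : X ⟶ Y)
    (hfl : AlgSp.LocP @Flat f.hom) (hqc : AlgSp.IsQuasiCompactMor f.hom) (hs : AlgSp.IsSurjectiveMor f.hom) :
    AlgSp.IsSubmersiveMor f.hom ∧ AlgSp.IsUnivSubmersiveMor f.hom := by
  have key : ∀ {A B : AlgSp.Sp S} (q : A ⟶ B), IsAlgSpace A → IsAlgSpace B → LocP @Flat q →
      IsQuasiCompactMor q → Function.Surjective (Points.map q) → Topology.IsQuotientMap (Points.map q) := by
    intro A B q hA hB h1 h2 h3
    rw [Topology.isQuotientMap_iff]
    exact ⟨Topology.isCoinducing_iff.2 fun O =>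
      ⟨fun hO => isOpen_of_fpqc (isFpqcCover_of_quasiCompact hA hB q h1 h2 h3) fun _ => hO,
        fun hO => hO.preimage (Points.continuous_map _)⟩, h3⟩
  refine ⟨key f.hom X.property Y.property hfl hqc hs, fun Z Z' hZ g fst snd sq => ?_⟩
  exact key snd (isAlgSpace_of_isPullback Y.property.diag X.property hZ sq) hZ
    (locP_of_isPullback sq.flip X.property Y.property hZ hfl)
    (fun W W' hW hWc k a b sq' => hqc hW hWc _ _ b (sq'.paste_horiz sq))
    (surjective_map_of_isPullback sq hs)

end Groth.Agent.S9963
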