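import Groth.Statements.S9967
import Groth.Agent.ASp.SchImageGen
import Groth.Agent.ASp.MorCancel
import Groth.Agent.ASp.UnitSection
import Groth.Agent.ASp.SchDenseImage
-- import your own Groth.Agent.* helpers here

set_option autoImplicit false
set_option backward.isDefEq.respectTransparency false
universe u
open CategoryTheory CategoryTheory.Limits AlgebraicGeometry
open AlgSp

namespace Groth.Agent.S9967

/-- For a separated f : X -> Y and a section s of f over a quasi-compact open V of Y, the scheme
theoretic image of s maps isomorphically to Y over V. -/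
theorem result {S : Scheme.{u}} {X Y V Y' : AlgSp.Space S} (f : X ⟶ Y) (j : V ⟶ Y)
    (hj : AlgSp.RepWith @IsOpenImmersion j.hom) (hjq : AlgSp.IsQuasiCompactMor j.hom) (hf : AlgSp.IsSeparatedMor f.hom)
    (s : V ⟶ X) (hs : s ≫ f = j) (c : Y' ⟶ X) (hc : AlgSp.IsSchImage s.hom c.hom)
    {P : AlgSp.Sp S} (fst : P ⟶ Y'.obj) (snd : P ⟶ V.obj) (sq : IsPullback fst snd (c ≫ f).hom j.hom) :
    IsIso snd := by
  have hs' : s.hom ≫ f.hom = j.hom := congrArg (·.hom) hs
  have P0 := IsPullback.of_hasPullback f.hom j.hom
  let k := pullback.fst f.hom j.hom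
  let fV := pullback.snd f.hom j.hom
  have hXV := ASp.isAlgSpace_pullback Y.property.diag X.property V.property f.hom j.hom
  have hk : AlgSp.RepWith @IsOpenImmersion k := ASp.repWith_of_isPullback P0.flip hj
  let s' : V.obj ⟶ pullback f.hom j.hom := pullback.lift s.hom (𝟙 _) (by rw [hs', Category.id_comp])
  have hsk : s' ≫ k = s.hom := pullback.lift_fst _ _ _
  have hsf : s' ≫ fV = 𝟙 _ := pullback.lift_snd _ _ _
  obtain ⟨m, hΓ⟩ := ASp.isPullback_section fV s' hsf
  obtain ⟨σ, hσ, -⟩ := ASp.isPullback_diagonal_baseChange P0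
  have hsep : AlgSp.IsSeparatedMor fV := ASp.repWith_of_isPullback hσ hf
  have hs'c : AlgSp.RepWith @IsClosedImmersion s' := ASp.repWith_of_isPullback hΓ hsep
  haveI : Mono k := ASp.mono_of_repWith (P := @IsOpenImmersion) (fun g (hg : IsOpenImmersion g) => inferInstance) hk
  have sqV : IsPullback (𝟙 V.obj) s' s.hom k := IsPullback.of_isLimit' ⟨by rw [Category.id_comp, hsk]⟩
    (PullbackCone.IsLimit.mk _ (fun t => t.fst) (fun t => Category.comp_id _)
      (fun t => by rw [← cancel_mono k, Category.assoc, hsk, t.condition])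
      (fun t l h1 _ => by rw [← h1, Category.comp_id]))
  have sqc := IsPullback.of_hasPullback c.hom k
  have hYV := ASp.isAlgSpace_pullback X.property.diag Y'.property hXV c.hom k
  have hfl : AlgSp.LocP @Flat k := ASp.locP_of_repWith
    (ASp.repWith_mono (fun _ _ g (hg : IsOpenImmersion g) => (inferInstance : Flat g)) hk)
  have hsq : AlgSp.IsQuasiCompactMor s.hom :=
    ASp.quasiCompact_of_comp_separated V.property X.property Y.property s.hom f.hom hf (by rw [hs']; exact hjq)
  obtain ⟨-, ⟨f'', hf''⟩, huniv⟩ :=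
    ASp.isSchImage_flat_baseChange hXV X.property V.property Y'.property hfl hsq hc sqV sqc
  obtain ⟨l, hl⟩ := huniv s' V.property hs'c ⟨𝟙 _, Category.id_comp _⟩
  haveI : Mono s' := mono_of_mono_fac hsf
  haveI : Mono c.hom := ASp.mono_of_repWith (P := @IsClosedImmersion) (fun g (hg : IsClosedImmersion g) => inferInstance) hc.1
  haveI : IsIso l := ⟨f'', by
    rw [← cancel_mono (pullback.snd c.hom k), Category.assoc, hf'', hl, Category.id_comp],
    by rw [← cancel_mono s', Category.assoc, hl, hf'', Category.id_comp]⟩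
  have big : IsPullback (pullback.fst c.hom k) l (c ≫ f).hom j.hom := by
    have := sqc.paste_vert P0
    rwa [← hl, Category.assoc, show s' ≫ pullback.snd f.hom j.hom = 𝟙 _ from hsf, Category.comp_id] at this
  have e : snd = (sq.isoIsPullback _ _ big).hom ≫ l := (sq.isoIsPullback_hom_snd _ _ big).symm
  rw [e]
  infer_instance

end Groth.Agent.S9967
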