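import Groth.Statements.S9971
import Groth.Agent.ASp.SchDenseImage
import Groth.Agent.S9966
-- import your own Groth.Agent.* helpers here

set_option autoImplicit false
set_option backward.isDefEq.respectTransparency false
universe u
open CategoryTheory CategoryTheory.Limits AlgebraicGeometry
open AlgSp

namespace Groth.Agent.S9971

/-- A quasi-compact (or reduced-source) immersion is a scheme theoretically dense, topologically dense
open immersion into its scheme theoretic image. -/
theorem result {S : Scheme.{u}} {Z X Zbar : AlgSp.Space S} (h : Z ⟶ X)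
    (hh : AlgSp.RepWith @IsImmersion h.hom) (hq : AlgSp.IsQuasiCompactMor h.hom ∨ AlgSp.IsReducedSp Z.obj)
    (c : Zbar ⟶ X) (hc : AlgSp.IsSchImage h.hom c.hom) (h' : Z ⟶ Zbar) (fac : h' ≫ c = h) :
    AlgSp.RepWith @IsOpenImmersion h'.hom ∧ AlgSp.IsSchDense h'.hom ∧
      Dense (Set.range (AlgSp.Points.map h'.hom)) := by
  have fac' : h'.hom ≫ c.hom = h.hom := congrArg (·.hom) fac
  rcases hq with hq | hR
  · exact ASp.openImm_schDense_dense_of_qc X.property Z.property Zbar.property hh hq hc fac'
  · exact ASp.openImm_schDense_dense_of_reduced X.property Z.property Zbar.property hh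
      (S9966.result h c hR hc) fac'

end Groth.Agent.S9971
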