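import Groth.Statements.S9975
import Groth.Agent.ASp.FtPoint
-- import your own Groth.Agent.* helpers here

set_option autoImplicit false
set_option backward.isDefEq.respectTransparency false
universe u
open CategoryTheory CategoryTheory.Limits AlgebraicGeometry
open AlgSp

namespace Groth.Agent.S9975

/-- A point of an algebraic space is a finite type point (represented by a locally finite type morphism
from the spectrum of a field) exactly when it is the image of a closed point of some etale scheme
chart. -/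
theorem result {S : Scheme.{u}} (X : AlgSp.Space S) (x : AlgSp.Points X.obj) :
    (∃ (k : Type u) (_ : Field k) (str : Spec (CommRingCat.of k) ⟶ S) (ξ : (AlgSp.yon S).obj (Over.mk str) ⟶ X.obj),
        AlgSp.LocP @LocallyOfFiniteType ξ ∧ AlgSp.Points.ofPt ξ (IsLocalRing.closedPoint k) = x) ↔
      ∃ (U : Over S) (φ : (AlgSp.yon S).obj U ⟶ X.obj) (u : ↥U.left), AlgSp.RepWith @Etale φ ∧
        IsClosed ({u} : Set ↥U.left) ∧ AlgSp.Points.ofPt φ u = x := by
  constructor
  · intro h
    obtain ⟨U, p, hp, hps⟩ := X.property.atlas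
    obtain ⟨u, hu, rfl⟩ := Groth.Agent.ASp.exists_ftPoint_chart h hp hps
    obtain ⟨V, -, hs, hcl⟩ := (Groth.Agent.FtPtsLib.lft_fromSpec_iff u).1 hu
    let V' : Over S := Over.mk (V.ι ≫ U.hom)
    let v : V' ⟶ U := Over.homMk V.ι rfl
    refine ⟨V', (AlgSp.yon S).map v ≫ p, ⟨u, hs⟩, Groth.Agent.ASp.repWith_comp
      ((AlgSp.repWith_yon_map_iff _ v).2 (inferInstanceAs (Etale V.ι))) hp, hcl, ?_⟩
    rw [Groth.Agent.ASp.ofPt_yon_map_comp]
    rfl
  · rintro ⟨U, φ, u, hφ, hu, rfl⟩
    haveI := isClosed_singleton_iff_isClosedImmersion.1 hu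
    exact Groth.Agent.ASp.isFtPoint_ofPt X.property hφ inferInstance

end Groth.Agent.S9975
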