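import Groth.Statements.S9976
import Groth.Agent.ASp.FtPoint
-- import your own Groth.Agent.* helpers here

set_option autoImplicit false
set_option backward.isDefEq.respectTransparency false
universe u
open CategoryTheory CategoryTheory.Limits AlgebraicGeometry
open AlgSp

namespace Groth.Agent.S9976

/-- Under a surjective morphism locally of finite type, every finite type point of the target is the
image of a finite type point of the source. (The published lemma states that the two sets of finite
type points correspond exactly; the inclusion of the image in the finite type points of the target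
holds for every morphism locally of finite type and is omitted here.) -/
theorem result {S : Scheme.{u}} {X Y : AlgSp.Space S} (f : X ⟶ Y)
    (hf : AlgSp.LocP @LocallyOfFiniteType f.hom) (hs : AlgSp.IsSurjectiveMor f.hom) (y : AlgSp.Points Y.obj)
    (hy : ∃ (k : Type u) (_ : Field k) (str : Spec (CommRingCat.of k) ⟶ S) (ξ : (AlgSp.yon S).obj (Over.mk str) ⟶ Y.obj),
        AlgSp.LocP @LocallyOfFiniteType ξ ∧ AlgSp.Points.ofPt ξ (IsLocalRing.closedPoint k) = y) :
    ∃ x : AlgSp.Points X.obj, AlgSp.Points.map f.hom x = y ∧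
      ∃ (k : Type u) (_ : Field k) (str : Spec (CommRingCat.of k) ⟶ S) (ξ : (AlgSp.yon S).obj (Over.mk str) ⟶ X.obj),
        AlgSp.LocP @LocallyOfFiniteType ξ ∧ AlgSp.Points.ofPt ξ (IsLocalRing.closedPoint k) = x := by
  obtain ⟨V, b, hb, hbs⟩ := Y.property.atlas
  obtain ⟨v, hv, rfl⟩ := Groth.Agent.ASp.exists_ftPoint_chart hy hb hbs
  have hsq : IsPullback (pullback.fst f.hom b) (pullback.snd f.hom b) f.hom b := IsPullback.of_hasPullback _ _
  have hP := Groth.Agent.ASp.isAlgSpace_of_isPullback Y.property.diag X.property (IsAlgSpace.yon_obj V) hsq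
  obtain ⟨W, w, hw, hws⟩ := hP.atlas
  obtain ⟨g, hg⟩ := (AlgSp.yon S).map_surjective (w ≫ pullback.snd f.hom b)
  haveI : LocallyOfFiniteType g.left := Groth.Agent.ASp.locP_of_isPullback hsq.flip X.property Y.property
    (IsAlgSpace.yon_obj V) hf w (𝟙 _) g hw (AlgSp.repWith_id _ V) (by rw [hg, Category.comp_id])
  haveI : Surjective g.left := ⟨fun v' => by
    obtain ⟨y, hy⟩ := Groth.Agent.ASp.surjective_map_of_isPullback hsq hs (AlgSp.Points.schemeHomeo V v')
    obtain ⟨w', rfl⟩ := Groth.Agent.ASp.surjective_ofPt hws y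
    refine ⟨w', (AlgSp.Points.schemeHomeo V).injective ?_⟩
    rw [← hy, AlgSp.Points.map_ofPt, ← hg, ← Category.comp_id ((AlgSp.yon S).map g),
      Groth.Agent.ASp.ofPt_yon_map_comp]
    rfl⟩
  obtain ⟨t, ht, htv⟩ := Groth.Agent.FtPtsLib.exists_preimage_of_surjective g.left hv
  have hwe : AlgSp.RepWith @Etale (w ≫ pullback.fst f.hom b) :=
    Groth.Agent.ASp.repWith_comp hw (Groth.Agent.ASp.repWith_of_isPullback hsq.flip hb)
  refine ⟨AlgSp.Points.ofPt (w ≫ pullback.fst f.hom b) t, ?_, Groth.Agent.ASp.isFtPoint_ofPt X.property hwe ht⟩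
  rw [AlgSp.Points.map_ofPt, Category.assoc, hsq.w, ← Category.assoc, ← hg, Groth.Agent.ASp.ofPt_yon_map_comp, htv]

end Groth.Agent.S9976
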