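import Groth.Statements.S9978
import Groth.Agent.ASp.LocP
import Groth.Agent.S0566
import Groth.Agent.S9400
-- import your own Groth.Agent.* helpers here

set_option autoImplicit false
set_option backward.isDefEq.respectTransparency false
universe u
open CategoryTheory CategoryTheory.Limits AlgebraicGeometry
open AlgSp

namespace Groth.Agent.S9978

/-- An algebraic space locally of finite type over a Nagata algebraic space is Nagata. -/
theorem result {S : Scheme.{u}} {X Y : AlgSp.Space S} (f : X ⟶ Y)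
    (hf : AlgSp.LocP @LocallyOfFiniteType f.hom)
    (hY : AlgSp.EtaleLocally (fun U => ∀ V : U.Opens, IsAffineOpen V → CAlg.IsNagata ↑Γ(U, V)) Y.obj) :
    AlgSp.EtaleLocally (fun U => ∀ V : U.Opens, IsAffineOpen V → CAlg.IsNagata ↑Γ(U, V)) X.obj := by
  obtain ⟨U, p, hp, hps, hU⟩ := hY
  obtain ⟨X₀, x₀, hx, hxs⟩ := X.property.atlas
  obtain ⟨W, c, w, hc, hcs, hw, -⟩ := ASp.exists_etale_cover hp hps (x₀ ≫ f.hom)
  have ha : AlgSp.RepWith @Etale ((AlgSp.yon S).map c ≫ x₀) := ASp.repWith_comp (ASp.repWith_yon_map hc) hx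
  refine ⟨W, _, ha, ASp.repWith_comp (ASp.repWith_yon_map hcs) hxs, fun V hV => ?_⟩
  haveI : LocallyOfFiniteType w.left := hf _ p w ha hp (by rw [Category.assoc]; exact hw.symm)
  have key : ∀ x : V, ∃ g : Γ(W.left, V), x.1 ∈ W.left.basicOpen g ∧ CAlg.IsNagata (Localization.Away g) := by
    intro x
    obtain ⟨_, ⟨A : U.left.Opens, hA, rfl⟩, hxA, -⟩ :=
      U.left.isBasis_affineOpens.exists_subset_of_mem_open (Set.mem_univ (w.left x.1)) isOpen_univ
    obtain ⟨g, hle, hxg⟩ := hV.exists_basicOpen_le (V := V ⊓ w.left ⁻¹ᵁ A) ⟨x.1, x.2, hxA⟩ x.2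
    refine ⟨g, hxg, ?_⟩
    haveI := hV.isLocalization_basicOpen g
    let e := (IsLocalization.algEquiv (Submonoid.powers g) Γ(W.left, W.left.basicOpen g) (Localization.Away g)).toRingEquiv
    have hft := w.left.finiteType_appLE hA (hV.basicOpen g) (hle.trans inf_le_right)
    have hft' := (RingHom.FiniteType.of_surjective e.toRingHom e.surjective).comp hft
    letI := (e.toRingHom.comp (w.left.appLE A (W.left.basicOpen g) (hle.trans inf_le_right)).hom).toAlgebra
    haveI : Algebra.FiniteType Γ(U.left, A) (Localization.Away g) := hft'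
    exact S0566.result Γ(U.left, A) (hU A hA) _
  choose g hg hN using key
  have hspan : Ideal.span (Set.range g) = ⊤ := by
    rw [← hV.iSup_basicOpen_eq_self_iff]
    refine le_antisymm (iSup_le fun r => W.left.basicOpen_le r.1) fun x hx => ?_
    exact TopologicalSpace.Opens.mem_iSup.2 ⟨⟨g ⟨x, hx⟩, ⟨_, rfl⟩⟩, hg ⟨x, hx⟩⟩
  obtain ⟨t, ht, hspan'⟩ := Submodule.mem_span_finite_of_mem_span (hspan.ge (Submodule.mem_top (x := (1 : Γ(W.left, V)))))
  exact S9400.result _ (fun i : ↥t => i.1) (by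
    rw [Ideal.eq_top_iff_one, show Set.range (fun i : ↥t => i.1) = ↑t from Subtype.range_coe]
    exact hspan') fun i => by
    obtain ⟨x, hx⟩ := ht i.2
    rw [← hx]
    exact hN x

end Groth.Agent.S9978
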