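import Groth.Statements.S9980
import Groth.Agent.ASp.FtPointQuot
-- import your own Groth.Agent.* helpers here

set_option autoImplicit false
set_option backward.isDefEq.respectTransparency false
universe u
open CategoryTheory CategoryTheory.Limits AlgebraicGeometry
open AlgSp

namespace Groth.Agent.S9980

/-- Characterizations of finite type points via one-point algebraic spaces locally of finite type over X
and via monomorphisms from quotients of spectra of fields. -/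
theorem result {S : Scheme.{u}} (X : AlgSp.Space S) (x : AlgSp.Points X.obj) :
    ((∃ (k : Type u) (_ : Field k) (str : Spec (CommRingCat.of k) ⟶ S) (ξ : (AlgSp.yon S).obj (Over.mk str) ⟶ X.obj),
        AlgSp.LocP @LocallyOfFiniteType ξ ∧ AlgSp.Points.ofPt ξ (IsLocalRing.closedPoint k) = x) ↔
      ∃ (Z : AlgSp.Space S) (f : Z ⟶ X), Nonempty (Unique (AlgSp.Points Z.obj)) ∧
        AlgSp.LocP @LocallyOfFiniteType f.hom ∧ Set.range (AlgSp.Points.map f.hom) = {x}) ∧
    ((∃ (k : Type u) (_ : Field k) (str : Spec (CommRingCat.of k) ⟶ S) (ξ : (AlgSp.yon S).obj (Over.mk str) ⟶ X.obj),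
        AlgSp.LocP @LocallyOfFiniteType ξ ∧ AlgSp.Points.ofPt ξ (IsLocalRing.closedPoint k) = x) ↔
      ∃ (Z : AlgSp.Space S) (f : Z ⟶ X) (k : Type u) (_ : Field k) (str : Spec (CommRingCat.of k) ⟶ S)
        (z : (AlgSp.yon S).obj (Over.mk str) ⟶ Z.obj), AlgSp.RepWith @Etale z ∧ AlgSp.RepWith @Surjective z ∧
        AlgSp.LocP @LocallyOfFiniteType f.hom ∧ Mono f.hom ∧
        AlgSp.Points.ofPt (z ≫ f.hom) (IsLocalRing.closedPoint k) = x) := by
  refine ⟨⟨fun hx => ?_, ?_⟩, fun hx => ?_, ?_⟩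
  · obtain ⟨Z, hZ, f, k, _, str, z, hz, hzs, hf, hm, e⟩ := ASp.exists_mono_quot_of_isFtPoint X.property hx
    haveI : Subsingleton ↥(Over.mk str).left := inferInstanceAs (Subsingleton ↥(Spec (CommRingCat.of k)))
    have h1 : ∀ y : AlgSp.Points Z, y = AlgSp.Points.ofPt z (IsLocalRing.closedPoint k) := fun y => by
      obtain ⟨u, rfl⟩ := ASp.surjective_ofPt hzs y
      rw [Subsingleton.elim u]
    refine ⟨⟨Z, hZ⟩, ObjectProperty.homMk f, ⟨⟨⟨_⟩, h1⟩⟩, hf, Set.eq_singleton_iff_unique_mem.2 ⟨⟨AlgSp.Points.ofPt z (IsLocalRing.closedPoint k), ?_⟩, ?_⟩⟩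
    · exact (AlgSp.Points.map_ofPt z f _).trans e
    · rintro _ ⟨y, rfl⟩
      rw [h1 y]
      exact (AlgSp.Points.map_ofPt z f _).trans e
  · rintro ⟨Z, f, ⟨hu⟩, hf, hr⟩
    obtain ⟨y, -, k, _, str, ξ, hξ, rfl⟩ := ASp.exists_ftPoint_of_isLocallyClosed Z.property
      (T := Set.univ) isClosed_univ.isLocallyClosed ⟨hu.default, trivial⟩
    refine ⟨k, inferInstance, str, ξ ≫ f.hom, ASp.locP_comp Z.property hξ hf, ?_⟩
    rw [← AlgSp.Points.map_ofPt]
    exact hr.le ⟨_, rfl⟩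
  · obtain ⟨Z, hZ, f, k, _, str, z, hz, hzs, hf, hm, e⟩ := ASp.exists_mono_quot_of_isFtPoint X.property hx
    exact ⟨⟨Z, hZ⟩, ObjectProperty.homMk f, k, inferInstance, str, z, hz, hzs, hf, hm, e⟩
  · rintro ⟨Z, f, k, _, str, z, hz, -, hf, -, e⟩
    exact ⟨k, inferInstance, str, z ≫ f.hom, ASp.locP_comp Z.property (ASp.locP_of_repWith
      (ASp.repWith_mono (fun _ _ g (hg : Etale g) => inferInstanceAs (LocallyOfFiniteType g)) hz)) hf, e⟩

end Groth.Agent.S9980
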