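import Groth.Statements.S9984
import Groth.Agent.ASp.LocP
import Groth.Agent.ASp.Smooth
set_option backward.isDefEq.respectTransparency false
set_option backward.isDefEq.respectTransparency.types false

set_option autoImplicit false
universe u
open CategoryTheory CategoryTheory.Limits AlgebraicGeometry
open AlgSp

namespace Groth.Agent.S9984

/-- Locally parts: for the listed classes P, having P etale locally on the source-and-target is stable
under base change along morphisms of algebraic spaces. -/
theorem result {S : Scheme.{u}} (P : MorphismProperty Scheme.{u})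
    (hP : P = @LocallyOfFiniteType ∨ P = @LocallyOfFinitePresentation ∨ P = @Flat ∨ P = @Smooth ∨ P = @Etale ∨
      (∀ ⦃A B : Scheme.{u}⦄ (g : A ⟶ B), P g ↔ (LocallyQuasiFinite g ∧ LocallyOfFiniteType g)) ∨
      (∀ ⦃A B : Scheme.{u}⦄ (g : A ⟶ B), P g ↔ (LocallyOfFiniteType g ∧ FormallyUnramified g)))
    {X Y Y' X' : AlgSp.Space S} (f : X ⟶ Y) (g : Y' ⟶ Y) (fst : X' ⟶ X) (f' : X' ⟶ Y')
    (sq : IsPullback fst.hom f'.hom f.hom g.hom) (hf : AlgSp.LocP P f.hom) : AlgSp.LocP P f'.hom := by
  have hcase : ∀ {Q R : MorphismProperty Scheme.{u}}, (∀ ⦃A B : Scheme.{u}⦄ (g : A ⟶ B), P g ↔ (Q g ∧ R g)) → P = Q ⊓ R :=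
    fun h => funext fun A => funext fun B => funext fun g => propext (h g)
  rcases hP with rfl | rfl | rfl | rfl | rfl | h | h
  rotate_left 5
  · rw [hcase h] at hf ⊢
    exact Groth.Agent.ASp.locP_of_isPullback sq.flip X.property Y.property Y'.property hf
  · rw [hcase h] at hf ⊢
    exact Groth.Agent.ASp.locP_of_isPullback sq.flip X.property Y.property Y'.property hf
  all_goals exact Groth.Agent.ASp.locP_of_isPullback sq.flip X.property Y.property Y'.property hf

end Groth.Agent.S9984
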