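import Groth.Statements.S9985
import Groth.Agent.ASp.LocP
import Groth.Agent.ASp.Smooth
set_option backward.isDefEq.respectTransparency false
set_option backward.isDefEq.respectTransparency.types false

set_option autoImplicit false
universe u
open CategoryTheory CategoryTheory.Limits AlgebraicGeometry
open AlgSp

namespace Groth.Agent.S9985

/-- Locally parts: for the listed classes P, having P etale locally on the source-and-target is stable
under composition of morphisms of algebraic spaces. -/
theorem result {S : Scheme.{u}} (P : MorphismProperty Scheme.{u})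
    (hP : P = @LocallyOfFiniteType ∨ P = @LocallyOfFinitePresentation ∨ P = @Flat ∨ P = @Smooth ∨ P = @Etale ∨
      (∀ ⦃A B : Scheme.{u}⦄ (g : A ⟶ B), P g ↔ (LocallyQuasiFinite g ∧ LocallyOfFiniteType g)) ∨
      (∀ ⦃A B : Scheme.{u}⦄ (g : A ⟶ B), P g ↔ (LocallyOfFiniteType g ∧ FormallyUnramified g)))
    {X Y Z : AlgSp.Space S} (f : X ⟶ Y) (g : Y ⟶ Z) (hf : AlgSp.LocP P f.hom) (hg : AlgSp.LocP P g.hom) :
    AlgSp.LocP P (f ≫ g).hom := by
  have hcase : ∀ {Q R : MorphismProperty Scheme.{u}}, (∀ ⦃A B : Scheme.{u}⦄ (g : A ⟶ B), P g ↔ (Q g ∧ R g)) → P = Q ⊓ R :=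
    fun h => funext fun A => funext fun B => funext fun g => propext (h g)
  rcases hP with rfl | rfl | rfl | rfl | rfl | h | h
  rotate_left 5
  · rw [hcase h] at hf hg ⊢
    exact Groth.Agent.ASp.locP_comp Y.property hf hg
  · rw [hcase h] at hf hg ⊢
    exact Groth.Agent.ASp.locP_comp Y.property hf hg
  all_goals exact Groth.Agent.ASp.locP_comp Y.property hf hg

end Groth.Agent.S9985
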