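import Groth.Statements.S9994
import Groth.Agent.ASp.OneChart
set_option backward.isDefEq.respectTransparency false
set_option backward.isDefEq.respectTransparency.types false

set_option autoImplicit false
universe u
open CategoryTheory CategoryTheory.Limits AlgebraicGeometry
open AlgSp

namespace Groth.Agent.S9994

open Groth.Agent.ASp

/-- A morphism f : X ⟶ Y of algebraic spaces has P etale locally on the source and target if and only if
it has P at every point of |X| in the neighbourhood sense (some chart diagram through the point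
whose top arrow has P on an open neighbourhood of the chosen point). -/
theorem result {S : Scheme.{u}} (P : MorphismProperty Scheme.{u})
    (hP : P = @LocallyOfFiniteType ∨ P = @LocallyOfFinitePresentation ∨ P = @Flat ∨ P = @Smooth ∨ P = @Etale ∨
      (∀ ⦃A B : Scheme.{u}⦄ (g : A ⟶ B), P g ↔ (LocallyQuasiFinite g ∧ LocallyOfFiniteType g)) ∨
      (∀ ⦃A B : Scheme.{u}⦄ (g : A ⟶ B), P g ↔ (LocallyOfFiniteType g ∧ FormallyUnramified g)))
    {X Y : AlgSp.Space S} (f : X ⟶ Y) :
    AlgSp.LocP P f.hom ↔
      ∀ x : AlgSp.Points X.obj, AlgSp.HasAtMor (fun U _ h u => ∃ W : U.Opens, u ∈ W ∧ P (W.ι ≫ h)) f.hom x := by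
  obtain ⟨hE, hZ⟩ := isEtLocal_of_list P hP
  refine ⟨fun h x => (hasAtMor_nbhd_iff f x).2 ⟨X, 𝟙 X, ?_, ⟨x, Points.map_id x⟩, by simpa using h⟩, fun h => ?_⟩
  · exact repWith_of_isIso (P := @IsOpenImmersion) (𝟙 X.obj)
  choose X' j hj hx hP' using fun x => (hasAtMor_nbhd_iff f x).1 (h x)
  obtain ⟨A, a, hae, has⟩ := X.property.atlas
  refine (isLocalOnSource_locP_etale (fun t : ↥A.left => (X' (Points.ofPt a t)).obj) (fun t => (j _).hom)
    X.property (fun t => (X' _).property) ⟨fun t => ?_, fun y => ?_⟩ f.hom Y.property).2 fun t => hP' _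
  · exact (isEtaleMor_iff_locP X.property).2 (locP_of_repWith
      (repWith_mono (fun _ _ k (hk : IsOpenImmersion k) => (inferInstance : Etale k)) (hj _)))
  · obtain ⟨t, rfl⟩ := surjective_ofPt has y
    exact ⟨t, hx _⟩

end Groth.Agent.S9994
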